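import Cfsg.Agent.Lib.Orth.Decomp

/-!
# Tools for orthogonal decompositions

* `cmp` : the component of a vector in a member; `sum_cmp`, `polar_cmp`, `Q_eq_sum_cmp`, `card_eq_mul`
* `exists_perp_norm`, `exists_class` : vectors of a fixed norm orthogonal to a given one inside a member
* `exists_norm_polar_ne`, `member_span_norm`, `mem_decomp_of_maps` : the vectors of norm `c` in the
  members determine the decomposition
* `exists_swap_members` : an element of `Ω` swapping two members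
-/

set_option autoImplicit false
set_option linter.unusedSectionVars false

namespace Cfsg.Agent.Orth

open Cfsg Matrix Module
open QuadraticMap (polar)

variable {ι : Type} [Fintype ι] [DecidableEq ι] {F : Type*} [Field F] [Fintype F]
variable {Q : QuadraticForm F (ι → F)} {t k : ℕ} {D : Fin t → Submodule F (ι → F)}

theorem isCompl_perp (hQ : Q.polarBilin.Nondegenerate) {W : Submodule F (ι → F)}
    (hW : ∀ x ∈ W, x ≠ 0 → ∃ y ∈ W, polar ⇑Q x y ≠ 0) : IsCompl W (perpSub Q W) :=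
  ⟨Submodule.disjoint_def.2 fun _ h h' => disjoint_perpSub hW h h',
    codisjoint_iff.2 (sup_perpSub hQ hW)⟩

/-- The component in the member `D i`. -/
noncomputable def cmp (hQ : Q.polarBilin.Nondegenerate) (hD : Geo.IsOrthogonalMDecomposition ⇑Q k D)
    (i : Fin t) : (ι → F) →ₗ[F] (ι → F) :=
  (D i).projection (perpSub Q (D i)) (isCompl_perp hQ (member_nondeg hD i))

variable (hQ : Q.polarBilin.Nondegenerate) (hD : Geo.IsOrthogonalMDecomposition ⇑Q k D)

theorem cmp_mem (i : Fin t) (x : ι → F) : cmp hQ hD i x ∈ D i := Submodule.projection_apply_mem _ x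

theorem cmp_of_mem {i : Fin t} {x : ι → F} (hx : x ∈ D i) : cmp hQ hD i x = x :=
  Submodule.projection_apply_of_mem_left _ hx

theorem cmp_of_mem_ne {i j : Fin t} (hij : i ≠ j) {x : ι → F} (hx : x ∈ D j) : cmp hQ hD i x = 0 :=
  (Submodule.projection_apply_eq_zero_iff _).2 (mem_perpSub.2 fun _ hw => member_orth hD hij hw hx)

theorem cmp_self_sub (i : Fin t) (x : ι → F) : x - cmp hQ hD i x ∈ perpSub Q (D i) := by
  have h : cmp hQ hD i (x - cmp hQ hD i x) = 0 := by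
    rw [map_sub, cmp_of_mem hQ hD (cmp_mem hQ hD i x), sub_self]
  exact (Submodule.projection_apply_eq_zero_iff _).1 h

theorem polar_cmp {i : Fin t} {z : ι → F} (hz : z ∈ D i) (x : ι → F) :
    polar ⇑Q (cmp hQ hD i x) z = polar ⇑Q x z := by
  have h := mem_perpSub.1 (cmp_self_sub hQ hD i x) z hz
  rw [pl_sub_right, sub_eq_zero] at h
  rw [pl_comm, ← h, pl_comm]

include hQ hD in
theorem eq_zero_of_orth_members {x : ι → F} (h : ∀ i, ∀ z ∈ D i, polar ⇑Q x z = 0) : x = 0 := by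
  by_contra hx
  obtain ⟨y, hy⟩ := exists_polar_ne hQ hx
  refine hy ?_
  have hle : ⨆ i, D i ≤ LinearMap.ker (Q.polarBilin x) := iSup_le fun i z hz => h i z hz
  rw [hD.decomp.decomp.iSup_eq_top] at hle
  exact hle Submodule.mem_top

theorem sum_cmp (x : ι → F) : ∑ i, cmp hQ hD i x = x := by
  rw [← sub_eq_zero]
  refine eq_zero_of_orth_members hQ hD fun i z hz => ?_
  rw [pl_sub_left, polar_sum_left, Finset.sum_eq_single i
    (fun j _ hj => member_orth hD hj (cmp_mem hQ hD j x) hz) (fun h => absurd (Finset.mem_univ i) h),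
    polar_cmp hQ hD hz, sub_self]

theorem Q_eq_sum_cmp (x : ι → F) : Q x = ∑ i, Q (cmp hQ hD i x) := by
  conv_lhs => rw [← sum_cmp hQ hD x]
  exact Q_sum_orth _ _ fun i _ j _ h => member_orth hD h (cmp_mem hQ hD i x) (cmp_mem hQ hD j x)

/-- Maps preserving each member commute with the components. -/
theorem cmp_map {φ : (ι → F) →ₗ[F] (ι → F)} (σ : Equiv.Perm (Fin t))
    (hφ : ∀ i, ∀ z ∈ D i, φ z ∈ D (σ i)) (i : Fin t) (x : ι → F) :
    cmp hQ hD (σ i) (φ x) = φ (cmp hQ hD i x) := by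
  conv_lhs => rw [← sum_cmp hQ hD x, map_sum, map_sum]
  rw [Finset.sum_eq_single i
    (fun j _ hj => cmp_of_mem_ne hQ hD (fun e => hj (σ.injective e).symm) (hφ j _ (cmp_mem hQ hD j x)))
    (fun h => absurd (Finset.mem_univ i) h), cmp_of_mem hQ hD (hφ i _ (cmp_mem hQ hD i x))]

include hQ hD in
theorem card_eq_mul : Fintype.card ι = t * k := by
  classical
  refine le_antisymm (card_le_mul hD) ?_
  have h : ∀ s : Finset (Fin t), s.card * k ≤ finrank F (s.sup D : Submodule F (ι → F)) := by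
    intro s
    induction s using Finset.induction_on with
    | empty => simp
    | insert a s ha ih =>
      have hdis : D a ⊓ s.sup D = ⊥ := by
        rw [eq_bot_iff]
        rintro x ⟨h1, h2⟩
        have hle : s.sup D ≤ perpSub Q (D a) := Finset.sup_le fun j hj y hy =>
          mem_perpSub.2 fun z hz => member_orth hD (fun e : a = j => ha (e ▸ hj)) hz hy
        exact disjoint_perpSub (member_nondeg hD a) h1 (hle h2)
      have := Submodule.finrank_sup_add_finrank_inf_eq (D a) (s.sup D)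
      rw [hdis, finrank_bot, hD.decomp.decomp.finrank_eq] at this
      rw [Finset.sup_insert, Finset.card_insert_of_notMem ha, add_mul, one_mul]
      omega
  have := (h Finset.univ).trans (Submodule.finrank_le _)
  rwa [Finset.card_univ, Fintype.card_fin, finrank_space] at this

/-! ### inside a member -/

theorem inf_perp_nondeg {W : Submodule F (ι → F)} (hW : ∀ x ∈ W, x ≠ 0 → ∃ y ∈ W, polar ⇑Q x y ≠ 0)
    {u : ι → F} (hu : u ∈ W) (h2 : (2 : F) ≠ 0) (hQu : Q u ≠ 0) :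
    ∀ x ∈ W ⊓ perpSub Q (F ∙ u), x ≠ 0 → ∃ y ∈ W ⊓ perpSub Q (F ∙ u), polar ⇑Q x y ≠ 0 := by
  rintro x ⟨hx, hxu⟩ hx0
  obtain ⟨y, hy, hxy⟩ := hW x hx hx0
  have hux : polar ⇑Q u x = 0 := mem_perpSub.1 hxu u (Submodule.mem_span_singleton_self u)
  have hne : (2 * Q u) ≠ 0 := mul_ne_zero h2 hQu
  refine ⟨y - (polar ⇑Q u y * (2 * Q u)⁻¹) • u, ⟨W.sub_mem hy (W.smul_mem _ hu), mem_perpSub.2 fun w hw => ?_⟩, ?_⟩
  · obtain ⟨r, rfl⟩ := Submodule.mem_span_singleton.1 hw
    rw [pl_smul_left, pl_sub_right, pl_smul_right, pl_self, mul_assoc, inv_mul_cancel₀ hne]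
    ring
  · rw [pl_sub_right, pl_smul_right, pl_comm Q x u, hux, mul_zero, sub_zero]
    exact hxy

theorem finrank_inf_perp_ge (hQ : Q.polarBilin.Nondegenerate) (W : Submodule F (ι → F)) (u : ι → F) :
    finrank F W ≤ finrank F (W ⊓ perpSub Q (F ∙ u) : Submodule F (ι → F)) + 1 := by
  have := finrank_le_perp_inf hQ W (F ∙ u)
  have h1 : finrank F (F ∙ u) ≤ 1 := (finrank_span_le_card {u}).trans (by simp)
  omega

/-- A vector of norm `s` orthogonal to `u` inside `W`. -/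
theorem exists_perp_norm (hQ : Q.polarBilin.Nondegenerate) {W : Submodule F (ι → F)}
    (hW : ∀ x ∈ W, x ≠ 0 → ∃ y ∈ W, polar ⇑Q x y ≠ 0) (hk : 3 ≤ finrank F W) {u : ι → F} (hu : u ∈ W)
    (h : 4 ≤ finrank F W ∨ ((2 : F) ≠ 0 ∧ Q u ≠ 0) ∨ u = 0) (s : F) :
    ∃ p ∈ W, Q p = s ∧ polar ⇑Q p u = 0 := by
  rcases h with h4 | ⟨h2, hQu⟩ | rfl
  · obtain ⟨p, hp, hQp, hpu⟩ := exists_quad_affine hQ hW (P := F ∙ u)
      ((Submodule.span_singleton_le_iff_mem _ _).2 hu)
      (by have : finrank F (F ∙ u) ≤ 1 := (finrank_span_le_card {u}).trans (by simp)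
          omega) W.zero_mem s
    exact ⟨p, hp, hQp, by rw [hpu u (Submodule.mem_span_singleton_self u), pl_zero_left]⟩
  · obtain ⟨p, ⟨hp, hpu⟩, hQp⟩ := exists_Q_eq_in (Q := Q) _ (inf_perp_nondeg hW hu h2 hQu)
      (by have := finrank_inf_perp_ge hQ W u; omega) s
    exact ⟨p, hp, hQp, by rw [pl_comm]; exact mem_perpSub.1 hpu u (Submodule.mem_span_singleton_self u)⟩
  · obtain ⟨p, hp, hQp⟩ := exists_Q_eq_in (Q := Q) W hW (by omega) s
    exact ⟨p, hp, hQp, pl_zero_right Q p⟩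

/-- A non-degenerate space of dimension three has no totally singular plane. -/
theorem mem_span_of_singular_three (hQ : Q.polarBilin.Nondegenerate) {W : Submodule F (ι → F)}
    (hW : ∀ x ∈ W, x ≠ 0 → ∃ y ∈ W, polar ⇑Q x y ≠ 0) (hk : finrank F W = 3) {e z : ι → F}
    (he : e ∈ W) (he0 : e ≠ 0) (hQe : Q e = 0) (hz : z ∈ W) (hQz : Q z = 0)
    (hez : polar ⇑Q e z = 0) (h2 : (2 : F) ≠ 0) : z ∈ F ∙ e := by
  by_contra hmem
  set U := (F ∙ e) ⊔ (F ∙ z)
  have hz0 : z ≠ 0 := fun h => hmem (h ▸ Submodule.zero_mem _)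
  have hU : finrank F U = 2 := by
    have h := Submodule.finrank_sup_add_finrank_inf_eq (F ∙ e) (F ∙ z)
    have hb : (F ∙ e) ⊓ (F ∙ z) = ⊥ := by
      rw [eq_bot_iff]
      rintro x ⟨h1, h2'⟩
      obtain ⟨r, rfl⟩ := Submodule.mem_span_singleton.1 h2'
      by_cases hr : r = 0
      · rw [hr, zero_smul]; exact Submodule.zero_mem _
      · exact absurd ((Submodule.smul_mem_iff _ hr).1 h1) hmem
    rw [hb, finrank_bot, finrank_span_singleton he0, finrank_span_singleton hz0] at h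
    omega
  have hUW : U ≤ W := sup_le ((Submodule.span_singleton_le_iff_mem _ _).2 he)
    ((Submodule.span_singleton_le_iff_mem _ _).2 hz)
  have hUp : U ≤ perpSub Q U := by
    intro x hx
    refine mem_perpSub.2 fun w hw => ?_
    obtain ⟨a, ha, b, hb, rfl⟩ := Submodule.mem_sup.1 hx
    obtain ⟨c, hc, d, hd, rfl⟩ := Submodule.mem_sup.1 hw
    obtain ⟨a, rfl⟩ := Submodule.mem_span_singleton.1 ha
    obtain ⟨b, rfl⟩ := Submodule.mem_span_singleton.1 hb
    obtain ⟨c, rfl⟩ := Submodule.mem_span_singleton.1 hc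
    obtain ⟨d, rfl⟩ := Submodule.mem_span_singleton.1 hd
    simp only [pl_add_left, pl_add_right, pl_smul_left, pl_smul_right, pl_self, hQe, hQz, hez,
      pl_comm Q z e, mul_zero, add_zero]
  have hle : perpSub Q W ⊔ U ≤ perpSub Q U :=
    sup_le (fun x hx => mem_perpSub.2 fun w hw => mem_perpSub.1 hx w (hUW hw)) hUp
  have h1 := Submodule.finrank_mono hle
  have hb : perpSub Q W ⊓ U = ⊥ := by
    rw [eq_bot_iff]; rintro x ⟨h1, h2'⟩; exact disjoint_perpSub hW (hUW h2') h1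
  have h3 := Submodule.finrank_sup_add_finrank_inf_eq (perpSub Q W) U
  rw [hb, finrank_bot, finrank_perpSub hQ, hU] at h3
  rw [finrank_perpSub hQ, hU] at h1
  have := Submodule.finrank_le W
  rw [finrank_space] at this
  omega

/-- Some norm `c` such that every vector of a member has an orthogonal vector of norm in the class
of `c` inside that member. -/
theorem exists_class (hG : Good Q) (hD : Geo.IsOrthogonalMDecomposition ⇑Q k D) (hk : 3 ≤ k)
    (h2 : (2 : F) ≠ 0) (i0 : Fin t) :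
    ∃ c : F, c ≠ 0 ∧ ∀ i, ∀ u ∈ D i, ∀ r : F, ∃ p ∈ D i, Q p = r * r * c ∧ polar ⇑Q p u = 0 := by
  classical
  have hr := hD.decomp.decomp.finrank_eq
  by_cases h4 : 4 ≤ k
  · exact ⟨1, one_ne_zero, fun i u hu r => exists_perp_norm hG.nd (member_nondeg hD i) (by rw [hr]; omega)
      hu (.inl (by rw [hr]; omega)) _⟩
  have hk3 : k = 3 := by omega
  obtain ⟨e, he, he0, hQe⟩ := exists_ne_zero_Q_eq (member_nondeg hD i0) (by rw [hr]; omega) 0
  obtain ⟨z, ⟨hz, hze⟩, hze'⟩ : ∃ z ∈ D i0 ⊓ perpSub Q (F ∙ e), z ∉ F ∙ e := by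
    by_contra! h
    have h1 := Submodule.finrank_mono (show D i0 ⊓ perpSub Q (F ∙ e) ≤ F ∙ e from h)
    have h3 := finrank_inf_perp_ge hG.nd (D i0) e
    rw [finrank_span_singleton he0] at h1
    rw [hr] at h3
    omega
  have hez : polar ⇑Q e z = 0 := mem_perpSub.1 hze e (Submodule.mem_span_singleton_self e)
  have hQz : Q z ≠ 0 := fun h0 => hze'
    (mem_span_of_singular_three hG.nd (member_nondeg hD i0) (by rw [hr, hk3]) he he0 hQe hz h0 hez h2)
  have hbase : ∀ u ∈ D i0, Q u = 0 → ∃ p ∈ D i0, Q p = Q z ∧ polar ⇑Q p u = 0 := by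
    intro u hu hQu
    by_cases hue : polar ⇑Q u e = 0
    · obtain ⟨r, rfl⟩ := Submodule.mem_span_singleton.1
        (mem_span_of_singular_three hG.nd (member_nondeg hD i0) (by rw [hr, hk3]) he he0 hQe hu hQu
          (by rw [pl_comm]; exact hue) h2)
      exact ⟨z, hz, rfl, by rw [pl_smul_right, pl_comm, hez, mul_zero]⟩
    · refine ⟨ap (refl Q (e - u)) z, refl_ap_mem ((D i0).sub_mem he hu) hz, Q_ap _ _, ?_⟩
      have hne : Q (e - u) ≠ 0 := by
        rw [Q_sub, hQe, hQu, pl_comm]; simpa using hue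
      have he' : ap (refl Q (e - u)) e = u := by
        have e1 : polar ⇑Q (e - u) e = Q (e - u) := by
          rw [Q_sub, pl_sub_left, pl_self, hQe, hQu, pl_comm Q u e]; ring
        rw [refl_ap, e1, inv_mul_cancel₀ hne, one_smul, sub_sub_cancel]
      refine (congrArg (polar ⇑Q (ap (refl Q (e - u)) z)) he').symm.trans ?_
      rw [polar_ap, pl_comm, hez]
  refine ⟨Q z, hQz, fun i u hu r => ?_⟩
  by_cases hQu : Q u = 0
  · obtain ⟨e', he', hef⟩ := exists_transport hD i0 i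
    obtain ⟨u0, hu0⟩ := e'.surjective ⟨u, hu⟩
    have eu : u = ((e' u0 : D i) : ι → F) := by rw [hu0]
    obtain ⟨p, hp, hQp, hpu⟩ := hbase u0 u0.2 (by rw [← he' u0, ← eu, hQu])
    refine ⟨r • ((e' ⟨p, hp⟩ : D i) : ι → F), (D i).smul_mem _ (e' ⟨p, hp⟩).2, ?_, ?_⟩
    · rw [Q_smul, he', hQp]
    · rw [pl_smul_left, eu]
      exact mul_eq_zero_of_right r ((hef ⟨p, hp⟩ u0).trans hpu)
  · exact exists_perp_norm hG.nd (member_nondeg hD i) (by rw [hr]; omega) hu (.inr (.inl ⟨h2, hQu⟩)) _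

theorem exists_norm_polar_ne (hQ : Q.polarBilin.Nondegenerate) {W : Submodule F (ι → F)}
    (hW : ∀ x ∈ W, x ≠ 0 → ∃ y ∈ W, polar ⇑Q x y ≠ 0) (hk : 3 ≤ finrank F W) (h2 : (2 : F) ≠ 0)
    {z : ι → F} (hz : z ∈ W) (hz0 : z ≠ 0) (c : F) :
    ∃ p ∈ W, Q p = c ∧ polar ⇑Q p z ≠ 0 := by
  by_cases hQz : Q z = 0
  · obtain ⟨f, hf, hQf, hzf⟩ := exists_hpair_in hQ hW hz hz0 hQz
    refine ⟨c • z + f, W.add_mem (W.smul_mem _ hz) hf, ?_, ?_⟩
    · rw [Q_add, Q_smul, hQz, hQf, pl_smul_left, hzf]; ring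
    · rw [pl_add_left, pl_smul_left, pl_self, hQz, pl_comm Q f z, hzf, mul_zero, mul_zero, zero_add]
      exact one_ne_zero
  · obtain ⟨w, hw, hQw, hwz⟩ := exists_perp_norm hQ hW hk hz (.inr (.inl ⟨h2, hQz⟩)) (c - Q z)
    refine ⟨z + w, W.add_mem hz hw, ?_, ?_⟩
    · rw [Q_add, hQw, pl_comm Q z w, hwz]; ring
    · rw [pl_add_left, pl_self, hwz, add_zero]; exact mul_ne_zero h2 hQz

theorem member_span_norm (hQ : Q.polarBilin.Nondegenerate) {W : Submodule F (ι → F)}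
    (hW : ∀ x ∈ W, x ≠ 0 → ∃ y ∈ W, polar ⇑Q x y ≠ 0) (hk : 3 ≤ finrank F W) (h2 : (2 : F) ≠ 0) (c : F) :
    W ≤ Submodule.span F {p | p ∈ W ∧ Q p = c} := by
  set U := Submodule.span F {p | p ∈ W ∧ Q p = c}
  have hUW : U ≤ W := Submodule.span_le.2 fun p hp => hp.1
  by_contra hne
  obtain ⟨z, ⟨hz, hzU⟩, hz0⟩ : ∃ z ∈ W ⊓ perpSub Q U, z ≠ 0 := by
    refine Submodule.exists_mem_ne_zero_of_ne_bot fun h => hne ?_
    have := finrank_le_perp_inf hQ W U
    rw [h, finrank_bot, zero_add] at this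
    rw [Submodule.eq_of_le_of_finrank_le hUW this]
  obtain ⟨p, hp, hQp, hpz⟩ := exists_norm_polar_ne hQ hW hk h2 hz hz0 c
  exact hpz (mem_perpSub.1 hzU p (Submodule.subset_span ⟨hp, hQp⟩))

/-- An isometry mapping the vectors of norm `c` of the members among themselves permutes the members. -/
theorem mem_decomp_of_maps (hG : Good Q) (hD : Geo.IsOrthogonalMDecomposition ⇑Q k D) (hk : 3 ≤ k)
    (h2 : (2 : F) ≠ 0) (hex : 4 ≤ k ∨ ∃ r : F, r ≠ 0 ∧ r * r ≠ 1) {c : F} (hc : c ≠ 0) {g : IsoGrp Q}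
    (h : ∀ i, ∀ x ∈ D i, Q x = c → ∃ j, ap g x ∈ D j) :
    (g : GL ι F) ∈ Geo.decompositionStabilizer D := by
  classical
  have hr := hD.decomp.decomp.finrank_eq
  have hmain : ∀ i, ∃ j, ∀ x ∈ D i, ap g x ∈ D j := by
    intro i
    obtain ⟨p0, hp0, hQp0⟩ := exists_Q_eq_in (Q := Q) (D i) (member_nondeg hD i) (by rw [hr]; omega) c
    obtain ⟨j, hj⟩ := h i p0 hp0 hQp0
    refine ⟨j, ?_⟩
    by_contra! hne
    obtain ⟨x, hx, hgx⟩ := hne
    set S1 := {p : ι → F | (p ∈ D i ∧ Q p = c) ∧ ap g p ∈ D j}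
    set S2 := {p : ι → F | (p ∈ D i ∧ Q p = c) ∧ ap g p ∉ D j}
    set U1 := Submodule.span F S1
    set U2 := Submodule.span F S2
    have hspan := member_span_norm hG.nd (member_nondeg hD i) (by rw [hr]; omega) h2 c
    have hsup : D i ≤ U1 ⊔ U2 := hspan.trans (Submodule.span_le.2 fun p hp => by
      by_cases hgp : ap g p ∈ D j
      · exact Submodule.mem_sup_left (Submodule.subset_span ⟨hp, hgp⟩)
      · exact Submodule.mem_sup_right (Submodule.subset_span ⟨hp, hgp⟩))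
    obtain ⟨q, ⟨⟨hq, hQq⟩, hgq⟩⟩ : ∃ q, q ∈ S2 := by
      by_contra! hS2
      refine hgx ((hspan.trans (Submodule.span_le.2 fun p hp => ?_)) hx :
        x ∈ (D j).comap (ap g))
      by_contra hp'
      exact hS2 p ⟨hp, hp'⟩
    have horth : ∀ a ∈ U1, ∀ b ∈ U2, polar ⇑Q a b = 0 := by
      intro a ha b hb
      have h1 : ∀ a ∈ S1, U2 ≤ LinearMap.ker (Q.polarBilin a) := fun a ha => Submodule.span_le.2 fun b hb => by
        obtain ⟨l, hl⟩ := h i b hb.1.1 hb.1.2
        have hlj : j ≠ l := fun e => hb.2 (e ▸ hl)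
        show polar ⇑Q a b = 0
        rw [← polar_ap g]
        exact member_orth hD hlj ha.2 hl
      have h2' : U1 ≤ LinearMap.ker (Q.polarBilin.flip b) := Submodule.span_le.2 fun a ha => h1 a ha hb
      exact h2' ha
    have hU1D : U1 ≤ D i := Submodule.span_le.2 fun p hp => hp.1.1
    have hU2D : U2 ≤ D i := Submodule.span_le.2 fun p hp => hp.1.1
    have hnd1 : ∀ a ∈ U1, a ≠ 0 → ∃ b ∈ U1, polar ⇑Q a b ≠ 0 := by
      intro a ha ha0
      obtain ⟨y, hy, hay⟩ := member_nondeg hD i a (hU1D ha) ha0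
      obtain ⟨y1, hy1, y2, hy2, rfl⟩ := Submodule.mem_sup.1 (hsup hy)
      exact ⟨y1, hy1, by rwa [pl_add_right, horth a ha y2 hy2, add_zero] at hay⟩
    have hnd2 : ∀ a ∈ U2, a ≠ 0 → ∃ b ∈ U2, polar ⇑Q a b ≠ 0 := by
      intro a ha ha0
      obtain ⟨y, hy, hay⟩ := member_nondeg hD i a (hU2D ha) ha0
      obtain ⟨y1, hy1, y2, hy2, rfl⟩ := Submodule.mem_sup.1 (hsup hy)
      exact ⟨y2, hy2, by rwa [pl_add_right, pl_comm Q a y1, horth y1 hy1 a ha, zero_add] at hay⟩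
    -- a vector of norm `c` with both components non-zero
    suffices hw : ∃ u ∈ U1, ∃ v ∈ U2, u ≠ 0 ∧ v ≠ 0 ∧ Q u + Q v = c by
      obtain ⟨u, hu, v, hv, hu0, hv0, hQ'⟩ := hw
      have hQw : Q (u + v) = c := by rw [Q_add, horth u hu v hv, hQ', add_zero]
      have hwD : u + v ∈ D i := (D i).add_mem (hU1D hu) (hU2D hv)
      by_cases hgw : ap g (u + v) ∈ D j
      · obtain ⟨b, hb, hvb⟩ := hnd2 v hv hv0
        refine hvb ?_
        have := horth _ (Submodule.subset_span ⟨⟨hwD, hQw⟩, hgw⟩) b hb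
        rwa [pl_add_left, horth u hu b hb, zero_add] at this
      · obtain ⟨b, hb, hub⟩ := hnd1 u hu hu0
        refine hub ?_
        have := horth b hb _ (Submodule.subset_span ⟨⟨hwD, hQw⟩, hgw⟩)
        rwa [pl_add_right, horth b hb v hv, add_zero, pl_comm] at this
    have hp0U : p0 ∈ U1 := Submodule.subset_span ⟨⟨hp0, hQp0⟩, hj⟩
    have hqU : q ∈ U2 := Submodule.subset_span ⟨⟨hq, hQq⟩, hgq⟩
    have hne : ∀ v : ι → F, Q v = c → v ≠ 0 := fun v hv h0 => hc (by rw [← hv, h0, QuadraticMap.map_zero])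
    by_cases h13 : 3 ≤ finrank F U1
    · obtain ⟨u, hu, hu0, hQu⟩ := exists_ne_zero_Q_eq hnd1 h13 0
      exact ⟨u, hu, q, hqU, hu0, hne q hQq, by rw [hQu, zero_add, hQq]⟩
    by_cases h23 : 3 ≤ finrank F U2
    · obtain ⟨v, hv, hv0, hQv⟩ := exists_ne_zero_Q_eq hnd2 h23 0
      exact ⟨p0, hp0U, v, hv, hne p0 hQp0, hv0, by rw [hQv, add_zero, hQp0]⟩
    have hsum : k ≤ finrank F U1 + finrank F U2 := by
      rw [← hr i]
      exact (Submodule.finrank_mono hsup).trans (Submodule.finrank_add_le_finrank_add_finrank U1 U2)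
    have hne' : ∀ {v : ι → F} {s : F}, s ≠ 0 → Q v = s → v ≠ 0 := fun hs hv h0 =>
      hs (by rw [← hv, h0, QuadraticMap.map_zero])
    by_cases h4 : 4 ≤ k
    · have hc2 : (2 : F) * c ≠ 0 := mul_ne_zero h2 hc
      obtain ⟨u, hu, hQu⟩ := exists_Q_eq_in (Q := Q) U1 hnd1 (by omega) (2 * c)
      obtain ⟨v, hv, hQv⟩ := exists_Q_eq_in (Q := Q) U2 hnd2 (by omega) (-c)
      exact ⟨u, hu, v, hv, hne' hc2 hQu, hne' (neg_ne_zero.2 hc) hQv, by rw [hQu, hQv]; ring⟩
    obtain ⟨r, hr0, hr1⟩ := hex.resolve_left h4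
    have ha : c - r * r * c ≠ 0 := fun h' => hr1
      (mul_right_cancel₀ hc (by rw [one_mul]; linear_combination -h'))
    by_cases h12 : 2 ≤ finrank F U1
    · obtain ⟨u, hu, hQu⟩ := exists_Q_eq_in (Q := Q) U1 hnd1 h12 (c - r * r * c)
      exact ⟨u, hu, r • q, U2.smul_mem _ hqU, hne' ha hQu, smul_ne_zero hr0 (hne q hQq),
        by rw [hQu, Q_smul, hQq]; ring⟩
    · obtain ⟨v, hv, hQv⟩ := exists_Q_eq_in (Q := Q) U2 hnd2 (by omega) (c - r * r * c)
      exact ⟨r • p0, U1.smul_mem _ hp0U, v, hv, smul_ne_zero hr0 (hne p0 hQp0), hne' ha hQv,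
        by rw [hQv, Q_smul, hQp0]; ring⟩
  choose σ hσ using hmain
  have hinj : Function.Injective σ := by
    intro i i' hii
    by_contra hne
    obtain ⟨y, hy, hy0⟩ := Submodule.exists_mem_ne_zero_of_ne_bot (p := D i')
      (fun e => by have := hr i'; rw [e, finrank_bot] at this; omega)
    have hmap : (D i).map (ap g) = D (σ i) := by
      refine Submodule.eq_of_le_of_finrank_le (Submodule.map_le_iff_le_comap.2 (hσ i)) ?_
      rw [hr, ← (Submodule.equivMapOfInjective (ap g) (fun a b e => ap_inj g e) (D i)).finrank_eq, hr]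
    have hgy : ap g y ∈ (D i).map (ap g) := by rw [hmap, hii]; exact hσ i' y hy
    obtain ⟨x, hx, hxy⟩ := hgy
    rw [ap_inj g hxy] at hx
    exact hne (member_eq hD hx hy hy0)
  refine ⟨Equiv.ofBijective σ (Finite.injective_iff_bijective.1 hinj), fun i => ?_⟩
  refine Submodule.eq_of_le_of_finrank_le (Submodule.map_le_iff_le_comap.2 (hσ i)) ?_
  have hinj' : Function.Injective (Matrix.toLin' ((g : GL ι F) : Matrix ι ι F)) := fun a b e => ap_inj g e
  rw [hr, ← (Submodule.equivMapOfInjective _ hinj' (D i)).finrank_eq, hr]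

/-! ### swapping two members -/

theorem exists_swap_members (hG : Good Q) (hD : Geo.IsOrthogonalMDecomposition ⇑Q k D) (hk : 2 ≤ k)
    {i j : Fin t} (hij : i ≠ j) :
    ∃ g : IsoGrp Q, g ∈ Omega F ⇑Q ∧ (∀ x ∈ D i, ap g x ∈ D j) ∧ (∀ x ∈ D j, ap g x ∈ D i) ∧
      ∀ l, l ≠ i → l ≠ j → ∀ x ∈ D l, ap g x ∈ D l := by
  classical
  obtain ⟨e, he, hef⟩ := exists_transport hD i j
  let πi : (ι → F) →ₗ[F] D i := (cmp hG.nd hD i).codRestrict (D i) (cmp_mem hG.nd hD i)
  let πj : (ι → F) →ₗ[F] D j := (cmp hG.nd hD j).codRestrict (D j) (cmp_mem hG.nd hD j)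
  let s : (ι → F) →ₗ[F] (ι → F) := LinearMap.id
    + ((D j).subtype ∘ₗ e.toLinearMap ∘ₗ πi - (D i).subtype ∘ₗ πi)
    + ((D i).subtype ∘ₗ e.symm.toLinearMap ∘ₗ πj - (D j).subtype ∘ₗ πj)
  have hπi : ∀ x, (πi x : ι → F) = cmp hG.nd hD i x := fun x => rfl
  have hπj : ∀ x, (πj x : ι → F) = cmp hG.nd hD j x := fun x => rfl
  have hs : ∀ x, s x = x + (((e (πi x) : D j) : ι → F) - cmp hG.nd hD i x)
      + (((e.symm (πj x) : D i) : ι → F) - cmp hG.nd hD j x) := fun x => rfl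
  have si : ∀ x (hx : x ∈ D i), s x = ((e ⟨x, hx⟩ : D j) : ι → F) := fun x hx => by
    have h1 : πi x = ⟨x, hx⟩ := Subtype.ext (cmp_of_mem _ hD hx)
    have h2' : πj x = 0 := Subtype.ext (cmp_of_mem_ne _ hD hij.symm hx)
    rw [hs, ← hπi, ← hπj, h1, h2', map_zero]
    simp
  have sj : ∀ x (hx : x ∈ D j), s x = ((e.symm ⟨x, hx⟩ : D i) : ι → F) := fun x hx => by
    have h1 : πj x = ⟨x, hx⟩ := Subtype.ext (cmp_of_mem _ hD hx)
    have h2' : πi x = 0 := Subtype.ext (cmp_of_mem_ne _ hD hij hx)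
    rw [hs, ← hπi, ← hπj, h1, h2', map_zero]
    simp
  have sl : ∀ l, l ≠ i → l ≠ j → ∀ x ∈ D l, s x = x := fun l h1 h2' x hx => by
    have e1 : πi x = 0 := Subtype.ext (cmp_of_mem_ne _ hD h1.symm hx)
    have e2 : πj x = 0 := Subtype.ext (cmp_of_mem_ne _ hD h2'.symm hx)
    rw [hs, ← hπi, ← hπj, e1, e2, map_zero, map_zero]
    simp
  let σ : Equiv.Perm (Fin t) := Equiv.swap i j
  have hsmem : ∀ l, ∀ x ∈ D l, s x ∈ D (σ l) ∧ Q (s x) = Q x := by
    intro l x hx
    by_cases h1 : l = i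
    · subst h1
      rw [si x hx, Equiv.swap_apply_left]
      exact ⟨(e ⟨x, hx⟩).2, he _⟩
    by_cases h2' : l = j
    · subst h2'
      rw [sj x hx, Equiv.swap_apply_right]
      refine ⟨(e.symm ⟨x, hx⟩).2, ?_⟩
      rw [← he (e.symm ⟨x, hx⟩), LinearEquiv.apply_symm_apply]
    rw [sl l h1 h2' x hx, Equiv.swap_apply_of_ne_of_ne h1 h2']
    exact ⟨hx, rfl⟩
  have hQs : ∀ x, Q (s x) = Q x := by
    intro x
    conv_lhs => rw [← sum_cmp hG.nd hD x, map_sum]
    rw [Q_sum_orth _ _ fun a _ b _ hab => member_orth hD (σ.injective.ne hab)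
      (hsmem a _ (cmp_mem _ hD a x)).1 (hsmem b _ (cmp_mem _ hD b x)).1,
      Q_eq_sum_cmp hG.nd hD x]
    exact Finset.sum_congr rfl fun a _ => (hsmem a _ (cmp_mem _ hD a x)).2
  have hinj : Function.Injective s := (injective_iff_map_eq_zero s).2 fun x hx => by
    by_contra hx0
    obtain ⟨y, hy⟩ := exists_polar_ne hG.nd hx0
    refine hy ?_
    rw [show polar ⇑Q x y = polar ⇑Q (s x) (s y) by simp only [polar, ← map_add, hQs],
      hx, pl_zero_left]
  have hunit : IsUnit (LinearMap.toMatrix' s) := by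
    rw [← Matrix.mulVec_injective_iff_isUnit]
    intro a b hab
    exact hinj (by rwa [LinearMap.toMatrix'_mulVec, LinearMap.toMatrix'_mulVec] at hab)
  let g0 : IsoGrp Q := ⟨hunit.unit, fun x _ => by
    show Q (LinearMap.toMatrix' s *ᵥ x) = Q x
    rw [LinearMap.toMatrix'_mulVec, hQs]⟩
  have hg0 : ∀ x, ap g0 x = s x := fun x => LinearMap.toMatrix'_mulVec s x
  -- adjust by reflections in the member `i`
  have hnd := member_nondeg hD i
  have hr := hD.decomp.decomp.finrank_eq i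
  obtain ⟨r, hrΩ, hrD, hrfix⟩ : ∃ r : IsoGrp Q, g0 * r ∈ Omega F ⇑Q ∧
      (∀ x ∈ D i, ap r x ∈ D i) ∧ ∀ l, l ≠ i → ∀ x ∈ D l, ap r x = x := by
    have hf : ∀ v ∈ D i, ∀ l, l ≠ i → ∀ x ∈ D l, ap (refl Q v) x = x := fun v hv l hl x hx =>
      refl_ap_of_orth Q (member_orth hD hl.symm hv hx)
    by_cases h2 : (2 : F) = 0
    · rcases dick_eq_or g0 with hd | hd
      · exact ⟨1, (mem_omega_iff hG _).2 ⟨by rw [mul_one]; exact hd,
          spin_eq_one_of_two hG h2 _⟩, fun x hx => by rwa [ap_one], fun l _ x _ => ap_one x⟩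
      · obtain ⟨v, hv, hQv⟩ := exists_Q_eq_in (Q := Q) (D i) hnd (by omega) 1
        refine ⟨refl Q v, (mem_omega_iff hG _).2 ⟨?_, spin_eq_one_of_two hG h2 _⟩,
          fun x hx => refl_ap_mem hv hx, hf v hv⟩
        rw [dick_mul hG, hd, dick_refl hG.nd (by rw [hQv]; exact one_ne_zero)]; norm_num
    · obtain ⟨ν, hν⟩ := quadraticChar_exists_neg_one' (F := F) (fun h => h2 (by
        have := ringChar.Nat.cast_ringChar (R := F)
        rw [h] at this
        exact_mod_cast this))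
      obtain ⟨a, ha, hQa⟩ := exists_Q_eq_in (Q := Q) (D i) hnd (by omega) 1
      obtain ⟨b, hb, hQb⟩ := exists_Q_eq_in (Q := Q) (D i) hnd (by omega) (ν : F)
      have ha1 : spin (refl Q a) = 1 := by
        rw [spin_refl hG.nd (by rw [hQa]; exact one_ne_zero), hQa, map_one]
      have hb1 : spin (refl Q b) = -1 := by
        rw [spin_refl hG.nd (by rw [hQb]; exact Units.ne_zero ν), hQb, hν]
      have hda : dick (refl Q a) = -1 := dick_refl hG.nd (by rw [hQa]; exact one_ne_zero)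
      have hdb : dick (refl Q b) = -1 := dick_refl hG.nd (by rw [hQb]; exact Units.ne_zero ν)
      rcases dick_eq_or g0 with hd | hd <;> rcases spin_eq_or hG g0 with hsp | hsp
      · exact ⟨1, (mem_omega_iff hG _).2 ⟨by rw [mul_one]; exact hd, by rw [mul_one]; exact hsp⟩,
          fun x hx => by rwa [ap_one], fun l _ x _ => ap_one x⟩
      · exact ⟨refl Q a * refl Q b, (mem_omega_iff hG _).2
          ⟨by rw [dick_mul hG, dick_mul hG, hd, hda, hdb]; norm_num,
            by rw [spin_mul hG, spin_mul hG, hsp, ha1, hb1]; norm_num⟩,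
          fun x hx => by rw [ap_mul]; exact refl_ap_mem ha (refl_ap_mem hb hx),
          fun l hl x hx => by rw [ap_mul, hf b hb l hl x hx, hf a ha l hl x hx]⟩
      · exact ⟨refl Q a, (mem_omega_iff hG _).2 ⟨by rw [dick_mul hG, hd, hda]; norm_num,
          by rw [spin_mul hG, hsp, ha1]; norm_num⟩, fun x hx => refl_ap_mem ha hx, hf a ha⟩
      · exact ⟨refl Q b, (mem_omega_iff hG _).2 ⟨by rw [dick_mul hG, hd, hdb]; norm_num,
          by rw [spin_mul hG, hsp, hb1]; norm_num⟩, fun x hx => refl_ap_mem hb hx, hf b hb⟩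
  refine ⟨g0 * r, hrΩ, fun x hx => ?_, fun x hx => ?_, fun l h1 h2' x hx => ?_⟩
  · rw [ap_mul, hg0, si _ (hrD x hx)]; exact (e _).2
  · rw [ap_mul, hg0, hrfix j hij.symm x hx, sj x hx]; exact (e.symm _).2
  · rw [ap_mul, hg0, hrfix l h1 x hx, sl l h1 h2' x hx]; exact hx

end Cfsg.Agent.Orth
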