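import Cfsg.Agent.Lib.Orth.Unipotent
import Cfsg.Agent.Lib.Linear.Symplectic
import Cfsg.Agent.Lib.GLOrder.Symplectic
import Mathlib.Algebra.CharP.Two
import Mathlib.FieldTheory.Perfect
import Mathlib.FieldTheory.Finite.Basic

/-!
# Quadratic forms with a given alternating polar form, characteristic two

* `IsPlusForm`, `classify_type`, `exists_conj_of_type` : the two types and conjugacy under `Sp`
* `eq_of_fixedPointFree` : an isometry without fixed vectors preserves one form only
* `exists_preserved`, `exists_type_shift`, `plus_of_fix_singular` : forms preserved by involutions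
-/

set_option autoImplicit false
set_option linter.unusedSectionVars false
set_option linter.unusedVariables false
set_option linter.style.haveILetI false

namespace Cfsg.Agent.Orth

open Cfsg Module
open QuadraticMap (polar)

section General

variable {F V : Type*} [Field F] [AddCommGroup V] [Module F V] [FiniteDimensional F V]

/-- `P` has a totally singular subspace of half dimension. -/
def IsPlusForm (P : QuadraticForm F V) : Prop :=
  ∃ U : Submodule F V, (∀ u ∈ U, P u = 0) ∧ finrank F V ≤ 2 * finrank F U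

theorem isPlusForm_of_plus {P : QuadraticForm F V} {d : ℕ} (e : (Fin d ⊕ Fin d → F) ≃ₗ[F] V)
    (he : ∀ v, P (e v) = Forms.qfPlus d F v) : IsPlusForm P := by
  refine ⟨(Forms.plusMax₁ (F := F) d).map e.toLinearMap, ?_, ?_⟩
  · rintro _ ⟨u, hu, rfl⟩
    rw [LinearEquiv.coe_coe, he]; exact Forms.plusMax₁_singular d u hu
  · rw [show finrank F ↥((Forms.plusMax₁ (F := F) d).map e.toLinearMap) = finrank F ↥(Forms.plusMax₁ (F := F) d)
      from LinearEquiv.finrank_map_eq e _, Forms.finrank_plusMax₁, ← e.finrank_eq, Module.finrank_pi]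
    simp only [Fintype.card_sum, Fintype.card_fin]
    omega

theorem not_isPlusForm_of_minus [Finite F] {P : QuadraticForm F V} {k : ℕ} {a b : F}
    (hab : ∀ x y : F, x ^ 2 + a * x * y + b * y ^ 2 = 0 → x = 0 ∧ y = 0)
    (e : ((Fin k ⊕ Fin k) ⊕ Fin 2 → F) ≃ₗ[F] V) (he : ∀ v, P (e v) = Forms.qfMinus k F a b v) :
    ¬ IsPlusForm P := by
  rintro ⟨U, hU, hd⟩
  refine not_half_qfMinus hab k (W := U.map e.symm.toLinearMap) ?_ ?_
  · rintro _ ⟨u, hu, rfl⟩
    rw [← he]; simpa using hU u hu
  · rw [show finrank F ↥(U.map e.symm.toLinearMap) = finrank F U from LinearEquiv.finrank_map_eq e.symm U]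
    rw [← e.finrank_eq, Module.finrank_pi] at hd
    simp only [Fintype.card_sum, Fintype.card_fin] at hd
    omega

theorem classify_type [Finite F] (P : QuadraticForm F V) (hP : P.polarBilin.Nondegenerate) {m : ℕ}
    (hV : finrank F V = 2 * (m + 1)) {a b : F}
    (hab : ∀ x y : F, x ^ 2 + a * x * y + b * y ^ 2 = 0 → x = 0 ∧ y = 0) :
    (IsPlusForm P ∧ ∃ e : (Fin (m + 1) ⊕ Fin (m + 1) → F) ≃ₗ[F] V, ∀ v, P (e v) = Forms.qfPlus (m + 1) F v) ∨
    (¬ IsPlusForm P ∧ ∃ e : ((Fin m ⊕ Fin m) ⊕ Fin 2 → F) ≃ₗ[F] V, ∀ v, P (e v) = Forms.qfMinus m F a b v) := by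
  rcases Forms.classify_even P hP hV hab with ⟨e, he⟩ | ⟨-, e, he⟩
  · exact .inl ⟨isPlusForm_of_plus e he, e, he⟩
  · exact .inr ⟨not_isPlusForm_of_minus hab e he, e, he⟩

/-- Forms of the same type with the same polar form are equivalent by an isometry of the polar form. -/
theorem exists_equiv_of_type [Finite F] {P P' : QuadraticForm F V} (hP : P.polarBilin.Nondegenerate)
    (hP' : P'.polarBilin.Nondegenerate) {m : ℕ} (hV : finrank F V = 2 * (m + 1))
    (h : IsPlusForm P ↔ IsPlusForm P') : ∃ e : V ≃ₗ[F] V, ∀ v, P (e v) = P' v := by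
  obtain ⟨ζ, -, hζ⟩ := Forms.exists_no_root (F := F)
  rcases classify_type P hP hV hζ with ⟨h1, e, he⟩ | ⟨h1, e, he⟩ <;>
    rcases classify_type P' hP' hV hζ with ⟨h2, e', he'⟩ | ⟨h2, e', he'⟩
  · exact ⟨e'.symm.trans e, fun v => by rw [LinearEquiv.trans_apply, he, ← he', e'.apply_symm_apply]⟩
  · exact absurd (h.1 h1) h2
  · exact absurd (h.2 h2) h1
  · exact ⟨e'.symm.trans e, fun v => by rw [LinearEquiv.trans_apply, he, ← he', e'.apply_symm_apply]⟩

variable [CharP F 2]

theorem diff_add {P P' : QuadraticForm F V} (h : ∀ u v, polar ⇑P u v = polar ⇑P' u v) (u v : V) :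
    P (u + v) + P' (u + v) = (P u + P' u) + (P v + P' v) := by
  rw [QuadraticMap.map_add ⇑P, QuadraticMap.map_add ⇑P', h]
  linear_combination polar ⇑P' u v * CharTwo.two_eq_zero (R := F)

theorem eq_of_fixedPointFree {P P' : QuadraticForm F V} (h : ∀ u v, polar ⇑P u v = polar ⇑P' u v)
    (T : V →ₗ[F] V) (hP : ∀ v, P (T v) = P v) (hP' : ∀ v, P' (T v) = P' v)
    (hfix : ∀ v, T v = v → v = 0) : P = P' := by
  have hsurj : Function.Surjective (T - 1 : Module.End F V) := LinearMap.injective_iff_surjective.1
    ((injective_iff_map_eq_zero _).2 fun v hv => hfix v (sub_eq_zero.1 hv))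
  refine QuadraticMap.ext fun w => ?_
  obtain ⟨v, rfl⟩ := hsurj w
  show P (T v - v) = P' (T v - v)
  have h1 := diff_add h (T v - v) v
  rw [sub_add_cancel, hP, hP', right_eq_add, CharTwo.add_eq_zero] at h1
  exact h1

theorem exists_sqrt [Finite F] : ∃ s : F → F, (∀ c, s c * s c = c) ∧ (∀ a b, s (a + b) = s a + s b) ∧
    (∀ a b, s (a * b) = s a * s b) ∧ ∀ a, s (a * a) = a := by
  refine ⟨(frobeniusEquiv F 2).symm, fun c => ?_, map_add _, map_mul _, fun a => ?_⟩
  · have := (frobeniusEquiv F 2).apply_symm_apply c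
    rwa [frobeniusEquiv_def, sq] at this
  · rw [← sq, ← frobeniusEquiv_def F 2 a, RingEquiv.symm_apply_apply]

/-- An involution preserving the polar form preserves some form with that polar form. -/
theorem exists_preserved [Finite F] (P : QuadraticForm F V) (g : Module.End F V) (hg : ∀ v, g (g v) = v)
    (hpol : ∀ u v, polar ⇑P (g u) (g v) = polar ⇑P u v) :
    ∃ P' : QuadraticForm F V, (∀ u v, polar ⇑P' u v = polar ⇑P u v) ∧ ∀ v, P' (g v) = P' v := by
  obtain ⟨s, hs, hsadd, hsmul, hssq⟩ := exists_sqrt (F := F)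
  have hDadd : ∀ u v, P (g (u + v)) + P (u + v) = (P (g u) + P u) + (P (g v) + P v) := fun u v =>
    diff_add (P := P.comp g) (P' := P) (fun a b => by
      rw [← hpol a b]; simp only [polar, QuadraticMap.comp_apply, map_add]) u v
  let ℓ : V →ₗ[F] F :=
    { toFun := fun v => s (P (g v) + P v)
      map_add' := fun u v => by rw [hDadd, hsadd]
      map_smul' := fun c v => by
        rw [map_smul, QuadraticMap.map_smul, QuadraticMap.map_smul, smul_eq_mul, smul_eq_mul, ← mul_add,
          hsmul, hssq]
        rfl }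
  set N : Module.End F V := g + 1
  have hker : LinearMap.ker N ≤ LinearMap.ker ℓ := fun v hv => by
    have hgv : g v = v := by
      have h1 : g v + v = 0 := hv
      have h2 : g v + v + v = v := by rw [h1, zero_add]
      have h3 : (2 : F) • v = 0 := by rw [CharTwo.two_eq_zero, zero_smul]
      rw [add_assoc, ← two_smul F v, h3, add_zero] at h2
      exact h2
    show s (P (g v) + P v) = 0
    rw [hgv, CharTwo.add_self_eq_zero]
    have := hssq 0
    rwa [mul_zero] at this
  obtain ⟨lam, hlam⟩ := LinearMap.exists_extend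
    (((LinearMap.ker N).liftQ ℓ hker) ∘ₗ N.quotKerEquivRange.symm.toLinearMap)
  have hN : ∀ v, lam (g v + v) = ℓ v := fun v => by
    have h1 := LinearMap.congr_fun hlam ⟨N v, LinearMap.mem_range_self N v⟩
    have h2 : N.quotKerEquivRange.symm ⟨N v, LinearMap.mem_range_self N v⟩ = Submodule.Quotient.mk v :=
      LinearMap.quotKerEquivRange_symm_apply_image N v _
    simp only [LinearMap.comp_apply, LinearEquiv.coe_coe, h2, Submodule.liftQ_apply] at h1
    exact h1
  refine ⟨P + QuadraticMap.linMulLin lam lam, fun u v => ?_, fun v => ?_⟩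
  · simp only [polar, add_apply, QuadraticMap.linMulLin_apply, map_add]
    linear_combination lam u * lam v * CharTwo.two_eq_zero (R := F)
  · have h1 : ℓ v * ℓ v = P (g v) + P v := hs _
    rw [← hN v, map_add] at h1
    simp only [add_apply, QuadraticMap.linMulLin_apply]
    linear_combination h1 + (P (g v) - lam (g v) * lam v - lam v * lam v) * CharTwo.two_eq_zero (R := F)

/-- Adding multiples of the square of a functional `f(w, ·)`, `w` non-singular, gives both types. -/
theorem exists_type_shift [Finite F] (P : QuadraticForm F V) (hP : P.polarBilin.Nondegenerate) {m : ℕ}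
    (hV : finrank F V = 2 * (m + 1)) {w : V} (hw : P w ≠ 0) (T : Prop) :
    ∃ c : F, (IsPlusForm (P + c • QuadraticMap.linMulLin (P.polarBilin w) (P.polarBilin w)) ↔ T) := by
  classical
  haveI : Finite V := Module.finite_of_finite F
  obtain ⟨s, hs, hsadd, hsmul, hssq⟩ := exists_sqrt (F := F)
  let R := fun c : F => P + c • QuadraticMap.linMulLin (P.polarBilin w) (P.polarBilin w)
  have hR : ∀ c v, R c v = P v + c * (polar ⇑P w v * polar ⇑P w v) := fun c v => rfl
  have hRpol : ∀ c u v, polar ⇑(R c) u v = polar ⇑P u v := fun c u v => by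
    simp only [polar, R, add_apply, smul_apply, QuadraticMap.linMulLin_apply, map_add, smul_eq_mul]
    linear_combination c * P.polarBilin w u * P.polarBilin w v * CharTwo.two_eq_zero (R := F)
  have hRnd : ∀ c, (R c).polarBilin.Nondegenerate := fun c => by
    rwa [show (R c).polarBilin = P.polarBilin from LinearMap.ext₂ (hRpol c)]
  have hww : polar ⇑P w w = 0 := by
    rw [QuadraticMap.polar_self, two_nsmul, CharTwo.add_self_eq_zero]
  have hsh : ∀ (t : F) v, polar ⇑P w (v + t • w) = polar ⇑P w v := fun t v => by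
    rw [QuadraticMap.polar_add_right, QuadraticMap.polar_smul_right, hww, smul_zero, add_zero]
  have hPt : ∀ c v, polar ⇑P w v = 0 → P (v + s (c / P w) • w) = P v + c := fun c v h0 => by
    rw [QuadraticMap.map_add ⇑P, QuadraticMap.map_smul, QuadraticMap.polar_smul_right,
      QuadraticMap.polar_comm, h0, smul_zero, add_zero, hs, smul_eq_mul, div_mul_cancel₀ _ hw]
  have hss : ∀ (t : F) (v : V), v + t • w + t • w = v := fun t v => by
    rw [add_assoc, ← add_smul, CharTwo.add_self_eq_zero, zero_smul, add_zero]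
  let φ : (Σ c : F, {v : V // R c v = 0}) → V := fun z =>
    if polar ⇑P w z.2.1 = 0 then z.2.1 + s (z.1 / P w) • w else z.2.1
  have hbij : Function.Bijective φ := by
    constructor
    · rintro ⟨c, v, hv⟩ ⟨c', v', hv'⟩ h
      have hf : polar ⇑P w v = polar ⇑P w v' := by
        have := congrArg (polar ⇑P w) h
        simp only [φ] at this
        split_ifs at this <;> simpa [hsh] using this
      have hv2 := hv
      have hv2' := hv'
      rw [hR] at hv2 hv2'
      rw [← hf] at hv2'
      by_cases h0 : polar ⇑P w v = 0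
      · simp only [φ, ← hf, h0, if_true] at h
        have e1 := hPt c v h0
        have e2 := hPt c' v' (hf ▸ h0)
        rw [h, e2] at e1
        rw [h0] at hv2 hv2'
        simp only [mul_zero, add_zero] at hv2 hv2'
        rw [hv2, hv2', zero_add, zero_add] at e1
        subst e1
        obtain rfl : v = v' := add_right_cancel h
        rfl
      · simp only [φ, ← hf, if_neg h0] at h
        subst h
        obtain rfl : c = c' := mul_right_cancel₀ (mul_ne_zero h0 h0) (by linear_combination hv2 - hv2')
        rfl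
    · intro v
      by_cases h0 : polar ⇑P w v = 0
      · refine ⟨⟨P v, v + s (P v / P w) • w, ?_⟩, ?_⟩
        · rw [hR, hsh, h0, hPt _ _ h0, CharTwo.add_self_eq_zero]; ring
        · simp only [φ, hsh, h0, if_true, hss]
      · refine ⟨⟨P v / (polar ⇑P w v * polar ⇑P w v), v, ?_⟩, ?_⟩
        · rw [hR, div_mul_cancel₀ _ (mul_ne_zero h0 h0), CharTwo.add_self_eq_zero]
        · simp only [φ, h0, if_false]
  haveI : Fintype F := Fintype.ofFinite F
  have hcard := Nat.card_eq_of_bijective φ hbij
  rw [Nat.card_sigma, Module.natCard_eq_pow_finrank (K := F), hV] at hcard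
  by_contra! hcon
  obtain ⟨ζ, -, hζ⟩ := Forms.exists_no_root (F := F)
  set q := Nat.card F
  have hq : 2 ≤ q := Finite.one_lt_card
  have hZ : ∀ c, (Nat.card {v : V // R c v = 0} : ℤ) =
      if IsPlusForm (R c) then (q : ℤ) ^ (2 * m + 1) + (q : ℤ) ^ (m + 1) - (q : ℤ) ^ m
      else (q : ℤ) ^ (2 * m + 1) + (q : ℤ) ^ m - (q : ℤ) ^ (m + 1) := fun c => by
    rcases classify_type (R c) (hRnd c) hV hζ with ⟨h1, e, he⟩ | ⟨h1, e, he⟩
    · rw [if_pos h1, ← Forms.card_zeros_qfPlus, Forms.card_zeros_congr (⇑(Forms.qfPlus (m + 1) F))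
        ⇑(R c) e 1 one_ne_zero (fun v => by rw [he, one_mul])]
    · rw [if_neg h1, ← Forms.card_zeros_qfMinus hζ, Forms.card_zeros_congr (⇑(Forms.qfMinus m F 1 ζ))
        ⇑(R c) e 1 one_ne_zero (fun v => by rw [he, one_mul])]
  have hne : (q : ℤ) ^ m < (q : ℤ) ^ (m + 1) := pow_lt_pow_right₀ (by exact_mod_cast hq) (Nat.lt_succ_self m)
  have hcard' : ∑ c : F, (Nat.card {v : V // R c v = 0} : ℤ) = (q : ℤ) ^ (2 * (m + 1)) := by
    exact_mod_cast hcard
  have hqF : (Finset.univ : Finset F).card = q := by rw [Finset.card_univ, ← Nat.card_eq_fintype_card]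
  by_cases hT : T
  · rw [Finset.sum_congr rfl fun c _ => (hZ c).trans (if_neg fun h =>
      (hcon c).elim (fun h' => h'.2 hT) fun h' => h'.1 h), Finset.sum_const, nsmul_eq_mul, hqF] at hcard'
    have : (q : ℤ) * ((q : ℤ) ^ m - (q : ℤ) ^ (m + 1)) = 0 := by linear_combination hcard'
    rcases mul_eq_zero.1 this with h | h
    · exact absurd h (by exact_mod_cast (by omega : q ≠ 0))
    · omega
  · rw [Finset.sum_congr rfl fun c _ => (hZ c).trans (if_pos (by
      by_contra h
      exact (hcon c).elim (fun h' => h h'.1) fun h' => hT h'.2)), Finset.sum_const, nsmul_eq_mul, hqF] at hcard'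
    have : (q : ℤ) * ((q : ℤ) ^ (m + 1) - (q : ℤ) ^ m) = 0 := by linear_combination hcard'
    rcases mul_eq_zero.1 this with h | h
    · exact absurd h (by exact_mod_cast (by omega : q ≠ 0))
    · omega

/-- If the fixed space of an involution is totally singular, the form is of plus type and `d` is even. -/
theorem plus_of_fix_singular (P : QuadraticForm F V) (hP : P.polarBilin.Nondegenerate) {d : ℕ}
    (hV : finrank F V = 2 * d) (g : Module.End F V) (hg : ∀ v, g (g v) = v) (hPg : ∀ v, P (g v) = P v)
    (hfix : ∀ v, g v = v → P v = 0) : IsPlusForm P ∧ Even d := by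
  set N : Module.End F V := g + 1
  have hNN : ∀ v, g (g v + v) = g v + v := fun v => by rw [map_add, hg, add_comm]
  have hker : ∀ v ∈ LinearMap.ker N, P v = 0 := fun v hv => hfix v (by
    have h1 : g v + v = 0 := hv
    have h2 : g v + v + v = v := by rw [h1, zero_add]
    rw [add_assoc, ← two_smul F v, CharTwo.two_eq_zero, zero_smul, add_zero] at h2
    exact h2)
  have hrange : LinearMap.range N ≤ LinearMap.ker N := by
    rintro _ ⟨v, rfl⟩
    show g (g v + v) + (g v + v) = 0
    rw [hNN, ← two_smul F (g v + v), CharTwo.two_eq_zero, zero_smul]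
  have h1 := Forms.two_mul_finrank_singular_le P hP _ hker
  have h2 := LinearMap.finrank_range_add_finrank_ker N
  have h3 := Submodule.finrank_mono hrange
  refine ⟨⟨_, hker, by omega⟩, ?_⟩
  set β : LinearMap.BilinForm F V := P.polarBilin.compl₂ N
  have hβ : ∀ u v, β u v = polar ⇑P u (g v + v) := fun u v => rfl
  have halt : β.IsAlt := fun u => by
    rw [hβ]
    have h4 : P (g u + u) = 0 := hfix _ (hNN u)
    rw [QuadraticMap.map_add ⇑P, hPg, CharTwo.add_self_eq_zero, zero_add, QuadraticMap.polar_comm] at h4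
    rw [QuadraticMap.polar_add_right, h4, zero_add, QuadraticMap.polar_self, two_nsmul,
      CharTwo.add_self_eq_zero]
  have hk : LinearMap.ker β = LinearMap.ker N := by
    ext u
    constructor
    · intro hu
      refine (hP.1 _ fun y => ?_)
      have h5 := LinearMap.IsAlt.neg halt u y
      rw [LinearMap.congr_fun (show β u = 0 from hu) y] at h5
      rw [QuadraticMap.polarBilin_apply_apply, QuadraticMap.polar_comm]
      show β y u = 0
      rw [← h5, LinearMap.zero_apply, neg_zero]
    · intro hu
      refine LinearMap.ext fun y => ?_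
      have h5 : β y u = 0 := by
        show polar ⇑P y (N u) = 0
        rw [show N u = 0 from hu, QuadraticMap.polar_zero_right]
      rw [← LinearMap.IsAlt.neg halt y u, h5, neg_zero, LinearMap.zero_apply]
  have h6 := Forms.even_finrank_sub_ker β halt
  rw [hk, Nat.even_iff] at h6
  rw [Nat.even_iff]
  omega

end General

end Cfsg.Agent.Orth
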