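import Cfsg.Agent.Lib.Orth.Spinor

/-!
# The standard orthogonal forms as `QuadraticForm`s, and `-1`

* `quadPlus m F`, `quadMinus m F a b`, `quadOdd m F` with coercion definitionally equal to the Prelude's
  functions `quadFormPlus`, `quadFormMinus`, `quadFormOdd`
* their polar forms, non-degeneracy (`quadPlus_nondeg`, `quadMinus_nondeg`, `quadOdd_nondeg`) and Gram
  determinants
* `negOne Q`, `dick_negOne`, `spin_negOne` : the spinor character of `-1` is the discriminant
-/

set_option autoImplicit false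
set_option linter.unusedSectionVars false

namespace Cfsg.Agent.Orth

open Cfsg Matrix Module
open QuadraticMap (polar)

variable {F : Type*} [Field F]

/-- `Σ x_i y_i`. -/
noncomputable def quadPlus (m : ℕ) (F : Type*) [Field F] : QuadraticForm F (Fin m ⊕ Fin m → F) :=
  (∑ i : Fin m, QuadraticMap.proj (R := F) (A := F) (Sum.inl i) (Sum.inr i)).copy (quadFormPlus m F) (by
    funext v; simp [quadFormPlus])

theorem coe_quadPlus (m : ℕ) : ⇑(quadPlus m F) = quadFormPlus m F := rfl

/-- `x₀² + Σ x_i y_i`. -/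
noncomputable def quadOdd (m : ℕ) (F : Type*) [Field F] :
    QuadraticForm F (Unit ⊕ (Fin m ⊕ Fin m) → F) :=
  (QuadraticMap.proj (R := F) (A := F) (Sum.inl ()) (Sum.inl ()) +
    ∑ i : Fin m, QuadraticMap.proj (Sum.inr (Sum.inl i)) (Sum.inr (Sum.inr i))).copy (quadFormOdd m F) (by
    funext v; simp [quadFormOdd, sq])

theorem coe_quadOdd (m : ℕ) : ⇑(quadOdd m F) = quadFormOdd m F := rfl

/-- `Σ x_i y_i + z₁² + a z₁ z₂ + b z₂²`. -/
noncomputable def quadMinus (m : ℕ) (F : Type*) [Field F] (a b : F) :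
    QuadraticForm F ((Fin m ⊕ Fin m) ⊕ Fin 2 → F) :=
  ((∑ i : Fin m, QuadraticMap.proj (R := F) (A := F) (Sum.inl (Sum.inl i)) (Sum.inl (Sum.inr i))) +
    (QuadraticMap.proj (Sum.inr (0 : Fin 2)) (Sum.inr (0 : Fin 2)) +
      a • QuadraticMap.proj (Sum.inr (0 : Fin 2)) (Sum.inr (1 : Fin 2)) +
      b • QuadraticMap.proj (Sum.inr (1 : Fin 2)) (Sum.inr (1 : Fin 2)))).copy (quadFormMinus m F a b) (by
    funext v; simp [quadFormMinus, sq, mul_assoc])

theorem coe_quadMinus (m : ℕ) (a b : F) : ⇑(quadMinus m F a b) = quadFormMinus m F a b := rfl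

theorem polar_quadPlus (m : ℕ) (x y : Fin m ⊕ Fin m → F) : polar (quadFormPlus m F) x y =
    ∑ i, (x (.inl i) * y (.inr i) + y (.inl i) * x (.inr i)) := by
  simp only [polar, quadFormPlus, Pi.add_apply, ← Finset.sum_sub_distrib]
  exact Finset.sum_congr rfl fun i _ => by ring

theorem polar_quadOdd (m : ℕ) (x y : Unit ⊕ (Fin m ⊕ Fin m) → F) : polar (quadFormOdd m F) x y =
    2 * (x (.inl ()) * y (.inl ())) +
      ∑ i, (x (.inr (.inl i)) * y (.inr (.inr i)) + y (.inr (.inl i)) * x (.inr (.inr i))) := by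
  simp only [polar, quadFormOdd, Pi.add_apply, add_mul, mul_add, Finset.sum_add_distrib]
  ring

theorem polar_quadMinus (m : ℕ) (a b : F) (x y : (Fin m ⊕ Fin m) ⊕ Fin 2 → F) :
    polar (quadFormMinus m F a b) x y =
      ∑ i, (x (.inl (.inl i)) * y (.inl (.inr i)) + y (.inl (.inl i)) * x (.inl (.inr i))) +
      (2 * (x (.inr 0) * y (.inr 0)) + a * (x (.inr 0) * y (.inr 1) + y (.inr 0) * x (.inr 1)) +
        2 * b * (x (.inr 1) * y (.inr 1))) := by
  simp only [polar, quadFormMinus, Pi.add_apply, add_mul, mul_add, Finset.sum_add_distrib]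
  ring

theorem nondeg_of_left {ι : Type} [Fintype ι] [DecidableEq ι] (Q : QuadraticForm F (ι → F))
    (h : ∀ x, (∀ y, polar ⇑Q x y = 0) → x = 0) : Q.polarBilin.Nondegenerate :=
  ⟨h, fun x hx => h x fun y => by rw [QuadraticMap.polar_comm]; exact hx y⟩

theorem quadPlus_nondeg (m : ℕ) : (quadPlus m F).polarBilin.Nondegenerate := by
  refine nondeg_of_left _ fun x hx => ?_
  funext j
  have h : ∀ y, polar (quadFormPlus m F) x y = 0 := hx
  rcases j with j | j
  · simpa [polar_quadPlus, Pi.single_apply] using h (Pi.single (.inr j) 1)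
  · simpa [polar_quadPlus, Pi.single_apply] using h (Pi.single (.inl j) 1)

theorem quadOdd_nondeg (m : ℕ) (h2 : (2 : F) ≠ 0) : (quadOdd m F).polarBilin.Nondegenerate := by
  refine nondeg_of_left _ fun x hx => ?_
  funext j
  have h : ∀ y, polar (quadFormOdd m F) x y = 0 := hx
  rcases j with ⟨⟩ | j | j
  · simpa [polar_quadOdd, Pi.single_apply, h2] using h (Pi.single (.inl ()) 1)
  · simpa [polar_quadOdd, Pi.single_apply] using h (Pi.single (.inr (.inr j)) 1)
  · simpa [polar_quadOdd, Pi.single_apply] using h (Pi.single (.inr (.inl j)) 1)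

/-- The binary form `z₁² + a z₁ z₂ + b z₂²` is anisotropic. -/
def Aniso (a b : F) : Prop := ∀ z₁ z₂ : F, z₁ ^ 2 + a * z₁ * z₂ + b * z₂ ^ 2 = 0 → z₁ = 0 ∧ z₂ = 0

theorem Aniso.disc_ne_zero [Finite F] {a b : F} (hab : Aniso a b) : a * a - 4 * b ≠ 0 := by
  intro h
  by_cases h2 : (2 : F) = 0
  · have ha : a = 0 := mul_self_eq_zero.1 (by linear_combination h + 2 * b * h2)
    obtain ⟨t, ht⟩ := FiniteField.isSquare_of_char_two
      (CharP.ringChar_of_prime_eq_zero Nat.prime_two (by exact_mod_cast h2)) b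
    have := hab t 1 (by rw [ha, ht]; linear_combination t * t * h2)
    exact one_ne_zero this.2
  · have := hab (-a / 2) 1 (by field_simp; linear_combination -h)
    exact one_ne_zero this.2

theorem quadMinus_nondeg [Finite F] (m : ℕ) {a b : F} (hab : Aniso a b) :
    (quadMinus m F a b).polarBilin.Nondegenerate := by
  refine nondeg_of_left _ fun x hx => ?_
  have h : ∀ y, polar (quadFormMinus m F a b) x y = 0 := hx
  have e0 := h (Pi.single (.inr 0) 1)
  have e1 := h (Pi.single (.inr 1) 1)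
  simp [polar_quadMinus] at e0 e1
  funext j
  rcases j with (j | j) | j
  · simpa [polar_quadMinus, Pi.single_apply] using h (Pi.single (.inl (.inr j)) 1)
  · simpa [polar_quadMinus, Pi.single_apply] using h (Pi.single (.inl (.inl j)) 1)
  · have k0 : (a * a - 4 * b) * x (.inr 0) = 0 := by linear_combination a * e1 - 2 * b * e0
    have k1 : (a * a - 4 * b) * x (.inr 1) = 0 := by linear_combination a * e0 - 2 * e1
    fin_cases j
    · simpa [hab.disc_ne_zero] using k0
    · simpa [hab.disc_ne_zero] using k1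

variable {ι : Type} [Fintype ι] [DecidableEq ι]

/-- The Gram matrix of the polar form on the standard basis. -/
def gram (f : (ι → F) → F) : Matrix ι ι F :=
  Matrix.of fun i j => polar f (Pi.single i 1) (Pi.single j 1)

theorem det_swapBlocks (m : ℕ) :
    (Matrix.fromBlocks (0 : Matrix (Fin m) (Fin m) F) (1 : Matrix (Fin m) (Fin m) F)
      (1 : Matrix (Fin m) (Fin m) F) (0 : Matrix (Fin m) (Fin m) F)).det = (-1) ^ m := by
  have h := congrArg Matrix.det (show Matrix.fromBlocks (0 : Matrix (Fin m) (Fin m) F)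
      (1 : Matrix (Fin m) (Fin m) F) (1 : Matrix (Fin m) (Fin m) F) (0 : Matrix (Fin m) (Fin m) F) *
      Matrix.fromBlocks 1 0 1 1 = Matrix.fromBlocks 1 1 1 0 by
    rw [Matrix.fromBlocks_multiply]; simp)
  rw [Matrix.det_mul, Matrix.det_fromBlocks_zero₁₂, Matrix.det_one, mul_one, mul_one,
    Matrix.det_fromBlocks_one₁₁] at h
  rw [h, mul_one, zero_sub, Matrix.det_neg, Matrix.det_one, mul_one, Fintype.card_fin]

theorem det_gram_quadPlus (m : ℕ) : (gram (quadFormPlus m F)).det = (-1) ^ m := by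
  rw [← det_swapBlocks (F := F) m]
  congr 1
  ext i j
  rcases i with i | i <;> rcases j with j | j <;>
    simp [gram, polar_quadPlus, Pi.single_apply, Matrix.one_apply, eq_comm]

theorem det_gram_quadMinus (m : ℕ) (a b : F) :
    (gram (quadFormMinus m F a b)).det = (-1) ^ (m + 1) * (a * a - 4 * b) := by
  have h : gram (quadFormMinus m F a b) = Matrix.fromBlocks (gram (quadFormPlus m F)) 0 0
      !![2, a; a, 2 * b] := by
    ext i j
    rcases i with (i | i) | i <;> rcases j with (j | j) | j <;>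
      simp [gram, polar_quadMinus, polar_quadPlus, Pi.single_apply]
    fin_cases i <;> fin_cases j <;> simp
  rw [h, Matrix.det_fromBlocks_zero₂₁, det_gram_quadPlus, Matrix.det_fin_two_of, pow_succ]
  ring

/-! ### minus one -/

/-- `-1` as an isometry. -/
def negOne (Q : QuadraticForm F (ι → F)) : IsoGrp Q :=
  ⟨-1, fun x _ => by
    show Q ((-1 : Matrix ι ι F) *ᵥ x) = Q x
    rw [Matrix.neg_mulVec, Matrix.one_mulVec, QuadraticMap.map_neg]⟩

variable (Q : QuadraticForm F (ι → F))

theorem negOne_ap (x : ι → F) : ap (negOne Q) x = -x := by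
  show (-1 : Matrix ι ι F) *ᵥ x = -x
  rw [Matrix.neg_mulVec, Matrix.one_mulVec]

theorem eq_negOne_of_mat {g : IsoGrp Q} (h : ((g : GL ι F) : Matrix ι ι F) = -1) : g = negOne Q :=
  Subtype.ext (Units.ext h)

theorem resSpace_negOne (h2 : (2 : F) ≠ 0) : resSpace (negOne Q) = ⊤ := by
  rw [eq_top_iff]
  intro x _
  refine mem_resSpace.2 ⟨(-(2 : F)⁻¹) • x, ?_⟩
  rw [negOne_ap, ← neg_smul, ← sub_smul, show -(-(2 : F)⁻¹) - -(2 : F)⁻¹ = 1 by field_simp; ring,
    one_smul]

theorem dick_negOne (h2 : (2 : F) ≠ 0) : dick (negOne Q) = (-1) ^ Fintype.card ι := by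
  rw [dick, resSpace_negOne Q h2, finrank_top, finrank_space]

open Classical in
theorem spin_negOne [Fintype F] (h2 : (2 : F) ≠ 0) (hev : Even (Fintype.card ι)) :
    spin (negOne Q) = quadraticChar F (gram ⇑Q).det := by
  set e := (Fintype.equivFin ι).symm
  have hspan : Submodule.span F (Set.range fun i => (Pi.single (e i) (1 : F) : ι → F)) = ⊤ := by
    rw [show (fun i => (Pi.single (e i) (1 : F) : ι → F)) = ⇑(Pi.basisFun F ι) ∘ e by funext i; simp,
      EquivLike.range_comp, Basis.span_eq]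
  have hind : LinearIndependent F fun i => (Pi.single (e i) (1 : F) : ι → F) := by
    have := (Pi.basisFun F ι).linearIndependent.comp e e.injective
    rwa [show ⇑(Pi.basisFun F ι) ∘ e = fun i => (Pi.single (e i) (1 : F) : ι → F) by funext i; simp] at this
  rw [spin_eq _ (fun i => (-(2 : F)⁻¹) • (Pi.single (e i) (1 : F) : ι → F)) hind
    (by rw [hspan, resSpace_negOne Q h2]) (fun i => by
      rw [negOne_ap, ← neg_smul, ← sub_smul, show -(-(2 : F)⁻¹) - -(2 : F)⁻¹ = 1 by field_simp; ring,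
        one_smul])]
  have hM : wallMat Q (fun i => (Pi.single (e i) (1 : F) : ι → F))
      (fun i => (-(2 : F)⁻¹) • (Pi.single (e i) (1 : F) : ι → F)) =
      (-(2 : F)⁻¹) • (gram ⇑Q).submatrix e e := by
    ext i j; simp [wallMat, gram, QuadraticMap.polar_smul_right]
  obtain ⟨k, hk⟩ := hev
  rw [hM, Matrix.det_smul, Fintype.card_fin, Matrix.det_submatrix_equiv_self, ← mul_assoc,
    ← mul_pow, neg_one_mul, neg_neg, hk, ← two_mul, mul_comm 2 k, pow_mul, map_mul,
    quadraticChar_sq_one' (pow_ne_zero k (inv_ne_zero h2)), one_mul]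

theorem negOne_mem_omega_iff [Fintype F] [DecidableEq F] (hQ : Q.polarBilin.Nondegenerate)
    (h2 : (2 : F) ≠ 0) (hev : Even (Fintype.card ι)) :
    negOne Q ∈ Omega F ⇑Q ↔ quadraticChar F (gram ⇑Q).det = 1 := by
  rw [mem_omega_iff (Good.of_two_ne_zero hQ h2), dick_negOne Q h2, hev.neg_one_pow,
    spin_negOne Q h2 hev]
  simp only [true_and]
  convert Iff.rfl

end Cfsg.Agent.Orth
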