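import Cfsg.Agent.Lib.Orth.Nondeg
import Cfsg.Agent.Lib.Orth.Models
import Cfsg.Agent.Lib.Forms.Bases

/-!
# Isometric complementary halves

* `geo_plane_exclusion` : the exceptional-plane hypothesis of the statements in our form
* `areIsometric_of_maps` : a half mapped into the other is isometric to it
* `exists_antiIsometry`, `isPlusType_of_maps` : even isometric halves give plus type
-/

set_option autoImplicit false

namespace Cfsg.Agent.Orth

open Cfsg Matrix Module
open QuadraticMap (polar)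

variable {ι : Type} [Fintype ι] [DecidableEq ι] {F : Type*} [Field F] [Fintype F]
variable {Q : QuadraticForm F (ι → F)}

omit [Fintype F] in
theorem geoNondegOn {W : Submodule F (ι → F)} (hW : ∀ x ∈ W, x ≠ 0 → ∃ y ∈ W, polar ⇑Q x y ≠ 0) :
    Geo.IsNondegenerateOn (polar ⇑Q) W := fun w hw h0 => by
  obtain ⟨y, hy, h⟩ := hW w hw h0
  exact ⟨⟨y, hy, by rw [pl_comm]; exact h⟩, y, hy, h⟩

omit [Fintype F] in
theorem geo_plane_exclusion (hQ : Q.polarBilin.Nondegenerate) {W : Submodule F (ι → F)}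
    (hW : ∀ x ∈ W, x ≠ 0 → ∃ y ∈ W, polar ⇑Q x y ≠ 0) {p : Prop} {n : ℕ} (hn : Fintype.card ι = n)
    (hex : ¬ (p ∧ (∃ U : Submodule F (ι → F), finrank F U = 2 ∧ Geo.IsNondegenerateOn (polar ⇑Q) U ∧
      Geo.IsPlusTypeOn ⇑Q U ∧ (U = W ∨ (Geo.AreOrthogonalFor (polar ⇑Q) U W ∧
        finrank F U + finrank F W = n))))) :
    (¬ (p ∧ finrank F W = 2 ∧ Geo.IsPlusTypeOn ⇑Q W)) ∧
      ¬ (p ∧ finrank F (perpSub Q W) = 2 ∧ Geo.IsPlusTypeOn ⇑Q (perpSub Q W)) := by
  refine ⟨fun ⟨h1, h2, h3⟩ => hex ⟨h1, W, h2, geoNondegOn hW, h3, .inl rfl⟩,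
    fun ⟨h1, h2, h3⟩ => hex ⟨h1, _, h2, geoNondegOn (perpSub_nondeg hQ hW), h3, .inr ⟨?_, ?_⟩⟩⟩
  · intro u hu v hv
    rw [pl_comm]; exact mem_perpSub.1 hu v hv
  · rw [finrank_perpSub hQ]
    have := Submodule.finrank_le W
    rw [finrank_space] at this
    omega

omit [Fintype F] in
theorem finrank_le_of_maps {W X : Submodule F (ι → F)} {g : IsoGrp Q} (h : ∀ w ∈ W, ap g w ∈ X) :
    finrank F W ≤ finrank F X := by
  have := Submodule.finrank_mono (show W.map (ap g) ≤ X by rintro _ ⟨w, hw, rfl⟩; exact h w hw)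
  rwa [(Submodule.equivMapOfInjective (ap g) (fun a b h => ap_inj g h) W).finrank_eq]

omit [Fintype F] in
theorem inv_maps_of_maps {W X : Submodule F (ι → F)} {g : IsoGrp Q} (h : ∀ w ∈ W, ap g w ∈ X)
    (hd : finrank F W = finrank F X) : ∀ x ∈ X, ap g⁻¹ x ∈ W := by
  intro x hx
  have hmap : W.map (ap g) = X := Submodule.eq_of_le_of_finrank_eq
    (by rintro _ ⟨w, hw, rfl⟩; exact h w hw)
    ((Submodule.equivMapOfInjective (ap g) (fun a b h => ap_inj g h) W).finrank_eq.symm.trans hd)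
  obtain ⟨w, hw, rfl⟩ : x ∈ W.map (ap g) := hmap.symm ▸ hx
  rwa [ap_inv_ap]

omit [Fintype F] in
theorem areIsometric_of_maps {W X : Submodule F (ι → F)} {g : IsoGrp Q} (h : ∀ w ∈ W, ap g w ∈ X)
    (hd : finrank F W = finrank F X) : Geo.AreIsometricFor ⇑Q W X :=
  ⟨LinearEquiv.ofBijective ((ap g).restrict h) ⟨fun a b hab => Subtype.ext (ap_inj g (congrArg Subtype.val hab)),
    (LinearMap.injective_iff_surjective_of_finrank_eq_finrank hd).1
      fun a b hab => Subtype.ext (ap_inj g (congrArg Subtype.val hab))⟩,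
   fun w => Q_ap g w⟩

/-- A form of even dimension over a finite field is isometric to its negative. -/
theorem exists_antiIsometry {V : Type*} [AddCommGroup V] [Module F V] [FiniteDimensional F V]
    (R : QuadraticForm F V) (hR : R.polarBilin.Nondegenerate) {r : ℕ} (hV : finrank F V = 2 * r) :
    ∃ θ : V →ₗ[F] V, ∀ v, R (θ v) = -R v := by
  classical
  obtain ⟨ζ, -, hab⟩ := Forms.exists_no_root (F := F)
  rcases Forms.classify_even R hR hV hab with ⟨e, he⟩ | ⟨-, e, he⟩
  · let σ : (Fin r ⊕ Fin r → F) →ₗ[F] (Fin r ⊕ Fin r → F) :=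
      { toFun := fun v => Sum.elim (fun i => v (.inl i)) (fun i => -v (.inr i))
        map_add' := fun u v => by funext k; rcases k with k | k <;> simp; abel
        map_smul' := fun c v => by funext k; rcases k with k | k <;> simp }
    refine ⟨e.toLinearMap ∘ₗ σ ∘ₗ e.symm.toLinearMap, fun v => ?_⟩
    have h1 : R v = Forms.qfPlus r F (e.symm v) := by rw [← he, LinearEquiv.apply_symm_apply]
    simp only [LinearMap.coe_comp, LinearEquiv.coe_coe, Function.comp_apply]
    rw [he, h1, Forms.qfPlus_apply, Forms.qfPlus_apply]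
    simp [σ, quadFormPlus, Finset.sum_neg_distrib]
  · obtain ⟨c, hc⟩ := exists_Q_eq (Q := quadMinus 0 F 1 ζ) (quadMinus_nondeg 0 hab) (by simp) (-1)
    set c1 := c (.inr 0)
    set c2 := c (.inr 1)
    have hN : c1 ^ 2 + 1 * c1 * c2 + ζ * c2 ^ 2 = -1 := by
      rw [← hc, coe_quadMinus]; simp [quadFormMinus, c1, c2]
    let σ : ((Fin (r - 1) ⊕ Fin (r - 1)) ⊕ Fin 2 → F) →ₗ[F] ((Fin (r - 1) ⊕ Fin (r - 1)) ⊕ Fin 2 → F) :=
      { toFun := fun v => Sum.elim (Sum.elim (fun i => v (.inl (.inl i))) (fun i => -v (.inl (.inr i))))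
          ![c1 * v (.inr 0) - ζ * c2 * v (.inr 1), c2 * v (.inr 0) + (c1 + c2) * v (.inr 1)]
        map_add' := fun u v => by
          funext k; rcases k with (k | k) | k
          · simp
          · simp; abel
          · fin_cases k <;> simp <;> ring
        map_smul' := fun t v => by
          funext k; rcases k with (k | k) | k
          · simp
          · simp
          · fin_cases k <;> simp <;> ring }
    refine ⟨e.toLinearMap ∘ₗ σ ∘ₗ e.symm.toLinearMap, fun v => ?_⟩
    have h1 : R v = Forms.qfMinus (r - 1) F 1 ζ (e.symm v) := by rw [← he, LinearEquiv.apply_symm_apply]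
    simp only [LinearMap.coe_comp, LinearEquiv.coe_coe, Function.comp_apply]
    rw [he, h1, Forms.qfMinus_apply, Forms.qfMinus_apply]
    simp [σ, quadFormMinus, Finset.sum_neg_distrib]
    linear_combination ((e.symm v) (.inr 0) ^ 2 + (e.symm v) (.inr 0) * (e.symm v) (.inr 1) +
      ζ * (e.symm v) (.inr 1) ^ 2) * hN

/-- Isometric orthogonal halves of even dimension give plus type. -/
theorem isPlusType_of_maps {W : Submodule F (ι → F)}
    (hW : ∀ x ∈ W, x ≠ 0 → ∃ y ∈ W, polar ⇑Q x y ≠ 0) {g : IsoGrp Q}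
    (hg : ∀ w ∈ W, ap g w ∈ perpSub Q W) {r : ℕ} (hd : finrank F W = 2 * r)
    (hn : 2 * finrank F W = Fintype.card ι) : Geo.IsPlusTypeOn ⇑Q ⊤ := by
  have hR : (Q.comp W.subtype).polarBilin.Nondegenerate := by
    have key : ∀ x y : W, polar ⇑(Q.comp W.subtype) x y = polar ⇑Q (x : ι → F) (y : ι → F) := fun _ _ => rfl
    constructor
    · intro x hx
      by_contra h0
      obtain ⟨y, hy, hxy⟩ := hW x x.2 (fun h => h0 (Subtype.ext h))
      exact hxy ((key x ⟨y, hy⟩).symm.trans (hx ⟨y, hy⟩))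
    · intro x hx
      by_contra h0
      obtain ⟨y, hy, hxy⟩ := hW x x.2 (fun h => h0 (Subtype.ext h))
      exact hxy (by rw [pl_comm]; exact (key ⟨y, hy⟩ x).symm.trans (hx ⟨y, hy⟩))
  obtain ⟨θ, hθ⟩ := exists_antiIsometry _ hR hd
  let L : W →ₗ[F] (ι → F) := W.subtype + (ap g) ∘ₗ W.subtype ∘ₗ θ
  have hL : ∀ w : W, L w = (w : ι → F) + ap g (θ w : ι → F) := fun w => rfl
  have hinj : Function.Injective L := by
    rw [injective_iff_map_eq_zero]
    intro w hw
    rw [hL] at hw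
    refine Subtype.ext (disjoint_perpSub hW w.2 ?_)
    rw [eq_neg_of_add_eq_zero_left hw]
    exact Submodule.neg_mem _ (hg _ (θ w).2)
  refine ⟨LinearMap.range L, le_top, ?_, ?_⟩
  · rintro _ ⟨w, rfl⟩
    rw [hL, Q_add, Q_ap, mem_perpSub.1 (hg _ (θ w).2) _ w.2, add_zero,
      show Q (θ w : ι → F) = -Q (w : ι → F) from hθ w, add_neg_cancel]
  · rw [LinearMap.finrank_range_of_inj hinj, finrank_top, finrank_space, hn]

end Cfsg.Agent.Orth
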