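import Cfsg.Agent.Lib.Orth.Refl

/-!
# Orthogonal groups over finite fields: spinor character, `Ω`, index

* `spin g` : the spinor character with values in `{1,-1}` (Wall form), `spin_refl_mul`
* `dick g` : `(-1)^dim [V,g]` (Dickson invariant / determinant)
* `spinHom`, `dickHom` : the homomorphisms (given `Good Q`)
* `commutator_le_of_refl` : a normal `N` containing all `(r_u r_v)^2` contains `Ω`
* `mem_omega_iff` : `g ∈ Ω ↔ dick g = 1 ∧ spin g = 1`
* `omega_index_odd` (`= 4`), `omega_index_two` (`= 2` in characteristic two)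
* `exists_Q_eq_in`, `exists_Q_eq` : representation of field elements
-/

set_option autoImplicit false
set_option linter.unusedSectionVars false

namespace Cfsg.Agent.Orth

open Cfsg Matrix Module
open QuadraticMap (polar)
open scoped commutatorElement

variable {ι : Type} [Fintype ι] [DecidableEq ι] {F : Type*} [Field F]
variable {Q : QuadraticForm F (ι → F)}

/-- The hypotheses for generation by reflections: non-degeneracy, and not `|F| = 2`, `n = 4`. -/
structure Good (Q : QuadraticForm F (ι → F)) : Prop where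
  nd : Q.polarBilin.Nondegenerate
  ex : (∃ c : F, c ≠ 0 ∧ c ≠ 1) ∨ Fintype.card ι ≠ 4

theorem Good.gen (hG : Good Q) : reflGen Q = ⊤ := closure_refl_eq_top hG.nd hG.ex

theorem exists_scalar_of_card [Fintype F] (h : Fintype.card F ≠ 2) : ∃ c : F, c ≠ 0 ∧ c ≠ 1 := by
  classical
  by_contra! hall
  apply h
  have : (Finset.univ : Finset F) = {0, 1} := by
    ext x; simp only [Finset.mem_univ, Finset.mem_insert, Finset.mem_singleton, true_iff]
    exact (em (x = 0)).imp id (hall x)
  rw [← Finset.card_univ, this, Finset.card_insert_of_notMem (by simp), Finset.card_singleton]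

theorem exists_scalar_of_two_ne_zero (h2 : (2 : F) ≠ 0) : ∃ c : F, c ≠ 0 ∧ c ≠ 1 :=
  ⟨-1, neg_ne_zero.2 one_ne_zero, fun h => h2 (by linear_combination -h)⟩

theorem Good.of_card [Fintype F] (hQ : Q.polarBilin.Nondegenerate)
    (h : Fintype.card F ≠ 2 ∨ Fintype.card ι ≠ 4) : Good Q :=
  ⟨hQ, h.imp_left exists_scalar_of_card⟩

theorem Good.of_two_ne_zero (hQ : Q.polarBilin.Nondegenerate) (h2 : (2 : F) ≠ 0) : Good Q :=
  ⟨hQ, .inl (exists_scalar_of_two_ne_zero h2)⟩

theorem reflGen_induction (hG : Good Q) {P : IsoGrp Q → Prop} (one : P 1)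
    (mul : ∀ v g, Q v ≠ 0 → P g → P (refl Q v * g)) (g : IsoGrp Q) : P g := by
  have hg : g ∈ reflGen Q := hG.gen ▸ Subgroup.mem_top g
  induction hg using Subgroup.closure_induction_left with
  | one => exact one
  | mul_left x hx y _ ih =>
    obtain ⟨v, rfl⟩ := hx
    by_cases hv : Q v = 0
    · rwa [refl_eq_one Q hv, one_mul]
    · exact mul v y hv ih
  | inv_mul_cancel x hx y _ ih =>
    obtain ⟨v, rfl⟩ := hx
    rw [refl_inv]
    by_cases hv : Q v = 0
    · rwa [refl_eq_one Q hv, one_mul]
    · exact mul v y hv ih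

/-! ### a normal subgroup containing the squares of products of two reflections -/

theorem commutator_le_of_refl (hG : Good Q) (N : Subgroup (IsoGrp Q)) [N.Normal]
    (h : ∀ u v, Q u ≠ 0 → Q v ≠ 0 → refl Q u * refl Q v * refl Q u * refl Q v ∈ N) :
    Omega F ⇑Q ≤ N := by
  refine Subgroup.Normal.quotient_commutative_iff_commutator_le.mp ⟨⟨fun a b => ?_⟩⟩
  obtain ⟨x, rfl⟩ := QuotientGroup.mk_surjective a
  obtain ⟨y, rfl⟩ := QuotientGroup.mk_surjective b
  induction x using reflGen_induction hG with
  | one => simp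
  | mul v g hv ih =>
    rw [QuotientGroup.mk_mul]
    refine Commute.mul_left ?_ ih
    clear ih g
    induction y using reflGen_induction hG with
    | one => simp
    | mul w g hw ih =>
      rw [QuotientGroup.mk_mul]
      refine Commute.mul_right ?_ ih
      show (refl Q v : IsoGrp Q ⧸ N) * refl Q w = refl Q w * refl Q v
      rw [← QuotientGroup.mk_mul, ← QuotientGroup.mk_mul, QuotientGroup.eq_iff_div_mem,
        div_eq_mul_inv, _root_.mul_inv_rev, refl_inv, refl_inv, ← mul_assoc]
      exact h v w hv hw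

/-- A product `r_v r_{g v}` is a commutator. -/
theorem refl_mul_refl_ap (g : IsoGrp Q) (v : ι → F) :
    refl Q v * refl Q (ap g v) = ⁅refl Q v, g⁆ := by
  rw [commutatorElement_def, refl_inv, ← conj_refl]; group

theorem refl_mul_refl_ap_mem_omega (g : IsoGrp Q) (v : ι → F) :
    refl Q v * refl Q (ap g v) ∈ Omega F ⇑Q := by
  rw [refl_mul_refl_ap]
  exact Subgroup.commutator_mem_commutator (Subgroup.mem_top _) (Subgroup.mem_top _)

/-! ### representation of field elements -/

/-- In a plane with non-degenerate polar form every element of a finite field is a value. -/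
theorem exists_Q_eq_in [Fintype F] (W : Submodule F (ι → F))
    (hW : ∀ x ∈ W, x ≠ 0 → ∃ y ∈ W, polar ⇑Q x y ≠ 0) (h2 : 2 ≤ finrank F W) (c : F) :
    ∃ v ∈ W, Q v = c := by
  classical
  have hne : W ≠ ⊥ := fun h => by rw [h, finrank_bot] at h2; omega
  obtain ⟨z, hz, hQz⟩ : ∃ z ∈ W, Q z ≠ 0 := by
    by_contra! hall
    obtain ⟨x, hx, hx0⟩ := (Submodule.ne_bot_iff W).1 hne
    obtain ⟨y, hy, hxy⟩ := hW x hx hx0
    exact hxy (by simp [polar, hall x hx, hall y hy, hall _ (add_mem hx hy)])
  by_cases hc : (2 : F) = 0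
  · have hchar : ringChar F = 2 :=
      (CharP.ringChar_of_prime_eq_zero Nat.prime_two (by exact_mod_cast hc))
    obtain ⟨t, ht⟩ := FiniteField.isSquare_of_char_two hchar (c / Q z)
    exact ⟨t • z, W.smul_mem t hz, by rw [Q_smul, ← ht, div_mul_cancel₀ _ hQz]⟩
  -- odd characteristic: an orthogonal pair
  obtain ⟨z', hz', hzz', hQz'⟩ : ∃ z' ∈ W, polar ⇑Q z z' = 0 ∧ Q z' ≠ 0 := by
    by_contra! hall
    have hlt : W ⊓ LinearMap.ker (Q.polarBilin z) ≠ ⊥ := by
      intro hb
      have h5 := Submodule.finrank_sup_add_finrank_inf_eq W (LinearMap.ker (Q.polarBilin z))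
      have h6 := Submodule.finrank_le (W ⊔ LinearMap.ker (Q.polarBilin z))
      have h7 := LinearMap.finrank_range_add_finrank_ker (Q.polarBilin z)
      have h8 := Submodule.finrank_le (LinearMap.range (Q.polarBilin z))
      rw [finrank_space] at h6 h7
      rw [Module.finrank_self] at h8
      rw [hb, finrank_bot] at h5
      omega
    obtain ⟨x, hx, hx0⟩ := (Submodule.ne_bot_iff _).1 hlt
    have hzx : polar ⇑Q z x = 0 := hx.2
    obtain ⟨y, hy, hxy⟩ := hW x hx.1 hx0
    apply hxy
    set y' := y - (polar ⇑Q z y / (2 * Q z)) • z with hy'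
    have hy'W : y' ∈ W := sub_mem hy (W.smul_mem _ hz)
    have hzy' : polar ⇑Q z y' = 0 := by
      rw [hy', pl_sub_right, pl_smul_right, pl_self, div_mul_cancel₀ _ (mul_ne_zero hc hQz), sub_self]
    have : polar ⇑Q x y' = 0 := by
      simp [polar, hall x hx.1 hzx, hall y' hy'W hzy',
        hall _ (add_mem hx.1 hy'W) (by rw [pl_add_right, hzx, hzy', add_zero])]
    rwa [hy', pl_sub_right, pl_smul_right, pl_comm Q x z, hzx, mul_zero, sub_zero] at this
  open Polynomial in
  obtain ⟨a, b, hab⟩ := FiniteField.exists_root_sum_quadratic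
    (f := Polynomial.C (Q z) * Polynomial.X ^ 2)
    (g := Polynomial.C (Q z') * Polynomial.X ^ 2 - Polynomial.C c)
    (by rw [Polynomial.degree_C_mul_X_pow 2 hQz]; rfl)
    (by rw [Polynomial.degree_sub_C (by rw [Polynomial.degree_C_mul_X_pow 2 hQz']; norm_num),
          Polynomial.degree_C_mul_X_pow 2 hQz']; rfl)
    (FiniteField.odd_card_of_char_ne_two fun h => hc (by
      have := ringChar.charP F
      have := CharP.cast_eq_zero F (ringChar F)
      rw [h] at this; exact_mod_cast this))
  refine ⟨a • z + b • z', add_mem (W.smul_mem a hz) (W.smul_mem b hz'), ?_⟩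
  simp only [Polynomial.eval_mul, Polynomial.eval_sub, Polynomial.eval_C, Polynomial.eval_pow,
    Polynomial.eval_X] at hab
  rw [Q_add, Q_smul, Q_smul, pl_smul_left, pl_smul_right, hzz']
  linear_combination hab

theorem exists_Q_eq [Fintype F] (hQ : Q.polarBilin.Nondegenerate) (h2 : 2 ≤ Fintype.card ι) (c : F) :
    ∃ v, Q v = c := by
  obtain ⟨v, -, hv⟩ := exists_Q_eq_in (Q := Q) ⊤
    (fun x _ hx => by simpa using exists_polar_ne hQ hx) (by rwa [finrank_top, finrank_space]) c
  exact ⟨v, hv⟩

/-! ### the Dickson sign -/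

/-- `(-1)^(dim [V,g])`. -/
noncomputable def dick (g : IsoGrp Q) : ℤ := (-1) ^ finrank F (resSpace g)

theorem dick_one : dick (1 : IsoGrp Q) = 1 := by rw [dick, resSpace_one, finrank_bot, pow_zero]

theorem dick_refl_mul (hQ : Q.polarBilin.Nondegenerate) (g : IsoGrp Q) {v : ι → F} (hv : Q v ≠ 0) :
    dick (refl Q v * g) = -dick g := by
  by_cases h : v ∈ resSpace g
  · rw [dick, dick, ← finrank_resSpace_refl_mul_add_one hQ hv h, pow_succ]; ring
  · rw [dick, dick, finrank_resSpace_refl_mul hQ hv h, pow_succ]; ring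

theorem dick_refl (hQ : Q.polarBilin.Nondegenerate) {v : ι → F} (hv : Q v ≠ 0) :
    dick (refl Q v) = -1 := by
  have := dick_refl_mul hQ 1 hv
  rwa [mul_one, dick_one] at this

theorem dick_mul (hG : Good Q) (g h : IsoGrp Q) : dick (g * h) = dick g * dick h := by
  induction g using reflGen_induction hG with
  | one => rw [one_mul, dick_one, one_mul]
  | mul v g hv ih => rw [mul_assoc, dick_refl_mul hG.nd _ hv, dick_refl_mul hG.nd _ hv, ih, neg_mul]

theorem dick_eq_or (g : IsoGrp Q) : dick g = 1 ∨ dick g = -1 := neg_one_pow_eq_or ℤ _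

theorem det_eq_dick (hG : Good Q) (g : IsoGrp Q) :
    ((g : GL ι F) : Matrix ι ι F).det = (dick g : F) := by
  rw [det_eq_pow hG.nd (hG.gen ▸ Subgroup.mem_top g), dick]; push_cast; rfl

/-- The Dickson sign as a homomorphism. -/
noncomputable def dickHom (hG : Good Q) : IsoGrp Q →* ℤ where
  toFun := dick
  map_one' := dick_one
  map_mul' := dick_mul hG

@[simp] theorem dickHom_apply (hG : Good Q) (g : IsoGrp Q) : dickHom hG g = dick g := rfl

theorem mem_special_iff (g : IsoGrp Q) :
    g ∈ specialIsometryGroup F ⇑Q ↔ ((g : GL ι F) : Matrix ι ι F).det = 1 := by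
  show Matrix.GeneralLinearGroup.det (g : GL ι F) = 1 ↔ _
  rw [Units.ext_iff]; rfl

theorem mem_special_iff_dick (hG : Good Q) (h2 : (2 : F) ≠ 0) (g : IsoGrp Q) :
    g ∈ specialIsometryGroup F ⇑Q ↔ dick g = 1 := by
  rw [mem_special_iff, det_eq_dick hG]
  rcases dick_eq_or g with h | h <;> rw [h]
  · simp
  · constructor
    · intro h'; exact absurd (by push_cast at h'; linear_combination -h') h2
    · intro h'; norm_num at h'

/-! ### the spinor character -/

variable [Fintype F]

/-- The Gram matrix of the Wall form. -/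
def wallMat (Q : QuadraticForm F (ι → F)) {k : ℕ} (w x : Fin k → ι → F) : Matrix (Fin k) (Fin k) F :=
  Matrix.of fun i j => polar ⇑Q (w i) (x j)

open Classical in
/-- The spinor character. -/
noncomputable def spin (g : IsoGrp Q) : ℤ :=
  quadraticChar F ((-1) ^ finrank F (resSpace g) *
    (wallMat Q (fun i => ((Module.finBasis F (resSpace g) i : ι → F)))
      (fun i => (Module.finBasis F (resSpace g) i).2.choose)).det)

open Classical in
theorem spin_eq {g : IsoGrp Q} {k : ℕ} (w x : Fin k → ι → F) (hind : LinearIndependent F w)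
    (hspan : Submodule.span F (Set.range w) = resSpace g) (hx : ∀ i, ap g (x i) - x i = w i) :
    spin g = quadraticChar F ((-1) ^ k * (wallMat Q w x).det) := by
  have hk : finrank F (resSpace g) = k := by
    rw [← hspan, finrank_span_eq_card hind, Fintype.card_fin]
  subst hk
  set b : Fin (finrank F (resSpace g)) → ι → F := fun i => ((Module.finBasis F (resSpace g) i : ι → F))
    with hb
  set y : Fin (finrank F (resSpace g)) → ι → F :=
    fun i => (Module.finBasis F (resSpace g) i).2.choose with hy0
  have hy : ∀ i, ap g (y i) - y i = b i := fun i => (Module.finBasis F (resSpace g) i).2.choose_spec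
  have hbi : LinearIndependent F b :=
    (Module.finBasis F (resSpace g)).linearIndependent.map' (resSpace g).subtype
      (Submodule.ker_subtype _)
  have hmem : ∀ i, b i ∈ Submodule.span F (Set.range w) := fun i => by
    rw [hspan]; exact (Module.finBasis F (resSpace g) i).2
  choose P hP using fun i => (Submodule.mem_span_range_iff_exists_fun F).1 (hmem i)
  have hfix : ∀ i, ap g (y i - ∑ l, P i l • x l) = y i - ∑ l, P i l • x l := fun i => by
    rw [← sub_eq_zero]
    calc ap g (y i - ∑ l, P i l • x l) - (y i - ∑ l, P i l • x l)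
        = (ap g (y i) - y i) - ∑ l, P i l • (ap g (x l) - x l) := by
          simp only [map_sub, map_sum, map_smul, smul_sub, Finset.sum_sub_distrib]; abel
      _ = 0 := by simp only [hy, hx, hP, sub_self]
  have hwm : ∀ l, w l ∈ resSpace g := fun l => by
    rw [← hspan]; exact Submodule.subset_span ⟨l, rfl⟩
  have hM : wallMat Q b y = Matrix.of P * wallMat Q w x * (Matrix.of P)ᵀ := by
    ext i j
    have e0 : polar ⇑Q (b i) (y j - ∑ l, P j l • x l) = 0 := by
      rw [pl_comm]; exact polar_fix_resSpace (hfix j) (Module.finBasis F (resSpace g) i).2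
    rw [pl_sub_right, sub_eq_zero] at e0
    show polar ⇑Q (b i) (y j) = _
    rw [e0, ← hP i]
    show Q.polarBilin (∑ l, P i l • w l) (∑ l, P j l • x l) = _
    simp only [map_sum, map_smul, LinearMap.sum_apply, LinearMap.smul_apply, Finset.mul_sum,
      Finset.sum_mul, Matrix.mul_apply, Matrix.transpose_apply, Matrix.of_apply, wallMat, smul_eq_mul,
      QuadraticMap.polarBilin_apply_apply]
    refine Finset.sum_congr rfl fun l _ => Finset.sum_congr rfl fun m _ => ?_
    ring
  have hdet : (Matrix.of P).det ≠ 0 := by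
    intro h0
    obtain ⟨c, hc0, hc⟩ := Matrix.exists_vecMul_eq_zero_iff.2 h0
    apply hc0
    have : ∑ i, c i • b i = 0 := by
      simp only [← hP, Finset.smul_sum, smul_smul]
      rw [Finset.sum_comm]
      refine Finset.sum_eq_zero fun l _ => ?_
      rw [← Finset.sum_smul]
      have hl := congrFun hc l
      simp only [Matrix.vecMul, dotProduct, Matrix.of_apply, Pi.zero_apply] at hl
      rw [hl, zero_smul]
    funext i
    exact Fintype.linearIndependent_iff.1 hbi c this i
  show quadraticChar F ((-1) ^ _ * (wallMat Q b y).det) = _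
  rw [hM, Matrix.det_mul, Matrix.det_mul, Matrix.det_transpose,
    show (-1 : F) ^ finrank F (resSpace g) *
      ((Matrix.of P).det * (wallMat Q w x).det * (Matrix.of P).det) =
      (Matrix.of P).det ^ 2 * ((-1) ^ finrank F (resSpace g) * (wallMat Q w x).det) by ring,
    map_mul, quadraticChar_sq_one' hdet, one_mul]

theorem spin_one : spin (1 : IsoGrp Q) = 1 := by
  classical
  rw [spin_eq (Q := Q) (k := 0) ![] ![] linearIndependent_empty_type
    (by rw [resSpace_one]; simp) (fun i => i.elim0)]
  simp

open Classical in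
theorem spin_refl_mul_of_notMem (hQ : Q.polarBilin.Nondegenerate) {g : IsoGrp Q} {v : ι → F}
    (hQv : Q v ≠ 0) (hv : v ∉ resSpace g) :
    spin (refl Q v * g) = quadraticChar F (Q v) * spin g := by
  set k := finrank F (resSpace g)
  set b : Fin k → ι → F := fun i => ((Module.finBasis F (resSpace g) i : ι → F)) with hb
  have hbi : LinearIndependent F b :=
    (Module.finBasis F (resSpace g)).linearIndependent.map' (resSpace g).subtype
      (Submodule.ker_subtype _)
  have hbs : Submodule.span F (Set.range b) = resSpace g := by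
    have := congrArg (Submodule.map (resSpace g).subtype) (Module.finBasis F (resSpace g)).span_eq
    rwa [Submodule.map_span, Submodule.map_top, Submodule.range_subtype, ← Set.range_comp] at this
  choose x hx hvx using fun i => exists_pre hQ hv (Module.finBasis F (resSpace g) i).2
  obtain ⟨x0, hx0, hfx0, hx0v⟩ := exists_pre_self hQ hQv hv
  have hb' : ∀ i, ap (refl Q v * g) (x i) - x i = b i := fun i => by
    rw [refl_mul_sub, hvx i, mul_zero, zero_smul, sub_zero, hx i]
  rw [spin_eq b x hbi hbs hx, spin_eq (g := refl Q v * g) (Fin.cons v b) (Fin.cons x0 x)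
    (linearIndependent_finCons.2 ⟨hbi, by rwa [hbs]⟩)
    (by rw [Fin.range_cons, Submodule.span_insert, hbs, resSpace_refl_mul hQ hQv hv, sup_comm])
    (Fin.cases (by simpa using hx0v) (fun i => by simpa using hb' i)), ← map_mul]
  congr 1
  rw [Matrix.det_succ_column_zero, Fin.sum_univ_succ, Finset.sum_eq_zero (fun i _ => ?_)]
  · have e1 : (wallMat Q (Fin.cons v b) (Fin.cons x0 x)).submatrix (Fin.succAbove 0) Fin.succ =
        wallMat Q b x := by ext i j; simp [wallMat]
    rw [e1]
    simp only [wallMat, Matrix.of_apply, Fin.cons_zero, hfx0, Fin.val_zero, pow_zero, one_mul,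
      add_zero, pow_succ]
    ring
  · simp only [wallMat, Matrix.of_apply, Fin.cons_zero, Fin.cons_succ]
    rw [pl_comm, polar_fix_resSpace hx0 (Module.finBasis F (resSpace g) i).2]
    ring

open Classical in
theorem spin_refl_mul (hQ : Q.polarBilin.Nondegenerate) (g : IsoGrp Q) {v : ι → F} (hQv : Q v ≠ 0) :
    spin (refl Q v * g) = quadraticChar F (Q v) * spin g := by
  by_cases hv : v ∈ resSpace g
  · have h := spin_refl_mul_of_notMem hQ hQv (not_mem_resSpace_refl_mul hQv hv)
    rw [← mul_assoc, refl_mul_self, one_mul] at h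
    rw [h, ← mul_assoc, ← sq, quadraticChar_sq_one hQv, one_mul]
  · exact spin_refl_mul_of_notMem hQ hQv hv

open Classical in
theorem spin_refl (hQ : Q.polarBilin.Nondegenerate) {v : ι → F} (hv : Q v ≠ 0) :
    spin (refl Q v) = quadraticChar F (Q v) := by
  have := spin_refl_mul hQ 1 hv
  rwa [mul_one, spin_one, mul_one] at this

theorem spin_mul (hG : Good Q) (g h : IsoGrp Q) : spin (g * h) = spin g * spin h := by
  induction g using reflGen_induction hG with
  | one => rw [one_mul, spin_one, one_mul]
  | mul v g hv ih => rw [mul_assoc, spin_refl_mul hG.nd _ hv, spin_refl_mul hG.nd _ hv, ih, mul_assoc]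

/-- The spinor character as a homomorphism. -/
noncomputable def spinHom (hG : Good Q) : IsoGrp Q →* ℤ where
  toFun := spin
  map_one' := spin_one
  map_mul' := spin_mul hG

@[simp] theorem spinHom_apply (hG : Good Q) (g : IsoGrp Q) : spinHom hG g = spin g := rfl

theorem spin_eq_or (hG : Good Q) (g : IsoGrp Q) : spin g = 1 ∨ spin g = -1 := by
  classical
  induction g using reflGen_induction hG with
  | one => exact .inl spin_one
  | mul v g hv ih =>
    rw [spin_refl_mul hG.nd _ hv]
    rcases quadraticChar_dichotomy hv with h | h <;> rcases ih with h' | h' <;> simp [h, h']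

theorem spin_eq_one_of_two (hG : Good Q) (h2 : (2 : F) = 0) (g : IsoGrp Q) : spin g = 1 := by
  classical
  induction g using reflGen_induction hG with
  | one => exact spin_one
  | mul v g hv ih =>
    rw [spin_refl_mul hG.nd _ hv, ih, quadraticChar_eq_one_of_char_two
      (CharP.ringChar_of_prime_eq_zero Nat.prime_two (by exact_mod_cast h2)) hv, one_mul]

/-- The pair (Dickson sign, spinor character). -/
noncomputable def signHom (hG : Good Q) : IsoGrp Q →* ℤˣ × ℤˣ :=
  (dickHom hG).toHomUnits.prod (spinHom hG).toHomUnits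

theorem signHom_eq_one_iff (hG : Good Q) (g : IsoGrp Q) :
    signHom hG g = 1 ↔ dick g = 1 ∧ spin g = 1 := by
  simp [signHom, Prod.ext_iff, Units.ext_iff]

/-! ### the kernel is `Ω` -/

open Classical in
/-- The image in the abelianisation of a reflection of spinor value `s`. -/
noncomputable def reflClass (Q : QuadraticForm F (ι → F)) (s : ℤ) : Abelianization (IsoGrp Q) :=
  if h : ∃ v, Q v ≠ 0 ∧ quadraticChar F (Q v) = s then Abelianization.of (refl Q h.choose) else 1

open Classical in
theorem abelianization_refl_eq (hG : Good Q) {u v : ι → F} (hu : Q u ≠ 0) (hv : Q v ≠ 0)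
    (h : quadraticChar F (Q u) = quadraticChar F (Q v)) :
    Abelianization.of (refl Q u) = Abelianization.of (refl Q v) := by
  have h1 : quadraticChar F (Q u / Q v) = 1 := by
    have := congrArg (· * quadraticChar F (Q v)) h
    rw [← sq (quadraticChar F (Q v)), quadraticChar_sq_one hv] at this
    have e : Q u * Q v = Q u / Q v * Q v ^ 2 := by field_simp
    rw [← map_mul, e, map_mul, quadraticChar_sq_one' hv, mul_one] at this
    exact this
  obtain ⟨t, ht⟩ := (quadraticChar_one_iff_isSquare (div_ne_zero hu hv)).1 h1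
  have ht0 : t ≠ 0 := by
    rintro rfl
    rw [mul_zero] at ht; exact div_ne_zero hu hv ht
  obtain ⟨g, -, hg⟩ := exists_ap_eq hG.nd hG.ex hu (v := t • v)
    (by rw [Q_smul, ← ht, div_mul_cancel₀ _ hv])
  rw [← refl_smul Q ht0 v, ← hg, ← conj_refl, map_mul, map_mul, mul_right_comm, ← map_mul,
    mul_inv_cancel, map_one, one_mul]

open Classical in
theorem abelianization_eq (hG : Good Q) (g : IsoGrp Q) : Abelianization.of g =
    (if dick g = 1 then 1 else reflClass Q 1) *
      (if spin g = 1 then 1 else reflClass Q 1 * reflClass Q (-1)) := by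
  have hsq : ∀ s, reflClass Q s * reflClass Q s = 1 := fun s => by
    unfold reflClass; split_ifs
    · rw [← map_mul, refl_mul_self, map_one]
    · rw [mul_one]
  induction g using reflGen_induction hG with
  | one => simp [dick_one, spin_one]
  | mul v g hv ih =>
    have hr : Abelianization.of (refl Q v) = reflClass Q (quadraticChar F (Q v)) := by
      have hex : ∃ u, Q u ≠ 0 ∧ quadraticChar F (Q u) = quadraticChar F (Q v) := ⟨v, hv, rfl⟩
      rw [reflClass, dif_pos hex]
      exact abelianization_refl_eq hG hv hex.choose_spec.1 hex.choose_spec.2.symm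
    rw [map_mul, ih, hr, dick_refl_mul hG.nd g hv, spin_refl_mul hG.nd g hv]
    rcases quadraticChar_dichotomy hv with h | h <;> rcases dick_eq_or g with hd | hd <;>
      rcases spin_eq_or hG g with hs | hs <;> simp only [h, hd, hs] <;> norm_num <;>
      simp [hsq, mul_comm, mul_left_comm, ← mul_assoc]

theorem omega_eq_ker (hG : Good Q) : Omega F ⇑Q = (signHom hG).ker := by
  classical
  apply le_antisymm
  · exact Abelianization.commutator_subset_ker _
  · intro g hg
    obtain ⟨hd, hs⟩ := (signHom_eq_one_iff hG g).1 hg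
    refine (QuotientGroup.eq_one_iff g).1 ?_
    show Abelianization.of g = 1
    rw [abelianization_eq hG g, if_pos hd, if_pos hs, mul_one]

theorem mem_omega_iff (hG : Good Q) (g : IsoGrp Q) :
    g ∈ Omega F ⇑Q ↔ dick g = 1 ∧ spin g = 1 := by
  rw [omega_eq_ker hG, MonoidHom.mem_ker, signHom_eq_one_iff]

theorem exists_refl_spin (hG : Good Q) (hn : 2 ≤ Fintype.card ι) (h2 : (2 : F) ≠ 0) :
    (∃ v, Q v ≠ 0 ∧ spin (refl Q v) = 1) ∧ ∃ v, Q v ≠ 0 ∧ spin (refl Q v) = -1 := by
  classical
  obtain ⟨v, hv⟩ := exists_Q_eq hG.nd hn 1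
  obtain ⟨c, hc⟩ := quadraticChar_exists_neg_one' (F := F) (fun h => h2 (by
    have := ringChar.charP F
    have := CharP.cast_eq_zero F (ringChar F)
    rw [h] at this; exact_mod_cast this))
  obtain ⟨w, hw⟩ := exists_Q_eq hG.nd hn (c : F)
  exact ⟨⟨v, by simp [hv], by rw [spin_refl hG.nd (by simp [hv]), hv, map_one]⟩,
    ⟨w, by simp [hw], by rw [spin_refl hG.nd (by simp [hw]), hw, hc]⟩⟩

theorem signHom_surjective (hG : Good Q) (hn : 2 ≤ Fintype.card ι) (h2 : (2 : F) ≠ 0) :
    Function.Surjective (signHom hG) := by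
  obtain ⟨⟨v, hv, hvs⟩, w, hw, hws⟩ := exists_refl_spin hG hn h2
  rintro ⟨a, b⟩
  rcases Int.units_eq_one_or a with rfl | rfl <;> rcases Int.units_eq_one_or b with rfl | rfl
  · exact ⟨1, map_one _⟩
  · exact ⟨refl Q v * refl Q w, by
      simp [signHom, Prod.ext_iff, Units.ext_iff, dick_refl hG.nd hv,
        dick_refl hG.nd hw, hvs, hws]⟩
  · exact ⟨refl Q v, by simp [signHom, Prod.ext_iff, Units.ext_iff, dick_refl hG.nd hv, hvs]⟩
  · exact ⟨refl Q w, by simp [signHom, Prod.ext_iff, Units.ext_iff, dick_refl hG.nd hw, hws]⟩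

theorem omega_index_odd (hG : Good Q) (hn : 2 ≤ Fintype.card ι) (h2 : (2 : F) ≠ 0) :
    (Omega F ⇑Q).index = 4 := by
  rw [omega_eq_ker hG, Subgroup.index_ker, MonoidHom.range_eq_top.2 (signHom_surjective hG hn h2),
    Subgroup.card_top]
  simp

theorem omega_index_two (hG : Good Q) (hn : 0 < Fintype.card ι) (h2 : (2 : F) = 0) :
    (Omega F ⇑Q).index = 2 := by
  have he : Omega F ⇑Q = (dickHom hG).toHomUnits.ker := by
    ext g
    rw [mem_omega_iff hG, MonoidHom.mem_ker, Units.ext_iff]
    simp [spin_eq_one_of_two hG h2 g]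
  obtain ⟨v, hv⟩ : ∃ v, Q v ≠ 0 := by
    by_contra! hall
    obtain ⟨i⟩ := Fintype.card_pos_iff.1 hn
    obtain ⟨y, hy⟩ := exists_polar_ne hG.nd (x := Pi.single i 1) (by simp)
    exact hy (by simp [polar, hall])
  rw [he, Subgroup.index_ker, MonoidHom.range_eq_top.2 ?_, Subgroup.card_top]
  · simp
  · intro a
    rcases Int.units_eq_one_or a with rfl | rfl
    · exact ⟨1, map_one _⟩
    · exact ⟨refl Q v, by simp [Units.ext_iff, dick_refl hG.nd hv]⟩

end Cfsg.Agent.Orth
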