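import Cfsg.Agent.Lib.Orth.Geo

/-!
# Stabilisers of plus planes over fields with at most three elements

* `plane_stabilizer_not_maximal` : inside the stabiliser of the line of `e + f`
-/

set_option autoImplicit false

namespace Cfsg.Agent.Orth

open Cfsg Matrix Module
open QuadraticMap (polar)

theorem plane_stabilizer_not_maximal {ι : Type} [Fintype ι] [DecidableEq ι] {F : Type*} [Field F]
    [Fintype F] {Q : QuadraticForm F (ι → F)} (hG : Good Q) (hn : 5 ≤ Fintype.card ι)
    (hq : Fintype.card F ≤ 3) {W : Submodule F (ι → F)} (hdim : finrank F W = 2)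
    (hW : Geo.IsNondegenerateOn (polar ⇑Q) W) (hplus : Geo.IsPlusTypeOn ⇑Q W) :
    ∃ K : Subgroup (GL ι F),
      Geo.subspaceStabilizer W ⊓ Geo.omegaGL ⇑Q < K ∧ K < Geo.omegaGL ⇑Q := by
  classical
  have hW' := nondegOn_of_geo hW
  -- a hyperbolic pair in the plane
  obtain ⟨U, hUW, hUQ, hUd⟩ := hplus
  obtain ⟨e, heU, he0⟩ := Submodule.exists_mem_ne_zero_of_ne_bot (p := U) (fun h => by
    rw [h, finrank_bot, hdim] at hUd; omega)
  obtain ⟨y, hy, hey⟩ := hW' e (hUW heU) he0
  obtain ⟨f0, hf0W, hef0⟩ : ∃ f0 ∈ W, polar ⇑Q e f0 = 1 :=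
    ⟨(polar ⇑Q e y)⁻¹ • y, W.smul_mem _ hy, by rw [pl_smul_right, inv_mul_cancel₀ hey]⟩
  set f := f0 - Q f0 • e with hf
  have hee : polar ⇑Q e e = 0 := by rw [pl_self, hUQ e heU, mul_zero]
  have hp : HPair Q e f := ⟨hUQ e heU, by
    rw [hf, Q_sub, Q_smul, hUQ e heU, pl_smul_right, pl_comm, hef0]; ring, by
    rw [hf, pl_sub_right, pl_smul_right, hee, hef0, mul_zero, sub_zero]⟩
  have heW := hUW heU
  have hfW : f ∈ W := W.sub_mem hf0W (W.smul_mem _ heW)
  have hff : polar ⇑Q f f = 0 := by rw [pl_self, hp.qf, mul_zero]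
  have hfe : polar ⇑Q f e = 1 := by rw [pl_comm]; exact hp.pf
  have hcoord : ∀ x ∈ W, x = polar ⇑Q f x • e + polar ⇑Q e x • f := by
    intro x hx
    by_contra hne
    have hr0 : x - (polar ⇑Q f x • e + polar ⇑Q e x • f) ≠ 0 := sub_ne_zero.2 hne
    have hli : LinearIndependent F ![e, f] := LinearIndependent.pair_iff.2 fun s t hst => by
      constructor
      · have := congrArg (polar ⇑Q f) hst
        simpa [pl_add_right, pl_smul_right, hfe, hff, pl_zero_right] using this
      · have := congrArg (polar ⇑Q e) hst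
        simpa [pl_add_right, pl_smul_right, hee, hp.pf, pl_zero_right] using this
    have hsp : Submodule.span F (Set.range ![e, f]) = W := by
      refine Submodule.eq_of_le_of_finrank_eq (Submodule.span_le.2 ?_) ?_
      · rintro _ ⟨i, rfl⟩; fin_cases i <;> simp [heW, hfW]
      · rw [finrank_span_eq_card hli, hdim, Fintype.card_fin]
    rw [← hsp, Submodule.mem_span_range_iff_exists_fun] at hx
    obtain ⟨c, rfl⟩ := hx
    refine hr0 ?_
    simp [Fin.sum_univ_two, pl_add_right, pl_smul_right, hee, hff, hfe, hp.pf]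
  have hsq : ∀ c : F, c ≠ 0 → c * c = 1 := fun c hc => by
    have h1 := FiniteField.pow_card_sub_one_eq_one c hc
    have h2 := Fintype.one_lt_card (α := F)
    rcases (show Fintype.card F = 2 ∨ Fintype.card F = 3 by omega) with h | h <;> rw [h] at h1
    · rw [pow_one] at h1; rw [h1, one_mul]
    · rw [← sq]; exact h1
  set u := e + f with hu
  have huW : u ∈ W := W.add_mem heW hfW
  have hQu : Q u = 1 := by rw [hu, Q_add, hp.qe, hp.qf, hp.pf]; ring
  have hu0 : u ≠ 0 := fun h => by rw [h, QuadraticMap.map_zero] at hQu; exact zero_ne_one hQu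
  set L := (F ∙ u : Submodule F (ι → F))
  refine ⟨Geo.subspaceStabilizer L ⊓ Geo.omegaGL ⇑Q, lt_of_le_of_ne ?_ ?_, lt_of_le_of_ne inf_le_right ?_⟩
  · intro g hg
    obtain ⟨h, -, rfl⟩ := mem_omegaGL_iff.1 hg.2
    refine ⟨coe_mem_stabilizer.2 fun w hw => ?_, hg.2⟩
    obtain ⟨t, rfl⟩ := Submodule.mem_span_singleton.1 hw
    have hxW := (coe_mem_stabilizer.1 hg.1) u huW
    have hQx : Q (ap h u) = 1 := by rw [Q_ap, hQu]
    have hx := hcoord _ hxW
    set α := polar ⇑Q f (ap h u)
    set β := polar ⇑Q e (ap h u)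
    rw [hx, Q_add, Q_smul, Q_smul, hp.qe, hp.qf, pl_smul_left, pl_smul_right, hp.pf] at hQx
    have hab : α * β = 1 := by linear_combination hQx
    have hα := left_ne_zero_of_mul_eq_one hab
    have : β = α := mul_left_cancel₀ hα (hab.trans (hsq α hα).symm)
    rw [map_smul, hx, this, ← smul_add, smul_smul]
    exact Submodule.smul_mem _ _ (Submodule.mem_span_singleton_self _)
  · intro heq
    obtain ⟨a, ha, ha0, hua⟩ : ∃ a ∈ W, a ≠ 0 ∧ polar ⇑Q a u = 0 := by
      refine ⟨e - f, W.sub_mem heW hfW, fun h => ?_, ?_⟩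
      · have := congrArg (polar ⇑Q e) h
        rw [pl_sub_right, hee, hp.pf, pl_zero_right, zero_sub, neg_eq_zero] at this
        exact one_ne_zero this
      · rw [hu, pl_sub_left, pl_add_right, pl_add_right, hee, hp.pf, hfe, hff]; ring
    obtain ⟨g, hg, z, hz, hz0, hgx⟩ := exists_omega_move hG hW' (by omega) ha
    have hgK : (g : GL ι F) ∈ Geo.subspaceStabilizer W ⊓ Geo.omegaGL ⇑Q := by
      rw [heq]
      refine ⟨coe_mem_stabilizer.2 fun w hw => ?_, coe_mem_omegaGL.2 hg⟩
      obtain ⟨t, rfl⟩ := Submodule.mem_span_singleton.1 hw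
      rw [map_smul, hgx u huW, hua, zero_smul, sub_zero]
      exact hw
    obtain ⟨x, hx, hax⟩ := hW' a ha ha0
    have h1 := W.sub_mem hx ((coe_mem_stabilizer.1 hgK.1) x hx)
    rw [hgx x hx, sub_sub_cancel, W.smul_mem_iff hax, W.add_mem_iff_right ha] at h1
    exact hz0 (disjoint_perpSub hW' h1 hz)
  · intro heq
    obtain ⟨b, hb, hub⟩ := hW' u huW hu0
    obtain ⟨g, hg, z, hz, hz0, hgx⟩ := exists_omega_move hG hW' (by omega) hb
    have hgK : (g : GL ι F) ∈ Geo.subspaceStabilizer L ⊓ Geo.omegaGL ⇑Q := by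
      rw [heq]; exact coe_mem_omegaGL.2 hg
    have h1 := L.sub_mem (Submodule.mem_span_singleton_self u)
      ((coe_mem_stabilizer.1 hgK.1) u (Submodule.mem_span_singleton_self u))
    rw [hgx u huW, sub_sub_cancel, L.smul_mem_iff (by rw [pl_comm]; exact hub)] at h1
    obtain ⟨t, ht⟩ := Submodule.mem_span_singleton.1 h1
    exact hz0 (disjoint_perpSub hW' ((W.add_mem_iff_right hb).1 (ht ▸ W.smul_mem t huW)) hz)

end Cfsg.Agent.Orth
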