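import Cfsg.Agent.Lib.Orth.Spinor

/-!
# Orthogonal groups: hyperbolic pairs, Eichler generation, perfectness of `Ω`

* `HPair Q e f`, `perp Q e f` (the orthogonal of the pair), `exists_hpair`, `exists_hpair_left`
* `eichGen Q` (all Eichler transformations), `eichPair Q e f` (`⟨U_e, U_f⟩`)
* `exists_move_singular` : `⟨U_e,U_f⟩` is transitive on singular points (`n ≥ 3`)
* `exists_move_norm` : and on vectors of a given non-zero norm (`n ≥ 4`)
* `eichGen_eq_eichPair`, `omega_eq_eichGen`, `omega_eq_eichPair`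
* `omega_le_commutator_omega` : `Ω` is perfect for `n ≥ 5`
-/

set_option autoImplicit false
set_option linter.unusedSectionVars false

namespace Cfsg.Agent.Orth

open Cfsg Matrix Module
open QuadraticMap (polar)
open scoped commutatorElement

variable {ι : Type} [Fintype ι] [DecidableEq ι] {F : Type*} [Field F]
variable {Q : QuadraticForm F (ι → F)}

/-- A hyperbolic pair. -/
structure HPair (Q : QuadraticForm F (ι → F)) (e f : ι → F) : Prop where
  qe : Q e = 0
  qf : Q f = 0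
  pf : polar ⇑Q e f = 1

theorem HPair.swap {e f : ι → F} (h : HPair Q e f) : HPair Q f e := ⟨h.qf, h.qe, by rw [pl_comm]; exact h.pf⟩

theorem HPair.ne_zero {e f : ι → F} (h : HPair Q e f) : e ≠ 0 := by
  intro he
  have := h.pf
  rw [he, pl_zero_left] at this
  exact zero_ne_one this

theorem HPair.map {e f : ι → F} (h : HPair Q e f) (g : IsoGrp Q) : HPair Q (ap g e) (ap g f) :=
  ⟨by rw [Q_ap, h.qe], by rw [Q_ap, h.qf], by rw [polar_ap, h.pf]⟩

/-- The orthogonal of the pair `e, f`. -/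
def perp (Q : QuadraticForm F (ι → F)) (e f : ι → F) : Submodule F (ι → F) := orthFam Q ![e, f]

theorem mem_perp {e f x : ι → F} : x ∈ perp Q e f ↔ polar ⇑Q e x = 0 ∧ polar ⇑Q f x = 0 := by
  rw [perp, mem_orthFam, Fin.forall_fin_two]; rfl

theorem perp_swap (e f : ι → F) : perp Q f e = perp Q e f := by
  ext x; rw [mem_perp, mem_perp, and_comm]

theorem card_le_finrank_perp (e f : ι → F) : Fintype.card ι ≤ finrank F (perp Q e f) + 2 :=
  card_le_finrank_orthFam _

/-- The component of `x` orthogonal to the pair. -/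
def wPart (Q : QuadraticForm F (ι → F)) (e f x : ι → F) : ι → F :=
  x - polar ⇑Q f x • e - polar ⇑Q e x • f

theorem decomp (e f x : ι → F) :
    x = polar ⇑Q f x • e + polar ⇑Q e x • f + wPart Q e f x := by
  simp only [wPart]; abel

theorem HPair.wPart_mem {e f : ι → F} (h : HPair Q e f) (x : ι → F) : wPart Q e f x ∈ perp Q e f := by
  have hfe : polar ⇑Q f e = 1 := by rw [pl_comm]; exact h.pf
  rw [mem_perp, wPart]
  constructor
  · rw [pl_sub_right, pl_sub_right, pl_smul_right, pl_smul_right, pl_self, h.qe, h.pf]; ring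
  · rw [pl_sub_right, pl_sub_right, pl_smul_right, pl_smul_right, pl_self, h.qf, hfe]; ring

theorem HPair.perp_nondeg {e f : ι → F} (h : HPair Q e f) (hQ : Q.polarBilin.Nondegenerate)
    {w : ι → F} (hw : w ∈ perp Q e f) (hw0 : w ≠ 0) : ∃ y ∈ perp Q e f, polar ⇑Q w y ≠ 0 := by
  obtain ⟨y, hy⟩ := exists_polar_ne hQ hw0
  obtain ⟨h1, h2⟩ := mem_perp.1 hw
  refine ⟨_, h.wPart_mem y, ?_⟩
  rw [decomp (Q := Q) e f y, pl_add_right, pl_add_right, pl_smul_right, pl_smul_right,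
    pl_comm Q w e, pl_comm Q w f, h1, h2] at hy
  simpa using hy

theorem HPair.exists_nonsing_perp {e f : ι → F} (h : HPair Q e f) (hQ : Q.polarBilin.Nondegenerate)
    (hn : 3 ≤ Fintype.card ι) : ∃ z ∈ perp Q e f, Q z ≠ 0 := by
  by_contra! hall
  have hne : perp Q e f ≠ ⊥ := fun hb => by
    have := card_le_finrank_perp (Q := Q) e f
    rw [hb, finrank_bot] at this; omega
  obtain ⟨w, hw, hw0⟩ := (Submodule.ne_bot_iff _).1 hne
  obtain ⟨y, hy, hwy⟩ := h.perp_nondeg hQ hw hw0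
  exact hwy (by simp [polar, hall w hw, hall y hy, hall _ (add_mem hw hy)])

/-- In a space with non-degenerate form, two independent vectors are separated. -/
theorem exists_sep {W : Submodule F (ι → F)} (hW : ∀ x ∈ W, x ≠ 0 → ∃ y ∈ W, polar ⇑Q x y ≠ 0)
    {z z2 : ι → F} (hz : z ∈ W) (hz2 : z2 ∈ W) (h0 : z2 ≠ 0) (hind : z ∉ (F ∙ z2)) :
    ∃ y ∈ W, polar ⇑Q z2 y = 0 ∧ polar ⇑Q z y ≠ 0 := by
  by_contra! hall
  obtain ⟨y0, hy0, hy0'⟩ := hW z2 hz2 h0
  set c := polar ⇑Q z y0 / polar ⇑Q z2 y0 with hc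
  apply hind
  rw [Submodule.mem_span_singleton]
  refine ⟨c, ?_⟩
  by_contra hne
  have hne' : z - c • z2 ≠ 0 := sub_ne_zero.2 (Ne.symm hne)
  obtain ⟨y, hy, hy'⟩ := hW _ (sub_mem hz (W.smul_mem c hz2)) hne'
  apply hy'
  have := hall (y - (polar ⇑Q z2 y / polar ⇑Q z2 y0) • y0) (sub_mem hy (W.smul_mem _ hy0))
    (by rw [pl_sub_right, pl_smul_right, div_mul_cancel₀ _ hy0', sub_self])
  rw [pl_sub_right, pl_smul_right] at this
  rw [pl_sub_left, pl_smul_left, hc]
  field_simp at this ⊢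
  linear_combination this

/-- Every non-zero singular vector lies in a hyperbolic pair. -/
theorem exists_hpair_left (hQ : Q.polarBilin.Nondegenerate) {e : ι → F} (he : Q e = 0) (h0 : e ≠ 0) :
    ∃ f, HPair Q e f := by
  obtain ⟨y', h1⟩ : ∃ y', polar ⇑Q e y' = 1 := by
    obtain ⟨y, hy⟩ := exists_polar_ne hQ h0
    exact ⟨(polar ⇑Q e y)⁻¹ • y, by rw [pl_smul_right, inv_mul_cancel₀ hy]⟩
  refine ⟨y' - Q y' • e, he, ?_, ?_⟩
  · rw [Q_sub, Q_smul, pl_smul_right, he, pl_comm, h1]; ring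
  · rw [pl_sub_right, pl_smul_right, pl_self, he, h1]; ring

theorem exists_hpair [Fintype F] (hQ : Q.polarBilin.Nondegenerate) (hn : 3 ≤ Fintype.card ι) :
    ∃ e f, HPair Q e f := by
  suffices h : ∃ e, e ≠ 0 ∧ Q e = 0 by
    obtain ⟨e, h0, he⟩ := h
    exact ⟨e, exists_hpair_left hQ he h0⟩
  classical
  obtain ⟨z, hz⟩ := exists_Q_eq hQ (by omega) (1 : F)
  have hQz : Q z ≠ 0 := by simp [hz]
  have hz0 : z ≠ 0 := fun h => hQz (by simp [h])
  have hd : 2 ≤ finrank F (orthFam Q ![z]) := by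
    have := card_le_finrank_orthFam (Q := Q) ![z]
    omega
  by_cases h2 : (2 : F) = 0
  · have hne : ¬ orthFam Q ![z] ≤ (F ∙ z) := fun hle => by
      have := Submodule.finrank_mono hle
      rw [finrank_span_singleton hz0] at this; omega
    obtain ⟨y, hy, hy'⟩ := SetLike.not_le_iff_exists.1 hne
    obtain ⟨t, ht⟩ := FiniteField.isSquare_of_char_two
      (CharP.ringChar_of_prime_eq_zero Nat.prime_two (by exact_mod_cast h2)) (Q y)
    refine ⟨y + t • z, fun h0 => hy' ?_, ?_⟩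
    · rw [add_eq_zero_iff_eq_neg.1 h0]
      exact Submodule.neg_mem _ (Submodule.smul_mem _ _ (Submodule.mem_span_singleton_self z))
    · rw [Q_add, Q_smul, pl_smul_right, hz, ht, pl_comm,
        show polar ⇑Q z y = 0 from mem_orthFam.1 hy 0]
      linear_combination t * t * h2
  · have hW : ∀ x ∈ orthFam Q ![z], x ≠ 0 → ∃ y ∈ orthFam Q ![z], polar ⇑Q x y ≠ 0 := by
      intro x hx hx0
      obtain ⟨y, hy⟩ := exists_polar_ne hQ hx0
      refine ⟨y - (polar ⇑Q z y / (2 * Q z)) • z, mem_orthFam.2 fun i => ?_, ?_⟩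
      · fin_cases i
        show polar ⇑Q z _ = 0
        rw [pl_sub_right, pl_smul_right, pl_self, div_mul_cancel₀ _ (mul_ne_zero h2 hQz), sub_self]
      · rw [pl_sub_right, pl_smul_right, pl_comm Q x z,
          show polar ⇑Q z x = 0 from mem_orthFam.1 hx 0]
        simpa using hy
    obtain ⟨y, hy, hyQ⟩ := exists_Q_eq_in (Q := Q) _ hW hd (-1 : F)
    have hzy : polar ⇑Q z y = 0 := mem_orthFam.1 hy 0
    refine ⟨z + y, fun h0 => ?_, by rw [Q_add, hz, hyQ, hzy]; ring⟩
    rw [eq_neg_of_add_eq_zero_right h0, pl_neg_right, pl_self] at hzy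
    exact mul_ne_zero h2 hQz (neg_eq_zero.1 hzy)

/-! ### the groups generated by Eichler transformations -/

/-- All Eichler transformations generate this subgroup. -/
def eichGen (Q : QuadraticForm F (ι → F)) : Subgroup (IsoGrp Q) :=
  Subgroup.closure {g | ∃ u w, g = eich Q u w}

/-- `⟨U_e, U_f⟩`. -/
def eichPair (Q : QuadraticForm F (ι → F)) (e f : ι → F) : Subgroup (IsoGrp Q) :=
  Subgroup.closure {g | ∃ w ∈ perp Q e f, g = eich Q e w ∨ g = eich Q f w}

theorem eich_mem_eichGen (u w : ι → F) : eich Q u w ∈ eichGen Q :=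
  Subgroup.subset_closure ⟨u, w, rfl⟩

theorem eich_left_mem_eichPair {e f w : ι → F} (hw : w ∈ perp Q e f) :
    eich Q e w ∈ eichPair Q e f := Subgroup.subset_closure ⟨w, hw, .inl rfl⟩

theorem eich_right_mem_eichPair {e f w : ι → F} (hw : w ∈ perp Q e f) :
    eich Q f w ∈ eichPair Q e f := Subgroup.subset_closure ⟨w, hw, .inr rfl⟩

theorem eichPair_swap (e f : ι → F) : eichPair Q f e = eichPair Q e f := by
  simp only [eichPair, perp_swap e f, or_comm]

theorem eichPair_le (e f : ι → F) : eichPair Q e f ≤ eichGen Q := by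
  rw [eichPair, Subgroup.closure_le]
  rintro _ ⟨w, -, rfl | rfl⟩ <;> exact eich_mem_eichGen _ _

instance eichGen_normal : (eichGen Q).Normal where
  conj_mem x hx g := by
    have h : Subgroup.map (MulAut.conj g).toMonoidHom (eichGen Q) ≤ eichGen Q := by
      rw [eichGen, MonoidHom.map_closure, Subgroup.closure_le]
      rintro _ ⟨_, ⟨u, w, rfl⟩, rfl⟩
      exact Subgroup.subset_closure ⟨ap g u, ap g w, by simp [conj_eich]⟩
    exact h ⟨x, hx, rfl⟩

theorem HPair.eich_left_ap {e f : ι → F} (h : HPair Q e f) {w' w : ι → F} (hw' : w' ∈ perp Q e f)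
    (hw : w ∈ perp Q e f) (a b : F) : ap (eich Q e w') (a • e + b • f + w) =
      (a - polar ⇑Q w' w - Q w' * b) • e + b • f + (w + b • w') := by
  obtain ⟨he', hf'⟩ := mem_perp.1 hw'
  obtain ⟨he, -⟩ := mem_perp.1 hw
  rw [eich_ap h.qe he']
  simp only [pl_add_right, pl_smul_right, pl_self, h.qe, h.pf, he, pl_comm Q w' e, pl_comm Q w' f,
    he', hf']
  module

theorem HPair.eich_right_ap {e f : ι → F} (h : HPair Q e f) {w' w : ι → F} (hw' : w' ∈ perp Q e f)
    (hw : w ∈ perp Q e f) (a b : F) : ap (eich Q f w') (a • e + b • f + w) =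
      a • e + (b - polar ⇑Q w' w - Q w' * a) • f + (w + a • w') := by
  rw [add_comm (a • e) (b • f), h.swap.eich_left_ap (by rwa [perp_swap]) (by rwa [perp_swap])]
  abel

theorem HPair.Q_comb {e f : ι → F} (h : HPair Q e f) {w : ι → F} (hw : w ∈ perp Q e f) (a b : F) :
    Q (a • e + b • f + w) = a * b + Q w := by
  obtain ⟨he, hf⟩ := mem_perp.1 hw
  simp only [Q_add, Q_smul, pl_add_left, pl_smul_left, pl_smul_right, h.qe, h.qf, h.pf, he, hf]
  ring

/-- Make the `f`-coordinate non-zero. -/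
theorem HPair.exists_move_coord {e f : ι → F} (h : HPair Q e f) (hQ : Q.polarBilin.Nondegenerate)
    (hn : 3 ≤ Fintype.card ι) {x : ι → F} (hx : x ≠ 0) :
    ∃ g ∈ eichPair Q e f, ∃ (a b : F) (w : ι → F), b ≠ 0 ∧ w ∈ perp Q e f ∧ ap g x = a • e + b • f + w := by
  by_cases hb : polar ⇑Q e x = 0
  swap
  · exact ⟨1, one_mem _, _, _, _, hb, h.wPart_mem x, (ap_one x).trans (decomp e f x)⟩
  set a := polar ⇑Q f x with ha
  set w := wPart Q e f x with hw
  have hx' : x = a • e + (0 : F) • f + w := by rw [← hb]; exact decomp e f x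
  suffices hw' : ∃ w' ∈ perp Q e f, polar ⇑Q w' w + Q w' * a ≠ 0 by
    obtain ⟨w', hw', hne⟩ := hw'
    refine ⟨_, eich_right_mem_eichPair hw', a, _, _, ?_, ?_,
      (congrArg _ hx').trans (h.eich_right_ap hw' (h.wPart_mem x) a 0)⟩
    · rw [zero_sub, ← neg_add', neg_ne_zero]; exact hne
    · exact add_mem (h.wPart_mem x) (Submodule.smul_mem _ _ hw')
  by_cases hw0 : w = 0
  · obtain ⟨z, hz, hQz⟩ := h.exists_nonsing_perp hQ hn
    refine ⟨z, hz, ?_⟩
    have ha0 : a ≠ 0 := by rintro h0; apply hx; rw [hx', h0, hw0]; simp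
    rw [hw0, pl_zero_right, zero_add]
    exact mul_ne_zero hQz ha0
  · by_contra! hall
    obtain ⟨z, hz, hwz⟩ := h.perp_nondeg hQ (h.wPart_mem x) hw0
    by_cases ha0 : a = 0
    · apply hwz
      have := hall z hz
      rw [ha0, mul_zero, add_zero, pl_comm] at this
      exact this
    have hlin : ∀ z' ∈ perp Q e f, polar ⇑Q z z' = 0 := fun z' hz' => by
      have e1 := hall z hz
      have e2 := hall z' hz'
      have e3 := hall _ (add_mem hz hz')
      rw [pl_add_left, Q_add] at e3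
      exact (mul_eq_zero.1 (by linear_combination e3 - e1 - e2 :
        polar ⇑Q z z' * a = 0)).resolve_right ha0
    exact hwz (by rw [pl_comm]; exact hlin w (h.wPart_mem x))

/-- Kill the orthogonal component. -/
theorem HPair.exists_move_plane {e f : ι → F} (h : HPair Q e f) {w : ι → F}
    (hw : w ∈ perp Q e f) (a : F) {b : F} (hb : b ≠ 0) :
    ∃ g ∈ eichPair Q e f, ap g (a • e + b • f + w) = ((a * b + Q w) / b) • e + b • f := by
  have hw' : (-b⁻¹) • w ∈ perp Q e f := Submodule.smul_mem _ _ hw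
  refine ⟨_, eich_left_mem_eichPair hw', ?_⟩
  rw [h.eich_left_ap hw' hw, Q_smul, pl_smul_left, pl_self, smul_smul,
    show b * -b⁻¹ = -1 by field_simp, neg_one_smul, add_neg_cancel, add_zero]
  congr 2
  field_simp
  ring

/-- `⟨U_e, U_f⟩` is transitive on singular points. -/
theorem HPair.exists_move_singular {e f : ι → F} (h : HPair Q e f) (hQ : Q.polarBilin.Nondegenerate)
    (hn : 3 ≤ Fintype.card ι) {x : ι → F} (hx : x ≠ 0) (hQx : Q x = 0) :
    ∃ g ∈ eichPair Q e f, ∃ c : F, c ≠ 0 ∧ ap g x = c • f := by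
  obtain ⟨g, hg, a, b, w, hb, hw, hgx⟩ := h.exists_move_coord hQ hn hx
  obtain ⟨g', hg', hg'x⟩ := h.exists_move_plane hw a hb
  refine ⟨g' * g, mul_mem hg' hg, b, hb, ?_⟩
  have h0 : a * b + Q w = 0 := by rw [← h.Q_comb hw a b, ← hgx, Q_ap, hQx]
  rw [ap_mul, hgx, hg'x, h0, zero_div, zero_smul, zero_add]

/-- `⟨U_e, U_f⟩` is transitive on vectors of a given non-zero norm. -/
theorem HPair.exists_move_norm [Fintype F] {e f : ι → F} (h : HPair Q e f)
    (hQ : Q.polarBilin.Nondegenerate) (hn : 4 ≤ Fintype.card ι) {x : ι → F} (hQx : Q x ≠ 0) :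
    ∃ g ∈ eichPair Q e f, ap g x = e + Q x • f := by
  obtain ⟨g, hg, a₀, b, w, hb, hw, hgx⟩ := h.exists_move_coord hQ (by omega)
    (fun h0 : x = 0 => hQx (by simp [h0]))
  obtain ⟨g', hg', hg'x⟩ := h.exists_move_plane hw a₀ hb
  have hd : a₀ * b + Q w = Q x := by rw [← h.Q_comb hw a₀ b, ← hgx, Q_ap]
  rw [hd] at hg'x
  set a := Q x / b with ha
  have ha0 : a ≠ 0 := div_ne_zero hQx hb
  have h0 : (0 : ι → F) ∈ perp Q e f := zero_mem _
  obtain ⟨w1, hw1, hQw1⟩ := exists_Q_eq_in (Q := Q) (perp Q e f)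
    (fun y hy hy0 => h.perp_nondeg hQ hy hy0)
    (by have := card_le_finrank_perp (Q := Q) e f; omega) (a / b)
  have hw10 : w1 ≠ 0 := fun h1 => (div_ne_zero ha0 hb) (by rw [← hQw1, h1]; simp)
  obtain ⟨z, hz, hzw⟩ := h.perp_nondeg hQ hw1 hw10
  set w2 := ((1 - Q x / b) / polar ⇑Q w1 z) • z with hw2d
  have hw2 : w2 ∈ perp Q e f := Submodule.smul_mem _ _ hz
  have e1 : ap (eich Q e w1) (a • e + b • f) = (0 : F) • e + b • f + b • w1 := by
    have := h.eich_left_ap hw1 h0 a b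
    rw [add_zero, pl_zero_right, sub_zero, zero_add, hQw1, div_mul_cancel₀ _ hb, sub_self] at this
    exact this
  have e2 : ap (eich Q f w2) ((0 : F) • e + b • f + b • w1) =
      (0 : F) • e + Q x • f + b • w1 := by
    rw [h.eich_right_ap hw2 (Submodule.smul_mem _ _ hw1), zero_smul F w2, add_zero, mul_zero,
      sub_zero, pl_smul_right, hw2d, pl_smul_left, pl_comm Q z w1, div_mul_cancel₀ _ hzw]
    congr 3
    field_simp
    ring
  obtain ⟨g'', hg'', hg''x⟩ := h.exists_move_plane (Submodule.smul_mem _ b hw1) 0 hQx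
  refine ⟨g'' * eich Q f w2 * eich Q e w1 * g' * g,
    mul_mem (mul_mem (mul_mem (mul_mem hg'' (eich_right_mem_eichPair hw2))
      (eich_left_mem_eichPair hw1)) hg') hg, ?_⟩
  simp only [ap_mul]
  rw [hgx, hg'x, e1, e2, hg''x, Q_smul, hQw1, ha]
  congr 1
  rw [show (0 * Q x + b * b * (Q x / b / b)) / Q x = 1 by field_simp; ring, one_smul]

theorem HPair.eich_left_mem {e f : ι → F} (h : HPair Q e f) {y : ι → F} (hy : polar ⇑Q e y = 0) :
    eich Q e y ∈ eichPair Q e f := by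
  have h' := decomp (Q := Q) e f y
  rw [hy, zero_smul, add_zero, add_comm] at h'
  rw [h', eich_add_smul_self h.qe (mem_perp.1 (h.wPart_mem y)).1]
  exact eich_left_mem_eichPair (h.wPart_mem y)

theorem HPair.eichGen_eq {e f : ι → F} (h : HPair Q e f) (hQ : Q.polarBilin.Nondegenerate)
    (hn : 3 ≤ Fintype.card ι) : eichGen Q = eichPair Q e f := by
  refine le_antisymm ?_ (eichPair_le e f)
  rw [eichGen, Subgroup.closure_le]
  rintro _ ⟨u, w, rfl⟩
  by_cases hv : Q u = 0 ∧ polar ⇑Q u w = 0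
  swap; · rw [eich_eq_one hv]; exact one_mem _
  by_cases hu : u = 0
  · rw [hu, show eich Q (0 : ι → F) w = 1 by
      rw [← zero_smul F e, eich_smul_left, zero_smul, eich_zero]]
    exact one_mem _
  obtain ⟨g, hg, c, hc, hgu⟩ := h.exists_move_singular hQ hn hu hv.1
  have hmem : g * eich Q u w * g⁻¹ ∈ eichPair Q e f := by
    rw [conj_eich, hgu, eich_smul_left, ← eichPair_swap e f]
    refine h.swap.eich_left_mem ?_
    have h2 := hv.2
    rw [← polar_ap g, hgu, pl_smul_left] at h2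
    rw [pl_smul_right, h2]
  have := mul_mem (mul_mem (inv_mem hg) hmem) hg
  simpa [mul_assoc] using this

/-- `r_v r_u r_v r_u` as a product of two reflections of equal norm. -/
theorem refl_quad_eq (u v : ι → F) :
    refl Q u * refl Q v * refl Q u * refl Q v = refl Q u * refl Q (ap (refl Q v) u) := by
  rw [← conj_refl, refl_inv, mul_assoc, mul_assoc, mul_assoc]

variable [Fintype F]

theorem refl_mul_refl_mem_eichGen {e f : ι → F} (h : HPair Q e f)
    (hQ : Q.polarBilin.Nondegenerate) (hn : 4 ≤ Fintype.card ι) {u v : ι → F} (hu : Q u ≠ 0)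
    (huv : Q v = Q u) : refl Q u * refl Q v ∈ eichGen Q := by
  obtain ⟨g, hg, hgu⟩ := h.exists_move_norm hQ hn hu
  obtain ⟨g', hg', hgv⟩ := h.exists_move_norm hQ hn (x := v) (huv ▸ hu)
  have hv : ap (g'⁻¹ * g) u = v := by rw [ap_mul, hgu, ← huv, ← hgv, ap_inv_ap]
  rw [← hv, refl_mul_refl_ap, commutatorElement_def]
  have hk : g'⁻¹ * g ∈ eichGen Q :=
    mul_mem (inv_mem (eichPair_le e f hg')) (eichPair_le e f hg)
  exact mul_mem ((eichGen_normal (Q := Q)).conj_mem _ hk _) (inv_mem hk)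

theorem omega_le_eichGen (hG : Good Q) (hn : 4 ≤ Fintype.card ι) : Omega F ⇑Q ≤ eichGen Q := by
  obtain ⟨e, f, h⟩ := exists_hpair hG.nd (by omega)
  refine commutator_le_of_refl hG _ fun u v hu _ => ?_
  rw [refl_quad_eq]
  exact refl_mul_refl_mem_eichGen h hG.nd hn hu (Q_ap _ _)

/-- A subspace of the orthogonal of a hyperbolic pair with vanishing polar form is small. -/
theorem isotropic_perp_bound (hQ : Q.polarBilin.Nondegenerate) {e f : ι → F} (h : HPair Q e f)
    (H : Submodule F (ι → F)) (hle : H ≤ perp Q e f)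
    (hiso : ∀ x ∈ H, ∀ y ∈ H, polar ⇑Q x y = 0) : 2 * (finrank F H + 1) ≤ Fintype.card ι := by
  have hiso2 : ∀ x ∈ H ⊔ (F ∙ e), ∀ y ∈ H ⊔ (F ∙ e), polar ⇑Q x y = 0 := by
    intro x hx y hy
    obtain ⟨x1, hx1, x2, hx2, rfl⟩ := Submodule.mem_sup.1 hx
    obtain ⟨y1, hy1, y2, hy2, rfl⟩ := Submodule.mem_sup.1 hy
    obtain ⟨a, rfl⟩ := Submodule.mem_span_singleton.1 hx2
    obtain ⟨b, rfl⟩ := Submodule.mem_span_singleton.1 hy2
    simp only [pl_add_left, pl_add_right, pl_smul_left, pl_smul_right, pl_self, h.qe,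
      pl_comm Q x1 e, (mem_perp.1 (hle hx1)).1, (mem_perp.1 (hle hy1)).1, hiso x1 hx1 y1 hy1,
      mul_zero, add_zero]
  have h1 := two_mul_finrank_le_of_isotropic hQ _ hiso2
  have hne : e ∉ H := fun he => by
    have := (mem_perp.1 (hle he)).2
    rw [pl_comm, h.pf] at this; exact one_ne_zero this
  have h2 := Submodule.finrank_lt_finrank_of_lt (lt_of_le_of_ne (le_sup_left : H ≤ H ⊔ (F ∙ e))
    fun heq => hne (heq ▸ Submodule.mem_sup_right (Submodule.mem_span_singleton_self e)))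
  omega

theorem exists_nonsing_perp_orth (hQ : Q.polarBilin.Nondegenerate) (hn : 5 ≤ Fintype.card ι)
    {e f : ι → F} (h : HPair Q e f) (w : ι → F) :
    ∃ z ∈ perp Q e f, polar ⇑Q w z = 0 ∧ Q z ≠ 0 := by
  by_contra! hall
  set H := orthFam Q ![e, f, w] with hH
  have hm : ∀ x, x ∈ H ↔ x ∈ perp Q e f ∧ polar ⇑Q w x = 0 := fun x => by
    simp [hH, mem_orthFam, mem_perp, Fin.forall_fin_succ, and_assoc]
  have hQ0 : ∀ x ∈ H, Q x = 0 := fun x hx => hall x ((hm x).1 hx).1 ((hm x).1 hx).2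
  have h1 := isotropic_perp_bound hQ h H (fun x hx => ((hm x).1 hx).1)
    fun x hx y hy => by simp [polar, hQ0 x hx, hQ0 y hy, hQ0 _ (add_mem hx hy)]
  have h3 : Fintype.card ι ≤ finrank F H + 3 := card_le_finrank_orthFam ![e, f, w]
  omega

theorem exists_companion_perp (hQ : Q.polarBilin.Nondegenerate) (hn : 5 ≤ Fintype.card ι)
    {e f : ι → F} (h : HPair Q e f) {z : ι → F} (hz : z ∈ perp Q e f) (hQz : Q z ≠ 0) :
    ∃ x ∈ perp Q e f, polar ⇑Q x z ≠ 0 ∧ x ∉ (F ∙ z) ∧ Q x ≠ 0 := by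
  by_cases h2 : (2 : F) = 0
  · obtain ⟨x0, hx0, hx0z⟩ := h.perp_nondeg hQ hz (fun h0 => hQz (by simp [h0]))
    rw [pl_comm] at hx0z
    suffices hs : ∃ x ∈ perp Q e f, polar ⇑Q x z ≠ 0 ∧ Q x ≠ 0 by
      obtain ⟨x, hx, hxz, hQx⟩ := hs
      refine ⟨x, hx, hxz, fun hmem => hxz ?_, hQx⟩
      obtain ⟨t, rfl⟩ := Submodule.mem_span_singleton.1 hmem
      rw [pl_smul_left, pl_self, h2, zero_mul, mul_zero]
    by_contra! hall
    set H := orthFam Q ![e, f, z] with hH
    have hm : ∀ x, x ∈ H ↔ x ∈ perp Q e f ∧ polar ⇑Q z x = 0 := fun x => by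
      simp [hH, mem_orthFam, mem_perp, Fin.forall_fin_succ, and_assoc]
    have key : ∀ x ∈ H, Q (x0 + x) = 0 := fun x hx => by
      refine hall _ (add_mem hx0 ((hm x).1 hx).1) ?_
      rwa [pl_add_left, pl_comm Q x z, ((hm x).1 hx).2, add_zero]
    have hQ0 : Q x0 = 0 := hall x0 hx0 hx0z
    have h1 := isotropic_perp_bound hQ h H (fun x hx => ((hm x).1 hx).1) fun x hx y hy => by
      have e1 := key x hx
      have e2 := key y hy
      have e3 := key _ (add_mem hx hy)
      rw [Q_add, Q_add Q x y, pl_add_right, hQ0] at e3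
      rw [Q_add, hQ0] at e1 e2
      linear_combination e3 - e1 - e2
    have h3 : Fintype.card ι ≤ finrank F H + 3 := card_le_finrank_orthFam ![e, f, z]
    omega
  · set H := orthFam Q ![e, f, z] with hH
    have hm : ∀ x, x ∈ H ↔ x ∈ perp Q e f ∧ polar ⇑Q z x = 0 := fun x => by
      simp [hH, mem_orthFam, mem_perp, Fin.forall_fin_succ, and_assoc]
    have hHn : ∀ x ∈ H, x ≠ 0 → ∃ y ∈ H, polar ⇑Q x y ≠ 0 := by
      intro x hx hx0
      obtain ⟨y, hy, hxy⟩ := h.perp_nondeg hQ ((hm x).1 hx).1 hx0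
      refine ⟨y - (polar ⇑Q z y / (2 * Q z)) • z,
        (hm _).2 ⟨sub_mem hy (Submodule.smul_mem _ _ hz), ?_⟩, ?_⟩
      · rw [pl_sub_right, pl_smul_right, pl_self, div_mul_cancel₀ _ (mul_ne_zero h2 hQz), sub_self]
      · rw [pl_sub_right, pl_smul_right, pl_comm Q x z, ((hm x).1 hx).2]
        simpa using hxy
    have hd : Fintype.card ι ≤ finrank F H + 3 := card_le_finrank_orthFam ![e, f, z]
    obtain ⟨y, hy, hQy⟩ := exists_Q_eq_in (Q := Q) H hHn (by omega) (Q z)
    obtain ⟨hyW, hzy⟩ := (hm y).1 hy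
    refine ⟨z + y, add_mem hz hyW, ?_, fun hmem => ?_, ?_⟩
    · rw [pl_add_left, pl_comm Q y z, hzy, pl_self, add_zero]; exact mul_ne_zero h2 hQz
    · obtain ⟨t, ht⟩ := Submodule.mem_span_singleton.1 hmem
      have hy' : y = (t - 1) • z := by rw [sub_smul, one_smul, ht]; abel
      rw [hy', pl_smul_right, pl_self] at hzy
      have : t - 1 = 0 := (mul_eq_zero.1 hzy).resolve_right (mul_ne_zero h2 hQz)
      exact hQz (by rw [← hQy, hy', this]; simp)
    · rw [Q_add, hQy, hzy, add_zero, ← two_mul]; exact mul_ne_zero h2 hQz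

/-! ### Eichler transformations as commutators -/

/-- The element acting on a hyperbolic pair by `e ↦ t e`, `f ↦ t⁻¹ f`. -/
def torus (Q : QuadraticForm F (ι → F)) (e f : ι → F) (t : F) : IsoGrp Q :=
  refl Q (e - f) * refl Q (e - t • f)

theorem HPair.torus_ap_left {e f : ι → F} (h : HPair Q e f) {t : F} (ht : t ≠ 0) :
    ap (torus Q e f t) e = t • e := by
  have hfe : polar ⇑Q f e = 1 := by rw [pl_comm]; exact h.pf
  rw [torus, ap_mul]
  have e1 : ap (refl Q (e - t • f)) e = t • f := by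
    rw [refl_ap, Q_sub, Q_smul, pl_smul_right, h.qe, h.qf, h.pf, pl_sub_left, pl_smul_left, pl_self,
      h.qe, hfe]
    rw [show (0 + t * t * 0 - t * 1)⁻¹ * (2 * 0 - t * 1) = 1 by
      rw [show (2 * 0 - t * 1) = 0 + t * t * 0 - t * 1 by ring]; exact inv_mul_cancel₀ (by simpa using ht), one_smul,
      sub_sub_cancel]
  rw [e1, map_smul, refl_ap, Q_sub, h.qe, h.qf, h.pf, pl_sub_left, h.pf, pl_self, h.qf]
  norm_num

theorem HPair.torus_ap_perp {e f w : ι → F} (hw : w ∈ perp Q e f) (t : F) :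
    ap (torus Q e f t) w = w := by
  obtain ⟨he, hf⟩ := mem_perp.1 hw
  rw [torus, ap_mul, refl_ap_of_orth Q (v := e - t • f) (by rw [pl_sub_left, pl_smul_left, he, hf]; ring),
    refl_ap_of_orth Q (v := e - f) (by rw [pl_sub_left, he, hf]; ring)]

/-- With a scalar `t ≠ 0, 1` every Eichler transformation is a commutator. -/
theorem HPair.eich_mem_commutatorSet {e f : ι → F} (h : HPair Q e f) {t : F} (ht : t ≠ 0)
    (ht1 : t ≠ 1) {w : ι → F} (hw : w ∈ perp Q e f) :
    eich Q e w ∈ commutatorSet (IsoGrp Q) := by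
  have hw' : (t - 1)⁻¹ • w ∈ perp Q e f := Submodule.smul_mem _ _ hw
  refine ⟨torus Q e f t, eich Q e ((t - 1)⁻¹ • w), ?_⟩
  rw [commutatorElement_def, conj_eich, h.torus_ap_left ht, torus_ap_perp hw', eich_smul_left,
    eich_inv, eich_add h.qe (by rw [pl_smul_right, (mem_perp.1 hw').1, mul_zero])
      (by rw [pl_neg_right, (mem_perp.1 hw').1, neg_zero])]
  congr 1
  rw [← sub_eq_add_neg, smul_smul, ← sub_smul,
    show t * (t - 1)⁻¹ - (t - 1)⁻¹ = (t - 1) * (t - 1)⁻¹ by ring,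
    mul_inv_cancel₀ (sub_ne_zero.2 ht1), one_smul]

/-- The machine behind perfectness: `U_e ≤ K` gives `U_e ≤ ⁅Ω, K⁆` for `n ≥ 5`. -/
theorem HPair.eich_mem_omega_commutator {e f : ι → F} (h : HPair Q e f)
    (hQ : Q.polarBilin.Nondegenerate) (hn : 5 ≤ Fintype.card ι) {K : Subgroup (IsoGrp Q)}
    (hK : ∀ w ∈ perp Q e f, eich Q e w ∈ K) {w : ι → F} (hw : w ∈ perp Q e f) :
    eich Q e w ∈ ⁅Omega F ⇑Q, K⁆ := by
  have hns : ∀ z ∈ perp Q e f, Q z ≠ 0 → eich Q e z ∈ ⁅Omega F ⇑Q, K⁆ := by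
    intro z hz hQz
    obtain ⟨x, hx, hxz, hxs, hQx⟩ := exists_companion_perp hQ hn h hz hQz
    set z2 := ap (refl Q x) z with hz2
    have hz2W : z2 ∈ perp Q e f := by
      rw [hz2, refl_ap]; exact sub_mem hz (Submodule.smul_mem _ _ hx)
    have hz20 : z2 ≠ 0 := fun h0 => hQz (by rw [← Q_ap (refl Q x) z, ← hz2, h0]; simp)
    have hind : z ∉ (F ∙ z2) := by
      intro hmem
      obtain ⟨a, ha⟩ := Submodule.mem_span_singleton.1 hmem
      have hc : (Q x)⁻¹ * polar ⇑Q x z ≠ 0 := mul_ne_zero (inv_ne_zero hQx) hxz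
      rw [hz2, refl_ap, smul_sub, smul_smul] at ha
      have hac : (a - 1) • z = (a * ((Q x)⁻¹ * polar ⇑Q x z)) • x := by
        linear_combination (norm := module) ha
      have ha0 : a ≠ 0 := by
        rintro rfl
        exact hQz (by simp [(by simpa using hac : z = 0)])
      apply hxs
      refine Submodule.mem_span_singleton.2 ⟨(a * ((Q x)⁻¹ * polar ⇑Q x z))⁻¹ * (a - 1), ?_⟩
      rw [← smul_smul, hac, inv_smul_smul₀ (mul_ne_zero ha0 hc)]
    obtain ⟨y, hy, hy1, hy2⟩ := exists_sep (fun a ha ha0 => h.perp_nondeg hQ ha ha0) hz hz2W hz20 hind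
    set h' := refl Q z * refl Q z2 with hh'
    have hh'm : h' ∈ Omega F ⇑Q := refl_mul_refl_ap_mem_omega _ _
    have hh'e : ap h' e = e := by
      rw [hh', ap_mul, refl_ap_of_orth Q (v := z2) (by rw [pl_comm]; exact (mem_perp.1 hz2W).1),
        refl_ap_of_orth Q (v := z) (by rw [pl_comm]; exact (mem_perp.1 hz).1)]
    set y' := (-(Q z) / polar ⇑Q z y) • y with hy'd
    have hy' : y' ∈ perp Q e f := Submodule.smul_mem _ _ hy
    have hh'y : ap h' y' = y' + z := by
      rw [hh', ap_mul, refl_ap_of_orth Q (v := z2) (by rw [hy'd, pl_smul_right, hy1, mul_zero]), refl_ap,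
        hy'd, pl_smul_right, div_mul_cancel₀ _ hy2, mul_neg, inv_mul_cancel₀ hQz, neg_one_smul,
        sub_neg_eq_add]
    have hmem := Subgroup.commutator_mem_commutator hh'm (hK y' hy')
    rwa [commutatorElement_def, conj_eich, hh'e, hh'y, eich_inv,
      eich_add h.qe (by rw [pl_add_right, (mem_perp.1 hy').1, (mem_perp.1 hz).1, add_zero])
        (by rw [pl_neg_right, (mem_perp.1 hy').1, neg_zero]),
      show y' + z + -y' = z by abel] at hmem
  by_cases hQw : Q w = 0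
  · obtain ⟨z, hz, hwz, hQz⟩ := exists_nonsing_perp_orth hQ hn h w
    have h1 := hns _ (add_mem hw hz) (by rw [Q_add, hQw, hwz, zero_add, add_zero]; exact hQz)
    have h2 := hns _ (neg_mem hz) (by rwa [QuadraticMap.map_neg])
    have := mul_mem h1 h2
    rwa [eich_add h.qe (by rw [pl_add_right, (mem_perp.1 hw).1, (mem_perp.1 hz).1, add_zero])
      (by rw [pl_neg_right, (mem_perp.1 hz).1, neg_zero]), add_neg_cancel_right] at this
  · exact hns w hw hQw

/-- Hypothesis under which `Ω` is generated by Eichler transformations. -/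
theorem eichGen_le_omega (hQ : Q.polarBilin.Nondegenerate)
    (hn : 3 ≤ Fintype.card ι) (h : (∃ c : F, c ≠ 0 ∧ c ≠ 1) ∨ 5 ≤ Fintype.card ι) :
    eichGen Q ≤ Omega F ⇑Q := by
  obtain ⟨e, f, hp⟩ := exists_hpair hQ hn
  rw [hp.eichGen_eq hQ hn, eichPair, Subgroup.closure_le]
  have key : ∀ a b : ι → F, HPair Q a b → ∀ w ∈ perp Q a b, eich Q a w ∈ Omega F ⇑Q := by
    intro a b hab w hw
    rcases h with ⟨t, ht, ht1⟩ | h5
    · rw [Omega, commutator_eq_closure]
      exact Subgroup.subset_closure (hab.eich_mem_commutatorSet ht ht1 hw)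
    · exact Subgroup.commutator_mono le_top le_rfl
        (hab.eich_mem_omega_commutator hQ h5 (K := ⊤) (fun _ _ => Subgroup.mem_top _) hw)
  rintro _ ⟨w, hw, rfl | rfl⟩
  · exact key e f hp w hw
  · exact key f e hp.swap w (by rwa [perp_swap])

theorem omega_eq_eichGen (hG : Good Q) (hn : 4 ≤ Fintype.card ι)
    (h : (∃ c : F, c ≠ 0 ∧ c ≠ 1) ∨ 5 ≤ Fintype.card ι) : Omega F ⇑Q = eichGen Q :=
  le_antisymm (omega_le_eichGen hG hn) (eichGen_le_omega hG.nd (by omega) h)

theorem omega_eq_eichPair (hG : Good Q) (hn : 4 ≤ Fintype.card ι)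
    (h : (∃ c : F, c ≠ 0 ∧ c ≠ 1) ∨ 5 ≤ Fintype.card ι) {e f : ι → F} (hp : HPair Q e f) :
    Omega F ⇑Q = eichPair Q e f :=
  (omega_eq_eichGen hG hn h).trans (hp.eichGen_eq hG.nd (by omega))

theorem omega_le_commutator_omega (hG : Good Q) (hn : 5 ≤ Fintype.card ι) :
    Omega F ⇑Q ≤ ⁅Omega F ⇑Q, Omega F ⇑Q⁆ := by
  obtain ⟨e, f, hp⟩ := exists_hpair hG.nd (by omega)
  have he := omega_eq_eichPair hG (by omega) (.inr hn) hp
  have key : ∀ a b : ι → F, HPair Q a b → ∀ w ∈ perp Q a b,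
      eich Q a w ∈ ⁅Omega F ⇑Q, Omega F ⇑Q⁆ := fun a b hab w hw =>
    hab.eich_mem_omega_commutator hG.nd hn
      (fun y _ => by rw [omega_eq_eichGen hG (by omega) (.inr hn)]; exact eich_mem_eichGen _ _) hw
  intro g hg
  rw [he] at hg
  refine (Subgroup.closure_le _).2 ?_ hg
  rintro _ ⟨w, hw, rfl | rfl⟩
  · exact key e f hp w hw
  · exact key f e hp.swap w (by rwa [perp_swap])

end Cfsg.Agent.Orth
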