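import Cfsg.Agent.Lib.Orth.Spinor
import Cfsg.Agent.Lib.Orth.Eichler
import Cfsg.Agent.Lib.Forms.Classify

/-!
# Bridge to the geometric classes of orthogonal groups

* `ofND hQ` : a `Geo.IsNondegenerateQuadraticForm` as a `QuadraticForm` (same function); `ofND_nondeg`
* `mem_omegaGL_iff`, `mem_stabilizer_iff` : membership
* `perpSub Q W` : orthogonal complement; `mem_perpSub`, `perpSub_nondeg`, `disjoint_perpSub`,
  `finrank_perpSub`, `exists_ne_zero_Q_eq`
* `exists_omega_move` : an element of `Ω` moving a non-degenerate subspace in a prescribed way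
-/

set_option autoImplicit false
set_option linter.unusedSectionVars false

namespace Cfsg.Agent.Orth

open Cfsg Matrix Module
open QuadraticMap (polar)

variable {ι : Type} [Fintype ι] [DecidableEq ι] {F : Type*} [Field F]

/-- A non-degenerate quadratic function as a quadratic form. -/
noncomputable def ofND {Q : (ι → F) → F} (hQ : Geo.IsNondegenerateQuadraticForm Q) :
    QuadraticForm F (ι → F) where
  toFun := Q
  toFun_smul c v := by rw [hQ.smul]; simp [sq, smul_eq_mul]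
  exists_companion' :=
    ⟨LinearMap.mk₂ F (polar Q) (fun x y v => hQ.polar_bilinear.add_left x y v)
      (fun c x v => hQ.polar_bilinear.smul_left c x v) (fun v x y => hQ.polar_bilinear.add_right v x y)
      (fun c v x => hQ.polar_bilinear.smul_right c v x),
    fun x y => by simp [LinearMap.mk₂_apply, polar]⟩

theorem coe_ofND {Q : (ι → F) → F} (hQ : Geo.IsNondegenerateQuadraticForm Q) : ⇑(ofND hQ) = Q := rfl

theorem ofND_nondeg {Q : (ι → F) → F} (hQ : Geo.IsNondegenerateQuadraticForm Q) :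
    (ofND hQ).polarBilin.Nondegenerate := by
  constructor
  · intro x hx
    by_contra h
    obtain ⟨y, hy⟩ := (hQ.nondegenerate x h).2
    exact hy (hx y)
  · intro x hx
    by_contra h
    obtain ⟨y, hy⟩ := (hQ.nondegenerate x h).1
    exact hy (hx y)

theorem good_ofND [Fintype F] {Q : (ι → F) → F} (hQ : Geo.IsNondegenerateQuadraticForm Q)
    (hn : Fintype.card ι ≠ 4) : Good (ofND hQ) :=
  Good.of_card (ofND_nondeg hQ) (.inr hn)

theorem mem_omegaGL_iff {Q : QuadraticForm F (ι → F)} {g : GL ι F} :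
    g ∈ Geo.omegaGL ⇑Q ↔ ∃ h : IsoGrp Q, h ∈ Omega F ⇑Q ∧ (h : GL ι F) = g :=
  Subgroup.mem_map

theorem coe_mem_omegaGL {Q : QuadraticForm F (ι → F)} {h : IsoGrp Q} :
    (h : GL ι F) ∈ Geo.omegaGL ⇑Q ↔ h ∈ Omega F ⇑Q := by
  rw [mem_omegaGL_iff]
  exact ⟨fun ⟨k, hk, e⟩ => Subtype.ext e ▸ hk, fun hh => ⟨h, hh, rfl⟩⟩

theorem mem_stabilizer_iff {W : Submodule F (ι → F)} {g : GL ι F} :
    g ∈ Geo.subspaceStabilizer W ↔ ∀ w ∈ W, (g : Matrix ι ι F) *ᵥ w ∈ W := by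
  refine ⟨fun h w hw => (h w).1 hw, fun h => ?_⟩
  let φ : W →ₗ[F] W := (Matrix.toLin' (g : Matrix ι ι F)).restrict (fun w hw => by simpa using h w hw)
  have hinj : Function.Injective φ := fun a b hab => Subtype.ext <| by
    have e : (g : Matrix ι ι F) *ᵥ (a : ι → F) = (g : Matrix ι ι F) *ᵥ (b : ι → F) := by
      simpa [φ] using congrArg Subtype.val hab
    exact Matrix.mulVec_injective_iff_isUnit.2 g.isUnit e
  intro v
  refine ⟨h v, fun hv => ?_⟩
  obtain ⟨a, ha⟩ := (LinearMap.injective_iff_surjective.1 hinj) ⟨_, hv⟩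
  have e : (g : Matrix ι ι F) *ᵥ (a : ι → F) = (g : Matrix ι ι F) *ᵥ v := by
    simpa [φ] using congrArg Subtype.val ha
  rw [← Matrix.mulVec_injective_iff_isUnit.2 g.isUnit e]
  exact a.2

theorem coe_mem_stabilizer {Q : QuadraticForm F (ι → F)} {W : Submodule F (ι → F)} {h : IsoGrp Q} :
    (h : GL ι F) ∈ Geo.subspaceStabilizer W ↔ ∀ w ∈ W, ap h w ∈ W := by
  rw [mem_stabilizer_iff]; rfl

variable (Q : QuadraticForm F (ι → F))

/-- The orthogonal complement. -/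
noncomputable def perpSub (W : Submodule F (ι → F)) : Submodule F (ι → F) :=
  LinearMap.BilinForm.orthogonal Q.polarBilin W

variable {Q}

theorem mem_perpSub {W : Submodule F (ι → F)} {x : ι → F} :
    x ∈ perpSub Q W ↔ ∀ w ∈ W, polar ⇑Q w x = 0 := Iff.rfl

theorem isRefl_polar : LinearMap.BilinForm.IsRefl Q.polarBilin := fun x y h => by
  change polar ⇑Q x y = 0 at h
  change polar ⇑Q y x = 0
  rwa [pl_comm]

theorem finrank_perpSub (hQ : Q.polarBilin.Nondegenerate) (W : Submodule F (ι → F)) :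
    finrank F (perpSub Q W) = Fintype.card ι - finrank F W := by
  rw [perpSub, LinearMap.BilinForm.finrank_orthogonal hQ, finrank_space]

theorem perpSub_perpSub (hQ : Q.polarBilin.Nondegenerate) (W : Submodule F (ι → F)) :
    perpSub Q (perpSub Q W) = W :=
  LinearMap.BilinForm.orthogonal_orthogonal hQ isRefl_polar W

theorem disjoint_perpSub {W : Submodule F (ι → F)}
    (hW : ∀ x ∈ W, x ≠ 0 → ∃ y ∈ W, polar ⇑Q x y ≠ 0) {x : ι → F} (hx : x ∈ W)
    (hx' : x ∈ perpSub Q W) : x = 0 := by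
  by_contra h
  obtain ⟨y, hy, hxy⟩ := hW x hx h
  exact hxy (by rw [pl_comm]; exact hx' y hy)

theorem perpSub_nondeg (hQ : Q.polarBilin.Nondegenerate) {W : Submodule F (ι → F)}
    (hW : ∀ x ∈ W, x ≠ 0 → ∃ y ∈ W, polar ⇑Q x y ≠ 0) :
    ∀ x ∈ perpSub Q W, x ≠ 0 → ∃ y ∈ perpSub Q W, polar ⇑Q x y ≠ 0 := by
  intro x hx h0
  by_contra! hall
  refine h0 (disjoint_perpSub hW ?_ hx)
  rw [← perpSub_perpSub hQ W]
  exact fun y hy => by
    show polar ⇑Q y x = 0
    rw [pl_comm]; exact hall y hy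

theorem nondegOn_of_geo {W : Submodule F (ι → F)} (hW : Geo.IsNondegenerateOn (polar ⇑Q) W) :
    ∀ x ∈ W, x ≠ 0 → ∃ y ∈ W, polar ⇑Q x y ≠ 0 := fun x hx h0 => (hW x hx h0).2

theorem exists_ne_zero_Q_eq [Fintype F] {W : Submodule F (ι → F)}
    (hW : ∀ x ∈ W, x ≠ 0 → ∃ y ∈ W, polar ⇑Q x y ≠ 0) (h3 : 3 ≤ finrank F W) (c : F) :
    ∃ v ∈ W, v ≠ 0 ∧ Q v = c := by
  by_cases hc : c = 0
  · obtain ⟨v, hv0, hv⟩ := Forms.exists_singular_of_three_le (Q.comp W.subtype) h3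
    exact ⟨v, v.2, fun h => hv0 (Subtype.ext h), hc ▸ hv⟩
  · obtain ⟨v, hv, hQv⟩ := exists_Q_eq_in (Q := Q) W hW (by omega) c
    exact ⟨v, hv, fun h => hc (by rw [← hQv, h, QuadraticMap.map_zero]), hQv⟩

/-- An element of `Ω` acting on a non-degenerate `W` as `x ↦ x - f(a,x) (a + z)`, with `z ⊥ W` non-zero. -/
theorem exists_omega_move [Fintype F] (hG : Good Q) {W : Submodule F (ι → F)}
    (hW : ∀ x ∈ W, x ≠ 0 → ∃ y ∈ W, polar ⇑Q x y ≠ 0)
    (hd : finrank F W + 3 ≤ Fintype.card ι) {a : ι → F} (ha : a ∈ W) :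
    ∃ g : IsoGrp Q, g ∈ Omega F ⇑Q ∧ ∃ z ∈ perpSub Q W, z ≠ 0 ∧
      ∀ x ∈ W, ap g x = x - polar ⇑Q a x • (a + z) := by
  classical
  have hWp := perpSub_nondeg hG.nd hW
  have h3 : 3 ≤ finrank F (perpSub Q W) := by rw [finrank_perpSub hG.nd]; omega
  -- `z ⊥ W` with `Q (a + z) = 1`
  obtain ⟨z, hz, hz0, hzQ⟩ : ∃ z ∈ perpSub Q W, z ≠ 0 ∧ Q (a + z) = 1 := by
    obtain ⟨z, hz, hz0, hzQ⟩ := exists_ne_zero_Q_eq hWp h3 (1 - Q a)
    exact ⟨z, hz, hz0, by rw [Q_add, mem_perpSub.1 hz a ha, hzQ]; ring⟩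
  obtain ⟨v, hv, hv0, hvQ⟩ := exists_ne_zero_Q_eq hWp h3 1
  refine ⟨refl Q (a + z) * refl Q v, (mem_omega_iff hG _).2 ⟨?_, ?_⟩, z, hz, hz0, fun x hx => ?_⟩
  · rw [dick_refl_mul hG.nd _ (by rw [hzQ]; exact one_ne_zero), dick_refl hG.nd (by rw [hvQ]; exact one_ne_zero)]
    norm_num
  · rw [spin_refl_mul hG.nd _ (by rw [hzQ]; exact one_ne_zero), spin_refl hG.nd (by rw [hvQ]; exact one_ne_zero),
      hzQ, hvQ, map_one, mul_one]
  · have hvx : polar ⇑Q v x = 0 := by rw [pl_comm]; exact hv x hx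
    rw [ap_mul, refl_ap_of_orth Q hvx, refl_ap, hzQ, inv_one, one_mul, pl_add_left,
      show polar ⇑Q z x = 0 by rw [pl_comm]; exact hz x hx, add_zero]

end Cfsg.Agent.Orth
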