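import Cfsg.Agent.Lib.Orth.Decomp
import Cfsg.Agent.Lib.Transvect.TensorFrame

/-!
# A tensor stabiliser with a three-dimensional monomial factor over `𝔽₃` is not maximal
-/

set_option autoImplicit false
set_option linter.unusedSectionVars false

namespace Cfsg.Agent.Orth

open Cfsg Matrix Module
open QuadraticMap (polar)

variable {F : Type*} [Field F]

theorem formOfGram_eq {κ : Type} [Fintype κ] [DecidableEq κ] {f : (κ → F) → (κ → F) → F}
    (h : Geo.IsBilinearForm f) (x y : κ → F) : Geo.formOfGram id (Geo.gramMatrix f) x y = f x y := by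
  let B : (κ → F) →ₗ[F] (κ → F) →ₗ[F] F := LinearMap.mk₂ F f (fun a b c => h.add_left a b c)
    (fun r a b => h.smul_left r a b) (fun a b c => h.add_right a b c) (fun r a b => h.smul_right r a b)
  have e : f x y = B x y := rfl
  rw [e]
  conv_rhs => rw [pi_eq_sum_univ' x, pi_eq_sum_univ' y]
  simp only [map_sum, map_smul, LinearMap.coe_sum, Finset.sum_apply, LinearMap.smul_apply,
    smul_eq_mul, Geo.formOfGram, Geo.gramMatrix, id, Finset.mul_sum]
  rw [Finset.sum_comm]
  exact Finset.sum_congr rfl fun b _ => Finset.sum_congr rfl fun a _ => by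
    rw [show (B (Pi.single a 1)) (Pi.single b 1) = f (Pi.single a 1) (Pi.single b 1) from rfl]; ring

theorem exists_orth_frame_three [Fintype F] (hF : Fintype.card F = 3) (h2 : (2 : F) ≠ 0)
    {R : QuadraticForm F (Fin 3 → F)} (hR : R.polarBilin.Nondegenerate) :
    ∃ (c : F) (u : Fin 3 → Fin 3 → F), c ≠ 0 ∧ (∀ i, R (u i) = c) ∧
      (∀ i j, i ≠ j → polar ⇑R (u i) (u j) = 0) ∧ ∀ x, R x = c → ∃ i, x ∈ F ∙ u i := by
  classical
  have htop : ∀ x ∈ (⊤ : Submodule F (Fin 3 → F)), x ≠ 0 → ∃ y ∈ (⊤ : Submodule F (Fin 3 → F)),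
      polar ⇑R x y ≠ 0 := fun x _ hx => by
    obtain ⟨y, hy⟩ := exists_polar_ne hR hx
    exact ⟨y, trivial, hy⟩
  have hr3 : finrank F (⊤ : Submodule F (Fin 3 → F)) = 3 := by rw [finrank_top, finrank_space]; rfl
  obtain ⟨a, -, ha, hl⟩ := exists_line_three hR hF h2 htop hr3
  set c := R a with hc
  have h2c : 2 * c ≠ 0 := mul_ne_zero h2 ha
  have hane : a ≠ 0 := fun h => ha (by rw [hc, h, QuadraticMap.map_zero])
  have hspan : ∀ x ∈ (F ∙ a), x ≠ 0 → ∃ y ∈ (F ∙ a), polar ⇑R x y ≠ 0 := by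
    intro x hx hx0
    obtain ⟨r, rfl⟩ := Submodule.mem_span_singleton.1 hx
    refine ⟨a, Submodule.mem_span_singleton_self a, ?_⟩
    rw [pl_smul_left, pl_self]
    exact mul_ne_zero (fun h => hx0 (by rw [h, zero_smul])) h2c
  set W2 := perpSub R (F ∙ a)
  have hW2 := perpSub_nondeg hR hspan
  have hW2r : finrank F W2 = 2 := by
    rw [finrank_perpSub hR, finrank_span_singleton hane]; rfl
  have hmem : ∀ y ∈ W2, polar ⇑R a y = 0 := fun y hy =>
    mem_perpSub.1 hy a (Submodule.mem_span_singleton_self a)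
  have han : ∀ y ∈ W2, R y = 0 → y = 0 := by
    intro y hy hy0
    have hay := hmem y hy
    rcases hl (a + y) trivial (by rw [Q_add, hy0, hay, add_zero, add_zero]) with h | h
    · exact disjoint_perpSub hspan (by simpa using (F ∙ a).sub_mem h (Submodule.mem_span_singleton_self a)) hy
    · exfalso
      rw [pl_add_left, pl_self, pl_comm R y a, hay, add_zero] at h
      exact h2c h
  obtain ⟨u2, hu2, hQu2⟩ := exists_Q_eq_in (Q := R) W2 hW2 hW2r.ge c
  obtain ⟨u3, ⟨hu3, hu3'⟩, hu30⟩ : ∃ z ∈ W2 ⊓ perpSub R (F ∙ u2), z ≠ 0 := by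
    refine Submodule.exists_mem_ne_zero_of_ne_bot fun h => ?_
    have := finrank_le_perp_inf hR W2 (F ∙ u2)
    have h4 : finrank F (F ∙ u2) ≤ 1 := (finrank_span_le_card {u2}).trans (by simp)
    rw [h, finrank_bot, hW2r] at this
    omega
  have h23 : polar ⇑R u2 u3 = 0 := mem_perpSub.1 hu3' _ (Submodule.mem_span_singleton_self _)
  have hQu3 : R u3 = c := by
    have he : R u3 ≠ 0 := fun h => hu30 (han u3 hu3 h)
    by_contra hne
    have hs : R u3 * R u3 = 1 := sq_eq_one_of_card_three hF he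
    have hs' : c * c = 1 := sq_eq_one_of_card_three hF ha
    have hsum : c + R u3 = 0 := by
      have : (c + R u3) * (c - R u3) = 0 := by linear_combination hs' - hs
      exact (mul_eq_zero.1 this).resolve_right (sub_ne_zero.2 (Ne.symm hne))
    have h0 := han (u2 + u3) (W2.add_mem hu2 hu3) (by rw [Q_add, hQu2, h23, add_zero, hsum])
    have h5 : polar ⇑R (u2 + u3) u2 = 0 := by rw [h0, pl_zero_left]
    rw [pl_add_left, pl_self, hQu2, pl_comm R u3 u2, h23, add_zero] at h5
    exact h2c h5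
  have hQ : ∀ i, R (![a, u2, u3] i) = c := by simp [Fin.forall_fin_succ, hQu2, hQu3, hc]
  have ho : ∀ i j, i ≠ j → polar ⇑R (![a, u2, u3] i) (![a, u2, u3] j) = 0 := by
    simp [Fin.forall_fin_succ, hmem u2 hu2, hmem u3 hu3, h23, pl_comm R u2 a, pl_comm R u3 a,
      pl_comm R u3 u2]
  refine ⟨c, ![a, u2, u3], ha, hQ, ho, fun x hx => ?_⟩
  have h := exists_coords (Q := R) hr3 ![a, u2, u3] (fun j => (2 * c)⁻¹ • ![a, u2, u3] j)
    (fun _ => trivial) (fun i j => by
      rw [pl_smul_right]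
      split_ifs with hij
      · rw [hij, pl_self, hQ, inv_mul_cancel₀ h2c]
      · rw [ho i j hij, mul_zero]) (x := x) trivial
  set α : Fin 3 → F := fun i => polar ⇑R x ((2 * c)⁻¹ • ![a, u2, u3] i)
  change x = ∑ i, α i • ![a, u2, u3] i at h
  have hR' : R x = ∑ i, R (α i • ![a, u2, u3] i) := by
    conv_lhs => rw [h]
    refine Q_sum_orth _ _ fun i _ j _ hij => ?_
    rw [pl_smul_left, pl_smul_right, ho i j hij, mul_zero, mul_zero]
  rw [hx, Finset.sum_congr rfl fun i _ => show R (α i • ![a, u2, u3] i) = α i * α i * c by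
    rw [Q_smul, hQ], ← Finset.sum_mul, Fin.sum_univ_three] at hR'
  have hsum : α 0 * α 0 + α 1 * α 1 + α 2 * α 2 = 1 := mul_right_cancel₀ ha (by rw [one_mul]; exact hR'.symm)
  have h3 : (3 : F) = 0 := by
    have := FiniteField.cast_card_eq_zero F
    rw [hF] at this
    exact_mod_cast this
  rw [Fin.sum_univ_three] at h
  have key : ∀ y : F, y ≠ 0 → y * y = 1 := fun y hy => sq_eq_one_of_card_three hF hy
  rcases eq_or_ne (α 0) 0 with a0 | a0 <;> rcases eq_or_ne (α 1) 0 with a1 | a1 <;>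
    rcases eq_or_ne (α 2) 0 with a2 | a2
  all_goals first
    | (refine ⟨0, Submodule.mem_span_singleton.2 ⟨α 0, ?_⟩⟩; rw [h, a1, a2]; simp; done)
    | (refine ⟨1, Submodule.mem_span_singleton.2 ⟨α 1, ?_⟩⟩; rw [h, a0, a2]; simp; done)
    | (refine ⟨2, Submodule.mem_span_singleton.2 ⟨α 2, ?_⟩⟩; rw [h, a0, a1]; simp; done)
    | (exfalso; simp only [a0, a1, a2, key _ a0, key _ a1, mul_zero, zero_add, add_zero] at hsum
       exact one_ne_zero (α := F) (by linear_combination hsum))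
    | (exfalso; simp only [a0, a1, a2, key _ a0, key _ a2, mul_zero, zero_add, add_zero] at hsum
       exact one_ne_zero (α := F) (by linear_combination hsum))
    | (exfalso; simp only [a0, a1, a2, key _ a1, key _ a2, mul_zero, zero_add, add_zero] at hsum
       exact one_ne_zero (α := F) (by linear_combination hsum))
    | (exfalso; rw [key _ a0, key _ a1, key _ a2] at hsum
       exact one_ne_zero (α := F) (by linear_combination h3 - hsum))

variable {ι : Type} [Fintype ι] [DecidableEq ι] [Fintype F] {Q : QuadraticForm F (ι → F)}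

theorem exists_between_tensor_three (hG : Good Q) (hF : Fintype.card F = 3) (h2 : (2 : F) ≠ 0)
    (hn : 6 ≤ Fintype.card ι) {n₂ : ℕ} (hn2 : 3 < n₂) (e : ι ≃ Fin 3 × Fin n₂) (P : GL ι F)
    {f₁ : (Fin 3 → F) → (Fin 3 → F) → F} {f₂ : (Fin n₂ → F) → (Fin n₂ → F) → F}
    (hf₁ : Geo.IsSymmetricForm f₁) (hf₂ : Geo.IsSymmetricForm f₂)
    (hT : Geo.IsTensorFormStructure id (polar ⇑Q) f₁ f₂ e P) :
    ∃ K : Subgroup (GL ι F), Geo.tensorProductSubgroup 3 n₂ e P ⊓ Geo.omegaGL ⇑Q < K ∧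
      K < Geo.omegaGL ⇑Q := by
  classical
  obtain ⟨κ, hκ, htp⟩ := Transvect.form_tp (σ := id) (fun _ _ => rfl) (formOfGram_eq hf₁.bilinear)
    (formOfGram_eq hf₂.bilinear) hT
  let B1 : LinearMap.BilinForm F (Fin 3 → F) := LinearMap.mk₂ F f₁ (fun a b c => hf₁.bilinear.add_left a b c)
    (fun r a b => hf₁.bilinear.smul_left r a b) (fun a b c => hf₁.bilinear.add_right a b c)
    (fun r a b => hf₁.bilinear.smul_right r a b)
  let R : QuadraticForm F (Fin 3 → F) := B1.toQuadraticMap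
  have hRf : ∀ x, R x = f₁ x x := fun x => rfl
  have hRp : ∀ x y, polar ⇑R x y = 2 * f₁ x y := fun x y => by
    simp only [polar, hRf]
    rw [hf₁.bilinear.add_left, hf₁.bilinear.add_right, hf₁.bilinear.add_right, hf₁.symm y x]
    ring
  have hRnd : R.polarBilin.Nondegenerate := by
    constructor <;>
    · intro x hx
      by_contra h
      obtain ⟨⟨y, hy⟩, ⟨z, hz⟩⟩ := hf₁.nondegenerate x h
      have := hx y
      simp only [QuadraticMap.polarBilin_apply_apply, hRp] at this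
      first
        | exact hy ((mul_eq_zero.1 this).resolve_left h2)
        | exact hy ((hf₁.symm y x).trans ((mul_eq_zero.1 this).resolve_left h2))
  obtain ⟨d, u, hd, hQu, hou', hline⟩ := exists_orth_frame_three hF h2 hRnd
  have hu1 : ∀ i, f₁ (u i) (u i) = d := fun i => by rw [← hRf, hQu]
  have hou : ∀ i j, i ≠ j → f₁ (u i) (u j) = 0 := fun i j h => by
    have := hou' i j h
    rw [hRp] at this
    exact (mul_eq_zero.1 this).resolve_left h2
  let J : Fin 3 → (Fin n₂ → F) →ₗ[F] (ι → F) := fun k => Transvect.tp e P (u k)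
  have hJJ : ∀ k l v w, polar ⇑Q (J k v) (J l w) = if k = l then κ * d * f₂ v w else 0 := by
    intro k l v w
    rw [htp]
    split_ifs with h
    · rw [h, hu1]; ring
    · rw [hou k l h]; ring
  have hnd2 : ∀ v, v ≠ 0 → ∃ w, f₂ v w ≠ 0 := fun v hv => (hf₂.nondegenerate v hv).2
  have hJinj : ∀ k, Function.Injective (J k) := fun k => (injective_iff_map_eq_zero _).2 fun v hv => by
    by_contra h0
    obtain ⟨w, hw⟩ := hnd2 v h0
    have := hJJ k k v w
    rw [hv, pl_zero_left, if_pos rfl] at this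
    exact mul_ne_zero (mul_ne_zero hκ hd) hw this.symm
  let D : Fin 3 → Submodule F (ι → F) := fun k => LinearMap.range (J k)
  have hDnd : ∀ k, ∀ x ∈ D k, x ≠ 0 → ∃ y ∈ D k, polar ⇑Q x y ≠ 0 := by
    rintro k _ ⟨v, rfl⟩ hx
    obtain ⟨w, hw⟩ := hnd2 v fun h => hx (by rw [h, map_zero])
    exact ⟨J k w, ⟨w, rfl⟩, by rw [hJJ, if_pos rfl]; exact mul_ne_zero (mul_ne_zero hκ hd) hw⟩
  have hDo : ∀ k l, k ≠ l → ∀ x ∈ D k, ∀ y ∈ D l, polar ⇑Q x y = 0 := by
    rintro k l hkl _ ⟨v, rfl⟩ _ ⟨w, rfl⟩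
    rw [hJJ, if_neg hkl]
  have hDr : ∀ k, finrank F (D k) = n₂ := fun k => by
    rw [LinearMap.finrank_range_of_inj (hJinj k)]; simp
  -- the element in `K`
  obtain ⟨a, ha, hQa⟩ := exists_Q_eq_in (Q := Q) (D 0) (hDnd 0) (by rw [hDr]; omega) 1
  have ha0 : a ≠ 0 := fun h => one_ne_zero (α := F) (by rw [← hQa, h, QuadraticMap.map_zero])
  obtain ⟨b, hb, hQb, hab⟩ := exists_quad_affine hG.nd (hDnd 0) (P := F ∙ a)
    ((Submodule.span_singleton_le_iff_mem _ _).2 ha)
    (by rw [hDr, finrank_span_singleton ha0]; omega) (D 0).zero_mem 1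
  have hba : polar ⇑Q b a = 0 := by rw [hab a (Submodule.mem_span_singleton_self a), pl_zero_left]
  obtain ⟨y, ⟨hy, hy'⟩, hy0⟩ : ∃ z ∈ D 0 ⊓ perpSub Q ((F ∙ a) ⊔ (F ∙ b)), z ≠ 0 := by
    refine Submodule.exists_mem_ne_zero_of_ne_bot fun h => ?_
    have := finrank_le_perp_inf hG.nd (D 0) ((F ∙ a) ⊔ (F ∙ b))
    have h1 := Submodule.finrank_sup_add_finrank_inf_eq (F ∙ a) (F ∙ b)
    have h3 : finrank F (F ∙ a) ≤ 1 := (finrank_span_le_card {a}).trans (by simp)
    have h4 : finrank F (F ∙ b) ≤ 1 := (finrank_span_le_card {b}).trans (by simp)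
    rw [h, finrank_bot, hDr] at this
    omega
  set g := refl Q a * refl Q b with hg
  have hgΩ : g ∈ Omega F ⇑Q := refl_pair_mem_omega hG (by rw [hQa]; exact one_ne_zero) (by rw [hQa, hQb])
  have gfix : ∀ x, polar ⇑Q a x = 0 → polar ⇑Q b x = 0 → ap g x = x := fun x h1 h2' => by
    rw [hg, ap_mul, refl_ap_of_orth Q h2', refl_ap_of_orth Q h1]
  have ga : ap g a = -a := by
    rw [hg, ap_mul, refl_ap_of_orth Q hba, refl_ap_self Q (by rw [hQa]; exact one_ne_zero)]
  have gy : ap g y = y := gfix y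
    (mem_perpSub.1 hy' a (Submodule.mem_sup_left (Submodule.mem_span_singleton_self _)))
    (mem_perpSub.1 hy' b (Submodule.mem_sup_right (Submodule.mem_span_singleton_self _)))
  have gD : ∀ k, k ≠ 0 → ∀ x ∈ D k, ap g x = x := fun k hk x hx =>
    gfix x (hDo 0 k (Ne.symm hk) a ha x hx) (hDo 0 k (Ne.symm hk) b hb x hx)
  let N : Set (ι → F) := {x | ∃ k, x ∈ D k}
  have hgN : ∀ x ∈ N, ap g x ∈ N := by
    rintro x ⟨k, hx⟩
    by_cases hk : k = 0
    · subst hk; exact ⟨0, by rw [hg, ap_mul]; exact refl_ap_mem ha (refl_ap_mem hb hx)⟩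
    · exact ⟨k, by rw [gD k hk x hx]; exact hx⟩
  have happ : ∀ (h : IsoGrp Q) x, Transvect.app (h : GL ι F) x = ap h x := fun h x => rfl
  have hgH : (g : GL ι F) ∉ Geo.tensorProductSubgroup 3 n₂ e P := by
    intro hmem
    obtain ⟨A, B, hAB⟩ := Transvect.exists_app_tp hmem
    have hAB' : ∀ k v, ap g (J k v) = Transvect.tp e P (Transvect.app A (u k)) (Transvect.app B v) :=
      fun k v => hAB (u k) v
    have e1 : ∀ v w, f₁ (Transvect.app A (u 1)) (u 1) * f₂ (Transvect.app B v) w = d * f₂ v w := by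
      intro v w
      have := congrArg (fun x => polar ⇑Q x (J 1 w)) (hAB' 1 v)
      simp only [gD 1 (by decide) _ ⟨v, rfl⟩, htp, J, hu1] at this
      exact (mul_left_cancel₀ hκ this).symm
    set α := f₁ (Transvect.app A (u 1)) (u 1)
    have e2 : ∀ v w, α * f₂ (Transvect.app B v) w = d * f₂ v w := e1
    obtain ⟨va, rfl⟩ := ha
    obtain ⟨vy, rfl⟩ := hy
    have e3 : ∀ v (s : F), ap g (J 0 v) = s • J 0 v → v ≠ 0 →
        f₁ (Transvect.app A (u 0)) (u 0) * d = s * d * α := by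
      intro v s hs hv
      obtain ⟨w, hw⟩ := hnd2 v hv
      have := congrArg (fun x => polar ⇑Q x (J 0 w)) (hAB' 0 v)
      simp only [hs, pl_smul_left, htp, J, hu1] at this
      have h5 : s * d * f₂ v w = f₁ (Transvect.app A (u 0)) (u 0) * f₂ (Transvect.app B v) w :=
        mul_left_cancel₀ hκ (by linear_combination this)
      have h6 : (f₁ (Transvect.app A (u 0)) (u 0) * d - s * d * α) * f₂ v w = 0 := by
        linear_combination (-f₁ (Transvect.app A (u 0)) (u 0)) * e2 v w - α * h5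
      exact sub_eq_zero.1 ((mul_eq_zero.1 h6).resolve_right hw)
    have hα : α ≠ 0 := by
      intro h
      obtain ⟨w, hw⟩ := hnd2 vy (fun h => hy0 (by rw [h, map_zero]))
      have := e2 vy w
      rw [h, zero_mul] at this
      exact mul_ne_zero hd hw this.symm
    have h7 := e3 va (-1) (by rw [ga, neg_one_smul]) (fun h => ha0 (by rw [h, map_zero]))
    have h8 := e3 vy 1 (by rw [gy, one_smul]) (fun h => hy0 (by rw [h, map_zero]))
    rw [h7] at h8
    exact mul_ne_zero h2 (mul_ne_zero hd hα) (by linear_combination -h8)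
  -- the element outside `K`
  obtain ⟨z, hz, hz0, hQz⟩ := exists_ne_zero_Q_eq (hDnd 1) (by rw [hDr]; omega) 0
  have hQw : Q (a + z) = 1 := by rw [Q_add, hQa, hQz, hDo 0 1 (by decide) a ha z hz]; ring
  have hwN : a + z ∉ N := by
    rintro ⟨k, hk⟩
    by_cases hk0 : k = 0
    · subst hk0
      have hz' : z ∈ D 0 := by simpa using (D 0).sub_mem hk ha
      obtain ⟨y', hy'', hzy⟩ := hDnd 1 z hz hz0
      exact hzy (hDo 0 1 (by decide) z hz' y' hy'')
    · have := hDo k 0 hk0 _ hk a ha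
      rw [pl_add_left, pl_self, hQa, hDo 1 0 (by decide) z hz a ha, add_zero, mul_one] at this
      exact h2 this
  obtain ⟨g', hg', -, -, hg'w⟩ := exists_omega_transit hG (W := ⊤) (fun x _ hx => by
      obtain ⟨y, hy⟩ := exists_polar_ne hG.nd hx
      exact ⟨y, trivial, hy⟩) (by rw [finrank_top, finrank_space]; omega)
    (w := a) trivial ha0 (w1 := a + z) trivial
    (fun h => one_ne_zero (α := F) (by rw [← hQw, h, QuadraticMap.map_zero])) (by rw [hQw, hQa])
  refine exists_between N _ (fun h _ hh x hx => ?_) hgΩ hgN hgH hg' (w := a) ⟨0, ha⟩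
    (by rw [hg'w]; exact hwN)
  obtain ⟨k, v, rfl⟩ := hx
  obtain ⟨A, B, hAB⟩ := Transvect.exists_app_tp hh
  obtain ⟨v0, w0, hvw⟩ : ∃ v w, f₂ v w ≠ 0 :=
    ⟨Pi.single ⟨0, by omega⟩ 1, hnd2 _ (by simp)⟩
  set ν := f₂ (Transvect.app B v0) (Transvect.app B w0)
  have hsim : ∀ x x', f₁ (Transvect.app A x) (Transvect.app A x') * ν = f₁ x x' * f₂ v0 w0 := by
    intro x x'
    have := polar_ap h (Transvect.tp e P x v0) (Transvect.tp e P x' w0)
    rw [← happ, ← happ, hAB, hAB, htp, htp] at this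
    exact mul_left_cancel₀ hκ this
  have hν : ν ≠ 0 := fun h0 => by
    have := hsim (u 0) (u 0)
    rw [h0, mul_zero, hu1] at this
    exact mul_ne_zero hd hvw this.symm
  set μ := f₂ v0 w0 / ν with hμ
  have hμ0 : μ ≠ 0 := div_ne_zero hvw hν
  have hsim' : ∀ x x', f₁ (Transvect.app A x) (Transvect.app A x') = μ * f₁ x x' := fun x x' => by
    rw [hμ, div_mul_eq_mul_div, eq_div_iff hν, hsim, mul_comm]
  -- the multiplier is one
  have hμ1 : μ = 1 := by
    set G := Geo.gramMatrix f₁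
    have hG' : (A : Matrix (Fin 3) (Fin 3) F)ᵀ * G * (A : Matrix (Fin 3) (Fin 3) F) = μ • G := by
      ext i j
      have := hsim' (Pi.single i 1) (Pi.single j 1)
      rw [Matrix.smul_apply, smul_eq_mul]
      refine Eq.trans ?_ this
      rw [← formOfGram_eq hf₁.bilinear, Geo.formOfGram]
      simp only [Matrix.mul_apply, Matrix.transpose_apply, Transvect.app_apply, Matrix.mulVec_single_one,
        Matrix.col_apply, id, Finset.sum_mul]
      exact Finset.sum_comm
    have hdetG : G.det ≠ 0 := fun h0 => by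
      obtain ⟨y, hy0', hy1⟩ := Matrix.exists_mulVec_eq_zero_iff.2 h0
      obtain ⟨⟨x, hx⟩, -⟩ := hf₁.nondegenerate y hy0'
      refine hx ?_
      rw [← formOfGram_eq hf₁.bilinear, Geo.formOfGram]
      have e4 : ∀ i, ∑ j, G i j * y j = 0 := fun i => congrFun hy1 i
      simp only [id]
      refine Finset.sum_eq_zero fun i _ => ?_
      rw [Finset.sum_congr rfl fun j _ => mul_assoc (x i) (G i j) (y j), ← Finset.mul_sum, e4, mul_zero]
    have := congrArg Matrix.det hG'
    rw [Matrix.det_mul, Matrix.det_mul, Matrix.det_transpose, Matrix.det_smul, Fintype.card_fin] at this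
    have hA0 : (A : Matrix (Fin 3) (Fin 3) F).det ≠ 0 := (Matrix.GeneralLinearGroup.det A).ne_zero
    have h9 : μ ^ 3 = 1 := mul_right_cancel₀ hdetG (by
      rw [one_mul, ← this, mul_right_comm, sq_eq_one_of_card_three hF hA0, one_mul])
    rw [pow_succ, sq, sq_eq_one_of_card_three hF hμ0, one_mul] at h9
    exact h9
  obtain ⟨i, hi⟩ := hline (Transvect.app A (u k)) (by rw [hRf, hsim', hμ1, one_mul, hu1])
  obtain ⟨r, hr⟩ := Submodule.mem_span_singleton.1 hi
  refine ⟨i, r • Transvect.app B v, ?_⟩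
  show J i (r • Transvect.app B v) = ap h (J k v)
  rw [← happ]
  show _ = Transvect.app (h : GL ι F) (Transvect.tp e P (u k) v)
  rw [hAB, ← hr, map_smul, map_smul, LinearMap.smul_apply]

end Cfsg.Agent.Orth
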