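import Cfsg.Agent.Lib.Orth.Geo
import Cfsg.Agent.Lib.OrthAct.MaxClass

/-!
# Maximal totally singular subspaces in plus type

* `map_eq_of_dick_one` : an element of Dickson sign `1` fixes a maximal singular `U` if it moves it by at most one
* `exists_omega_move_max` : some element of `Ω` moves a given non-zero singular subspace
* `submaximal_stabilizer_not_maximal`, `pair_stabilizer_not_maximal`
-/

set_option autoImplicit false

namespace Cfsg.Agent.Orth

open Cfsg Matrix Module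
open QuadraticMap (polar)

variable {ι : Type} [Fintype ι] [DecidableEq ι] {F : Type*} [Field F] [Fintype F]
variable {Q : QuadraticForm F (ι → F)}

theorem finrank_map_ap (g : IsoGrp Q) (U : Submodule F (ι → F)) :
    finrank F (U.map (ap g)) = finrank F U :=
  (Submodule.equivMapOfInjective (ap g) (fun a b h => ap_inj g h) U).finrank_eq.symm

/-- Dickson sign `1` forbids moving a maximal singular subspace to a neighbour. -/
theorem map_eq_of_dick_one (hG : Good Q) {m : ℕ} (hι : Fintype.card ι = 2 * m)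
    {U : Submodule F (ι → F)} (hUm : finrank F U = m) (hU : ∀ u ∈ U, Q u = 0) {g : IsoGrp Q}
    (hg : dick g = 1) {W : Submodule F (ι → F)} (hWm : m ≤ finrank F W + 1) (hWU : W ≤ U)
    (hW : W ≤ U.map (ap g)) : U.map (ap g) = U := by
  have h1 : finrank F W ≤ finrank F (U ⊓ U.map (ap g) : Submodule F (ι → F)) :=
    Submodule.finrank_mono (le_inf hWU hW)
  have h2 : finrank F (U ⊓ U.map (ap g) : Submodule F (ι → F)) ≤ m :=
    hUm ▸ Submodule.finrank_mono inf_le_left
  have h3 := OrthAct.dick_eq_parity hG hι hUm hU g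
  rw [hg] at h3
  rcases (by omega : finrank F (U ⊓ U.map (ap g) : Submodule F (ι → F)) + 1 = m ∨
      finrank F (U ⊓ U.map (ap g) : Submodule F (ι → F)) = m) with h | h
  · rw [show m - finrank F (U ⊓ U.map (ap g) : Submodule F (ι → F)) = 1 by omega, pow_one] at h3
    norm_num at h3
  · have e1 : U ⊓ U.map (ap g) = U :=
      Submodule.eq_of_le_of_finrank_eq inf_le_left (h.trans hUm.symm)
    exact (Submodule.eq_of_le_of_finrank_eq (inf_eq_left.1 e1) (finrank_map_ap g U).symm).symm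

/-- Some element of `Ω` moves a non-zero singular subspace. -/
theorem exists_omega_move_max (hG : Good Q) (hn : 4 ≤ Fintype.card ι) {U : Submodule F (ι → F)}
    (hU0 : U ≠ ⊥) (hU : ∀ u ∈ U, Q u = 0) :
    ∃ g : IsoGrp Q, g ∈ Omega F ⇑Q ∧ ∃ x ∈ U, ap g x ∉ U := by
  classical
  obtain ⟨e, heU, he0⟩ := Submodule.exists_mem_ne_zero_of_ne_bot hU0
  obtain ⟨f, hf⟩ := exists_hpair_left hG.nd (hU e heU) he0
  have hd : 2 ≤ finrank F (perp Q e f) := by
    have := card_le_finrank_perp (Q := Q) e f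
    omega
  obtain ⟨v, hv, hQv⟩ := exists_Q_eq_in (Q := Q) (perp Q e f)
    (fun x hx hx0 => hf.perp_nondeg hG.nd hx hx0) hd 1
  have h1 : Q (e + f) = 1 := by rw [Q_add, hf.qe, hf.qf, hf.pf]; ring
  refine ⟨refl Q v * refl Q (e + f), (mem_omega_iff hG _).2 ⟨?_, ?_⟩, e, heU, fun hmem => ?_⟩
  · rw [dick_refl_mul hG.nd _ (by rw [hQv]; exact one_ne_zero),
      dick_refl hG.nd (by rw [h1]; exact one_ne_zero)]
    norm_num
  · rw [spin_refl_mul hG.nd _ (by rw [hQv]; exact one_ne_zero),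
      spin_refl hG.nd (by rw [h1]; exact one_ne_zero), h1, hQv, map_one, mul_one]
  · have hee : polar ⇑Q e e = 0 := by rw [pl_self, hf.qe, mul_zero]
    have hfe : polar ⇑Q f e = 1 := by rw [pl_comm]; exact hf.pf
    have e1 : ap (refl Q (e + f)) e = -f := by
      rw [refl_ap, h1, inv_one, one_mul, pl_add_left, hee, hfe, zero_add, one_smul]
      abel
    have e2 : polar ⇑Q v (-f) = 0 := by rw [pl_neg_right, pl_comm, (mem_perp.1 hv).2, neg_zero]
    rw [ap_mul, e1, refl_ap_of_orth Q e2] at hmem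
    have := OrthAct.polar_eq_zero_of_singular hU heU (neg_mem_iff.1 hmem)
    rw [hf.pf] at this
    exact one_ne_zero this

theorem submaximal_stabilizer_not_maximal (hG : Good Q) {m : ℕ} (hι : Fintype.card ι = 2 * m)
    (hm : 2 ≤ m) {U0 : Submodule F (ι → F)} (hU0m : finrank F U0 = m) (hU0 : ∀ u ∈ U0, Q u = 0)
    {W : Submodule F (ι → F)} (hW : ∀ w ∈ W, Q w = 0) (hWm : finrank F W + 1 = m) :
    ∃ K : Subgroup (GL ι F),
      Geo.subspaceStabilizer W ⊓ Geo.omegaGL ⇑Q < K ∧ K < Geo.omegaGL ⇑Q := by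
  classical
  -- a maximal singular subspace above `W`
  have hex : ∃ W1 ≤ U0, finrank F W1 = finrank F W := by
    let b := Module.finBasis F U0
    refine ⟨Submodule.span F (Set.range fun i : Fin (finrank F W) =>
      ((b (Fin.castLE (by omega) i)) : ι → F)), Submodule.span_le.2 ?_, ?_⟩
    · rintro _ ⟨i, rfl⟩; exact (b _).2
    · have hli : LinearIndependent F (fun i : Fin (finrank F W) =>
          ((b (Fin.castLE (by omega) i)) : ι → F)) :=
        ((b.linearIndependent.comp _ (Fin.castLE_injective _)).map' U0.subtype (Submodule.ker_subtype U0))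
      rw [finrank_span_eq_card hli, Fintype.card_fin]
  obtain ⟨W1, hW1U, hW1d⟩ := hex
  obtain ⟨g0, -, hg0⟩ := OrthAct.exists_iso_map hG.nd (LinearEquiv.ofFinrankEq W1 W hW1d)
    (fun x => by rw [hW _ (Submodule.coe_mem _), hU0 _ (hW1U x.2)])
  set U := U0.map (ap g0) with hUdef
  have hUm : finrank F U = m := (finrank_map_ap g0 U0).trans hU0m
  have hU : ∀ u ∈ U, Q u = 0 := by
    rintro _ ⟨u, hu, rfl⟩; rw [Q_ap, hU0 u hu]
  have hWU : W ≤ U := hg0 ▸ Submodule.map_mono hW1U
  have hUne : U ≠ ⊥ := fun h => by rw [h, finrank_bot] at hUm; omega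
  refine ⟨Geo.subspaceStabilizer U ⊓ Geo.omegaGL ⇑Q, lt_of_le_of_ne ?_ ?_, lt_of_le_of_ne inf_le_right ?_⟩
  · intro g hg
    obtain ⟨h, hh, rfl⟩ := mem_omegaGL_iff.1 hg.2
    refine ⟨coe_mem_stabilizer.2 fun u hu => ?_, hg.2⟩
    have hWh : W ≤ U.map (ap h) := by
      have := OrthAct.map_ap_eq_of_mapsTo (coe_mem_stabilizer.1 hg.1)
      rw [← this]; exact Submodule.map_mono hWU
    have := map_eq_of_dick_one hG hι hUm hU ((mem_omega_iff hG h).1 hh).1 (by omega) hWU hWh
    rw [← this]; exact Submodule.mem_map_of_mem hu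
  · intro heq
    obtain ⟨w, hwW, hw0⟩ := Submodule.exists_mem_ne_zero_of_ne_bot (p := W) (fun h => by
      rw [h, finrank_bot] at hWm; omega)
    obtain ⟨x, hx⟩ := exists_polar_ne hG.nd hw0
    set W' := U ⊓ LinearMap.ker (Q.polarBilin x) with hW'
    have hwW' : w ∉ W' := fun h => hx (by rw [pl_comm]; exact h.2)
    have hd : finrank F W' = finrank F W := by
      have h1 := Submodule.finrank_sup_add_finrank_inf_eq U (LinearMap.ker (Q.polarBilin x))
      have h2 := LinearMap.finrank_range_add_finrank_ker (Q.polarBilin x)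
      have h3 := Submodule.finrank_le (LinearMap.range (Q.polarBilin x))
      have h4 := Submodule.finrank_le (U ⊔ LinearMap.ker (Q.polarBilin x))
      rw [Module.finrank_self] at h3
      rw [finrank_space] at h2 h4
      have h5 : finrank F W' < finrank F U :=
        Submodule.finrank_lt_finrank_of_lt (lt_of_le_of_ne inf_le_left fun h => hwW' (h ▸ hWU hwW))
      rw [← hW'] at h1
      omega
    have hW'0 : ∀ u ∈ W', Q u = 0 := fun u hu => hU u hu.1
    obtain ⟨g, -, hg⟩ := OrthAct.exists_iso_map hG.nd (LinearEquiv.ofFinrankEq W W' hd.symm)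
      (fun x => by rw [hW'0 _ (Submodule.coe_mem _), hW _ x.2])
    -- correct the two signs
    obtain ⟨v, hv, hv0⟩ : ∃ v ∈ perpSub Q W', Q v ≠ 0 := by
      by_contra! h
      have h1 := two_mul_finrank_le_of_isotropic hG.nd (perpSub Q W') fun a ha b hb =>
        show polar ⇑Q a b = 0 by simp [polar, h a ha, h b hb, h _ (Submodule.add_mem _ ha hb)]
      rw [finrank_perpSub hG.nd] at h1
      omega
    obtain ⟨g1, hg1W, hg1d⟩ : ∃ g1 : IsoGrp Q, W.map (ap g1) = W' ∧ dick g1 = 1 := by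
      rcases dick_eq_or g with hd' | hd'
      · exact ⟨g, hg, hd'⟩
      · refine ⟨refl Q v * g, ?_, by rw [dick_refl_mul hG.nd _ hv0, hd']; norm_num⟩
        rw [OrthAct.map_ap_mul, hg]
        exact OrthAct.refl_map_of_orth fun a ha => by rw [pl_comm]; exact hv a ha
    obtain ⟨e, heW', he0⟩ := Submodule.exists_mem_ne_zero_of_ne_bot (p := W') (fun h => by
      rw [h, finrank_bot] at hd; omega)
    obtain ⟨f, hf⟩ := exists_hpair_left hG.nd (hW'0 e heW') he0
    obtain ⟨c, hc, hc'⟩ := OrthAct.exists_char_eq hG g1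
    set h := OrthAct.torusStab Q e f c
    have hmapU : (U.map (ap g1)).map (ap h) = U := by
      have : U.map (ap g1) = U := map_eq_of_dick_one hG hι hUm hU hg1d (W := W') (by omega) inf_le_left
        (hg1W ▸ Submodule.map_mono hWU)
      rw [this]
      exact OrthAct.torusStab_map hf hc heW'.1 fun a ha b hb => OrthAct.polar_eq_zero_of_singular hU ha hb
    have hmem : h * g1 ∈ Omega F ⇑Q := by
      refine (mem_omega_iff hG _).2 ⟨?_, ?_⟩
      · rw [dick_mul hG, OrthAct.dick_torusStab hG hf hc, hg1d, one_mul]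
      · rw [spin_mul hG, OrthAct.spin_torusStab hG hf hc, hc', ← sq]
        rcases spin_eq_or hG g1 with h' | h' <;> rw [h'] <;> norm_num
    have hK : ((h * g1 : IsoGrp Q) : GL ι F) ∈ Geo.subspaceStabilizer W ⊓ Geo.omegaGL ⇑Q := by
      rw [heq]
      refine ⟨coe_mem_stabilizer.2 fun u hu => ?_, coe_mem_omegaGL.2 hmem⟩
      rw [← hmapU, ← OrthAct.map_ap_mul]
      exact Submodule.mem_map_of_mem hu
    have h1 : W.map (ap (h * g1)) = W := OrthAct.map_ap_eq_of_mapsTo (coe_mem_stabilizer.1 hK.1)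
    rw [OrthAct.map_ap_mul, hg1W, OrthAct.torusStab_map hf hc heW'
      fun a ha b hb => OrthAct.polar_eq_zero_of_singular hW'0 ha hb] at h1
    exact hwW' (h1 ▸ hwW)
  · intro heq
    obtain ⟨g, hg, x, hx, hgx⟩ := exists_omega_move_max hG (by omega) hUne hU
    have h1 : (g : GL ι F) ∈ Geo.subspaceStabilizer U ⊓ Geo.omegaGL ⇑Q := by
      rw [heq]; exact coe_mem_omegaGL.2 hg
    exact hgx ((coe_mem_stabilizer.1 h1.1) x hx)

theorem pair_stabilizer_not_maximal (hG : Good Q) {k : ℕ} (hι : Fintype.card ι = 2 * k)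
    (hk : 3 ≤ k) (hko : Odd k) {D : Fin 2 → Submodule F (ι → F)} (hD : Geo.IsMDecomposition k D)
    (hts : ∀ i, Geo.IsTotallySingularQuad ⇑Q (D i)) :
    ∃ K : Subgroup (GL ι F),
      Geo.decompositionStabilizer D ⊓ Geo.omegaGL ⇑Q < K ∧ K < Geo.omegaGL ⇑Q := by
  classical
  have hU : ∀ u ∈ D 0, Q u = 0 := hts 0
  have hV : ∀ u ∈ D 1, Q u = 0 := hts 1
  have hdis : D 0 ⊓ D 1 = ⊥ :=
    disjoint_iff.1 (hD.indep.pairwiseDisjoint (show (0 : Fin 2) ≠ 1 by decide))
  have htop : D 0 ⊔ D 1 = ⊤ := by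
    rw [← hD.iSup_eq_top]
    refine le_antisymm (sup_le (le_iSup D 0) (le_iSup D 1)) (iSup_le fun i => ?_)
    fin_cases i
    · exact le_sup_left
    · exact le_sup_right
  have hne : D 0 ≠ ⊥ := fun h => by have := hD.finrank_eq 0; rw [h, finrank_bot] at this; omega
  refine ⟨Geo.subspaceStabilizer (D 0) ⊓ Geo.omegaGL ⇑Q, lt_of_le_of_ne ?_ ?_, lt_of_le_of_ne inf_le_right ?_⟩
  · intro g hg
    obtain ⟨h, hh, rfl⟩ := mem_omegaGL_iff.1 hg.2
    obtain ⟨σ, hσ⟩ := hg.1
    have hmap : (D 0).map (ap h) = D (σ 0) := by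
      rw [← hσ 0]
      ext x
      simp [Submodule.mem_map, ap_apply]
    have h0 : σ 0 = 0 := by
      by_contra hne'
      have h1 : σ 0 = 1 := by omega
      have h3 := OrthAct.dick_eq_parity hG hι (hD.finrank_eq 0) hU h
      rw [hmap, h1, hdis, finrank_bot, Nat.sub_zero, hko.neg_one_pow, ((mem_omega_iff hG h).1 hh).1] at h3
      norm_num at h3
    rw [h0] at hmap
    refine ⟨coe_mem_stabilizer.2 fun u hu => ?_, hg.2⟩
    rw [← hmap]; exact Submodule.mem_map_of_mem hu
  · intro heq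
    obtain ⟨u, huU, hu0⟩ := Submodule.exists_mem_ne_zero_of_ne_bot hne
    obtain ⟨x, hxV, hux⟩ : ∃ x ∈ D 1, polar ⇑Q u x ≠ 0 := by
      by_contra! hall
      obtain ⟨y, hy⟩ := exists_polar_ne hG.nd hu0
      obtain ⟨a, ha, b, hb, rfl⟩ := Submodule.mem_sup.1 (htop.symm ▸ Submodule.mem_top : y ∈ D 0 ⊔ D 1)
      exact hy (by rw [pl_add_right, OrthAct.polar_eq_zero_of_singular hU huU ha, hall b hb, add_zero])
    obtain ⟨w, hwU, hwu⟩ : ∃ w ∈ D 0, w ∉ (F ∙ u) := by
      by_contra! hall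
      have := Submodule.finrank_mono (show D 0 ≤ F ∙ u from hall)
      rw [hD.finrank_eq 0, finrank_span_singleton hu0] at this
      omega
    have huw : polar ⇑Q u w = 0 := OrthAct.polar_eq_zero_of_singular hU huU hwU
    have hmem : eich Q u w ∈ Omega F ⇑Q :=
      eichGen_le_omega hG.nd (by omega) (.inr (by omega)) (Subgroup.subset_closure ⟨u, w, rfl⟩)
    have hK : ((eich Q u w : IsoGrp Q) : GL ι F) ∈ Geo.decompositionStabilizer D ⊓ Geo.omegaGL ⇑Q := by
      rw [heq]
      refine ⟨coe_mem_stabilizer.2 fun y hy => ?_, coe_mem_omegaGL.2 hmem⟩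
      rw [eich_ap (hU u huU) huw]
      exact (D 0).sub_mem ((D 0).add_mem hy ((D 0).smul_mem _ hwU)) ((D 0).smul_mem _ huU)
    obtain ⟨σ, hσ⟩ := hK.1
    have hσ0 : ap (eich Q u w) x ∈ D (σ 1) := by
      rw [← hσ 1]
      exact ⟨x, hxV, by simp [ap_apply]⟩
    have hstay : σ 1 = 1 := by
      by_contra h
      rw [show σ 1 = 0 by omega, eich_ap (hU u huU) huw] at hσ0
      have hx0 : x ∈ D 0 := by
        have h' := (D 0).sub_mem ((D 0).add_mem hσ0 ((D 0).smul_mem (polar ⇑Q w x + Q w * polar ⇑Q u x) huU))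
          ((D 0).smul_mem (polar ⇑Q u x) hwU)
        rwa [sub_add_cancel, add_sub_cancel_right] at h'
      have : x = 0 := (Submodule.mem_bot F).1 (hdis ▸ ⟨hx0, hxV⟩)
      exact hux (by rw [this, pl_zero_right])
    rw [hstay, eich_ap (hU u huU) huw, add_sub_assoc, Submodule.add_mem_iff_right _ hxV] at hσ0
    have h0 := (Submodule.mem_bot F).1 (hdis ▸ ⟨(D 0).sub_mem ((D 0).smul_mem _ hwU) ((D 0).smul_mem _ huU), hσ0⟩ :
      polar ⇑Q u x • w - (polar ⇑Q w x + Q w * polar ⇑Q u x) • u ∈ (⊥ : Submodule F (ι → F)))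
    refine hwu ?_
    rw [sub_eq_zero] at h0
    exact (Submodule.smul_mem_iff _ hux).1 (h0 ▸ Submodule.smul_mem _ _ (Submodule.mem_span_singleton_self u))
  · intro heq
    obtain ⟨g, hg, x, hx, hgx⟩ := exists_omega_move_max hG (by omega) hne hU
    have h1 : (g : GL ι F) ∈ Geo.subspaceStabilizer (D 0) ⊓ Geo.omegaGL ⇑Q := by
      rw [heq]; exact coe_mem_omegaGL.2 hg
    exact hgx ((coe_mem_stabilizer.1 h1.1) x hx)

end Cfsg.Agent.Orth
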