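import Cfsg.Agent.Lib.Orth.Parabolic
import Cfsg.Agent.Lib.Orth.Models
import Cfsg.Agent.Lib.Forms.Bases
import Cfsg.Agent.Lib.Forms.Count
import Cfsg.Agent.Lib.Restrict.Basic
import Mathlib.FieldTheory.Finite.Trace
import Mathlib.FieldTheory.Finite.Extension
import Mathlib.RingTheory.Trace.Basic
import Mathlib.GroupTheory.Perm.Cycle.Type

/-!
# Fixed-point-free elements of prime order in orthogonal groups of even dimension

* `mem_omega_of_odd_pow` : elements of odd order lie in `Ω`
* `exists_isoGrp_of_preserve` : isometries from linear maps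
* `exists_fpf_plus`, `exists_fpf_minus` : orders dividing `q^d - 1`, `q^d + 1`
* `card_points_mul` : non-singular points and non-singular vectors
* `exists_fixed_of_involution` : involutions of `Ω` fixing a non-singular vector
-/

set_option autoImplicit false
set_option linter.unusedSectionVars false

namespace Cfsg.Agent.Orth

open Cfsg Matrix Module
open QuadraticMap (polar)

variable {ι : Type} [Fintype ι] [DecidableEq ι] {F : Type*} [Field F] [Fintype F]
variable {Q : QuadraticForm F (ι → F)}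

theorem mem_omega_of_odd_pow (hG : Good Q) {g : IsoGrp Q} {r : ℕ} (hr : Odd r) (hg : g ^ r = 1) :
    g ∈ Omega F ⇑Q := by
  classical
  refine (mem_omega_iff hG g).2 ⟨?_, ?_⟩
  · have h1 : dick g ^ r = 1 := by
      rw [← dickHom_apply hG, ← map_pow, hg, map_one]
    rcases dick_eq_or g with h | h
    · exact h
    · rw [h, hr.neg_one_pow] at h1; exact absurd h1 (by norm_num)
  · have h1 : spin g ^ r = 1 := by
      rw [← spinHom_apply hG, ← map_pow, hg, map_one]
    rcases spin_eq_or hG g with h | h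
    · exact h
    · rw [h, hr.neg_one_pow] at h1; exact absurd h1 (by norm_num)

theorem ap_pow (g : IsoGrp Q) (n : ℕ) : ap (g ^ n) = ap g ^ n := by
  induction n with
  | zero => exact LinearMap.ext fun x => by simp
  | succ n ih => refine LinearMap.ext fun x => ?_; rw [pow_succ, pow_succ, ap_mul, ih, Module.End.mul_apply]

theorem exists_isoGrp_of_preserve (hQ : Q.polarBilin.Nondegenerate) (T : (ι → F) →ₗ[F] (ι → F))
    (hT : ∀ x, Q (T x) = Q x) : ∃ g : IsoGrp Q, ap g = T := by
  have hinj : Function.Injective T := (injective_iff_map_eq_zero T).2 fun x hx => by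
    by_contra hx0
    obtain ⟨y, hy⟩ := exists_polar_ne hQ hx0
    refine hy ?_
    rw [show polar ⇑Q x y = polar ⇑Q (T x) (T y) by simp only [polar, ← map_add, hT], hx, pl_zero_left]
  have hunit : IsUnit (LinearMap.toMatrix' T) := by
    rw [← Matrix.mulVec_injective_iff_isUnit]
    intro a b hab
    exact hinj (by rwa [LinearMap.toMatrix'_mulVec, LinearMap.toMatrix'_mulVec] at hab)
  refine ⟨⟨hunit.unit, fun x _ => ?_⟩, LinearMap.ext fun x => LinearMap.toMatrix'_mulVec T x⟩
  show Q (LinearMap.toMatrix' T *ᵥ x) = Q x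
  rw [LinearMap.toMatrix'_mulVec, hT]

/-- The data used by the statements: an element of `Ω` of order `r` without fixed vectors. -/
theorem exists_omega_fpf (hG : Good Q) {r : ℕ} (hr : Odd r) (T : (ι → F) →ₗ[F] (ι → F))
    (hT : ∀ x, Q (T x) = Q x) (hTr : T ^ r = 1) (hfix : ∀ x, T x = x → x = 0) :
    ∃ g : IsoGrp Q, g ∈ Omega F ⇑Q ∧ g ^ r = 1 ∧ ∀ x, ap g x = x → x = 0 := by
  obtain ⟨g, hg⟩ := exists_isoGrp_of_preserve hG.nd T hT
  have hgr : g ^ r = 1 := ext_ap fun x => by rw [ap_pow, hg, hTr, ap_one, Module.End.one_apply]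
  exact ⟨g, mem_omega_of_odd_pow hG hr hgr, hgr, fun x hx => hfix x (by rwa [hg] at hx)⟩

theorem exists_unit_orderOf (K : Type*) [Field K] [Finite K] {r : ℕ} [Fact r.Prime]
    (h : r ∣ Nat.card K - 1) : ∃ z : Kˣ, orderOf z = r :=
  exists_prime_orderOf_dvd_card' r (by rwa [Nat.card_units])

/-- An isometry of the hyperbolic space without fixed vectors. -/
theorem exists_fpf_plus (d : ℕ) [NeZero d] {r : ℕ} [hr : Fact r.Prime] (hdvd : r ∣ Fintype.card F ^ d - 1) :
    ∃ T : (Fin d ⊕ Fin d → F) →ₗ[F] (Fin d ⊕ Fin d → F),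
      (∀ x, quadFormPlus d F (T x) = quadFormPlus d F x) ∧ T ^ r = 1 ∧ ∀ x, T x = x → x = 0 := by
  classical
  obtain ⟨p, hp⟩ := CharP.exists F
  haveI : Fact p.Prime := ⟨CharP.char_is_prime F p⟩
  let K := FiniteField.Extension F p d
  obtain ⟨z, hz⟩ := exists_unit_orderOf K (r := r)
    (by rw [FiniteField.natCard_extension F p d, Nat.card_eq_fintype_card]; exact hdvd)
  have hzr : (z : K) ^ r = 1 := by rw [← Units.val_pow_eq_pow_val, ← hz, pow_orderOf_eq_one, Units.val_one]
  have hz1 : (z : K) - 1 ≠ 0 := sub_ne_zero.2 fun h => hr.out.ne_one (by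
    rw [← hz, show z = 1 from Units.ext h, orderOf_one])
  let b : Basis (Fin d) F K := Module.finBasisOfFinrankEq F K (FiniteField.finrank_extension F p d)
  set A := Algebra.leftMulMatrix b (z : K) with hA
  have hAr : A ^ r = 1 := by rw [hA, ← map_pow, hzr, map_one]
  have hA1 : IsUnit (A - 1) := by
    rw [hA, ← map_one (Algebra.leftMulMatrix b), ← map_sub]
    exact (isUnit_iff_ne_zero.2 hz1).map (Algebra.leftMulMatrix b)
  obtain ⟨m, rfl⟩ : ∃ m, r = m + 1 := ⟨r - 1, by have := hr.out.pos; omega⟩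
  set B := (A ^ m)ᵀ with hB
  have hAB : Aᵀ * B = 1 := by rw [hB, ← Matrix.transpose_mul, ← pow_succ, hAr, Matrix.transpose_one]
  have hBr : B ^ (m + 1) = 1 := by
    rw [hB, ← Matrix.transpose_pow, ← pow_mul, mul_comm, pow_mul, hAr, one_pow, Matrix.transpose_one]
  let M : Matrix (Fin d ⊕ Fin d) (Fin d ⊕ Fin d) F := Matrix.fromBlocks A 0 0 B
  have hM : ∀ x : Fin d ⊕ Fin d → F,
      M *ᵥ x = Sum.elim (A *ᵥ (x ∘ Sum.inl)) (B *ᵥ (x ∘ Sum.inr)) := fun x => by
    simp [M, Matrix.fromBlocks_mulVec]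
  have hMpow : ∀ n : ℕ, M ^ n = Matrix.fromBlocks (A ^ n) 0 0 (B ^ n) := fun n => by
    induction n with
    | zero => simp [Matrix.fromBlocks_one]
    | succ n ih => rw [pow_succ, ih, Matrix.fromBlocks_multiply]; simp [pow_succ]
  refine ⟨Matrix.toLin' M, fun x => ?_, ?_, fun x hx => ?_⟩
  · rw [Matrix.toLin'_apply, hM]
    have e : ∀ u : Fin d ⊕ Fin d → F, quadFormPlus d F u = (u ∘ Sum.inl) ⬝ᵥ (u ∘ Sum.inr) := fun u => rfl
    rw [e, e, Sum.elim_comp_inl, Sum.elim_comp_inr, Matrix.dotProduct_mulVec, ← Matrix.mulVec_transpose,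
      Matrix.mulVec_mulVec]
    have hBA : Bᵀ * A = 1 := by rw [hB, Matrix.transpose_transpose, ← pow_succ, hAr]
    rw [hBA, Matrix.one_mulVec]
  · have : Matrix.toLinAlgEquiv' (M ^ (m + 1)) = (1 : Module.End F (Fin d ⊕ Fin d → F)) := by
      rw [hMpow, hAr, hBr, Matrix.fromBlocks_one, map_one]
    rw [map_pow] at this
    exact this
  · rw [Matrix.toLin'_apply, hM] at hx
    have h1 : A *ᵥ (x ∘ Sum.inl) = x ∘ Sum.inl := funext fun i => congrFun hx (Sum.inl i)
    have h2 : B *ᵥ (x ∘ Sum.inr) = x ∘ Sum.inr := funext fun i => congrFun hx (Sum.inr i)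
    have h3 : Aᵀ *ᵥ (x ∘ Sum.inr) = x ∘ Sum.inr := by
      conv_lhs => rw [← h2]
      rw [Matrix.mulVec_mulVec, hAB, Matrix.one_mulVec]
    have hA1' : IsUnit (Aᵀ - 1) := by
      rw [← Matrix.transpose_one, ← Matrix.transpose_sub]; exact (Matrix.isUnit_transpose _).2 hA1
    have e1 : x ∘ Sum.inl = 0 := Matrix.mulVec_injective_iff_isUnit.2 hA1
      (by rw [Matrix.sub_mulVec, Matrix.one_mulVec, h1, sub_self, Matrix.mulVec_zero])
    have e2 : x ∘ Sum.inr = 0 := Matrix.mulVec_injective_iff_isUnit.2 hA1'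
      (by rw [Matrix.sub_mulVec, Matrix.one_mulVec, h3, sub_self, Matrix.mulVec_zero])
    funext i
    rcases i with i | i
    · exact congrFun e1 i
    · exact congrFun e2 i

theorem dvd_card_of_fixedPointFree {α : Type*} [Finite α] {r : ℕ} [hr : Fact r.Prime]
    (σ : Equiv.Perm α) (hσ : σ ^ r = 1) (hfix : ∀ a, σ a ≠ a) : r ∣ Nat.card α := by
  classical
  haveI := Fintype.ofFinite α
  have h := Equiv.Perm.sum_cycleType σ
  rw [Equiv.Perm.cycleType_of_pow_prime_eq_one hσ, Multiset.sum_replicate, smul_eq_mul] at h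
  have hs : σ.support = Finset.univ := Finset.eq_univ_iff_forall.2 fun a => Equiv.Perm.mem_support.2 (hfix a)
  rw [hs, Finset.card_univ, ← Nat.card_eq_fintype_card] at h
  exact ⟨_, by rw [← h, mul_comm]⟩

/-- An isometry of the elliptic space without fixed vectors. -/
theorem exists_fpf_minus (d : ℕ) [NeZero d] {r : ℕ} [hr : Fact r.Prime] (hr2 : r ≠ 2)
    (hdvd : r ∣ Fintype.card F ^ d + 1) {a b : F}
    (hab : ∀ x y : F, x ^ 2 + a * x * y + b * y ^ 2 = 0 → x = 0 ∧ y = 0) :
    ∃ T : ((Fin (d - 1) ⊕ Fin (d - 1)) ⊕ Fin 2 → F) →ₗ[F] ((Fin (d - 1) ⊕ Fin (d - 1)) ⊕ Fin 2 → F),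
      (∀ x, quadFormMinus (d - 1) F a b (T x) = quadFormMinus (d - 1) F a b x) ∧ T ^ r = 1 ∧
        ∀ x, T x = x → x = 0 := by
  classical
  obtain ⟨p, hp⟩ := CharP.exists F
  haveI : Fact p.Prime := ⟨CharP.char_is_prime F p⟩
  haveI : NeZero (2 * d) := ⟨by have := NeZero.ne d; omega⟩
  let K := FiniteField.Extension F p (2 * d)
  haveI : Fintype K := Fintype.ofFinite K
  set q := Fintype.card F with hqdef
  have hq2 : 2 ≤ q := Fintype.one_lt_card
  have hK : Fintype.card K = q ^ (2 * d) := by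
    rw [← Nat.card_eq_fintype_card, FiniteField.natCard_extension F p (2 * d), Nat.card_eq_fintype_card]
  have hKd : finrank F K = 2 * d := FiniteField.finrank_extension F p (2 * d)
  have hqq : q ^ (2 * d) = q ^ d * q ^ d := by rw [two_mul, pow_add]
  have hdvd' : q ^ d + 1 ∣ q ^ (2 * d) - 1 := ⟨q ^ d - 1, by
    rw [hqq, ← Nat.sq_sub_sq, one_pow, sq]⟩
  obtain ⟨z, hz⟩ := exists_unit_orderOf K (r := r)
    (by rw [Nat.card_eq_fintype_card, hK]; exact hdvd.trans hdvd')
  have hzN : (z : K) ^ (q ^ d + 1) = 1 := by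
    rw [← Units.val_pow_eq_pow_val, orderOf_dvd_iff_pow_eq_one.1 (hz ▸ hdvd), Units.val_one]
  have hz1 : (z : K) ≠ 1 := fun h => hr.out.ne_one (by rw [← hz, show z = 1 from Units.ext h, orderOf_one])
  have hzr : (z : K) ^ r = 1 := by rw [← Units.val_pow_eq_pow_val, ← hz, pow_orderOf_eq_one, Units.val_one]
  -- powers of the Frobenius
  let Fr : K →ₐ[F] K := FiniteField.frobeniusAlgHom F K
  have hFr : ∀ (i : ℕ) (x : K), (Fr ^ i) x = x ^ q ^ i := fun i => by
    induction i with
    | zero => intro x; simp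
    | succ n ih =>
      intro x
      rw [pow_succ, AlgHom.mul_apply, ih, FiniteField.coe_frobeniusAlgHom, ← pow_mul, pow_succ', hqdef]
  let σ : K →ₐ[F] K := Fr ^ d
  have hσσ : ∀ x, σ (σ x) = x := fun x => by
    rw [hFr, hFr, ← pow_mul, ← hqq, ← hK, FiniteField.pow_card]
  let φ : K → K := fun x => ∑ i ∈ Finset.range d, (Fr ^ i) (σ x * x)
  have hrange : ∀ x, ∃ c : F, algebraMap F K c = φ x := fun x => by
    refine Restrict.mem_range_of_pow_eq (q := q) rfl ?_
    rw [show φ x ^ q = Fr (φ x) from rfl, map_sum]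
    have e : ∀ i, Fr ((Fr ^ i) (σ x * x)) = (Fr ^ (i + 1)) (σ x * x) := fun i => by
      rw [pow_succ', AlgHom.mul_apply]
    rw [Finset.sum_congr rfl fun i _ => e i]
    have h1 := Finset.sum_range_succ' (fun i => (Fr ^ i) (σ x * x)) d
    have h2 := Finset.sum_range_succ (fun i => (Fr ^ i) (σ x * x)) d
    rw [h2, show (Fr ^ d) (σ x * x) = σ (σ x * x) from rfl, map_mul, hσσ, pow_zero, AlgHom.one_apply,
      mul_comm x (σ x)] at h1
    exact (add_right_cancel h1).symm
  choose ψ hψ using hrange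
  have hinj := (algebraMap F K).injective
  let B : K →ₗ[F] K →ₗ[F] F := LinearMap.mk₂ F (fun x y => Algebra.trace F K (σ x * y))
    (fun x x' y => by rw [map_add, add_mul, map_add])
    (fun c x y => by rw [map_smul, smul_mul_assoc, map_smul])
    (fun x y y' => by rw [mul_add, map_add])
    (fun c x y => by rw [mul_smul_comm, map_smul])
  have hφadd : ∀ x y, φ (x + y) = φ x + φ y + algebraMap F K (B x y) := by
    intro x y
    show _ = _ + algebraMap F K (Algebra.trace F K (σ x * y))
    have hN : Nat.card F = q := Nat.card_eq_fintype_card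
    rw [FiniteField.algebraMap_trace_eq_sum_pow, hKd, show Finset.range (2 * d) = Finset.range (d + d) from congrArg Finset.range (two_mul d), Finset.sum_range_add, hN,
      Finset.sum_congr rfl fun i _ => (hFr i (σ x * y)).symm,
      Finset.sum_congr rfl fun i _ => show (σ x * y) ^ q ^ (d + i) = (Fr ^ i) (σ y * x) by
        rw [← hFr, add_comm d i, pow_add, AlgHom.mul_apply, show (Fr ^ d) (σ x * y) = σ (σ x * y) from rfl,
          map_mul, hσσ, mul_comm x (σ y)]]
    show ∑ i ∈ Finset.range d, _ = (∑ i ∈ Finset.range d, _) + (∑ i ∈ Finset.range d, _) +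
      ((∑ i ∈ Finset.range d, _) + (∑ i ∈ Finset.range d, _))
    rw [← Finset.sum_add_distrib, ← Finset.sum_add_distrib, ← Finset.sum_add_distrib]
    refine Finset.sum_congr rfl fun i _ => ?_
    simp only [map_add, add_mul, mul_add]
    abel
  have hψadd : ∀ x y, ψ (x + y) = ψ x + ψ y + B x y := fun x y => hinj (by
    rw [map_add, map_add, hψ, hψ, hψ, hφadd])
  let R : QuadraticForm F K :=
    { toFun := ψ
      toFun_smul := fun c x => hinj (by
        rw [hψ, smul_eq_mul, map_mul, hψ]
        show ∑ i ∈ Finset.range d, _ = _ * ∑ i ∈ Finset.range d, _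
        rw [Finset.mul_sum]
        refine Finset.sum_congr rfl fun i _ => ?_
        rw [map_smul, smul_mul_assoc, mul_smul_comm, smul_smul, map_smul, Algebra.smul_def])
      exists_companion' := ⟨B, hψadd⟩ }
  have hpolar : ∀ x y, polar ⇑R x y = B x y := fun x y => by
    show ψ (x + y) - ψ x - ψ y = B x y
    rw [hψadd]; ring
  have hRnd : R.polarBilin.Nondegenerate := by
    have key : ∀ w : K, (∀ y, Algebra.trace F K (w * y) = 0) → w = 0 := fun w hw =>
      (traceForm_nondegenerate F K).1 w fun y => hw y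
    constructor
    · intro x hx
      have := key (σ x) fun y => by
        have := hx y; rw [QuadraticMap.polarBilin_apply_apply, hpolar] at this; exact this
      rw [← hσσ x, this, map_zero]
    · intro x hx
      refine key x fun y => ?_
      have := hx (σ y)
      rw [QuadraticMap.polarBilin_apply_apply, hpolar] at this
      change Algebra.trace F K (σ (σ y) * x) = 0 at this
      rwa [hσσ, mul_comm y x] at this
  have hiso : ∀ x, R ((z : K) * x) = R x := fun x => hinj (by
    show algebraMap F K (ψ _) = algebraMap F K (ψ _)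
    rw [hψ, hψ]
    refine Finset.sum_congr rfl fun i _ => congrArg _ ?_
    rw [map_mul, mul_mul_mul_comm, show σ (z : K) * (z : K) = 1 by rw [hFr, ← pow_succ, hzN], one_mul])
  have hfix : ∀ x : K, (z : K) * x = x → x = 0 := fun x hx => by
    have : ((z : K) - 1) * x = 0 := by rw [sub_mul, one_mul, hx, sub_self]
    exact (mul_eq_zero.1 this).resolve_left (sub_ne_zero.2 hz1)
  rcases Forms.classify_even R hRnd hKd hab with ⟨e, he⟩ | ⟨-, e, he⟩
  · -- the hyperbolic case is impossible
    exfalso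
    let α := {v : K // v ≠ 0 ∧ R v = 0}
    let τ : Equiv.Perm α := Equiv.ofBijective
      (fun v => ⟨(z : K) * v.1, mul_ne_zero z.ne_zero v.2.1, by rw [hiso]; exact v.2.2⟩)
      (Finite.injective_iff_bijective.1 fun v w h =>
        Subtype.ext (mul_left_cancel₀ z.ne_zero (congrArg Subtype.val h)))
    have hτn : ∀ (n : ℕ) (v : α), ((τ ^ n) v : K) = (z : K) ^ n * v.1 := fun n => by
      induction n with
      | zero => intro v; simp
      | succ n ih =>
        intro v
        rw [pow_succ', Equiv.Perm.mul_apply, pow_succ', mul_assoc, ← ih v]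
        rfl
    have hτ : τ ^ r = 1 := Equiv.ext fun v => Subtype.ext (by rw [hτn, hzr, one_mul]; rfl)
    have hdiv := dvd_card_of_fixedPointFree τ hτ fun v h =>
      v.2.1 (hfix v.1 (congrArg Subtype.val h))
    have hcount := Forms.card_ne_zero_zeros R
    obtain ⟨m, rfl⟩ : ∃ m, d = m + 1 := ⟨d - 1, by have := NeZero.ne d; omega⟩
    have hplus := Forms.card_zeros_qfPlus (F := F) m
    rw [Forms.card_zeros_congr (⇑(Forms.qfPlus (m + 1) F)) ⇑R e 1 one_ne_zero
      (fun v => by rw [he, one_mul])] at hcount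
    rw [Nat.card_eq_fintype_card (α := F), ← hqdef, ← hcount] at hplus
    have hdivZ : (r : ℤ) ∣ ((q : ℤ) ^ (m + 1) - 1) * ((q : ℤ) ^ m + 1) := by
      have : ((Nat.card α : ℕ) : ℤ) = ((q : ℤ) ^ (m + 1) - 1) * ((q : ℤ) ^ m + 1) := by
        push_cast at hplus
        linear_combination hplus
      rw [← this]
      exact Int.natCast_dvd_natCast.2 hdiv
    have hd1 : (r : ℤ) ∣ (q : ℤ) ^ (m + 1) + 1 := by exact_mod_cast Int.natCast_dvd_natCast.2 hdvd
    have hr2' : ¬ (r : ℤ) ∣ 2 := fun h => hr2 ((Nat.prime_dvd_prime_iff_eq hr.out Nat.prime_two).1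
      (by exact_mod_cast h))
    have hp' : Prime (r : ℤ) := Nat.prime_iff_prime_int.1 hr.out
    rcases hp'.dvd_or_dvd hdivZ with h | h
    · exact hr2' (by have := dvd_sub hd1 h; ring_nf at this; exact this)
    · have h1 : (r : ℤ) ∣ (q : ℤ) - 1 := by
        have := dvd_sub (dvd_mul_of_dvd_right h (q : ℤ)) hd1
        rw [pow_succ] at this
        ring_nf at this ⊢
        exact this
      have h2 : (r : ℤ) ∣ (q : ℤ) ^ (m + 1) - 1 := h1.trans (by
        have := sub_dvd_pow_sub_pow (q : ℤ) 1 (m + 1); simpa using this)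
      exact hr2' (by have := dvd_sub hd1 h2; ring_nf at this; exact this)
  · let T : K →ₗ[F] K := LinearMap.mulLeft F (z : K)
    let T' : ((Fin (d - 1) ⊕ Fin (d - 1)) ⊕ Fin 2 → F) →ₗ[F] ((Fin (d - 1) ⊕ Fin (d - 1)) ⊕ Fin 2 → F) :=
      e.symm.toLinearMap ∘ₗ T ∘ₗ e.toLinearMap
    have hT' : ∀ x, T' x = e.symm ((z : K) * e x) := fun x => rfl
    refine ⟨T', fun x => ?_, ?_, fun x hx => ?_⟩
    · rw [← Forms.qfMinus_eq, hT', ← he, ← he, e.apply_symm_apply, hiso]
    · refine LinearMap.ext fun x => ?_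
      have key : ∀ n : ℕ, (T' ^ n) x = e.symm ((z : K) ^ n * e x) := fun n => by
        induction n with
        | zero => simp
        | succ n ih => rw [pow_succ', Module.End.mul_apply, ih, hT', e.apply_symm_apply, pow_succ', mul_assoc]
      rw [key, hzr, one_mul, e.symm_apply_apply, Module.End.one_apply]
    · rw [hT', e.symm_apply_eq] at hx
      exact e.map_eq_zero_iff.1 (hfix _ hx)

/-- Non-singular points and non-singular vectors. -/
theorem card_points_mul (Q : QuadraticForm F (ι → F)) :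
    Nat.card {W : Submodule F (ι → F) // finrank F W = 1 ∧ ∃ v ∈ W, Q v ≠ 0} * (Fintype.card F - 1) =
      Nat.card {v : ι → F // Q v ≠ 0} := by
  classical
  let P := {W : Submodule F (ι → F) // finrank F W = 1 ∧ ∃ v ∈ W, Q v ≠ 0}
  let f : {v : ι → F // Q v ≠ 0} → P := fun v => ⟨F ∙ v.1, finrank_span_singleton
    (fun h => v.2 (by rw [h, QuadraticMap.map_zero])), v.1, Submodule.mem_span_singleton_self _, v.2⟩
  have hfib : ∀ W : P, Nat.card {v // f v = W} = Fintype.card F - 1 := by
    rintro ⟨W, hW, w, hw, hQw⟩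
    have hw0 : w ≠ 0 := fun h => hQw (by rw [h, QuadraticMap.map_zero])
    have hWe : F ∙ w = W := Submodule.eq_of_le_of_finrank_le
      ((Submodule.span_singleton_le_iff_mem _ _).2 hw) (by rw [hW, finrank_span_singleton hw0])
    rw [← Fintype.card_units, ← Nat.card_eq_fintype_card]
    refine (Nat.card_eq_of_bijective (fun c : Fˣ => (⟨⟨(c : F) • w, by
        rw [Q_smul]; exact mul_ne_zero (mul_ne_zero c.ne_zero c.ne_zero) hQw⟩, Subtype.ext ?_⟩ :
          {v // f v = ⟨W, hW, w, hw, hQw⟩})) ⟨fun c c' h => ?_, fun v => ?_⟩).symm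
    · show F ∙ ((c : F) • w) = W
      rw [Submodule.span_singleton_smul_eq c.isUnit, hWe]
    · have : (c : F) • w = (c' : F) • w := congrArg (fun v => v.1.1) h
      exact Units.ext (smul_left_injective F hw0 this)
    · obtain ⟨⟨v, hv⟩, hvW⟩ := v
      have hspan : F ∙ v = W := congrArg Subtype.val hvW
      have hvw : v ∈ F ∙ w := by rw [hWe, ← hspan]; exact Submodule.mem_span_singleton_self v
      obtain ⟨c, rfl⟩ := Submodule.mem_span_singleton.1 hvw
      have hc : c ≠ 0 := fun h => hv (by rw [h, zero_smul, QuadraticMap.map_zero])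
      exact ⟨Units.mk0 c hc, rfl⟩
  haveI : Fintype P := Fintype.ofFinite P
  rw [Nat.card_congr (Equiv.sigmaFiberEquiv f).symm, Nat.card_sigma, Finset.sum_congr rfl fun W _ => hfib W,
    Finset.sum_const, Finset.card_univ, smul_eq_mul, Nat.card_eq_fintype_card]

/-- In characteristic two an involution of `Ω` fixes a non-singular vector when there are no singular
subspaces that are as big as half of the space and of even dimension. -/
theorem exists_fixed_of_involution (hG : Good Q) (h2 : (2 : F) = 0) {g : IsoGrp Q}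
    (hg : g ∈ Omega F ⇑Q) (hg2 : g ^ 2 = 1)
    (hno : ∀ U : Submodule F (ι → F), (∀ u ∈ U, Q u = 0) → Fintype.card ι ≤ 2 * finrank F U →
      Odd (finrank F U)) :
    ∃ v, Q v ≠ 0 ∧ ap g v = v := by
  classical
  by_contra! hall
  set U := LinearMap.ker (ap g - LinearMap.id)
  have hU : ∀ u ∈ U, Q u = 0 := fun u hu => by
    by_contra h
    exact hall u h (sub_eq_zero.1 hu)
  have hle : resSpace g ≤ U := by
    rintro w ⟨x, rfl⟩
    show ap g ((ap g - LinearMap.id : (ι → F) →ₗ[F] (ι → F)) x) - (ap g - LinearMap.id : (ι → F) →ₗ[F] (ι → F)) x = 0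
    have e : ap g (ap g x) = x := by rw [← ap_mul, ← sq, hg2, ap_one]
    rw [LinearMap.sub_apply, LinearMap.id_apply, map_sub, e]
    have : ∀ a b : ι → F, a - b - (b - a) = (2 : F) • (a - b) := fun a b => by module
    rw [this, h2, zero_smul]
  have hsum : finrank F (resSpace g) + finrank F U = Fintype.card ι := finrank_resSpace_add_fix g
  have hmono := Submodule.finrank_mono hle
  have hodd := hno U hU (by omega)
  have hd : dick g = 1 := ((mem_omega_iff hG g).1 hg).1
  have hUle := two_mul_finrank_le_of_isotropic hG.nd U fun a ha b hb => by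
    have := hU _ (U.add_mem ha hb)
    rwa [Q_add, hU a ha, hU b hb, zero_add, zero_add] at this
  rw [dick, show finrank F (resSpace g) = finrank F U by omega, hodd.neg_one_pow] at hd
  norm_num at hd

theorem eq_one_of_mul_self (h2 : (2 : F) = 0) {z : F} (hz : z * z = 1) : z = 1 := by
  rcases mul_self_eq_one_iff.1 hz with h | h
  · exact h
  · rw [h]; linear_combination -h2

/-- In characteristic two an isometry mapping a non-singular point to itself fixes its vectors. -/
theorem eq_of_fixes_point (h2 : (2 : F) = 0) (g : IsoGrp Q) {v : ι → F} (hv : Q v ≠ 0)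
    (hW : (Submodule.span F {v}).map (Matrix.toLin' ((g : GL ι F) : Matrix ι ι F)) ≤ Submodule.span F {v}) :
    ap g v = v := by
  obtain ⟨z, hz⟩ := Submodule.mem_span_singleton.1
    (hW (Submodule.mem_map_of_mem (Submodule.mem_span_singleton_self v)))
  have hz' : ap g v = z • v := hz.symm
  have h1 := Q_ap g v
  rw [hz', Q_smul] at h1
  rw [hz', eq_one_of_mul_self h2 (mul_right_cancel₀ hv (h1.trans (one_mul _).symm)), one_smul]

/-- An element of order `r` without fixed non-singular vectors is a derangement on non-singular points. -/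
theorem not_forall_point (h2 : (2 : F) = 0) {r : ℕ} {g : IsoGrp Q} (hg : g ∈ Omega F ⇑Q) (hgr : g ^ r = 1)
    (hfix : ∀ v, Q v ≠ 0 → ap g v ≠ v) (hex : ∃ w, Q w ≠ 0) :
    ¬ ∀ x : GL ι F, x ∈ Geo.omegaGL ⇑Q →
      (∃ z : F, ((x ^ r : GL ι F) : Matrix ι ι F) = z • (1 : Matrix ι ι F)) →
      (∀ z : F, (x : Matrix ι ι F) ≠ z • (1 : Matrix ι ι F)) →
      ∃ W : Submodule F (ι → F), (Module.finrank F ↥W = 1 ∧ ∃ v ∈ W, Q v ≠ 0) ∧
        W.map (Matrix.toLin' (x : Matrix ι ι F)) ≤ W := by
  intro hall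
  obtain ⟨W, ⟨hW1, v, hv, hQv⟩, hW⟩ := hall (g : GL ι F) (coe_mem_omegaGL.2 hg)
    ⟨1, by rw [one_smul, ← Subgroup.coe_pow, hgr]; rfl⟩ (fun z hz => by
      obtain ⟨w, hw⟩ := hex
      have h0 : ap g w = z • w := by rw [ap_apply, hz, Matrix.smul_mulVec, Matrix.one_mulVec]
      have h1 := Q_ap g w
      rw [h0, Q_smul] at h1
      exact hfix w hw (by rw [h0, eq_one_of_mul_self h2 (mul_right_cancel₀ hw (h1.trans (one_mul _).symm)),
        one_smul]))
  have hWv : Submodule.span F {v} = W := Submodule.eq_of_le_of_finrank_le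
    ((Submodule.span_singleton_le_iff_mem _ _).2 hv)
    (by rw [hW1, finrank_span_singleton (fun h => hQv (by rw [h, QuadraticMap.map_zero]))])
  subst hWv
  exact hfix v hQv (eq_of_fixes_point h2 g hQv hW)

/-- Involutions fixing a non-singular point. -/
theorem forall_point_two (hG : Good Q) (h2 : (2 : F) = 0) (hex : ∃ w, Q w ≠ 0)
    (hno : ∀ U : Submodule F (ι → F), (∀ u ∈ U, Q u = 0) → Fintype.card ι ≤ 2 * finrank F U →
      Odd (finrank F U)) :
    ∀ x : GL ι F, x ∈ Geo.omegaGL ⇑Q →
      (∃ z : F, ((x ^ 2 : GL ι F) : Matrix ι ι F) = z • (1 : Matrix ι ι F)) →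
      (∀ z : F, (x : Matrix ι ι F) ≠ z • (1 : Matrix ι ι F)) →
      ∃ W : Submodule F (ι → F), (Module.finrank F ↥W = 1 ∧ ∃ v ∈ W, Q v ≠ 0) ∧
        W.map (Matrix.toLin' (x : Matrix ι ι F)) ≤ W := by
  rintro x hx ⟨z, hz⟩ -
  obtain ⟨g, hgΩ, rfl⟩ := mem_omegaGL_iff.1 hx
  have h0 : ∀ u, ap (g ^ 2) u = z • u := fun u => by
    rw [ap_apply, Subgroup.coe_pow, hz, Matrix.smul_mulVec, Matrix.one_mulVec]
  have hg2 : g ^ 2 = 1 := by
    obtain ⟨w, hw⟩ := hex
    have h1 := Q_ap (g ^ 2) w
    rw [h0, Q_smul] at h1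
    refine ext_ap fun u => ?_
    rw [h0, eq_one_of_mul_self h2 (mul_right_cancel₀ hw (h1.trans (one_mul _).symm)), one_smul, ap_one]
  obtain ⟨v, hQv, hgv⟩ := exists_fixed_of_involution hG h2 hgΩ hg2 hno
  refine ⟨Submodule.span F {v}, ⟨finrank_span_singleton (fun h => hQv (by rw [h, QuadraticMap.map_zero])),
    v, Submodule.mem_span_singleton_self v, hQv⟩, ?_⟩
  rw [Submodule.map_span, Set.image_singleton]
  exact le_of_eq (congrArg (fun w => Submodule.span F {w}) hgv)

theorem eq_two_or_dvd {r : ℕ} (hr : r.Prime) (h2 : (2 : F) = 0) {m N : ℕ}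
    (h : r ∣ Fintype.card F ^ m * N) : r = 2 ∨ r ∣ N := by
  rcases (Nat.Prime.dvd_mul hr).1 h with h' | h'
  · left
    obtain ⟨p, _, n, hp, hcard⟩ := FiniteField.card' F
    have hev : 2 ∣ Fintype.card F := by
      rw [Nat.dvd_iff_mod_eq_zero, ← FiniteField.even_card_iff_char_two]
      exact CharP.ringChar_of_prime_eq_zero Nat.prime_two (by exact_mod_cast h2)
    rw [hcard] at hev
    rw [hcard, ← (Nat.prime_dvd_prime_iff_eq Nat.prime_two hp).1 (Nat.prime_two.dvd_of_dvd_pow hev),
      ← pow_mul] at h'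
    exact (Nat.prime_dvd_prime_iff_eq hr Nat.prime_two).1 (hr.dvd_of_dvd_pow h')
  · exact .inr h'

theorem card_nonsingular_add_zeros (Q : QuadraticForm F (ι → F)) :
    Nat.card {v // Q v ≠ 0} + Nat.card {v // Q v = 0} = Fintype.card F ^ Fintype.card ι := by
  classical
  rw [add_comm, Nat.card_eq_fintype_card, Nat.card_eq_fintype_card,
    Fintype.card_subtype_compl, Nat.add_sub_cancel' (Fintype.card_subtype_le _), Fintype.card_fun]

/-- The involution `(x,y) ↦ (x, y + Ax)` of the hyperbolic space of dimension `4k`. -/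
theorem exists_involution_plus (h2 : (2 : F) = 0) (k : ℕ) (hk : 4 ≤ k + k) :
    ∃ g : IsoGrp (quadPlus (k + k) F), g ∈ Omega F ⇑(quadPlus (k + k) F) ∧ g ^ 2 = 1 ∧
      ∀ v, quadFormPlus (k + k) F v ≠ 0 → ap g v ≠ v := by
  classical
  have hnd := quadPlus_nondeg (F := F) (k + k)
  let e : Fin (k + k) ≃ Fin k ⊕ Fin k := finSumFinEquiv.symm
  let π : Equiv.Perm (Fin (k + k)) := e.trans ((Equiv.sumComm _ _).trans e.symm)
  have hππ : ∀ i, π (π i) = i := fun i => by simp [π]
  have hπne : ∀ i, π i ≠ i := fun i h => by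
    have h' := congrArg e h
    simp only [π, Equiv.trans_apply, Equiv.apply_symm_apply, Equiv.sumComm_apply] at h'
    rcases hi : e i with j | j <;> rw [hi] at h' <;> simp at h'
  let T : (Fin (k + k) ⊕ Fin (k + k) → F) →ₗ[F] (Fin (k + k) ⊕ Fin (k + k) → F) :=
    { toFun := fun u => Sum.elim (u ∘ Sum.inl) (fun i => u (.inr i) + u (.inl (π i)))
      map_add' := fun u w => by
        funext i; rcases i with i | i <;> simp; abel
      map_smul' := fun c u => by
        funext i; rcases i with i | i <;> simp [mul_add] }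
  have hT2 : ∀ u, T (T u) = u := fun u => by
    funext i
    rcases i with i | i
    · rfl
    · show u (.inr i) + u (.inl (π i)) + u (.inl (π i)) = u (.inr i)
      linear_combination u (.inl (π i)) * h2
  have hTQ : ∀ u, quadPlus (k + k) F (T u) = quadPlus (k + k) F u := fun u => by
    show ∑ i, u (.inl i) * (u (.inr i) + u (.inl (π i))) = ∑ i, u (.inl i) * u (.inr i)
    rw [Finset.sum_congr rfl fun i _ => mul_add (u (.inl i)) _ _, Finset.sum_add_distrib, add_eq_left]
    refine Finset.sum_involution (fun i _ => π i) (fun i _ => ?_) (fun i _ _ => hπne i)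
      (fun i _ => Finset.mem_univ _) (fun i _ => hππ i)
    rw [hππ]
    linear_combination (u (.inl i) * u (.inl (π i))) * h2
  obtain ⟨g, hg⟩ := exists_isoGrp_of_preserve hnd T hTQ
  refine ⟨g, ?_, ext_ap fun u => by rw [ap_pow, hg, pow_two, Module.End.mul_apply, hT2, ap_one], ?_⟩
  · let f : (Fin (k + k) → F) →ₗ[F] (Fin (k + k) ⊕ Fin (k + k) → F) :=
      { toFun := fun y => Sum.elim 0 y
        map_add' := fun y y' => by funext i; rcases i with i | i <;> simp
        map_smul' := fun c y => by funext i; rcases i with i | i <;> simp }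
    have hres : resSpace g = LinearMap.range f := by
      ext w
      rw [mem_resSpace, LinearMap.mem_range, hg]
      constructor
      · rintro ⟨u, rfl⟩
        exact ⟨fun i => u (.inl (π i)), by funext i; rcases i with i | i <;> simp [f, T]⟩
      · rintro ⟨y, rfl⟩
        refine ⟨Sum.elim (fun i => y (π i)) 0, ?_⟩
        funext i; rcases i with i | i <;> simp [f, T, hππ]
    have hG' : Good (quadPlus (k + k) F) := Good.of_card hnd (.inr (by simp; omega))
    refine (mem_omega_iff hG' g).2 ⟨?_, spin_eq_one_of_two hG' h2 g⟩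
    have hf : Function.Injective f := fun y y' h => funext fun i => congrFun h (Sum.inr i)
    rw [dick, hres, LinearMap.finrank_range_of_inj hf]
    simp
  · intro v hQv hfix
    rw [hg] at hfix
    refine hQv ?_
    have h0 : ∀ i, v (.inl i) = 0 := fun i => by
      have := congrFun hfix (.inr (π i))
      simpa [T, hππ] using this
    show ∑ i, v (.inl i) * v (.inr i) = 0
    exact Finset.sum_eq_zero fun i _ => by rw [h0, zero_mul]

end Cfsg.Agent.Orth
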