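import Cfsg.Agent.Lib.Orth.Nondeg

/-!
# The stabiliser of a non-singular point in characteristic two is maximal in `Ω`

* `omega_le_of_norm_one_pairs` : all pairs of norm-one reflections give `Ω`
* `nonsingular_stabilizer_maximal`
-/

set_option autoImplicit false

namespace Cfsg.Agent.Orth

open Cfsg Matrix Module
open QuadraticMap (polar)

variable {ι : Type} [Fintype ι] [DecidableEq ι] {F : Type*} [Field F] [Fintype F]
variable {Q : QuadraticForm F (ι → F)}

theorem omega_le_of_norm_one_pairs (hG : Good Q) (hn : 6 ≤ Fintype.card ι) {N : Subgroup (IsoGrp Q)}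
    (h : ∀ x y, Q x = 1 → Q y = 1 → refl Q x * refl Q y ∈ N) : Omega F ⇑Q ≤ N := by
  obtain ⟨e, f, hp⟩ := exists_hpair hG.nd (by omega)
  rw [omega_eq_eichPair hG (by omega) (.inr (by omega)) hp, eichPair, Subgroup.closure_le]
  have key : ∀ a b : ι → F, HPair Q a b → ∀ w ∈ perp Q a b, eich Q a w ∈ N := by
    intro a b hab w hw
    have hone : ∀ z ∈ perp Q a b, Q z = 1 → eich Q a z ∈ N := fun z hz hQz => by
      rw [eich_eq_refl_pair hab.qe (mem_perp.1 hz).1 (by rw [hQz]; exact one_ne_zero)]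
      refine h z _ hQz ?_
      rw [Q_add, Q_smul, pl_smul_right, hab.qe, pl_comm Q z a, (mem_perp.1 hz).1, hQz]; ring
    by_cases hw0' : w = 0
    · rw [hw0', eich_zero]; exact one_mem _
    obtain ⟨y, hy, hwy⟩ := hab.perp_nondeg hG.nd hw hw0'
    obtain ⟨w1, hw1, hQw1, hw1w⟩ := exists_quad_affine hG.nd (W := perp Q a b)
      (fun z hz hz0 => hab.perp_nondeg hG.nd hz hz0) (P := F ∙ w)
      ((Submodule.span_singleton_le_iff_mem _ _).2 hw)
      (by have := card_le_finrank_perp (Q := Q) a b; rw [finrank_span_singleton hw0']; omega)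
      (Submodule.smul_mem _ (Q w / polar ⇑Q w y) hy) 1
    have h1 := hw1w w (Submodule.mem_span_singleton_self w)
    rw [pl_smul_left, pl_comm Q y w, div_mul_cancel₀ _ hwy] at h1
    have := mul_mem (hone _ ((perp Q a b).sub_mem hw hw1) (by rw [Q_sub, hQw1, pl_comm, h1]; ring))
      (hone w1 hw1 hQw1)
    rwa [eich_add hab.qe (mem_perp.1 ((perp Q a b).sub_mem hw hw1)).1 (mem_perp.1 hw1).1,
      sub_add_cancel] at this
  rintro _ ⟨w, hw, rfl | rfl⟩
  · exact key e f hp w hw
  · exact key f e hp.swap w (by rwa [perp_swap])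

omit [Fintype F] in
theorem finrank_pair_le (a b : ι → F) :
    finrank F ((F ∙ a) ⊔ (F ∙ b) : Submodule F (ι → F)) ≤ 2 := by
  have h := Submodule.finrank_sup_add_finrank_inf_eq (F ∙ a) (F ∙ b)
  have h1 : ∀ v : ι → F, finrank F (F ∙ v) ≤ 1 := fun v => by
    by_cases h0 : v = 0
    · rw [h0, Submodule.span_zero_singleton, finrank_bot]; omega
    · rw [finrank_span_singleton h0]
  have := h1 a
  have := h1 b
  omega

omit [Fintype F] in
theorem mem_pair {x y z : ι → F} :
    x ∈ (F ∙ y) ⊔ (F ∙ z) ↔ ∃ s t : F, x = s • y + t • z := by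
  simp only [Submodule.mem_sup, Submodule.mem_span_singleton]
  constructor
  · rintro ⟨_, ⟨s, rfl⟩, _, ⟨t, rfl⟩, rfl⟩; exact ⟨s, t, rfl⟩
  · rintro ⟨s, t, rfl⟩; exact ⟨_, ⟨s, rfl⟩, _, ⟨t, rfl⟩, rfl⟩

set_option maxHeartbeats 1000000 in
theorem nonsingular_stabilizer_maximal (hG : Good Q) (hn : 8 ≤ Fintype.card ι) (h2 : (2 : F) = 0)
    {v : ι → F} (hQv : Q v = 1) :
    Geo.IsMaximalIn (Geo.omegaGL ⇑Q) (Geo.subspaceStabilizer (F ∙ v) ⊓ Geo.omegaGL ⇑Q) := by
  classical
  have hQ := hG.nd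
  have hvv : polar ⇑Q v v = 0 := by rw [pl_self, h2, zero_mul]
  have hsq : ∀ t : F, t * t = 1 → t = 1 := fun t ht => by
    rcases mul_self_eq_one_iff.1 ht with h | h
    · exact h
    · rw [h]; linear_combination -h2
  have hfix : ∀ g : IsoGrp Q, (g : GL ι F) ∈ Geo.subspaceStabilizer (F ∙ v) ↔ ap g v = v := by
    intro g
    rw [coe_mem_stabilizer]
    constructor
    · intro h
      obtain ⟨t, ht⟩ := Submodule.mem_span_singleton.1 (h v (Submodule.mem_span_singleton_self v))
      have := Q_ap g v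
      rw [← ht, Q_smul, hQv, mul_one] at this
      rw [← ht, hsq t this, one_smul]
    · intro h w hw
      obtain ⟨t, rfl⟩ := Submodule.mem_span_singleton.1 hw
      rw [map_smul, h]
      exact hw
  have hv0 : v ≠ 0 := fun h => by rw [h, QuadraticMap.map_zero] at hQv; exact zero_ne_one hQv
  obtain ⟨u', hu'⟩ := exists_polar_ne hQ hv0
  obtain ⟨u, huv⟩ : ∃ u, polar ⇑Q v u = 1 :=
    ⟨(polar ⇑Q v u')⁻¹ • u', by rw [pl_smul_right, inv_mul_cancel₀ hu']⟩
  set L := (F ∙ v) ⊔ (F ∙ u) with hLdef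
  have hL : ∀ x ∈ L, x ≠ 0 → ∃ y ∈ L, polar ⇑Q x y ≠ 0 := by
    intro x hx hx0
    obtain ⟨s, t, rfl⟩ := mem_pair.1 hx
    have hvu : polar ⇑Q u v = 1 := by rw [pl_comm]; exact huv
    by_cases ht : t = 0
    · refine ⟨u, Submodule.mem_sup_right (Submodule.mem_span_singleton_self u), ?_⟩
      rw [ht, zero_smul, add_zero, pl_smul_left, huv, mul_one]
      exact fun hs => hx0 (by rw [hs, ht]; simp)
    · refine ⟨v, Submodule.mem_sup_left (Submodule.mem_span_singleton_self v), ?_⟩
      rw [pl_add_left, pl_smul_left, pl_smul_left, hvv, hvu, mul_zero, zero_add, mul_one]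
      exact ht
  set W := perpSub Q L with hWdef
  have hW : ∀ x ∈ W, x ≠ 0 → ∃ y ∈ W, polar ⇑Q x y ≠ 0 := perpSub_nondeg hQ hL
  have hd : 6 ≤ finrank F W := by
    have := finrank_pair_le (F := F) v u
    rw [hWdef, finrank_perpSub hQ]
    change finrank F L ≤ 2 at this
    omega
  have hWv : ∀ w ∈ W, polar ⇑Q v w = 0 := fun w hw =>
    mem_perpSub.1 hw v (Submodule.mem_sup_left (Submodule.mem_span_singleton_self v))
  -- decomposition of an arbitrary vector
  have hdec : ∀ x, ∃ s t : F, ∃ w ∈ W, x = s • v + t • u + w := fun x => by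
    obtain ⟨l, hl, w, hw, rfl⟩ := exists_proj hQ hL x
    obtain ⟨s, t, rfl⟩ := mem_pair.1 hl
    exact ⟨s, t, w, hw, rfl⟩
  refine ⟨lt_of_le_of_ne inf_le_right fun heq => ?_, fun M hHM hMK => ?_⟩
  · obtain ⟨w, hw, -, hQw⟩ := exists_ne_zero_Q_eq hW (by omega) (1 - Q u)
    obtain ⟨b, hb, -, hQb⟩ := exists_ne_zero_Q_eq hW (by omega) (1 : F)
    have huw : polar ⇑Q u w = 0 :=
      mem_perpSub.1 hw u (Submodule.mem_sup_right (Submodule.mem_span_singleton_self u))
    have hQa : Q (u + w) = 1 := by rw [Q_add, huw, hQw]; ring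
    have hmem : ((refl Q (u + w) * refl Q b : IsoGrp Q) : GL ι F) ∈
        Geo.subspaceStabilizer (F ∙ v) ⊓ Geo.omegaGL ⇑Q := by
      rw [heq]
      exact coe_mem_omegaGL.2 (refl_pair_mem_omega hG (by rw [hQa]; exact one_ne_zero) (hQb.trans hQa.symm))
    have := (hfix _).1 hmem.1
    rw [ap_mul, refl_ap_of_orth Q (v := b) (by rw [pl_comm]; exact hWv b hb), refl_ap, hQa,
      pl_comm Q (u + w) v, pl_add_right, huv, hWv w hw, sub_eq_self, inv_one, one_mul, add_zero,
      one_smul] at this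
    rw [this, QuadraticMap.map_zero] at hQa
    exact zero_ne_one hQa
  by_cases hM : ∀ g ∈ M, g ∈ Geo.subspaceStabilizer (F ∙ v)
  · exact .inl (le_antisymm (le_inf hM hMK) hHM)
  refine .inr (le_antisymm hMK ?_)
  push Not at hM
  obtain ⟨g, hgM, hgv⟩ := hM
  obtain ⟨g, -, rfl⟩ := mem_omegaGL_iff.1 (hMK hgM)
  rw [hfix] at hgv
  set N : Subgroup (IsoGrp Q) := M.comap (isometryGroup F ⇑Q).subtype
  suffices hle : Omega F ⇑Q ≤ N by
    intro y hy
    obtain ⟨k, hk, rfl⟩ := mem_omegaGL_iff.1 hy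
    exact hle hk
  set S : Set (ι → F) := {x | Q x = 1 ∧ refl Q x * refl Q v ∈ N} with hSdef
  have hvS : ∀ x, Q x = 1 → polar ⇑Q v x = 0 → x ∈ S := fun x hQx hvx => ⟨hQx, hHM
    ⟨(hfix _).2 (by
      rw [ap_mul, refl_ap_of_orth Q hvv, refl_ap_of_orth Q (v := x) (by rw [pl_comm]; exact hvx)]),
      coe_mem_omegaGL.2 (refl_pair_mem_omega hG (by rw [hQx]; exact one_ne_zero) (hQv.trans hQx.symm))⟩⟩
  have hpair : ∀ x ∈ S, ∀ y ∈ S, refl Q x * refl Q y ∈ N := by
    intro x hx y hy
    have := mul_mem hx.2 (inv_mem hy.2)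
    rwa [_root_.mul_inv_rev, refl_inv, refl_inv, mul_assoc, ← mul_assoc (refl Q v), refl_mul_self,
      one_mul] at this
  have hrefl : ∀ x ∈ S, ∀ y ∈ S, ap (refl Q y) x ∈ S := by
    intro x hx y hy
    refine ⟨by rw [Q_ap, hx.1], ?_⟩
    rw [← conj_refl, refl_inv, mul_assoc]
    exact mul_mem (hpair y hy x hx) hy.2
  have hmove : ∀ k ∈ N, ∀ p ∈ S, ap k p ∈ S → ∀ x ∈ S, ap k x ∈ S := by
    intro k hk p hp hkp x hx
    refine ⟨by rw [Q_ap, hx.1], ?_⟩
    have h1 : refl Q (ap k x) * refl Q (ap k p) ∈ N := by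
      rw [← conj_refl, ← conj_refl, show k * refl Q x * k⁻¹ * (k * refl Q p * k⁻¹) =
        k * (refl Q x * refl Q p) * k⁻¹ by group]
      exact mul_mem (mul_mem hk (hpair x hx p hp)) (inv_mem hk)
    have := mul_mem h1 hkp.2
    rwa [mul_assoc, ← mul_assoc (refl Q (ap k p)), refl_mul_self, one_mul] at this
  obtain ⟨x, hxS, hxv⟩ : ∃ x ∈ S, polar ⇑Q v x ≠ 0 := by
    by_contra! hcon
    set u0 := ap g⁻¹ v with hu0def
    obtain ⟨s0, t0, w0, hw0, hu0⟩ := hdec u0
    obtain ⟨b, hb, hQb, hbw⟩ := exists_quad_affine hQ hW (P := F ∙ w0)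
      ((Submodule.span_singleton_le_iff_mem _ _).2 hw0)
      (by have := finrank_pair_le (F := F) w0 w0; rw [sup_idem] at this; omega) W.zero_mem 1
    have hbu : polar ⇑Q b u = 0 := by
      rw [pl_comm]; exact mem_perpSub.1 hb u (Submodule.mem_sup_right (Submodule.mem_span_singleton_self u))
    have hbu0 : polar ⇑Q b u0 = 0 := by
      rw [hu0, pl_add_right, pl_add_right, pl_smul_right, pl_smul_right, hbu, pl_comm Q b v, hWv b hb,
        hbw w0 (Submodule.mem_span_singleton_self w0), pl_zero_left]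
      ring
    have hzero : ∀ a, Q a = 1 → polar ⇑Q v a = 0 → polar ⇑Q a u0 = 0 := by
      intro a hQa hva
      by_contra hne
      set k := refl Q (ap g a) * refl Q (ap g b) with hk
      have hkN : k ∈ N := by
        rw [hk, ← conj_refl, ← conj_refl, show g * refl Q a * g⁻¹ * (g * refl Q b * g⁻¹) =
          g * (refl Q a * refl Q b) * g⁻¹ by group]
        exact mul_mem (mul_mem hgM (hpair a (hvS a hQa hva) b (hvS b hQb (hWv b hb)))) (inv_mem hgM)
      -- a vector of `S` fixed by `k`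
      obtain ⟨s1, t1, wa, hwa, hga⟩ := hdec (ap g a)
      obtain ⟨s2, t2, wb, hwb, hgb⟩ := hdec (ap g b)
      obtain ⟨p, hp, hQp, hpP⟩ := exists_quad_affine hQ hW (P := (F ∙ wa) ⊔ (F ∙ wb))
        (sup_le ((Submodule.span_singleton_le_iff_mem _ _).2 hwa)
          ((Submodule.span_singleton_le_iff_mem _ _).2 hwb))
        (by have := finrank_pair_le (F := F) wa wb; omega) W.zero_mem 1
      have hpu : polar ⇑Q u p = 0 :=
        mem_perpSub.1 hp u (Submodule.mem_sup_right (Submodule.mem_span_singleton_self u))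
      have e : ∀ s t c, c ∈ (F ∙ wa) ⊔ (F ∙ wb) → polar ⇑Q (s • v + t • u + c) p = 0 := fun s t c hc => by
        rw [pl_add_left, pl_add_left, pl_smul_left, pl_smul_left, hWv p hp, hpu, pl_comm Q c p, hpP c hc,
          pl_zero_left]
        ring
      have hkp : ap k p = p := by
        rw [hk, ap_mul, hga, hgb,
          refl_ap_of_orth Q (e s2 t2 wb (Submodule.mem_sup_right (Submodule.mem_span_singleton_self wb))),
          refl_ap_of_orth Q (e s1 t1 wa (Submodule.mem_sup_left (Submodule.mem_span_singleton_self wa)))]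
      have hkv := hcon _ (hmove k hkN p (hvS p hQp (hWv p hp)) (by rw [hkp]; exact hvS p hQp (hWv p hp))
        v (hvS v hQv hvv))
      have ea : polar ⇑Q (ap g a) v = polar ⇑Q a u0 := by
        rw [← polar_ap g a u0, hu0def, ap_ap_inv]
      have eb : polar ⇑Q (ap g b) v = 0 := by
        rw [← hbu0, ← polar_ap g b u0, hu0def, ap_ap_inv]
      rw [hk, ap_mul, refl_ap_of_orth Q eb, refl_ap, Q_ap, hQa, inv_one, one_mul, ea, pl_sub_right,
        pl_smul_right, hvv, pl_comm Q v (ap g a), ea, zero_sub, neg_eq_zero] at hkv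
      exact hne (mul_self_eq_zero.1 hkv)
    have ht0 : t0 = 0 := by
      have := hzero v hQv hvv
      rwa [hu0, pl_add_right, pl_add_right, pl_smul_right, pl_smul_right, hvv, huv, hWv w0 hw0,
        mul_zero, zero_add, mul_one, add_zero] at this
    have hw00 : w0 = 0 := by
      by_contra hne
      obtain ⟨y, hy, hwy⟩ := hW w0 hw0 hne
      obtain ⟨a, ha, hQa, haw⟩ := exists_quad_affine hQ hW (P := F ∙ w0)
        ((Submodule.span_singleton_le_iff_mem _ _).2 hw0)
        (by rw [finrank_span_singleton hne]; omega) hy 1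
      have := hzero a hQa (hWv a ha)
      rw [hu0, ht0, zero_smul, add_zero, pl_add_right, pl_smul_right, pl_comm Q a v, hWv a ha, mul_zero,
        zero_add, haw w0 (Submodule.mem_span_singleton_self w0), pl_comm] at this
      exact hwy this
    rw [ht0, hw00, zero_smul, add_zero, add_zero] at hu0
    have hs : s0 = 1 := hsq s0 (by
      have := Q_ap g⁻¹ v
      rwa [← hu0def, hu0, Q_smul, hQv, mul_one] at this)
    rw [hs, one_smul, hu0def] at hu0
    exact hgv (by conv_lhs => rw [← hu0, ap_ap_inv])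
  -- transitivity of the reflections orthogonal to `v`
  have step : ∀ a b, a ∈ S → Q b = 1 → polar ⇑Q v a = polar ⇑Q v b → Q (a - b) ≠ 0 → b ∈ S := by
    intro a b ha hQb hab hne
    obtain ⟨c, hc⟩ := FiniteField.isSquare_of_char_two
      (CharP.ringChar_of_prime_eq_zero Nat.prime_two (by exact_mod_cast h2)) (Q (a - b))
    have hc0 : c ≠ 0 := fun h => hne (by rw [hc, h, mul_zero])
    have hy : c⁻¹ • (a - b) ∈ S := hvS _ (by rw [Q_smul, hc]; field_simp)
      (by rw [pl_smul_right, pl_sub_right, hab, sub_self, mul_zero])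
    have := hrefl a ha _ hy
    rw [refl_smul Q (inv_ne_zero hc0)] at this
    have e : polar ⇑Q (a - b) a = Q (a - b) := by
      rw [Q_sub, pl_sub_left, pl_self, hQb, ha.1, pl_comm Q b a]; ring
    rwa [refl_ap, e, inv_mul_cancel₀ hne, one_smul, sub_sub_cancel] at this
  have trans : ∀ a b, a ∈ S → Q b = 1 → polar ⇑Q v a = polar ⇑Q v b → polar ⇑Q v a ≠ 0 → b ∈ S := by
    intro a b ha hQb hab hβ
    by_cases hne : Q (a - b) = 0
    swap; · exact step a b ha hQb hab hne
    have hfab : polar ⇑Q a b = 0 := by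
      rw [Q_sub, ha.1, hQb] at hne; linear_combination h2 - hne
    obtain ⟨s1, t1, wa, hwa, hda⟩ := hdec a
    obtain ⟨s2, t2, wb, hwb, hdb⟩ := hdec b
    have hfw : ∀ (s t s' : F) (c w : ι → F), c ∈ W → w ∈ W →
        polar ⇑Q (s' • v + w) (s • v + t • u + c) = s' * t + polar ⇑Q w c := fun s t s' c w hc hw => by
      have hwu : polar ⇑Q w u = 0 := by
        rw [pl_comm]; exact mem_perpSub.1 hw u (Submodule.mem_sup_right (Submodule.mem_span_singleton_self u))
      simp only [pl_add_left, pl_add_right, pl_smul_left, pl_smul_right, hvv, huv, hWv c hc,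
        pl_comm Q w v, hWv w hw, hwu]
      ring
    have hval : ∀ (s t : F) (c : ι → F), c ∈ W → polar ⇑Q v (s • v + t • u + c) = t := fun s t c hc => by
      simp only [pl_add_right, pl_smul_right, hvv, huv, hWv c hc]; ring
    have ht1 : t1 = polar ⇑Q v a := by rw [hda, hval s1 t1 wa hwa]
    have ht2 : t2 = polar ⇑Q v a := by rw [hab, hdb, hval s2 t2 wb hwb]
    obtain ⟨d, hd, hdv, hQd, hdb'⟩ : ∃ d, polar ⇑Q v d = 0 ∧ polar ⇑Q d a ≠ 0 ∧
        Q d = polar ⇑Q d a ∧ polar ⇑Q d b ≠ 0 := by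
      have hP := finrank_pair_le (F := F) wa wb
      have hPW : (F ∙ wa) ⊔ (F ∙ wb) ≤ W := sup_le ((Submodule.span_singleton_le_iff_mem _ _).2 hwa)
        ((Submodule.span_singleton_le_iff_mem _ _).2 hwb)
      have ma : wa ∈ (F ∙ wa) ⊔ (F ∙ wb) := Submodule.mem_sup_left (Submodule.mem_span_singleton_self wa)
      have mb : wb ∈ (F ∙ wa) ⊔ (F ∙ wb) := Submodule.mem_sup_right (Submodule.mem_span_singleton_self wb)
      by_cases h0 : wa = 0 ∨ wb = 0
      · obtain ⟨w, hw, hQw, hwP⟩ := exists_quad_affine hQ hW hPW (by omega) W.zero_mem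
          (polar ⇑Q v a - 1)
        have ea : polar ⇑Q ((1 : F) • v + w) a = polar ⇑Q v a := by
          conv_lhs => rw [hda, hfw s1 t1 1 wa w hwa hw, hwP wa ma, pl_zero_left, ht1]
          ring
        have eb : polar ⇑Q ((1 : F) • v + w) b = polar ⇑Q v a := by
          conv_lhs => rw [hdb, hfw s2 t2 1 wb w hwb hw, hwP wb mb, pl_zero_left, ht2]
          ring
        refine ⟨(1 : F) • v + w, ?_, by rw [ea]; exact hβ, ?_, by rw [eb]; exact hβ⟩
        · rw [pl_add_right, pl_smul_right, hvv, hWv w hw]; ring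
        · rw [ea, Q_add, one_smul, hQv, hWv w hw, hQw]; ring
      · push Not at h0
        obtain ⟨y, hy, hy1, hy2⟩ := exists_common_dual hQ hW hwa h0.1 hwb h0.2
        obtain ⟨w, hw, hQw, hwP⟩ := exists_quad_affine hQ hW hPW (by omega) hy (polar ⇑Q y wa)
        have ea : polar ⇑Q ((0 : F) • v + w) a = polar ⇑Q y wa := by
          rw [hda, hfw s1 t1 0 wa w hwa hw, hwP wa ma]; ring
        have eb : polar ⇑Q ((0 : F) • v + w) b = polar ⇑Q y wb := by
          rw [hdb, hfw s2 t2 0 wb w hwb hw, hwP wb mb]; ring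
        refine ⟨(0 : F) • v + w, ?_, by rw [ea, pl_comm]; exact hy1, ?_, by rw [eb, pl_comm]; exact hy2⟩
        · rw [pl_add_right, pl_smul_right, hvv, hWv w hw]; ring
        · rw [ea, zero_smul, zero_add, hQw]
    have hQz : Q (a + d) = 1 := by
      rw [Q_add, ha.1, hQd, pl_comm Q a d]; linear_combination polar ⇑Q d a * h2
    have h1 : a + d ∈ S := by
      refine step a _ ha hQz (by rw [pl_add_right, hd, add_zero]) ?_
      rw [sub_add_cancel_left, QuadraticMap.map_neg, hQd]; exact hdv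
    refine step _ b h1 hQb (by rw [pl_add_right, hd, add_zero, hab]) ?_
    rw [show a + d - b = (a + d) - b from rfl, Q_sub, hQz, hQb, pl_add_left, hfab]
    intro h
    exact hdb' (by linear_combination h2 - h)
  set β := polar ⇑Q v x
  have hall : ∀ z, Q z = 1 → z ∈ S := by
    intro z hQz
    by_cases hz : polar ⇑Q v z = 0
    · exact hvS z hQz hz
    obtain ⟨s, t, w, hw, hdx⟩ := hdec x
    have htβ : t = β := by
      simp only [β]; rw [hdx]
      simp only [pl_add_right, pl_smul_right, hvv, huv, hWv w hw]; ring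
    obtain ⟨c, hc, hQc, hcw⟩ := exists_quad_affine hQ hW (P := F ∙ w)
      ((Submodule.span_singleton_le_iff_mem _ _).2 hw)
      (by have := finrank_pair_le (F := F) w w; rw [sup_idem] at this; omega) W.zero_mem
      (1 - (polar ⇑Q v z / β / β) ^ 2)
    set r := polar ⇑Q v z / β / β
    have hy : r • v + c ∈ S := hvS _ (by
      rw [Q_add, Q_smul, pl_smul_left, hQv, hWv c hc, hQc]; ring)
      (by rw [pl_add_right, pl_smul_right, hvv, hWv c hc]; ring)
    have hnew := hrefl _ hy _ hxS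
    have hxy : polar ⇑Q x (r • v + c) = r * β := by
      rw [hdx, pl_comm]
      have hcu : polar ⇑Q c u = 0 := by
        rw [pl_comm]; exact mem_perpSub.1 hc u (Submodule.mem_sup_right (Submodule.mem_span_singleton_self u))
      simp only [pl_add_left, pl_add_right, pl_smul_left, pl_smul_right, hvv, huv, hWv w hw,
        pl_comm Q c v, hWv c hc, hcu, hcw w (Submodule.mem_span_singleton_self w), pl_zero_left]
      rw [htβ]
      ring
    refine trans _ z hnew hQz ?_ ?_
    all_goals rw [refl_ap, hxS.1, hxy, pl_sub_right, pl_add_right, pl_smul_right, pl_smul_right, hvv,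
      hWv c hc, inv_one]
    · change r * 0 + 0 - 1 * (r * β) * β = polar ⇑Q v z
      simp only [r]; field_simp; linear_combination -(polar ⇑Q v z * β ^ 2) * h2
    · change r * 0 + 0 - 1 * (r * β) * β ≠ 0
      intro h
      refine hz ?_
      have : r * β * β = polar ⇑Q v z := by simp only [r]; field_simp
      linear_combination -h - this
  exact omega_le_of_norm_one_pairs hG (by omega) fun a b ha hb => hpair a (hall a ha) b (hall b hb)

end Cfsg.Agent.Orth
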