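import Cfsg.Agent.Lib.Orth.DecompTools
import Cfsg.Agent.Lib.Orth.Nonsingular

/-!
# Stabilisers of orthogonal decompositions are maximal in `Ω` (odd characteristic, members of dimension ≥ 3)

* `PairClass` : a class of vectors of norm `c` whose pairs of reflections lie in a subgroup
* `omega_le_of_norm_pairs`, `sphere_transitive`, `sphere_add`, `omega_le_of_sphere`
* `sphere_pair_mem` : a vector of the class outside the members gives all vectors of two members
* `exists_move_norm` : a new element mapping a vector of norm `c` of a member into a member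
* `decomposition_stabilizer_maximal`
-/

set_option autoImplicit false
set_option linter.unusedSectionVars false

namespace Cfsg.Agent.Orth

open Cfsg Matrix Module
open QuadraticMap (polar)

variable {ι : Type} [Fintype ι] [DecidableEq ι] {F : Type*} [Field F] [Fintype F]
variable {Q : QuadraticForm F (ι → F)}

/-- Vectors of norm `c` all of whose pairs of reflections lie in `N`, closed under the natural moves. -/
structure PairClass (Q : QuadraticForm F (ι → F)) (N : Subgroup (IsoGrp Q)) (c : F)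
    (S : Set (ι → F)) : Prop where
  norm : ∀ x ∈ S, Q x = c
  pair : ∀ x ∈ S, ∀ y ∈ S, refl Q x * refl Q y ∈ N
  move : ∀ k ∈ N, ∀ p ∈ S, ap k p ∈ S → ∀ x ∈ S, ap k x ∈ S
  refl_mem : ∀ x ∈ S, ∀ y ∈ S, ap (refl Q y) x ∈ S

theorem pairClass_of (N : Subgroup (IsoGrp Q)) {c : F} (a0 : ι → F) :
    PairClass Q N c {x | Q x = c ∧ refl Q x * refl Q a0 ∈ N} := by
  have hpair : ∀ x, refl Q x * refl Q a0 ∈ N → ∀ y, refl Q y * refl Q a0 ∈ N →
      refl Q x * refl Q y ∈ N := by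
    intro x hx y hy
    have := mul_mem hx (inv_mem hy)
    rwa [_root_.mul_inv_rev, refl_inv, refl_inv, mul_assoc, ← mul_assoc (refl Q a0), refl_mul_self,
      one_mul] at this
  refine ⟨fun x hx => hx.1, fun x hx y hy => hpair x hx.2 y hy.2, fun k hk p hp hkp x hx => ?_,
    fun x hx y hy => ?_⟩
  · refine ⟨by rw [Q_ap, hx.1], ?_⟩
    have h1 : refl Q (ap k x) * refl Q (ap k p) ∈ N := by
      rw [← conj_refl, ← conj_refl, show k * refl Q x * k⁻¹ * (k * refl Q p * k⁻¹) =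
        k * (refl Q x * refl Q p) * k⁻¹ by group]
      exact mul_mem (mul_mem hk (hpair x hx.2 p hp.2)) (inv_mem hk)
    have := mul_mem h1 hkp.2
    rwa [mul_assoc, ← mul_assoc (refl Q (ap k p)), refl_mul_self, one_mul] at this
  · refine ⟨by rw [Q_ap, hx.1], ?_⟩
    rw [← conj_refl, refl_inv, mul_assoc]
    exact mul_mem (hpair y hy.2 x hx.2) hy.2

/-- All pairs of reflections of one norm generate at least `Ω`. -/
theorem omega_le_of_norm_pairs (hG : Good Q) (hn : 6 ≤ Fintype.card ι) {c : F} (hc : c ≠ 0)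
    {N : Subgroup (IsoGrp Q)} (h : ∀ x y, Q x = c → Q y = c → refl Q x * refl Q y ∈ N) :
    Omega F ⇑Q ≤ N := by
  obtain ⟨e, f, hp⟩ := exists_hpair hG.nd (by omega)
  rw [omega_eq_eichPair hG (by omega) (.inr (by omega)) hp, eichPair, Subgroup.closure_le]
  have key : ∀ a b : ι → F, HPair Q a b → ∀ w ∈ perp Q a b, eich Q a w ∈ N := by
    intro a b hab w hw
    have hone : ∀ z ∈ perp Q a b, Q z = c → eich Q a z ∈ N := fun z hz hQz => by
      rw [eich_eq_refl_pair hab.qe (mem_perp.1 hz).1 (by rw [hQz]; exact hc)]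
      refine h z _ hQz ?_
      rw [Q_add, Q_smul, pl_smul_right, hab.qe, pl_comm Q z a, (mem_perp.1 hz).1, hQz]; ring
    by_cases hw0' : w = 0
    · rw [hw0', eich_zero]; exact one_mem _
    obtain ⟨y, hy, hwy⟩ := hab.perp_nondeg hG.nd hw hw0'
    obtain ⟨w1, hw1, hQw1, hw1w⟩ := exists_quad_affine hG.nd (W := perp Q a b)
      (fun z hz hz0 => hab.perp_nondeg hG.nd hz hz0) (P := F ∙ w)
      ((Submodule.span_singleton_le_iff_mem _ _).2 hw)
      (by have := card_le_finrank_perp (Q := Q) a b; rw [finrank_span_singleton hw0']; omega)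
      (Submodule.smul_mem _ (Q w / polar ⇑Q w y) hy) c
    have h1 := hw1w w (Submodule.mem_span_singleton_self w)
    rw [pl_smul_left, pl_comm Q y w, div_mul_cancel₀ _ hwy] at h1
    have := mul_mem (hone _ ((perp Q a b).sub_mem hw hw1) (by rw [Q_sub, hQw1, pl_comm, h1]; ring))
      (hone w1 hw1 hQw1)
    rwa [eich_add hab.qe (mem_perp.1 ((perp Q a b).sub_mem hw hw1)).1 (mem_perp.1 hw1).1,
      sub_add_cancel] at this
  rintro _ ⟨w, hw, rfl | rfl⟩
  · exact key e f hp w hw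
  · exact key f e hp.swap w (by rwa [perp_swap])

variable {N : Subgroup (IsoGrp Q)} {c : F} {S : Set (ι → F)}

/-- Reflections in the vectors of norm `c` of a big `W` are transitive on each norm level of `W`. -/
theorem sphere_transitive (hQ : Q.polarBilin.Nondegenerate) {W : Submodule F (ι → F)}
    (hW : ∀ x ∈ W, x ≠ 0 → ∃ y ∈ W, polar ⇑Q x y ≠ 0) (hd : 6 ≤ finrank F W) (hc : c ≠ 0)
    (hS : PairClass Q N c S) (hWS : ∀ s ∈ W, Q s = c → s ∈ S) {w v x' : ι → F} (hw : w ∈ W)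
    (hw0 : w ≠ 0) (hv : v ∈ W) (hv0 : v ≠ 0) (hx' : x' ∈ perpSub Q W) (hQv : Q v = Q w)
    (hmem : w + x' ∈ S) : v + x' ∈ S := by
  have step : ∀ a ∈ W, ∀ b ∈ W, Q b = Q a → polar ⇑Q a b = 2 * Q a - c → a + x' ∈ S → b + x' ∈ S := by
    intro a ha b hb hab hf h
    have hQs : Q (a - b) = c := by rw [Q_sub, hab, hf]; ring
    have := hS.refl_mem _ h _ (hWS _ (W.sub_mem ha hb) hQs)
    have e : polar ⇑Q (a - b) (a + x') = c := by
      rw [pl_add_right, pl_sub_left, pl_self, pl_comm Q b a, hf,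
        mem_perpSub.1 hx' _ (W.sub_mem ha hb)]
      ring
    rw [refl_ap, hQs, e, inv_mul_cancel₀ hc, one_smul] at this
    convert this using 1
    abel
  have indep : ∀ a ∈ W, ∀ b ∈ W, Q b = Q a → a ∉ F ∙ b → b ∉ F ∙ a → a + x' ∈ S → b + x' ∈ S := by
    intro a ha b hb hab hab1 hab2 h
    obtain ⟨d1, hd1, hd1b, hd1a⟩ := exists_dual_in hQ hW
      ((Submodule.span_singleton_le_iff_mem _ _).2 hb) ha hab1
    obtain ⟨d2, hd2, hd2a, hd2b⟩ := exists_dual_in hQ hW
      ((Submodule.span_singleton_le_iff_mem _ _).2 ha) hb hab2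
    obtain ⟨m, hm, hQm, hmP⟩ := exists_quad_affine hQ hW (P := (F ∙ a) ⊔ (F ∙ b))
      (sup_le ((Submodule.span_singleton_le_iff_mem _ _).2 ha)
        ((Submodule.span_singleton_le_iff_mem _ _).2 hb))
      (by have := finrank_pair_le (F := F) a b; omega)
      (W.smul_mem (2 * Q a - c) (W.add_mem hd1 hd2)) (Q a)
    have ea : polar ⇑Q m a = 2 * Q a - c := by
      rw [hmP a (Submodule.mem_sup_left (Submodule.mem_span_singleton_self a)), pl_smul_left,
        pl_add_left, hd1a, hd2a a (Submodule.mem_span_singleton_self a), add_zero, mul_one]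
    have eb : polar ⇑Q m b = 2 * Q a - c := by
      rw [hmP b (Submodule.mem_sup_right (Submodule.mem_span_singleton_self b)), pl_smul_left,
        pl_add_left, hd1b b (Submodule.mem_span_singleton_self b), hd2b, zero_add, mul_one]
    exact step m hm b hb (hab.trans hQm.symm) (by rw [eb, hQm])
      (step a ha m hm hQm (by rw [pl_comm, ea]) h)
  by_cases h : v ∈ F ∙ w
  · have hWle : ¬ W ≤ F ∙ w := fun hle => by
      have := Submodule.finrank_mono hle
      rw [finrank_span_singleton hw0] at this; omega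
    obtain ⟨w2, hw2, hQw2, hw2w, -⟩ := exists_norm_avoid hQ hW (by omega) hWle hWle (Q w)
    have hvs : (F ∙ v) = (F ∙ w) := by
      refine le_antisymm ((Submodule.span_singleton_le_iff_mem _ _).2 h) ?_
      obtain ⟨r, rfl⟩ := Submodule.mem_span_singleton.1 h
      rw [Submodule.span_singleton_smul_eq (Ne.isUnit (fun hr : r = 0 => hv0 (by rw [hr, zero_smul])))]
    have hw20 : w2 ≠ 0 := fun h0 => hw2w (h0 ▸ Submodule.zero_mem _)
    have sym : ∀ a : ι → F, a ≠ 0 → w2 ∉ F ∙ a → a ∉ F ∙ w2 := fun a ha hna hmem => by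
      obtain ⟨r, hr⟩ := Submodule.mem_span_singleton.1 hmem
      refine hna (Submodule.mem_span_singleton.2 ⟨r⁻¹, ?_⟩)
      rw [← hr, inv_smul_smul₀ (fun h0 : r = 0 => ha (by rw [← hr, h0, zero_smul]))]
    refine indep w2 hw2 v hv (hQv.trans hQw2.symm) (hvs ▸ hw2w) (sym v hv0 (hvs ▸ hw2w))
      (indep w hw w2 hw2 hQw2 (sym w hw0 hw2w) hw2w hmem)
  · refine indep w hw v hv hQv (fun hmem' => h ?_) h hmem
    obtain ⟨r, hr⟩ := Submodule.mem_span_singleton.1 hmem'
    refine Submodule.mem_span_singleton.2 ⟨r⁻¹, ?_⟩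
    rw [← hr, inv_smul_smul₀ (fun h0 : r = 0 => hw0 (by rw [← hr, h0, zero_smul]))]

/-- The perpendicular parts of the class form a set closed under addition. -/
theorem sphere_add (hQ : Q.polarBilin.Nondegenerate) {W : Submodule F (ι → F)}
    (hW : ∀ x ∈ W, x ≠ 0 → ∃ y ∈ W, polar ⇑Q x y ≠ 0) (hd : 6 ≤ finrank F W) (hc : c ≠ 0)
    (hS : PairClass Q N c S) (hWS : ∀ s ∈ W, Q s = c → s ∈ S) {x' v' : ι → F}
    (hx : x' ∈ perpSub Q W) (hv : v' ∈ perpSub Q W) (hxS : ∃ w ∈ W, w ≠ 0 ∧ w + x' ∈ S)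
    (hvS : ∃ w ∈ W, w ≠ 0 ∧ w + v' ∈ S) : ∃ w ∈ W, w ≠ 0 ∧ w + (x' + v') ∈ S := by
  obtain ⟨w, hw, hw0, hwS⟩ := hxS
  obtain ⟨w', hw', hw'0, hw'S⟩ := hvS
  have hnorm : ∀ z ∈ W, ∀ p ∈ perpSub Q W, Q (z + p) = Q z + Q p := fun z hz p hp => by
    rw [Q_add, mem_perpSub.1 hp z hz, add_zero]
  -- `v` with `f(v,w) = α` and `f(v,u) = 1` for some `u ⊥ w`
  obtain ⟨u, ⟨hu, huw'⟩, hu0⟩ : ∃ u ∈ W ⊓ perpSub Q (F ∙ w), u ∉ F ∙ w := by
    by_contra! h
    have h1 := Submodule.finrank_mono (show W ⊓ perpSub Q (F ∙ w) ≤ F ∙ w from h)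
    have h2 := finrank_inf_perp_ge hQ W w
    rw [finrank_span_singleton hw0] at h1
    omega
  have huw : polar ⇑Q w u = 0 := mem_perpSub.1 huw' w (Submodule.mem_span_singleton_self w)
  have hwu : w ∉ F ∙ u := fun h => by
    obtain ⟨r, hr⟩ := Submodule.mem_span_singleton.1 h
    refine hu0 (Submodule.mem_span_singleton.2 ⟨r⁻¹, ?_⟩)
    rw [← hr, inv_smul_smul₀ (fun h0 : r = 0 => hw0 (by rw [← hr, h0, zero_smul]))]
  obtain ⟨v1, hv1, hv1u, hv1w⟩ := exists_dual_in hQ hW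
    ((Submodule.span_singleton_le_iff_mem _ _).2 hu) hw hwu
  obtain ⟨v2, hv2, hv2w, hv2u⟩ := exists_dual_in hQ hW
    ((Submodule.span_singleton_le_iff_mem _ _).2 hw) hu hu0
  set α := -c - polar ⇑Q v' x'
  obtain ⟨v, hvW, hQv, hvP⟩ := exists_quad_affine hQ hW (P := (F ∙ w) ⊔ (F ∙ u))
    (sup_le ((Submodule.span_singleton_le_iff_mem _ _).2 hw)
      ((Submodule.span_singleton_le_iff_mem _ _).2 hu))
    (by have := finrank_pair_le (F := F) w u; omega)
    (W.add_mem (W.smul_mem α hv1) hv2) (c - Q v')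
  have e1 : polar ⇑Q v w = α := by
    rw [hvP w (Submodule.mem_sup_left (Submodule.mem_span_singleton_self w)), pl_add_left,
      pl_smul_left, hv1w, hv2w w (Submodule.mem_span_singleton_self w)]; ring
  have e2 : polar ⇑Q v u = 1 := by
    rw [hvP u (Submodule.mem_sup_right (Submodule.mem_span_singleton_self u)), pl_add_left,
      pl_smul_left, hv1u u (Submodule.mem_span_singleton_self u), hv2u]; ring
  have hv0 : v ≠ 0 := fun h => by rw [h, pl_zero_left] at e2; exact zero_ne_one e2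
  have hwv0 : w + v ≠ 0 := fun h => by
    have : polar ⇑Q (w + v) u = 1 := by rw [pl_add_left, huw, e2, zero_add]
    rw [h, pl_zero_left] at this
    exact zero_ne_one this
  have hyS : v + v' ∈ S := sphere_transitive hQ hW hd hc hS hWS hw' hw'0 hvW hv0 hv (by
    have h1 := hS.norm _ hw'S
    rw [hnorm w' hw' v' hv] at h1
    rw [hQv]; linear_combination -h1) hw'S
  have hnew := hS.refl_mem _ hwS _ hyS
  have e3 : polar ⇑Q (v + v') (w + x') = -c := by
    rw [pl_add_left, pl_add_right, pl_add_right, e1, mem_perpSub.1 hx v hvW, pl_comm Q v' w,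
      mem_perpSub.1 hv w hw]
    ring
  rw [refl_ap, e3, hS.norm _ hyS] at hnew
  refine ⟨w + v, W.add_mem hw hvW, hwv0, ?_⟩
  convert hnew using 1
  rw [mul_neg, inv_mul_cancel₀ hc]
  module

theorem omega_le_of_sphere (hG : Good Q) {W : Submodule F (ι → F)}
    (hW : ∀ x ∈ W, x ≠ 0 → ∃ y ∈ W, polar ⇑Q x y ≠ 0) (hd : 6 ≤ finrank F W) (hc : c ≠ 0)
    (hS : PairClass Q N c S) (hWS : ∀ s ∈ W, Q s = c → s ∈ S)
    (hU : ∀ z ∈ perpSub Q W, ∃ w ∈ W, w ≠ 0 ∧ w + z ∈ S) : Omega F ⇑Q ≤ N := by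
  have hQ := hG.nd
  have hn : finrank F W ≤ Fintype.card ι := by
    have := Submodule.finrank_le W; rwa [finrank_space] at this
  have hX := perpSub_nondeg hQ hW
  have hnorm : ∀ z ∈ W, ∀ p ∈ perpSub Q W, Q (z + p) = Q z + Q p := fun z hz p hp => by
    rw [Q_add, mem_perpSub.1 hp z hz, add_zero]
  have key : ∀ zw ∈ W, zw ≠ 0 → ∀ zx ∈ perpSub Q W, Q (zw + zx) = c → zw + zx ∈ S := by
    intro zw hzw h0 zx hzx hQ1
    obtain ⟨w, hw, hw0, hwS⟩ := hU zx hzx
    refine sphere_transitive hQ hW hd hc hS hWS hw hw0 hzw h0 hzx ?_ hwS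
    have h1 := hS.norm _ hwS
    rw [hnorm w hw zx hzx] at h1
    rw [hnorm zw hzw zx hzx] at hQ1
    linear_combination hQ1 - h1
  refine omega_le_of_norm_pairs hG (by omega) hc fun x y hx hy => ?_
  suffices hfull : ∀ z, Q z = c → z ∈ S from hS.pair x (hfull x hx) y (hfull y hy)
  intro z hQz
  obtain ⟨zw, hzw, zx, hzx, rfl⟩ := exists_proj hQ hW z
  by_cases h0 : zw = 0
  swap; · exact key zw hzw h0 zx hzx hQz
  rw [h0, zero_add] at hQz ⊢
  have hzx0 : zx ≠ 0 := fun h => hc (by rw [← hQz, h, QuadraticMap.map_zero])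
  obtain ⟨v', hv', hzv⟩ := hX zx hzx hzx0
  obtain ⟨v, hv, hv0, hQv⟩ := exists_ne_zero_Q_eq hW (by omega) (c - Q v')
  have hyS : v + v' ∈ S := key v hv hv0 v' hv' (by rw [hnorm v hv v' hv', hQv]; ring)
  have e : ap (refl Q (v + v')) zx =
      (-(c⁻¹ * polar ⇑Q v' zx)) • v + (zx - (c⁻¹ * polar ⇑Q v' zx) • v') := by
    rw [refl_ap, hS.norm _ hyS, pl_add_left, mem_perpSub.1 hzx v hv, zero_add]
    module
  have hz'S : ap (refl Q (v + v')) zx ∈ S := by
    rw [e]
    refine key _ (W.smul_mem _ hv) (smul_ne_zero (neg_ne_zero.2 (mul_ne_zero (inv_ne_zero hc)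
      (by rw [pl_comm]; exact hzv))) hv0) _ ((perpSub Q W).sub_mem hzx ((perpSub Q W).smul_mem _ hv')) ?_
    rw [← e, Q_ap, hQz]
  have := hS.refl_mem _ hz'S _ hyS
  rwa [← ap_mul, refl_mul_self, ap_one] at this

variable {t k : ℕ} {D : Fin t → Submodule F (ι → F)}

/-- Pairs of reflections in member vectors permute the members. -/
theorem mem_decomp_pair (_hG : Good Q) (hD : Geo.IsOrthogonalMDecomposition ⇑Q k D) {a b : ι → F}
    (ha : ∃ l, a ∈ D l) (hb : ∃ l, b ∈ D l) :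
    ((refl Q a * refl Q b : IsoGrp Q) : GL ι F) ∈ Geo.decompositionStabilizer D := by
  have hone : ∀ v : ι → F, (∃ l, v ∈ D l) →
      ((refl Q v : IsoGrp Q) : GL ι F) ∈ Geo.decompositionStabilizer D := by
    rintro v ⟨l, hv⟩
    refine ⟨1, fun m => ?_⟩
    refine Submodule.eq_of_le_of_finrank_le (Submodule.map_le_iff_le_comap.2 fun x hx => ?_) ?_
    · show ap (refl Q v) x ∈ D m
      by_cases hm : m = l
      · subst hm; exact refl_ap_mem hv hx
      · rw [refl_ap_of_orth Q (member_orth hD (Ne.symm hm) hv hx)]; exact hx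
    · have hinj' : Function.Injective (Matrix.toLin' ((refl Q v : IsoGrp Q) : GL ι F).1) :=
        fun u w e => ap_inj (refl Q v) e
      exact ((Submodule.equivMapOfInjective _ hinj' (D m)).finrank_eq).le
  exact (Geo.decompositionStabilizer D).mul_mem (hone a ha) (hone b hb)

set_option maxHeartbeats 800000 in
/-- A vector of the class with two non-zero components gives all of the class in the two members. -/
theorem sphere_pair_mem (hG : Good Q) (hD : Geo.IsOrthogonalMDecomposition ⇑Q k D) (hk : 3 ≤ k)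
    (h2 : (2 : F) ≠ 0) (hex : 4 ≤ k ∨ ∃ r : F, r ≠ 0 ∧ r * r ≠ 1) (hc : c ≠ 0)
    (hA : ∀ i, ∀ u ∈ D i, ∀ r : F, ∃ p ∈ D i, Q p = r * r * c ∧ polar ⇑Q p u = 0)
    (hH : ∀ h : IsoGrp Q, h ∈ Omega F ⇑Q → (h : GL ι F) ∈ Geo.decompositionStabilizer D → h ∈ N)
    (hS : PairClass Q N c S) (hNS : ∀ i, ∀ x ∈ D i, Q x = c → x ∈ S) {x : ι → F} (hx : x ∈ S)
    {i j : Fin t} (hij : i ≠ j) (hxi : cmp hG.nd hD i x ≠ 0) (hxj : cmp hG.nd hD j x ≠ 0) :
    ∀ u ∈ D i, ∀ v ∈ D j, Q u + Q v = c → u + v ∈ S := by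
  classical
  have hr := hD.decomp.decomp.finrank_eq
  have hnd := member_nondeg hD
  -- shifts
  have hshift : ∀ l, ∀ d ∈ D l, ∀ p ∈ D l, Q d ≠ 0 → Q p = Q d → ∀ y ∈ S,
      polar ⇑Q (cmp hG.nd hD l y) d = Q d → polar ⇑Q (cmp hG.nd hD l y) p = 0 → y - d ∈ S := by
    intro l d hd p hp hQd hQp y hy hyd hyp
    rw [polar_cmp hG.nd hD hd] at hyd
    rw [polar_cmp hG.nd hD hp] at hyp
    set h := refl Q d * refl Q p
    have hN : h ∈ N := hH h (refl_pair_mem_omega hG hQd hQp) (mem_decomp_pair hG hD ⟨l, hd⟩ ⟨l, hp⟩)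
    obtain ⟨a, ha, hQa, -⟩ := hA l 0 (D l).zero_mem 1
    rw [one_mul, one_mul] at hQa
    have hha : ap h a ∈ D l := by rw [ap_mul]; exact refl_ap_mem hd (refl_ap_mem hp ha)
    have := hS.move h hN a (hNS l a ha hQa) (hNS l _ hha (by rw [Q_ap, hQa])) y hy
    rwa [ap_mul, refl_ap_of_orth Q (v := p) (by rw [pl_comm]; exact hyp), refl_ap, pl_comm Q d y, hyd,
      inv_mul_cancel₀ hQd, one_smul] at this
  -- the vectors realising a shift
  have hgetd : ∀ l, ∀ w ∈ D l, w ≠ 0 → ∀ a : F, a ≠ 0 → (4 ≤ k ∨ Q w ≠ 0 ∨ ∃ r : F, a = r * r * c) →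
      ∃ d ∈ D l, Q d = a ∧ polar ⇑Q w d = a ∧ ∃ p ∈ D l, Q p = a ∧ polar ⇑Q w p = 0 := by
    intro l w hw hw0 a ha hcase
    have hp : ∃ p ∈ D l, Q p = a ∧ polar ⇑Q w p = 0 := by
      rcases hcase with h | h | ⟨r, rfl⟩
      · obtain ⟨p, hp, h1, h3⟩ := exists_perp_norm hG.nd (hnd l) (by rw [hr]; omega) hw
          (.inl (by rw [hr]; omega)) a
        exact ⟨p, hp, h1, by rw [pl_comm]; exact h3⟩
      · obtain ⟨p, hp, h1, h3⟩ := exists_perp_norm hG.nd (hnd l) (by rw [hr]; omega) hw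
          (.inr (.inl ⟨h2, h⟩)) a
        exact ⟨p, hp, h1, by rw [pl_comm]; exact h3⟩
      · obtain ⟨p, hp, h1, h3⟩ := hA l w hw r
        exact ⟨p, hp, h1, by rw [pl_comm]; exact h3⟩
    by_cases hQw : Q w = 0
    · obtain ⟨f, hf, hQf, hwf⟩ := exists_hpair_in hG.nd (hnd l) hw hw0 hQw
      refine ⟨w + a • f, (D l).add_mem hw ((D l).smul_mem _ hf), ?_, ?_, hp⟩
      · rw [Q_add, Q_smul, hQw, hQf, pl_smul_right, hwf]; ring
      · rw [pl_add_right, pl_smul_right, pl_self, hQw, hwf]; ring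
    · set r := a / (2 * Q w) with hr'
      have hra : r * (2 * Q w) = a := by
        rw [hr', div_mul_cancel₀]; exact mul_ne_zero h2 hQw
      obtain ⟨z, hz, hQz, hzw⟩ := exists_perp_norm hG.nd (hnd l) (by rw [hr]; omega) hw
        (.inr (.inl ⟨h2, hQw⟩)) (a - r * r * Q w)
      refine ⟨r • w + z, (D l).add_mem ((D l).smul_mem _ hw) hz, ?_, ?_, hp⟩
      · rw [Q_add, Q_smul, hQz, pl_smul_left, pl_comm Q w z, hzw]; ring
      · rw [pl_add_right, pl_smul_right, pl_self, pl_comm Q w z, hzw, hra, add_zero]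
  -- vectors with two components
  have hdiff : ∀ y ∈ S, ∀ i j : Fin t, i ≠ j → cmp hG.nd hD i y ≠ 0 → cmp hG.nd hD j y ≠ 0 →
      ∀ a : F, a ≠ 0 → c - a ≠ 0 →
      (4 ≤ k ∨ Q (cmp hG.nd hD i y) ≠ 0 ∨ ∃ r : F, a = r * r * c) →
      (4 ≤ k ∨ Q (cmp hG.nd hD j y) ≠ 0 ∨ ∃ r : F, c - a = r * r * c) →
      ∃ u ∈ D i, ∃ v ∈ D j, Q u = a ∧ Q v = c - a ∧ u + v ∈ S := by
    intro y hy i j hij hyi hyj a ha ha' hci hcj
    obtain ⟨di, hdi, hQdi, hfi, pi, hpi, hQpi, hfpi⟩ := hgetd i _ (cmp_mem hG.nd hD i y) hyi a ha hci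
    obtain ⟨dj, hdj, hQdj, hfj, pj, hpj, hQpj, hfpj⟩ :=
      hgetd j _ (cmp_mem hG.nd hD j y) hyj (c - a) ha' hcj
    have h1 : y - di ∈ S := hshift i di hdi pi hpi (by rw [hQdi]; exact ha) (hQpi.trans hQdi.symm) y hy
      (by rw [hfi, hQdi]) hfpi
    have hcj' : cmp hG.nd hD j (y - di) = cmp hG.nd hD j y := by
      rw [map_sub, cmp_of_mem_ne hG.nd hD hij.symm hdi, sub_zero]
    have h3 : y - di - dj ∈ S := hshift j dj hdj pj hpj (by rw [hQdj]; exact ha')
      (hQpj.trans hQdj.symm) _ h1 (by rw [hcj', hfj, hQdj]) (by rw [hcj', hfpj])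
    refine ⟨di, hdi, dj, hdj, hQdi, hQdj, ?_⟩
    have h4 := hS.refl_mem _ hy _ h3
    have e : polar ⇑Q (y - di - dj) y = c := by
      rw [pl_sub_left, pl_sub_left, pl_self, hS.norm y hy, pl_comm Q di y, pl_comm Q dj y,
        ← polar_cmp hG.nd hD hdi y, ← polar_cmp hG.nd hD hdj y, hfi, hfj]
      ring
    rw [refl_ap, hS.norm _ h3, e, inv_mul_cancel₀ hc, one_smul] at h4
    convert h4 using 1
    abel
  obtain ⟨s, hs0, hs1, hs⟩ : ∃ s : F, s ≠ 0 ∧ c - s ≠ 0 ∧ (4 ≤ k ∨ ∃ r : F, s = r * r * c) := by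
    by_cases h4 : 4 ≤ k
    · exact ⟨2 * c, mul_ne_zero h2 hc, fun h => hc (by linear_combination -h), .inl h4⟩
    · obtain ⟨r, hr0, hr1⟩ := hex.resolve_left h4
      exact ⟨r * r * c, mul_ne_zero (mul_ne_zero hr0 hr0) hc,
        fun h => hr1 (mul_right_cancel₀ hc (by rw [one_mul]; linear_combination -h)), .inr ⟨r, rfl⟩⟩
  have hcmp2 : ∀ {i j : Fin t}, i ≠ j → ∀ {u v : ι → F}, u ∈ D i → v ∈ D j →
      cmp hG.nd hD i (u + v) = u ∧ cmp hG.nd hD j (u + v) = v := by
    intro i j hij u v hu hv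
    constructor
    · rw [map_add, cmp_of_mem hG.nd hD hu, cmp_of_mem_ne hG.nd hD hij hv, add_zero]
    · rw [map_add, cmp_of_mem hG.nd hD hv, cmp_of_mem_ne hG.nd hD hij.symm hu, zero_add]
  have hne : ∀ {u : ι → F}, Q u ≠ 0 → u ≠ 0 := fun h h0 => h (by rw [h0, QuadraticMap.map_zero])
  -- a first vector with two anisotropic components
  obtain ⟨u0, hu0, v0, hv0, hQu0, hQv0, hz0⟩ : ∃ u ∈ D i, ∃ v ∈ D j,
      Q u ≠ 0 ∧ Q v ≠ 0 ∧ u + v ∈ S := by
    have hB : ∀ y ∈ S, ∀ i j : Fin t, i ≠ j → cmp hG.nd hD i y ≠ 0 → cmp hG.nd hD j y ≠ 0 →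
        (4 ≤ k ∨ Q (cmp hG.nd hD j y) ≠ 0) → ∃ u ∈ D i, ∃ v ∈ D j, Q u ≠ 0 ∧ Q v ≠ 0 ∧ u + v ∈ S := by
      intro y hy i j hij hyi hyj hj
      obtain ⟨u, hu, v, hv, hQu, hQv, h⟩ := hdiff y hy i j hij hyi hyj s hs0 hs1
        (by rcases hs with h | h
            · exact .inl h
            · exact .inr (.inr h))
        (by rcases hj with h | h
            · exact .inl h
            · exact .inr (.inl h))
      exact ⟨u, hu, v, hv, by rw [hQu]; exact hs0, by rw [hQv]; exact hs1, h⟩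
    by_cases hj : 4 ≤ k ∨ Q (cmp hG.nd hD j x) ≠ 0
    · exact hB x hx i j hij hxi hxj hj
    have swap : ∀ y ∈ S, cmp hG.nd hD i y ≠ 0 → cmp hG.nd hD j y ≠ 0 →
        Q (cmp hG.nd hD i y) ≠ 0 → ∃ u ∈ D i, ∃ v ∈ D j, Q u ≠ 0 ∧ Q v ≠ 0 ∧ u + v ∈ S := by
      intro y hy h1 h3 hi
      obtain ⟨v, hv, u, hu, hQv, hQu, h⟩ := hB y hy j i hij.symm h3 h1 (.inr hi)
      exact ⟨u, hu, v, hv, hQu, hQv, by rwa [add_comm]⟩
    by_cases hi : Q (cmp hG.nd hD i x) ≠ 0
    · exact swap x hx hxi hxj hi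
    push Not at hi hj
    obtain ⟨r, hr0, hr1⟩ := hex.resolve_left (by omega)
    set xi := cmp hG.nd hD i x with hxi'
    obtain ⟨f, hf, hQf, hxf⟩ := exists_hpair_in hG.nd (hnd i) (cmp_mem hG.nd hD i x) hxi hi
    set p := (r * c) • f + r⁻¹ • xi with hp
    have hpD : p ∈ D i := (D i).add_mem ((D i).smul_mem _ hf) ((D i).smul_mem _ (cmp_mem hG.nd hD i x))
    have hQp : Q p = c := by
      rw [hp, Q_add, Q_smul, Q_smul, hQf, hi, pl_smul_left, pl_smul_right, pl_comm Q f xi, hxf]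
      field_simp; ring
    have hxp : polar ⇑Q xi p = r * c := by
      rw [hp, pl_add_right, pl_smul_right, pl_smul_right, hxf, pl_self, hi]; ring
    have hy : p - r • x ∈ S := by
      have := hS.refl_mem p (hNS i p hpD hQp) x hx
      rwa [refl_ap, hS.norm x hx, ← polar_cmp hG.nd hD hpD, hxp, ← mul_assoc, mul_comm (c⁻¹) r,
        mul_assoc, inv_mul_cancel₀ hc, mul_one] at this
    have e1 : cmp hG.nd hD i (p - r • x) = p - r • xi := by
      rw [map_sub, map_smul, cmp_of_mem hG.nd hD hpD]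
    have e2 : cmp hG.nd hD j (p - r • x) = -(r • cmp hG.nd hD j x) := by
      rw [map_sub, map_smul, cmp_of_mem_ne hG.nd hD hij.symm hpD, zero_sub]
    have e3 : Q (cmp hG.nd hD i (p - r • x)) ≠ 0 := by
      rw [e1, Q_sub, hQp, Q_smul, hi, pl_smul_right, pl_comm Q p xi, hxp]
      intro h
      exact hr1 (mul_right_cancel₀ hc (by rw [one_mul]; linear_combination -h))
    exact swap _ hy (hne e3) (by rw [e2]; exact neg_ne_zero.2 (smul_ne_zero hr0 hxj)) e3
  obtain ⟨hci0, hcj0⟩ := hcmp2 hij hu0 hv0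
  -- transitivity on an anisotropic component
  have hto : ∀ l, ∀ u ∈ D l, ∀ u' ∈ D l, Q u ≠ 0 → Q u' = Q u → ∀ y ∈ S, cmp hG.nd hD l y = u →
      y - u + u' ∈ S := by
    intro l u hu u' hu' hQu huu y hy hcy
    have hp : ∀ w ∈ D l, Q w ≠ 0 → ∀ a, ∃ p ∈ D l, Q p = a ∧ polar ⇑Q w p = 0 := fun w hw hQw a => by
      obtain ⟨p, hp, h1, h3⟩ := exists_perp_norm hG.nd (hnd l) (by rw [hr]; omega) hw
        (.inr (.inl ⟨h2, hQw⟩)) a
      exact ⟨p, hp, h1, by rw [pl_comm]; exact h3⟩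
    by_cases hd : Q (u - u') = 0
    · have hf : polar ⇑Q u u' = 2 * Q u := by rw [Q_sub, huu] at hd; linear_combination -hd
      have h4 : (4 : F) * Q u ≠ 0 := by
        rw [show (4 : F) = 2 * 2 by norm_num]; exact mul_ne_zero (mul_ne_zero h2 h2) hQu
      have hQ1 : Q (u + u') = 4 * Q u := by rw [Q_add, huu, hf]; ring
      obtain ⟨p, hpD, hQp, hup⟩ := hp u hu hQu (4 * Q u)
      have h1 : y - (u + u') ∈ S := hshift l _ ((D l).add_mem hu hu') p hpD (by rw [hQ1]; exact h4)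
        (hQp.trans hQ1.symm) y hy (by rw [hcy, pl_add_right, pl_self, hQ1, hf]; ring)
        (by rw [hcy, hup])
      have hc1 : cmp hG.nd hD l (y - (u + u')) = -u' := by
        rw [map_sub, hcy, cmp_of_mem hG.nd hD ((D l).add_mem hu hu')]; abel
      obtain ⟨p', hp'D, hQp', hup'⟩ := hp u' hu' (by rw [huu]; exact hQu) (4 * Q u)
      have hQ2 : Q ((-2 : F) • u') = 4 * Q u := by rw [Q_smul, huu]; ring
      have := hshift l _ ((D l).smul_mem (-2 : F) hu') p' hp'D (by rw [hQ2]; exact h4)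
        (hQp'.trans hQ2.symm) _ h1 (by rw [hc1, pl_neg_left, pl_smul_right, pl_self, hQ2, huu]; ring)
        (by rw [hc1, pl_neg_left, hup', neg_zero])
      convert this using 1
      module
    · obtain ⟨p, hpD, hQp, hup⟩ := hp u hu hQu (Q (u - u'))
      have := hshift l _ ((D l).sub_mem hu hu') p hpD hd hQp y hy
        (by rw [hcy, pl_sub_right, pl_self, Q_sub, huu]; ring) (by rw [hcy, hup])
      convert this using 1
      abel
  have haniso : ∀ u ∈ D i, ∀ v ∈ D j, Q u ≠ 0 → Q v ≠ 0 → Q u + Q v = c → u + v ∈ S := by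
    intro u hu v hv hQu hQv huv
    have hQv' : Q v = c - Q u := by linear_combination huv
    obtain ⟨u1, hu1, v1, hv1, hQu1, hQv1, hz⟩ := hdiff _ hz0 i j hij
      (by rw [hci0]; exact hne hQu0) (by rw [hcj0]; exact hne hQv0) (Q u) hQu (hQv' ▸ hQv)
      (.inr (.inl (by rw [hci0]; exact hQu0))) (.inr (.inl (by rw [hcj0]; exact hQv0)))
    have h1 := hto i u1 hu1 u hu (by rw [hQu1]; exact hQu) hQu1.symm _ hz (hcmp2 hij hu1 hv1).1
    rw [add_sub_cancel_left] at h1
    have h3 := hto j v1 hv1 v hv (by rw [hQv1, ← hQv']; exact hQv) (hQv'.trans hQv1.symm) _ h1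
      (by rw [add_comm v1 u]; exact (hcmp2 hij hu hv1).2)
    convert h3 using 1
    abel
  -- singular components
  have hsing : ∀ i j : Fin t, i ≠ j → (∀ u ∈ D i, ∀ v ∈ D j, Q u ≠ 0 → Q v ≠ 0 → Q u + Q v = c → u + v ∈ S) →
      ∀ u ∈ D i, ∀ v ∈ D j, Q u = 0 → Q v = c → u + v ∈ S := by
    intro i j hij hani u hu v hv hQu hQv
    obtain ⟨u', hu', hQu', huu'⟩ : ∃ p ∈ D i, Q p = s ∧ polar ⇑Q p u = 0 := by
      rcases hs with h | ⟨r, rfl⟩
      · exact exists_perp_norm hG.nd (hnd i) (by rw [hr]; omega) hu (.inl (by rw [hr]; omega)) s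
      · exact hA i u hu r
    obtain ⟨w, hw, hQw, hwv⟩ := exists_perp_norm hG.nd (hnd j) (by rw [hr]; omega) hv
      (.inr (.inl ⟨h2, by rw [hQv]; exact hc⟩)) (c - s - (2 : F)⁻¹ * (2 : F)⁻¹ * c)
    set v' := (2 : F)⁻¹ • v + w with hv'
    have hv'D : v' ∈ D j := (D j).add_mem ((D j).smul_mem _ hv) hw
    have hQv' : Q v' = c - s := by
      rw [hv', Q_add, Q_smul, hQv, hQw, pl_smul_left, pl_comm Q v w, hwv]; ring
    have hvv' : polar ⇑Q v v' = c := by
      rw [hv', pl_add_right, pl_smul_right, pl_self, hQv, pl_comm Q v w, hwv, add_zero, ← mul_assoc,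
        inv_mul_cancel₀ h2, one_mul]
    have hy : u' + v' ∈ S := hani u' hu' v' hv'D (by rw [hQu']; exact hs0) (by rw [hQv']; exact hs1)
      (by rw [hQu', hQv']; ring)
    have hQ3 : Q (u - u') = s := by
      rw [Q_sub, hQu, hQu', pl_comm Q u u', huu']; ring
    have hQ4 : Q (v - v') = c - s := by rw [Q_sub, hQv, hQv', hvv']; ring
    have hd : (u - u') + (v - v') ∈ S := hani _ ((D i).sub_mem hu hu') _ ((D j).sub_mem hv hv'D)
      (by rw [hQ3]; exact hs0) (by rw [hQ4]; exact hs1) (by rw [hQ3, hQ4]; ring)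
    have := hS.refl_mem _ hd _ hy
    have e : polar ⇑Q (u' + v') (u - u' + (v - v')) = -c := by
      rw [pl_add_left, pl_add_right, pl_add_right, pl_sub_right, pl_sub_right, pl_sub_right, pl_sub_right,
        huu', pl_self, hQu', member_orth hD hij hu' hv, member_orth hD hij hu' hv'D,
        member_orth hD hij.symm hv'D hu, member_orth hD hij.symm hv'D hu', pl_comm Q v' v, hvv',
        pl_self, hQv']
      ring
    rw [refl_ap, hS.norm _ hy, e, mul_neg, inv_mul_cancel₀ hc] at this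
    convert this using 1
    module
  intro u hu v hv huv
  by_cases hQu : Q u = 0
  · exact hsing i j hij haniso u hu v hv hQu (by rw [← huv, hQu, zero_add])
  by_cases hQv : Q v = 0
  · rw [add_comm]
    exact hsing j i hij.symm (fun v' hv' u' hu' h1 h3 h => by
      rw [add_comm]; exact haniso u' hu' v' hv' h3 h1 (by rw [← h, add_comm])) v hv u hu hQv
      (by rw [← huv, hQv, add_zero])
  exact haniso u hu v hv hQu hQv huv

/-- A new element of a subgroup mapping a vector of norm `c` of a member into a member. -/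
theorem exists_move_norm (hG : Good Q) (hD : Geo.IsOrthogonalMDecomposition ⇑Q k D) (hk : 3 ≤ k)
    (ht : 3 ≤ t) (h2 : (2 : F) ≠ 0) (hc : c ≠ 0)
    (hA : ∀ i, ∀ u ∈ D i, ∀ r : F, ∃ p ∈ D i, Q p = r * r * c ∧ polar ⇑Q p u = 0)
    (hH : ∀ h : IsoGrp Q, h ∈ Omega F ⇑Q → (h : GL ι F) ∈ Geo.decompositionStabilizer D → h ∈ N)
    {g : IsoGrp Q} (hg : g ∈ N) (hgD : (g : GL ι F) ∉ Geo.decompositionStabilizer D) :
    ∃ g' ∈ N, (g' : GL ι F) ∉ Geo.decompositionStabilizer D ∧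
      ∃ i j, ∃ p ∈ D i, Q p = c ∧ ap g' p ∈ D j := by
  classical
  have hr := hD.decomp.decomp.finrank_eq
  let i0 : Fin t := ⟨0, by omega⟩
  obtain ⟨p, hp, hQp, -⟩ := hA i0 0 (D i0).zero_mem 1
  rw [one_mul, one_mul] at hQp
  set u := ap g⁻¹ p with hu
  have hex : ∀ l, ∃ a ∈ D l, Q a = c ∧ polar ⇑Q a u = 0 := fun l => by
    obtain ⟨a, ha, hQa, hau⟩ := hA l _ (cmp_mem hG.nd hD l u) 1
    refine ⟨a, ha, by rw [hQa]; ring, ?_⟩
    rw [pl_comm, polar_cmp hG.nd hD ha] at hau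
    rw [pl_comm]; exact hau
  choose a ha hQa hau using hex
  by_contra! hcon
  have hperp : ∀ l, polar ⇑Q (ap g (a l)) p = 0 := fun l => by
    rw [← ap_ap_inv g p, polar_ap, ← hu, hau]
  have hoa : ∀ l m, l ≠ m → polar ⇑Q (a l) (a m) = 0 := fun l m h => member_orth hD h (ha l) (ha m)
  -- all pairs permute the members
  have hpairs : ∀ l m, l ≠ m →
      ((refl Q (ap g (a l)) * refl Q (ap g (a m)) : IsoGrp Q) : GL ι F) ∈ Geo.decompositionStabilizer D := by
    intro l m hlm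
    by_contra hk'
    have hkN : refl Q (ap g (a l)) * refl Q (ap g (a m)) ∈ N := by
      rw [← conj_refl, ← conj_refl, show g * refl Q (a l) * g⁻¹ * (g * refl Q (a m) * g⁻¹) =
        g * (refl Q (a l) * refl Q (a m)) * g⁻¹ by group]
      refine mul_mem (mul_mem hg (hH _ (refl_pair_mem_omega hG (by rw [hQa]; exact hc) (by rw [hQa, hQa])) ?_))
        (inv_mem hg)
      refine mem_decomp_pair hG hD ?_ ?_
      · exact ⟨l, ha l⟩
      · exact ⟨m, ha m⟩
    refine hcon _ hkN hk' i0 i0 p hp hQp ?_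
    rw [ap_mul, refl_ap_of_orth Q (hperp m), refl_ap_of_orth Q (hperp l)]
    exact hp
  -- an image in two members
  let l1 : Fin t := ⟨1, by omega⟩
  let l2 : Fin t := ⟨2, by omega⟩
  have h01 : i0 ≠ l1 := by simp [i0, l1, Fin.ext_iff]
  have h02 : i0 ≠ l2 := by simp [i0, l2, Fin.ext_iff]
  have h12 : l1 ≠ l2 := by simp [l1, l2, Fin.ext_iff]
  set x := ap g (a i0) with hx
  have hQx : Q x = c := by rw [hx, Q_ap, hQa]
  have hcomp : ∀ m, i0 ≠ m → ∀ l, cmp hG.nd hD l x ∈ (F ∙ x) ⊔ (F ∙ ap g (a m)) := by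
    intro m hm l
    set y := ap g (a m) with hy
    set K := refl Q x * refl Q y with hK
    obtain ⟨σ, hσ, -⟩ := ap_mem_member (hpairs i0 m hm)
    have hspan : ∀ z, ap K z - z ∈ (F ∙ x) ⊔ (F ∙ y) := fun z => by
      rw [hK, ap_mul, refl_ap Q y z, refl_ap]
      refine mem_pair.2 ⟨-((Q x)⁻¹ * polar ⇑Q x (z - ((Q y)⁻¹ * polar ⇑Q y z) • y)),
        -((Q y)⁻¹ * polar ⇑Q y z), ?_⟩
      module
    have hfix : ∀ n, σ n = n := by
      intro n
      by_contra hne
      let φ : D n →ₗ[F] ((F ∙ x) ⊔ (F ∙ y) : Submodule F (ι → F)) :=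
        ((ap K - LinearMap.id).comp (D n).subtype).codRestrict _ fun z => hspan z
      have hinj : Function.Injective φ := (injective_iff_map_eq_zero φ).2 fun z hz => by
        have h0 : ap K (z : ι → F) - (z : ι → F) = 0 := congrArg Subtype.val hz
        by_contra hz0
        refine hne (member_eq hD (hσ n _ z.2) ?_ fun h => hz0 (Subtype.ext ?_))
        · rw [sub_eq_zero.1 h0]; exact z.2
        · exact ap_inj K (h.trans (map_zero _).symm)
      have h1 := LinearMap.finrank_le_finrank_of_injective hinj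
      have h3 := finrank_pair_le (F := F) x y
      rw [hr n] at h1
      omega
    have hxy : x ∉ F ∙ y := fun h => by
      obtain ⟨r, hr'⟩ := Submodule.mem_span_singleton.1 h
      have : polar ⇑Q x (ap g (a i0)) = 0 := by
        conv_lhs => rw [← hr']
        rw [pl_smul_left, hy, polar_ap, hoa m i0 hm.symm, mul_zero]
      rw [← hx, pl_self, hQx] at this
      exact mul_ne_zero h2 hc this
    obtain ⟨z, hzy, hzx⟩ := Forms.exists_dual_vector Q.polarBilin hG.nd.2 (F ∙ y) x hxy c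
    have hzy' : polar ⇑Q z y = 0 := hzy y (Submodule.mem_span_singleton_self y)
    have hKz : z - ap K z = x := by
      have hzx' : polar ⇑Q x z = c := by rw [pl_comm]; exact hzx
      rw [hK, ap_mul, refl_ap_of_orth Q (v := y) (by rw [pl_comm]; exact hzy'), refl_ap, hQx, hzx',
        inv_mul_cancel₀ hc, one_smul, sub_sub_cancel]
    have hcl : cmp hG.nd hD l x = cmp hG.nd hD l z - ap K (cmp hG.nd hD l z) := by
      conv_lhs => rw [← hKz]
      have hm' : ∀ n, ∀ w ∈ D n, ap K w ∈ D ((1 : Equiv.Perm (Fin t)) n) := fun n w hw => by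
        have := hσ n w hw
        rwa [hfix n] at this
      have e : cmp hG.nd hD l (ap K z) = ap K (cmp hG.nd hD l z) := cmp_map hG.nd hD 1 hm' l z
      rw [map_sub, e]
    rw [hcl, ← neg_sub]
    exact Submodule.neg_mem _ (hspan _)
  -- two non-zero components
  obtain ⟨i, j, hij, hxi, hxj⟩ : ∃ i j, i ≠ j ∧ cmp hG.nd hD i x ≠ 0 ∧ cmp hG.nd hD j x ≠ 0 := by
    obtain ⟨i, hi⟩ : ∃ i, cmp hG.nd hD i x ≠ 0 := by
      by_contra! h
      apply hc
      rw [← hQx, Q_eq_sum_cmp hG.nd hD x]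
      exact Finset.sum_eq_zero fun l _ => by rw [h, QuadraticMap.map_zero]
    by_contra! h
    refine hcon g hg hgD i0 i (a i0) (ha i0) (hQa i0) ?_
    rw [← hx, ← sum_cmp hG.nd hD x, Finset.sum_eq_single i
      (fun l _ hl => h i l (Ne.symm hl) hi) (fun h' => absurd (Finset.mem_univ i) h')]
    exact cmp_mem hG.nd hD i x
  set P := (F ∙ cmp hG.nd hD i x) ⊔ (F ∙ cmp hG.nd hD j x)
  have hP : finrank F P = 2 := by
    have h := Submodule.finrank_sup_add_finrank_inf_eq (F ∙ cmp hG.nd hD i x) (F ∙ cmp hG.nd hD j x)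
    have hb : (F ∙ cmp hG.nd hD i x) ⊓ (F ∙ cmp hG.nd hD j x) = ⊥ := by
      rw [eq_bot_iff]
      rintro z ⟨h1, h3⟩
      by_contra hz
      exact hij (member_eq hD ((Submodule.span_singleton_le_iff_mem _ _).2 (cmp_mem hG.nd hD i x) h1)
        ((Submodule.span_singleton_le_iff_mem _ _).2 (cmp_mem hG.nd hD j x) h3) hz)
    rw [hb, finrank_bot, finrank_span_singleton hxi, finrank_span_singleton hxj] at h
    omega
  have hyP : ∀ m, i0 ≠ m → x ∈ P ∧ ap g (a m) ∈ P := by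
    intro m hm
    have hle : P ≤ (F ∙ x) ⊔ (F ∙ ap g (a m)) := sup_le
      ((Submodule.span_singleton_le_iff_mem _ _).2 (hcomp m hm i))
      ((Submodule.span_singleton_le_iff_mem _ _).2 (hcomp m hm j))
    have heq := Submodule.eq_of_le_of_finrank_le hle (by have := finrank_pair_le (F := F) x (ap g (a m)); omega)
    rw [heq]
    exact ⟨Submodule.mem_sup_left (Submodule.mem_span_singleton_self _),
      Submodule.mem_sup_right (Submodule.mem_span_singleton_self _)⟩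
  -- three independent vectors in `P`
  let v : Fin 3 → ι → F := ![ap g (a i0), ap g (a l1), ap g (a l2)]
  have hvP : ∀ r, v r ∈ P := by
    intro r
    fin_cases r
    · exact (hyP l1 h01).1
    · exact (hyP l1 h01).2
    · exact (hyP l2 h02).2
  let φ : P →ₗ[F] (Fin 3 → F) := LinearMap.pi fun r => (Q.polarBilin.flip (v r)).comp P.subtype
  have hv : ∀ r r', polar ⇑Q (v r) (v r') = if r = r' then 2 * c else 0 := by
    intro r r'
    fin_cases r <;> fin_cases r' <;>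
      simp [v, pl_self, hQa, hoa _ _ h01, hoa _ _ h02, hoa _ _ h12, hoa _ _ h01.symm, hoa _ _ h02.symm,
        hoa _ _ h12.symm]
  have hsurj : Function.Surjective φ := fun f => by
    refine ⟨∑ r, (f r / (2 * c)) • ⟨v r, hvP r⟩, funext fun r' => ?_⟩
    show polar ⇑Q ((∑ r, (f r / (2 * c)) • (⟨v r, hvP r⟩ : P) : P) : ι → F) (v r') = f r'
    rw [Submodule.coe_sum, polar_sum_left, Finset.sum_eq_single r'
      (fun r _ hr => by rw [Submodule.coe_smul, pl_smul_left, hv, if_neg hr, mul_zero])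
      (fun h' => absurd (Finset.mem_univ r') h'), Submodule.coe_smul, pl_smul_left, hv, if_pos rfl,
      div_mul_cancel₀ _ (mul_ne_zero h2 hc)]
  have h3 := LinearMap.finrank_le_finrank_of_injective
    (f := φ.dualMap) (LinearMap.dualMap_injective_of_surjective hsurj)
  rw [Subspace.dual_finrank_eq, Subspace.dual_finrank_eq, hP] at h3
  simp at h3

set_option maxHeartbeats 400000 in
/-- Maximality of the stabiliser of an orthogonal decomposition. -/
theorem decomposition_stabilizer_maximal (hG : Good Q) (h2 : (2 : F) ≠ 0)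
    (hD : Geo.IsOrthogonalMDecomposition ⇑Q k D) (hk : 3 ≤ k) (ht : 3 ≤ t)
    (hex : 4 ≤ k ∨ ∃ r : F, r ≠ 0 ∧ r * r ≠ 1) :
    Geo.IsMaximalIn (Geo.omegaGL ⇑Q) (Geo.decompositionStabilizer D ⊓ Geo.omegaGL ⇑Q) := by
  classical
  have hQ := hG.nd
  have hr := hD.decomp.decomp.finrank_eq
  have hn : 9 ≤ Fintype.card ι := by rw [card_eq_mul hQ hD]; calc
    9 = 3 * 3 := rfl
    _ ≤ t * k := Nat.mul_le_mul ht hk
  let i0 : Fin t := ⟨0, by omega⟩
  let i1 : Fin t := ⟨1, by omega⟩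
  have h01 : i0 ≠ i1 := by simp [i0, i1, Fin.ext_iff]
  obtain ⟨c, hc, hA⟩ := exists_class hG hD hk h2 i0
  have hA1 : ∀ l, ∃ a ∈ D l, Q a = c := fun l => by
    obtain ⟨a, ha, hQa, -⟩ := hA l 0 (D l).zero_mem 1
    exact ⟨a, ha, by rw [hQa]; ring⟩
  choose a ha hQa using hA1
  have hane : ∀ l, a l ≠ 0 := fun l h => hc (by rw [← hQa l, h, QuadraticMap.map_zero])
  refine ⟨lt_of_le_of_ne inf_le_right fun heq => ?_, fun M hHM hMK => ?_⟩
  · obtain ⟨z, hz, hz0, hQz⟩ := exists_ne_zero_Q_eq (member_nondeg hD i1) (by rw [hr]; omega) 0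
    have hQw : Q (a i0 + z) = c := by rw [Q_add, hQa, hQz, member_orth hD h01 (ha i0) hz]; ring
    obtain ⟨g, hg, -, -, hgw⟩ := exists_omega_transit hG (W := ⊤) (fun x _ hx => by
        obtain ⟨y, hy⟩ := exists_polar_ne hQ hx
        exact ⟨y, trivial, hy⟩) (by rw [finrank_top, finrank_space]; omega)
      (w := a i0) trivial (hane i0) (w1 := a i0 + z) trivial
      (fun h => hc (by rw [← hQw, h, QuadraticMap.map_zero])) (by rw [hQw, hQa])
    have hmem : (g : GL ι F) ∈ Geo.decompositionStabilizer D ⊓ Geo.omegaGL ⇑Q := by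
      rw [heq]; exact coe_mem_omegaGL.2 hg
    obtain ⟨σ, hσ, -⟩ := ap_mem_member hmem.1
    have hw := hσ i0 _ (ha i0)
    rw [hgw] at hw
    by_cases hi : σ i0 = i0
    · rw [hi] at hw
      exact h01 (member_eq hD (show z ∈ D i0 by simpa using (D i0).sub_mem hw (ha i0)) hz hz0)
    · have := member_orth hD hi hw (ha i0)
      rw [pl_add_left, pl_self, hQa, member_orth hD h01.symm hz (ha i0), add_zero] at this
      exact mul_ne_zero h2 hc this
  by_cases hM : ∀ g ∈ M, g ∈ Geo.decompositionStabilizer D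
  · exact .inl (le_antisymm (le_inf hM hMK) hHM)
  refine .inr (le_antisymm hMK ?_)
  push Not at hM
  obtain ⟨g, hgM, hgD⟩ := hM
  obtain ⟨g, -, rfl⟩ := mem_omegaGL_iff.1 (hMK hgM)
  set N : Subgroup (IsoGrp Q) := M.comap (isometryGroup F ⇑Q).subtype
  suffices hle : Omega F ⇑Q ≤ N by
    intro y hy
    obtain ⟨h, hh, rfl⟩ := mem_omegaGL_iff.1 hy
    exact hle hh
  have hH : ∀ h : IsoGrp Q, h ∈ Omega F ⇑Q → (h : GL ι F) ∈ Geo.decompositionStabilizer D → h ∈ N :=
    fun h hh hd => hHM ⟨hd, coe_mem_omegaGL.2 hh⟩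
  set S := {x | Q x = c ∧ refl Q x * refl Q (a i0) ∈ N}
  have hS : PairClass Q N c S := pairClass_of N (a i0)
  have hNS : ∀ l, ∀ x ∈ D l, Q x = c → x ∈ S := fun l x hx hQx => ⟨hQx, hH _
    (refl_pair_mem_omega hG (by rw [hQx]; exact hc) (by rw [hQx, hQa]))
    (mem_decomp_pair hG hD ⟨l, hx⟩ ⟨i0, ha i0⟩)⟩
  -- elements of the group move `S` to itself
  obtain ⟨g', hg', hg'D, i, j, p, hp, hQp, hgp⟩ := exists_move_norm hG hD hk ht h2 hc hA hH
    (show g ∈ N from hgM) hgD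
  have hg'S : ∀ x ∈ S, ap g' x ∈ S :=
    hS.move g' hg' p (hNS i p hp hQp) (hNS j _ hgp (by rw [Q_ap, hQp]))
  obtain ⟨x, hx, hxout⟩ : ∃ x ∈ S, ∀ l, x ∉ D l := by
    by_contra! h
    exact hg'D (mem_decomp_of_maps hG hD hk h2 hex hc fun l x hx hQx => h _ (hg'S x (hNS l x hx hQx)))
  obtain ⟨i, j, hij, hxi, hxj⟩ : ∃ i j, i ≠ j ∧ cmp hQ hD i x ≠ 0 ∧ cmp hQ hD j x ≠ 0 := by
    by_contra! h
    have hsum := sum_cmp hQ hD x
    by_cases he : ∃ i, cmp hQ hD i x ≠ 0
    · obtain ⟨i, hi⟩ := he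
      rw [Finset.sum_eq_single i (fun l _ hl => h i l (Ne.symm hl) hi)
        (fun h' => absurd (Finset.mem_univ i) h')] at hsum
      exact hxout i (hsum ▸ cmp_mem hQ hD i x)
    · push Not at he
      rw [Finset.sum_eq_zero fun l _ => he l] at hsum
      exact hxout i0 (hsum ▸ (D i0).zero_mem)
  have hpair := sphere_pair_mem hG hD hk h2 hex hc hA hH hS hNS hx hij hxi hxj
  -- transport by swaps
  let P : Fin t → Fin t → Prop := fun i j => ∀ u ∈ D i, ∀ v ∈ D j, Q u + Q v = c → u + v ∈ S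
  have hsymm : ∀ i j, P i j → P j i := fun i j h u hu v hv huv => by
    rw [add_comm]; exact h v hv u hu (by rw [← huv, add_comm])
  have hstep : ∀ i j j', i ≠ j → i ≠ j' → P i j → P i j' := by
    intro i j j' hij hij' h u hu v hv huv
    by_cases hjj : j = j'
    · exact h u hu v (hjj ▸ hv) huv
    obtain ⟨s, hsΩ, hs1, hs2, hs3⟩ := exists_swap_members hG hD (by omega : 2 ≤ k) (Ne.symm hjj)
    have hsD : (s : GL ι F) ∈ Geo.decompositionStabilizer D :=
      mem_decomp_of_maps hG hD hk h2 hex hc fun l x hx _ => by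
        by_cases e1 : l = j'
        · exact ⟨j, hs1 x (e1 ▸ hx)⟩
        by_cases e2 : l = j
        · exact ⟨j', hs2 x (e2 ▸ hx)⟩
        exact ⟨l, hs3 l e1 e2 x hx⟩
    have hsN := hH s hsΩ hsD
    have h1 : ap s (u + v) ∈ S := by
      rw [map_add]
      exact h _ (hs3 i hij' hij u hu) _ (hs1 v hv) (by rw [Q_ap, Q_ap, huv])
    obtain ⟨σ, hσ, -⟩ := ap_mem_member (show ((s⁻¹ : IsoGrp Q) : GL ι F) ∈ Geo.decompositionStabilizer D
      from (Geo.decompositionStabilizer D).inv_mem hsD)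
    have := hS.move s⁻¹ (inv_mem hsN) (a i0) (hNS i0 _ (ha i0) (hQa i0))
      (hNS _ _ (hσ i0 _ (ha i0)) (by rw [Q_ap, hQa])) _ h1
    rwa [ap_inv_ap] at this
  have hall : ∀ i' j', i' ≠ j' → P i' j' := by
    intro i' j' h'
    by_cases e : i = j'
    · subst e
      by_cases e2 : i' = j
      · subst e2; exact hsymm _ _ hpair
      · exact hsymm _ _ (hstep i j i' hij (Ne.symm h') hpair)
    · have h1 : P i j' := hstep i j j' hij e hpair
      by_cases e2 : i' = i
      · rwa [e2]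
      · exact hsymm _ _ (hstep j' i i' (Ne.symm e) (Ne.symm h') (hsymm _ _ h1))
  -- the final step
  set W := D i0 ⊔ D i1
  have hW : ∀ x ∈ W, x ≠ 0 → ∃ y ∈ W, polar ⇑Q x y ≠ 0 := by
    intro x hx hx0
    obtain ⟨u, hu, v, hv, rfl⟩ := Submodule.mem_sup.1 hx
    by_cases hu0 : u = 0
    · obtain ⟨y, hy, hvy⟩ := member_nondeg hD i1 v hv (fun h => hx0 (by rw [hu0, h, add_zero]))
      exact ⟨y, Submodule.mem_sup_right hy, by rw [pl_add_left, member_orth hD h01 hu hy, zero_add]; exact hvy⟩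
    · obtain ⟨y, hy, huy⟩ := member_nondeg hD i0 u hu hu0
      exact ⟨y, Submodule.mem_sup_left hy,
        by rw [pl_add_left, member_orth hD h01.symm hv hy, add_zero]; exact huy⟩
  have hWd : 6 ≤ finrank F W := by
    have h := Submodule.finrank_sup_add_finrank_inf_eq (D i0) (D i1)
    have hb : D i0 ⊓ D i1 = ⊥ := by
      rw [eq_bot_iff]; rintro z ⟨h1, h3⟩; by_contra hz; exact h01 (member_eq hD h1 h3 hz)
    rw [hb, finrank_bot, hr, hr] at h
    change 6 ≤ finrank F (D i0 ⊔ D i1 : Submodule F (ι → F))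
    omega
  have hWS : ∀ s ∈ W, Q s = c → s ∈ S := by
    intro s hs hQs
    obtain ⟨u, hu, v, hv, rfl⟩ := Submodule.mem_sup.1 hs
    exact hall i0 i1 h01 u hu v hv (by rw [← hQs, Q_add, member_orth hD h01 hu hv, add_zero])
  refine omega_le_of_sphere hG hW hWd hc hS hWS fun z hz => ?_
  have hsingle : ∀ l, ∀ y ∈ D l, l ≠ i0 → l ≠ i1 →
      y ∈ perpSub Q W ∧ ∃ w ∈ W, w ≠ 0 ∧ w + y ∈ S := by
    intro l y hy h0 h1
    refine ⟨mem_perpSub.2 fun w hw => ?_, ?_⟩
    · obtain ⟨u, hu, v, hv, rfl⟩ := Submodule.mem_sup.1 hw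
      rw [pl_add_left, member_orth hD (Ne.symm h0) hu hy, member_orth hD (Ne.symm h1) hv hy, add_zero]
    · obtain ⟨u, hu, hu0, hQu⟩ := exists_ne_zero_Q_eq (member_nondeg hD i0) (by rw [hr]; omega) (c - Q y)
      exact ⟨u, Submodule.mem_sup_left hu, hu0, hall i0 l (Ne.symm h0) u hu y hy (by rw [hQu]; ring)⟩
  have hsum : ∀ s : Finset (Fin t), ∑ l ∈ s, cmp hQ hD l z ∈ perpSub Q W ∧
      ∃ w ∈ W, w ≠ 0 ∧ w + ∑ l ∈ s, cmp hQ hD l z ∈ S := by
    intro s
    induction s using Finset.induction_on with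
    | empty =>
      rw [Finset.sum_empty]
      exact ⟨Submodule.zero_mem _, a i0, Submodule.mem_sup_left (ha i0), hane i0,
        by rw [add_zero]; exact hNS i0 _ (ha i0) (hQa i0)⟩
    | insert l s hl ih =>
      rw [Finset.sum_insert hl]
      by_cases h0 : l = i0 ∨ l = i1
      · have : cmp hQ hD l z = 0 := by
          by_contra hne
          obtain ⟨y, hy, hzy⟩ := member_nondeg hD l _ (cmp_mem hQ hD l z) hne
          rw [polar_cmp hQ hD hy, pl_comm] at hzy
          rcases h0 with rfl | rfl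
          · exact hzy (mem_perpSub.1 hz y (Submodule.mem_sup_left hy))
          · exact hzy (mem_perpSub.1 hz y (Submodule.mem_sup_right hy))
        rw [this, zero_add]; exact ih
      · push Not at h0
        obtain ⟨h1, h3⟩ := hsingle l _ (cmp_mem hQ hD l z) h0.1 h0.2
        exact ⟨Submodule.add_mem _ h1 ih.1, sphere_add hQ hW hWd hc hS hWS h1 ih.1 h3 ih.2⟩
  have h := (hsum Finset.univ).2
  rwa [sum_cmp hQ hD z] at h

omit [DecidableEq ι] in
theorem exists_sq_ne_one (hF : 3 < Fintype.card F) : ∃ r : F, r ≠ 0 ∧ r * r ≠ 1 := by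
  classical
  by_contra! h
  have hsub : (Finset.univ : Finset F) ⊆ {0, 1, -1} := fun r _ => by
    by_cases hr : r = 0
    · simp [hr]
    · rcases mul_self_eq_one_iff.1 (h r hr) with h1 | h1 <;> simp [h1]
  have h1 := Finset.card_le_card hsub
  have h3 := Finset.card_le_three (a := (0 : F)) (b := 1) (c := -1)
  rw [Finset.card_univ] at h1
  omega

end Cfsg.Agent.Orth
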