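import Cfsg.Agent.Lib.Orth.DecompTwo

/-!
# Stabilisers of decompositions into planes are maximal

* `not_stab_of_three` : pairs of reflections with three components
* `exists_anchor_two` : a new element fixing an anisotropic vector of a member
* `decomposition_maximal_two`
-/

set_option autoImplicit false
set_option linter.unusedSectionVars false

namespace Cfsg.Agent.Orth

open Cfsg Matrix Module
open QuadraticMap (polar)

variable {ι : Type} [Fintype ι] [DecidableEq ι] {F : Type*} [Field F] [Fintype F]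
variable {Q : QuadraticForm F (ι → F)} {t k : ℕ} {D : Fin t → Submodule F (ι → F)}
variable {N : Subgroup (IsoGrp Q)} {c : F}

/-- A pair of reflections in the stabiliser touches at most two members. -/
theorem not_stab_of_three (hG : Good Q) (hD : Geo.IsOrthogonalMDecomposition ⇑Q k D) (hk : 2 ≤ k)
    {x y : ι → F} (hx : Q x ≠ 0) (hind : x ∉ F ∙ y) {a b d : Fin t} (hab : a ≠ b) (had : a ≠ d)
    (hbd : b ≠ d) (ha : cmp hG.nd hD a x ≠ 0) (hb : cmp hG.nd hD b x ≠ 0) (hd : cmp hG.nd hD d x ≠ 0) :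
    ((refl Q x * refl Q y : IsoGrp Q) : GL ι F) ∉ Geo.decompositionStabilizer D := by
  classical
  intro hK
  obtain ⟨σ, hσ, -⟩ := ap_mem_member hK
  set P := (F ∙ x) ⊔ (F ∙ y) with hP
  have hxP : x ∈ P := Submodule.mem_sup_left (Submodule.mem_span_singleton_self x)
  by_cases hfix : ∀ n, σ n = n
  · have hc : ∀ n, cmp hG.nd hD n x ∈ P := cmp_mem_pair hG hD hx hind fun n z hz => by
      have := hσ n z hz
      rwa [hfix n] at this
    set xa := cmp hG.nd hD a x
    set xb := cmp hG.nd hD b x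
    have haD : xa ∈ D a := cmp_mem _ hD a x
    have hbD : xb ∈ D b := cmp_mem _ hD b x
    have hPeq : P = (F ∙ xa) ⊔ (F ∙ xb) := by
      refine (Submodule.eq_of_le_of_finrank_le (sup_le ((Submodule.span_singleton_le_iff_mem _ _).2 (hc a))
        ((Submodule.span_singleton_le_iff_mem _ _).2 (hc b))) ?_).symm
      have h := Submodule.finrank_sup_add_finrank_inf_eq (F ∙ xa) (F ∙ xb)
      have hbot : (F ∙ xa) ⊓ (F ∙ xb) = ⊥ := by
        rw [eq_bot_iff]
        rintro z ⟨h1, h3⟩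
        by_contra hz
        exact hab (member_eq hD ((Submodule.span_singleton_le_iff_mem _ _).2 haD h1)
          ((Submodule.span_singleton_le_iff_mem _ _).2 hbD h3) hz)
      rw [hbot, finrank_bot, finrank_span_singleton ha, finrank_span_singleton hb, add_zero] at h
      exact (finrank_pair_le (F := F) x y).trans h.ge
    obtain ⟨p, q, e⟩ := mem_pair.1 (hPeq ▸ hxP)
    refine hd ?_
    rw [e, map_add, map_smul, map_smul, cmp_of_mem_ne hG.nd hD had.symm haD,
      cmp_of_mem_ne hG.nd hD hbd.symm hbD, smul_zero, smul_zero, add_zero]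
  push Not at hfix
  obtain ⟨n, hn⟩ := hfix
  set K := refl Q x * refl Q y with hK'
  set φ : (ι → F) →ₗ[F] (ι → F) := ap K - LinearMap.id
  have heq : (D n).map φ = P := by
    refine Submodule.eq_of_le_of_finrank_le ?_ ?_
    · rintro _ ⟨z, -, rfl⟩
      refine mem_pair.2 ⟨-((Q x)⁻¹ * polar ⇑Q x (z - ((Q y)⁻¹ * polar ⇑Q y z) • y)),
        -((Q y)⁻¹ * polar ⇑Q y z), ?_⟩
      show ap K z - z = _
      rw [hK', ap_mul, refl_ap Q y z, refl_ap]
      module
    · have hi : Function.Injective (φ.domRestrict (D n)) :=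
        (injective_iff_map_eq_zero _).2 fun z hz => Subtype.ext (by
          have h0 : ap K (z : ι → F) = z := sub_eq_zero.1 hz
          by_contra hz0
          exact hn (member_eq hD (h0 ▸ hσ n z z.2) z.2 hz0))
      have h1 := (LinearEquiv.ofInjective _ hi).finrank_eq
      rw [LinearMap.range_domRestrict, hD.decomp.decomp.finrank_eq] at h1
      rw [← h1]
      exact (finrank_pair_le (F := F) x y).trans hk
  obtain ⟨z, hz, hzx⟩ : x ∈ (D n).map φ := heq ▸ hxP
  have hcz : ∀ m, m ≠ n → m ≠ σ n → cmp hG.nd hD m x = 0 := fun m h1 h2 => by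
    rw [← hzx]
    show cmp hG.nd hD m (ap K z - z) = 0
    rw [map_sub, cmp_of_mem_ne hG.nd hD h1 hz, cmp_of_mem_ne hG.nd hD h2 (hσ n z hz), sub_zero]
  rcases eq_or_ne a n with rfl | h1
  · rcases eq_or_ne b (σ a) with rfl | h2
    · exact hd (hcz d had.symm hbd.symm)
    · exact hb (hcz b hab.symm h2)
  rcases eq_or_ne a (σ n) with rfl | h2
  · rcases eq_or_ne b n with rfl | h3
    · exact hd (hcz d hbd.symm had.symm)
    · exact hb (hcz b h3 hab.symm)
  exact ha (hcz a h1 h2)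

theorem mem_decomp_of_maps_two (hD : Geo.IsOrthogonalMDecomposition ⇑Q 2 D) (hok : ∀ l, PlaneOK Q (D l))
    (hc : c ≠ 0) {g : IsoGrp Q} (h : ∀ i, ∀ x ∈ D i, Q x = c → ∃ j, ap g x ∈ D j) :
    (g : GL ι F) ∈ Geo.decompositionStabilizer D := by
  refine mem_decomp_of_maps_members hD (by omega) fun i => ?_
  have hP : NPlane Q (D i) := ⟨member_nondeg hD i, hD.decomp.decomp.finrank_eq i⟩
  obtain ⟨a, ha, hQa⟩ := exists_Q_eq_in (Q := Q) (D i) hP.nd (by rw [hP.rk]) c
  obtain ⟨b, hb, hQb, hab, hba⟩ := hP.exists_partner (hok i) ha (by rw [hQa]; exact hc)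
  obtain ⟨j, hj⟩ := h i a ha hQa
  obtain ⟨j', hj'⟩ := h i b hb (hQb.trans hQa)
  have hjj : j = j' := by
    by_contra hne
    exact hab (by rw [← polar_ap g]; exact member_orth hD hne hj hj')
  refine ⟨j, fun x hx => ?_⟩
  obtain ⟨α, β, rfl⟩ := hP.coords ha (fun e => hc (by rw [← hQa, e, QuadraticMap.map_zero])) hb hba hx
  rw [map_add, map_smul, map_smul]
  exact (D j).add_mem ((D j).smul_mem _ hj) ((D j).smul_mem _ (hjj ▸ hj'))

theorem exists_square_ratio {a : Fin 3 → F} (ha : ∀ n, a n ≠ 0) :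
    ∃ i j, i ≠ j ∧ IsSquare (a i / a j) := by
  classical
  by_contra! h
  have h2 : (2 : F) ≠ 0 := fun h2 => h 0 1 (by decide) (mem_isSquare_of_two h2 _)
  have hrc : ringChar F ≠ 2 := two_ne_of_quadraticChar h2
  have hq : ∀ i j, i ≠ j → quadraticChar F (a i) * quadraticChar F (a j) = -1 := by
    intro i j hij
    rw [← map_mul, quadraticChar_neg_one_iff_not_isSquare]
    intro hsq
    refine h i j hij ?_
    obtain ⟨r, hr⟩ := hsq
    refine ⟨r / a j, ?_⟩
    have := ha j
    field_simp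
    linear_combination hr
  have e := hq 0 1 (by decide)
  have e' := hq 0 2 (by decide)
  have e'' := hq 1 2 (by decide)
  rcases quadraticChar_dichotomy (ha 0) with u | u <;> rcases quadraticChar_dichotomy (ha 1) with v | v <;>
    rcases quadraticChar_dichotomy (ha 2) with w | w <;> rw [u, v] at e <;> rw [u, w] at e' <;>
    rw [v, w] at e'' <;> omega

set_option maxHeartbeats 1600000 in
/-- A new element fixing an anisotropic vector of a member, unless already everything is generated. -/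
theorem exists_anchor_two (hG : Good Q) (hD : Geo.IsOrthogonalMDecomposition ⇑Q 2 D) (ht : 5 ≤ t)
    (hok : ∀ l, PlaneOK Q (D l))
    (hH : ∀ h : IsoGrp Q, h ∈ Omega F ⇑Q → (h : GL ι F) ∈ Geo.decompositionStabilizer D → h ∈ N)
    {g : IsoGrp Q} (hg : g ∈ N) (hgD : (g : GL ι F) ∉ Geo.decompositionStabilizer D) :
    Omega F ⇑Q ≤ N ∨ ∃ g' ∈ N, (g' : GL ι F) ∉ Geo.decompositionStabilizer D ∧
      ∃ l, ∃ p ∈ D l, Q p ≠ 0 ∧ ap g' p = p := by
  classical
  have hQ := hG.nd
  have hnd := member_nondeg hD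
  have hr := hD.decomp.decomp.finrank_eq
  have hpl : ∀ l, NPlane Q (D l) := fun l => ⟨hnd l, hr l⟩
  obtain ⟨i, hi⟩ : ∃ i, ∀ j, ∃ x ∈ D i, ap g x ∉ D j := by
    by_contra! h
    exact hgD (mem_decomp_of_maps_members hD (by omega) h)
  set P := (D i).map (ap g) with hPdef
  have hmemP : ∀ {x}, x ∈ P → ∃ z ∈ D i, ap g z = x := fun h => Submodule.mem_map.1 h
  have hPp : NPlane Q P := by
    refine ⟨fun x hx hx0 => ?_, ?_⟩
    · obtain ⟨z, hz, rfl⟩ := hmemP hx
      obtain ⟨y, hy, hzy⟩ := hnd i z hz (fun h => hx0 (by rw [h, map_zero]))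
      exact ⟨ap g y, Submodule.mem_map_of_mem hy, by rwa [polar_ap]⟩
    · rw [hPdef, ← (Submodule.equivMapOfInjective (ap g) (fun a b e => ap_inj g e) (D i)).finrank_eq, hr]
  have hPok : PlaneOK Q P := by
    refine (hok i).imp id (And.imp_left fun h x hx hQx => ?_)
    obtain ⟨z, hz, rfl⟩ := hmemP hx
    rw [h z hz (by rwa [Q_ap] at hQx), map_zero]
  have hPle : ∀ j, ¬ P ≤ D j := fun j hle => by
    obtain ⟨x, hx, hgx⟩ := hi j
    exact hgx (hle (Submodule.mem_map_of_mem hx))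
  have hP0 : ∀ {x y : ι → F}, y ∉ F ∙ x → x ≠ 0 → x ∉ F ∙ y := fun {x y} hyx hx0 h => by
    obtain ⟨r, hr'⟩ := Submodule.mem_span_singleton.1 h
    refine hyx (Submodule.mem_span_singleton.2 ⟨r⁻¹, ?_⟩)
    rw [← hr', inv_smul_smul₀ (fun h0 : r = 0 => hx0 (by rw [← hr', h0, zero_smul]))]
  -- rotations of the image plane
  have hK : ∀ {x y : ι → F}, x ∈ P → y ∈ P → Q x ≠ 0 → Q y = Q x → polar ⇑Q x y ≠ 0 → y ∉ F ∙ x →
      refl Q x * refl Q y ∈ N ∧
        ((refl Q x * refl Q y : IsoGrp Q) : GL ι F) ∉ Geo.decompositionStabilizer D := by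
    intro x y hx hy hQx hQy hxy hind
    refine ⟨?_, fun hstab => ?_⟩
    · obtain ⟨a, ha, rfl⟩ := hmemP hx
      obtain ⟨b, hb, rfl⟩ := hmemP hy
      rw [Q_ap] at hQx hQy
      rw [Q_ap] at hQy
      rw [← conj_refl, ← conj_refl, show g * refl Q a * g⁻¹ * (g * refl Q b * g⁻¹) =
        g * (refl Q a * refl Q b) * g⁻¹ by group]
      exact mul_mem (mul_mem hg (member_pair_mem hG hD hH ha hb hQx hQy)) (inv_mem hg)
    · obtain ⟨l, hlx, hly⟩ := member_of_pair hG hD le_rfl hQx hQy hxy hind hstab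
      refine hPle l (fun z hz => ?_)
      obtain ⟨α, β, rfl⟩ := hPp.coords hx (fun h => hQx (by rw [h, QuadraticMap.map_zero])) hy hind hz
      exact (D l).add_mem ((D l).smul_mem _ hlx) ((D l).smul_mem _ hly)
  obtain ⟨x0, hx0, hQx0⟩ := exists_Q_eq_in (Q := Q) P hPp.nd (by rw [hPp.rk]) 1
  have hx01 : Q x0 ≠ 0 := by rw [hQx0]; exact one_ne_zero
  obtain ⟨y0, hy0, hQy0, hxy0, hind0⟩ := hPp.exists_partner hPok hx0 hx01
  obtain ⟨hKN, hKD⟩ := hK hx0 hy0 hx01 hQy0 hxy0 hind0
  by_cases hperp : ∃ n, ∃ p ∈ D n, Q p ≠ 0 ∧ ∀ z ∈ P, polar ⇑Q z p = 0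
  · obtain ⟨n, p, hp, hQp, hpz⟩ := hperp
    exact .inr ⟨_, hKN, hKD, n, p, hp, hQp, ap_refl_pair_perp (hpz x0 hx0) (hpz y0 hy0)⟩
  by_cases hinj : ∀ n, ∀ z ∈ P, cmp hQ hD n z = 0 → z = 0
  swap
  · -- a projection of rank at most one
    left
    push Not at hinj
    obtain ⟨n, z0, hz0, hcz0, hz00⟩ := hinj
    obtain ⟨z1, hz1, hz10⟩ := hPp.exists_notMem z0
    set e := cmp hQ hD n z1 with he
    have heD : e ∈ D n := cmp_mem hQ hD n z1
    have himg : ∀ z ∈ P, ∃ r : F, cmp hQ hD n z = r • e := fun z hz => by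
      obtain ⟨α, β, rfl⟩ := hPp.coords hz0 hz00 hz1 hz10 hz
      exact ⟨β, by rw [map_add, map_smul, map_smul, hcz0, smul_zero, zero_add, he]⟩
    by_cases hne : e ≠ 0 ∧ Q e = 0
    swap
    · exfalso
      rw [not_and_or, not_not] at hne
      obtain ⟨p, hp, hQp, hpe⟩ : ∃ p ∈ D n, Q p ≠ 0 ∧ polar ⇑Q p e = 0 := by
        rcases hne with h | h
        · obtain ⟨p, hp, hQp⟩ := exists_Q_eq_in (Q := Q) (D n) (hnd n) (by rw [hr]) 1
          exact ⟨p, hp, by rw [hQp]; exact one_ne_zero, by rw [h, pl_zero_right]⟩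
        · obtain ⟨b, hb, hQb, hbe, -⟩ := (hpl n).perp_line hQ heD h
          exact ⟨b, hb, hQb, hbe⟩
      refine hperp ⟨n, p, hp, hQp, fun z hz => ?_⟩
      obtain ⟨r, hr'⟩ := himg z hz
      rw [← polar_cmp hQ hD hp, hr', pl_smul_left, pl_comm, hpe, mul_zero]
    obtain ⟨he0, hQe⟩ := hne
    have hq : 7 ≤ Fintype.card F := (hok n).resolve_right fun h => he0 (h.1 e heD hQe)
    obtain ⟨f, hf, hQf, hef⟩ := exists_hpair_in hQ (hnd n) heD he0 hQe
    obtain ⟨ρ, hρ0, hρ1⟩ := exists_sq_ne_one (F := F) (by omega)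
    obtain ⟨h, hhN, -, -, hhe, hfix⟩ := exists_scaling hG hD hH heD hf hQe hQf hef hρ0
    set lam := ρ * ρ
    obtain ⟨v, hv, r0, hr0, hvr⟩ := exists_proj hQ hPp.nd (-(lam - 1) • f)
    have hez : ∀ z ∈ P, polar ⇑Q e z = 0 := fun z hz => by
      obtain ⟨r, hr'⟩ := himg z hz
      rw [pl_comm, ← polar_cmp hQ hD heD, hr', pl_smul_left, pl_self, hQe, mul_zero, mul_zero]
    have hev : polar ⇑Q e v = 0 := hez v hv
    set E := eich Q e v
    have hhz : ∀ z ∈ P, ap h z = ap E z := fun z hz => by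
      obtain ⟨r, hr'⟩ := himg z hz
      have h1 : ap h z = z + ((lam - 1) * r) • e := by
        have hd : z = r • e + (z - cmp hQ hD n z) := by rw [hr']; abel
        conv_lhs => rw [hd, map_add, map_smul, hhe, hfix _ (mem_perpSub.1 (cmp_self_sub hQ hD n z))]
        rw [hr']; module
      have h2 : polar ⇑Q v z = -(lam - 1) * r := by
        have hr'' : polar ⇑Q z f = r := by rw [← polar_cmp hQ hD hf, hr', pl_smul_left, hef, mul_one]
        have h3 : polar ⇑Q z (v + r0) = -(lam - 1) * r := by rw [hvr, pl_smul_right, hr'']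
        rw [pl_add_right, mem_perpSub.1 hr0 z hz, add_zero, pl_comm] at h3
        exact h3
      rw [h1, eich_ap hQe hev, hez z hz, h2]; module
    set K := refl Q x0 * refl Q y0 with hKdef
    have hKe : ap K e = e :=
      ap_refl_pair_perp (by rw [pl_comm]; exact hez x0 hx0) (by rw [pl_comm]; exact hez y0 hy0)
    have hJ : h * K * h⁻¹ * K⁻¹ ∈ N := mul_mem (mul_mem (mul_mem hhN hKN) (inv_mem hhN)) (inv_mem hKN)
    have hKh : h * K * h⁻¹ = E * K * E⁻¹ := by
      rw [hKdef, show h * (refl Q x0 * refl Q y0) * h⁻¹ = h * refl Q x0 * h⁻¹ * (h * refl Q y0 * h⁻¹) by group,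
        show E * (refl Q x0 * refl Q y0) * E⁻¹ = E * refl Q x0 * E⁻¹ * (E * refl Q y0 * E⁻¹) by group,
        conj_refl, conj_refl, conj_refl, conj_refl, hhz x0 hx0, hhz y0 hy0]
    set w := v - ap K v with hwdef
    have hKv : polar ⇑Q e (ap K v) = 0 := by rw [← hKe, polar_ap]; exact hev
    have hew : polar ⇑Q e w = 0 := by rw [hwdef, pl_sub_right, hev, hKv, sub_zero]
    have hJe : h * K * h⁻¹ * K⁻¹ = eich Q e w := by
      rw [hKh, show E * K * E⁻¹ * K⁻¹ = E * (K * E⁻¹ * K⁻¹) by group, show E⁻¹ = eich Q e (-v) from eich_inv _ _,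
        conj_eich, hKe, map_neg, eich_add hQe hev (by rw [pl_neg_right, hKv, neg_zero]), ← sub_eq_add_neg]
    rw [hJe] at hJ
    have hwP : w ∈ P := by
      have e1 : ∀ p q : ι → F, v - (v - q - p) = p + q := fun p q => by abel
      rw [hwdef, hKdef, ap_mul, refl_ap Q y0 v, refl_ap, e1]
      exact P.add_mem (P.smul_mem _ hx0) (P.smul_mem _ hy0)
    have hw0 : w ≠ 0 := fun h0 => by
      have hfx : ap K v = v := (sub_eq_zero.1 h0).symm
      obtain ⟨h1, h2⟩ := polar_eq_zero_of_fixed hx01 (by rw [hQy0]; exact hx01) hind0 hfx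
      obtain ⟨r, hr'⟩ := himg z1 hz1
      obtain ⟨α, β, hz1'⟩ := hPp.coords hx0 (fun h => hx01 (by rw [h, QuadraticMap.map_zero])) hy0 hind0 hz1
      have h3 : polar ⇑Q z1 (v + r0) = 0 := by
        rw [pl_add_right, mem_perpSub.1 hr0 z1 hz1, add_zero, hz1', pl_add_left, pl_smul_left, pl_smul_left,
          h1, h2]; ring
      rw [hvr, pl_smul_right, ← polar_cmp hQ hD hf, ← he, hef, mul_one, neg_eq_zero] at h3
      exact hρ1 (sub_eq_zero.1 h3)
    obtain ⟨r, hrw⟩ := himg w hwP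
    set w' := w - r • e with hw'
    have hwo : ∀ z ∈ D n, polar ⇑Q z w' = 0 := by
      rw [hw', ← hrw]; exact mem_perpSub.1 (cmp_self_sub hQ hD n w)
    have hw'0 : w' ≠ 0 := fun h0 => by
      obtain ⟨y, hy, hwy⟩ := hPp.nd w hwP hw0
      exact hwy (by rw [sub_eq_zero.1 h0, pl_smul_left, hez y hy, mul_zero])
    refine omega_le_of_singular_member hG hD (by omega) hq hH heD he0 hQe hwo hw'0 ?_
    rw [hw', sub_eq_add_neg, ← neg_smul, eich_add_smul_self hQe hew]
    exact hJ
  -- all projections injective: choose a vector with four good components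
  obtain ⟨x, hx, hQx, hgood⟩ : ∃ x ∈ P, Q x ≠ 0 ∧
      4 ≤ (Finset.univ.filter fun n => Q (cmp hQ hD n x) ≠ 0).card := by
    by_cases han : ∀ n, ∀ z ∈ D n, Q z = 0 → z = 0
    · refine ⟨x0, hx0, hx01, ?_⟩
      have e : (Finset.univ.filter fun n => Q (cmp hQ hD n x0) ≠ 0) = Finset.univ :=
        Finset.filter_true_of_mem fun n _ h0 =>
          hx01 (by rw [hinj n x0 hx0 (han n _ (cmp_mem hQ hD n x0) h0), QuadraticMap.map_zero])
      rw [e, Finset.card_univ, Fintype.card_fin]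
      omega
    push Not at han
    obtain ⟨n0, z, hz, hQz, hz0⟩ := han
    have hq : 7 ≤ Fintype.card F := (hok n0).resolve_right fun h => hz0 (h.1 z hz hQz)
    have hroots : ∀ a b : ι → F, a ∈ P → b ∈ P → b ∉ F ∙ a → a ≠ 0 → ∀ n,
        (Finset.univ.filter fun τ : F => Q (cmp hQ hD n (a + τ • b)) = 0).card ≤ 2 := by
      intro a b ha hb hba ha0 n
      set A := cmp hQ hD n a with hA
      set B := cmp hQ hD n b with hB
      have hQτ : ∀ τ : F, Q (cmp hQ hD n (a + τ • b)) = Q B * (τ * τ) + polar ⇑Q A B * τ + Q A := fun τ => by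
        rw [map_add, map_smul, Q_add, Q_smul, pl_smul_right, ← hA, ← hB]; ring
      simp only [hQτ]
      refine card_roots_le_two _ _ _ fun h => ?_
      obtain ⟨h1, h2, h3⟩ := h
      have hA0 : A ≠ 0 := fun e => ha0 (hinj n a ha e)
      obtain ⟨y, hy, hAy⟩ := hnd n A (cmp_mem hQ hD n a) hA0
      have hBA : B ∉ F ∙ A := fun e => by
        obtain ⟨r, hr'⟩ := Submodule.mem_span_singleton.1 e
        refine hba (Submodule.mem_span_singleton.2 ⟨r, ?_⟩)
        have h4 : cmp hQ hD n (b - r • a) = 0 := by rw [map_sub, map_smul, ← hA, ← hB, hr', sub_self]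
        exact (sub_eq_zero.1 (hinj n _ (P.sub_mem hb (P.smul_mem _ ha)) h4)).symm
      obtain ⟨α, β, rfl⟩ := (hpl n).coords (cmp_mem hQ hD n a) hA0 (cmp_mem hQ hD n b) hBA hy
      rw [pl_add_right, pl_smul_right, pl_smul_right, pl_self, h3, h2] at hAy
      exact hAy (by ring)
    set Bad := fun n => Finset.univ.filter fun τ : F => Q (cmp hQ hD n (x0 + τ • y0)) = 0
    set PB := Finset.univ.filter fun τ : F => Q (x0 + τ • y0) = 0
    have hPB : PB.card ≤ 2 := by
      have e : ∀ τ : F, Q (x0 + τ • y0) = Q y0 * (τ * τ) + polar ⇑Q x0 y0 * τ + Q x0 := fun τ => by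
        rw [Q_add, Q_smul, pl_smul_right]; ring
      simp only [PB, e]
      exact card_roots_le_two _ _ _ fun h => hx01 h.2.2
    by_contra! hcon
    have h4 : ∀ τ ∈ Finset.univ \ PB, t - 3 ≤ (Finset.univ.filter fun n => τ ∈ Bad n).card := by
      intro τ hτ
      simp only [PB, Finset.mem_sdiff, Finset.mem_univ, true_and, Finset.mem_filter] at hτ
      have h := hcon _ (P.add_mem hx0 (P.smul_mem τ hy0)) hτ
      have e := Finset.card_filter_add_card_filter_not (s := (Finset.univ : Finset (Fin t)))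
        (p := fun n => Q (cmp hQ hD n (x0 + τ • y0)) ≠ 0)
      simp only [not_not, Finset.card_univ, Fintype.card_fin] at e
      simp only [Bad, Finset.mem_filter, Finset.mem_univ, true_and]
      omega
    -- the members where `y0` has a singular component
    obtain ⟨G, hG'⟩ : ∃ G : Finset (Fin t), G = Finset.univ.filter fun n => Q (cmp hQ hD n y0) = 0 :=
      ⟨_, rfl⟩
    have hGc : t - 3 ≤ G.card := by
      have h := hcon y0 hy0 (by rw [hQy0]; exact hx01)
      have e := Finset.card_filter_add_card_filter_not (s := (Finset.univ : Finset (Fin t)))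
        (p := fun n => Q (cmp hQ hD n y0) ≠ 0)
      simp only [not_not, Finset.card_univ, Fintype.card_fin] at e
      rw [hG']
      omega
    have hBad : ∀ n, (Bad n).card + (if n ∈ G then 1 else 0) ≤ 2 := by
      intro n
      have h1 := hroots x0 y0 hx0 hy0 hind0 (fun h => hx01 (by rw [h, QuadraticMap.map_zero])) n
      by_cases hn : n ∈ G
      swap
      · rw [if_neg hn]; exact h1
      rw [if_pos hn]
      by_contra hlt
      obtain ⟨τ, hτ, σ, hσ, hne⟩ := Finset.one_lt_card.1 (show 1 < (Bad n).card by omega)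
      simp only [Bad, Finset.mem_filter, Finset.mem_univ, true_and] at hτ hσ
      have hQB : Q (cmp hQ hD n y0) = 0 := by simpa [hG'] using hn
      have hB0 : cmp hQ hD n y0 ≠ 0 := fun h => hx01 (by
        rw [← hQy0, hinj n y0 hy0 h, QuadraticMap.map_zero])
      set A := cmp hQ hD n x0 with hA
      set B := cmp hQ hD n y0 with hB
      have hexp : ∀ ρ : F, Q (cmp hQ hD n (x0 + ρ • y0)) = polar ⇑Q A B * ρ + Q A := fun ρ => by
        rw [map_add, map_smul, Q_add, Q_smul, pl_smul_right, ← hA, ← hB, hQB]; ring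
      rw [hexp] at hτ hσ
      have hAB : polar ⇑Q A B = 0 := (mul_eq_zero.1
        (show polar ⇑Q A B * (τ - σ) = 0 by linear_combination hτ - hσ)).resolve_right (sub_ne_zero.2 hne)
      have hQA : Q A = 0 := by rw [hAB] at hτ; linear_combination hτ
      have hA0 : A ≠ 0 := fun h => hx01 (by rw [hinj n x0 hx0 h, QuadraticMap.map_zero])
      obtain ⟨y, hy, hAy⟩ := hnd n A (cmp_mem hQ hD n x0) hA0
      have hBA : B ∉ F ∙ A := fun e => by
        obtain ⟨r, hr'⟩ := Submodule.mem_span_singleton.1 e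
        refine hind0 (Submodule.mem_span_singleton.2 ⟨r, ?_⟩)
        have h4 : cmp hQ hD n (y0 - r • x0) = 0 := by rw [map_sub, map_smul, ← hA, ← hB, hr', sub_self]
        exact (sub_eq_zero.1 (hinj n _ (P.sub_mem hy0 (P.smul_mem _ hx0)) h4)).symm
      obtain ⟨α, β, rfl⟩ := (hpl n).coords (cmp_mem hQ hD n x0) hA0 (cmp_mem hQ hD n y0) hBA hy
      rw [pl_add_right, pl_smul_right, pl_smul_right, pl_self, hQA, hAB] at hAy
      exact hAy (by ring)
    have hcount : (Finset.univ \ PB).card * (t - 3) ≤ ∑ n : Fin t, (Bad n).card := by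
      calc _ ≤ ∑ τ ∈ Finset.univ \ PB, (Finset.univ.filter fun n => τ ∈ Bad n).card := by
            rw [← smul_eq_mul]; exact Finset.card_nsmul_le_sum _ _ _ h4
        _ ≤ ∑ τ : F, (Finset.univ.filter fun n => τ ∈ Bad n).card :=
            Finset.sum_le_sum_of_subset (Finset.sdiff_subset)
        _ = ∑ n : Fin t, (Bad n).card := by
            simp only [Finset.card_filter]
            rw [Finset.sum_comm]
            refine Finset.sum_congr rfl fun n _ => ?_
            rw [← Finset.card_filter, Finset.filter_mem_eq_inter, Finset.univ_inter]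
    have hsum : (∑ n : Fin t, (Bad n).card) + G.card ≤ t * 2 := by
      have h := Finset.sum_le_card_nsmul Finset.univ _ 2 fun n _ => hBad n
      rw [Finset.sum_add_distrib, Finset.card_univ, Fintype.card_fin, smul_eq_mul,
        Finset.sum_boole, Finset.filter_mem_eq_inter, Finset.univ_inter] at h
      simpa using h
    have h5 : 5 ≤ (Finset.univ \ PB).card := by
      rw [Finset.card_sdiff_of_subset (Finset.subset_univ _), Finset.card_univ]; omega
    have h6 := (Nat.mul_le_mul_right (t - 3) h5).trans hcount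
    omega
  obtain ⟨y, hy, hQy, hxy, hind⟩ := hPp.exists_partner hPok hx hQx
  obtain ⟨hK1, -⟩ := hK hx hy hQx hQy hxy hind
  have hQy' : Q y ≠ 0 := by rw [hQy]; exact hQx
  have hx00 : x ≠ 0 := fun h => hQx (by rw [h, QuadraticMap.map_zero])
  have hy00 : y ≠ 0 := fun h => hQy' (by rw [h, QuadraticMap.map_zero])
  obtain ⟨n0, hn0⟩ : ∃ n, Q (cmp hQ hD n y) ≠ 0 := by
    by_contra! h
    exact hQy' (by rw [Q_eq_sum_cmp hQ hD y, Finset.sum_eq_zero fun n _ => h n])
  obtain ⟨T, hT, hTc⟩ := Finset.exists_subset_card_eq (show 3 ≤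
    ((Finset.univ.filter fun n => Q (cmp hQ hD n x) ≠ 0).erase n0).card by
      have := Finset.pred_card_le_card_erase (s := Finset.univ.filter fun n => Q (cmp hQ hD n x) ≠ 0) (a := n0)
      omega)
  let idx : Fin 3 → Fin t := fun n => (T.equivFinOfCardEq hTc).symm n
  have hidx : Function.Injective idx := fun a b h => (T.equivFinOfCardEq hTc).symm.injective (Subtype.ext h)
  have hidx0 : ∀ n, idx n ≠ n0 ∧ Q (cmp hQ hD (idx n) x) ≠ 0 := fun n => by
    have := hT ((T.equivFinOfCardEq hTc).symm n).2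
    simp only [Finset.mem_erase, Finset.mem_filter, Finset.mem_univ, true_and] at this
    exact this
  have hline : ∀ n, ∃ a ∈ D (idx n), Q a ≠ 0 ∧ polar ⇑Q a x = 0 ∧ polar ⇑Q a y ≠ 0 := by
    intro n
    obtain ⟨b, hb, hQb, hbx, -, hline⟩ := (hpl (idx n)).perp_line hQ (cmp_mem hQ hD (idx n) x) (hidx0 n).2
    refine ⟨b, hb, hQb, by rw [pl_comm, ← polar_cmp hQ hD hb, pl_comm]; exact hbx, fun h => hind ?_⟩
    obtain ⟨s, hs⟩ := Submodule.mem_span_singleton.1 (hline _ (cmp_mem hQ hD (idx n) y)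
      (by rw [polar_cmp hQ hD hb, pl_comm]; exact h))
    have h4 : cmp hQ hD (idx n) (y - s • x) = 0 := by rw [map_sub, map_smul, hs, sub_self]
    exact Submodule.mem_span_singleton.2 ⟨s, (sub_eq_zero.1 (hinj _ _ (P.sub_mem hy (P.smul_mem _ hx)) h4)).symm⟩
  choose av hav hQav havx havy using hline
  obtain ⟨p, q, hpq, ν, hν⟩ := exists_square_ratio hQav
  have hν0 : ν ≠ 0 := fun h => by
    rw [h, mul_zero, div_eq_zero_iff] at hν
    exact hν.elim (hQav p) (hQav q)
  set a := av p with ha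
  set b := ν • av q with hb
  have haD : a ∈ D (idx p) := hav p
  have hbD : b ∈ D (idx q) := (D _).smul_mem _ (hav q)
  have hQb : Q b = Q a := by
    rw [hb, Q_smul, ← hν, div_mul_cancel₀ _ (hQav q)]
  clear_value b
  set h := refl Q a * refl Q b with hhdef
  have hhN : h ∈ N := member_pair_mem hG hD hH haD hbD (hQav p) hQb
  have hhx : ap h x = x := ap_refl_pair_perp (havx p) (by rw [hb, pl_smul_left, havx q, mul_zero])
  have hJN : refl Q y * refl Q (ap h y) ∈ N := by
    have e : refl Q y * refl Q (ap h y) = (refl Q x * refl Q y)⁻¹ * (h * (refl Q x * refl Q y) * h⁻¹) := by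
      rw [show h * (refl Q x * refl Q y) * h⁻¹ = h * refl Q x * h⁻¹ * (h * refl Q y * h⁻¹) by group,
        conj_refl, conj_refl, hhx, _root_.mul_inv_rev, refl_inv, refl_inv, mul_assoc (refl Q y),
        ← mul_assoc (refl Q x), refl_mul_self, one_mul]
    rw [e]
    exact mul_mem (inv_mem hK1) (mul_mem (mul_mem hhN hK1) (inv_mem hhN))
  have hpn : idx p ≠ idx q := hidx.ne hpq
  obtain ⟨hpn0, hpx⟩ := hidx0 p
  obtain ⟨hqn0, hqx⟩ := hidx0 q
  have hyne : ∀ n, cmp hQ hD n y ≠ 0 := fun n h => hy00 (hinj n y hy h)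
  have hcn0 : cmp hQ hD n0 (ap h y) = cmp hQ hD n0 y := by
    rw [hhdef, ap_mul, refl_ap Q b y, refl_ap, map_sub, map_sub, LinearMap.map_smul, LinearMap.map_smul,
      cmp_of_mem_ne hQ hD hpn0.symm haD, cmp_of_mem_ne hQ hD hqn0.symm hbD, smul_zero, smul_zero, sub_zero,
      sub_zero]
  have hmv : y ∉ F ∙ ap h y := fun hmem => by
    obtain ⟨s, hs⟩ := Submodule.mem_span_singleton.1 hmem
    have e1 := congrArg (cmp hQ hD n0) hs
    rw [map_smul, hcn0] at e1
    have hs1 : s = 1 := by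
      have : (s - 1) • cmp hQ hD n0 y = 0 := by rw [sub_smul, one_smul, e1, sub_self]
      exact sub_eq_zero.1 ((smul_eq_zero.1 this).resolve_right (hyne n0))
    rw [hs1, one_smul, hhdef] at hs
    have hab : b ∉ F ∙ a := fun hba => by
      have hb0 : b ≠ 0 := fun e => hQav p (by rw [← ha, ← hQb, e, QuadraticMap.map_zero])
      exact hpn (member_eq hD ((Submodule.span_singleton_le_iff_mem _ _).2 haD hba) hbD hb0)
    exact havy p (polar_eq_zero_of_fixed (hQav p) (by rw [hQb]; exact hQav p) hab hs).1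
  obtain ⟨pz, hpz, hQpz, hpzy, -⟩ := (hpl n0).perp_line hQ (cmp_mem hQ hD n0 y) hn0
  have hpy : polar ⇑Q y pz = 0 := by rw [← polar_cmp hQ hD hpz, pl_comm]; exact hpzy
  refine .inr ⟨_, hJN, not_stab_of_three hG hD le_rfl hQy' hmv hpn0 hpn hqn0.symm (hyne _) (hyne _) (hyne _),
    n0, pz, hpz, hQpz, ?_⟩
  refine ap_refl_pair_perp hpy ?_
  rw [← polar_cmp hQ hD hpz, hcn0, pl_comm]; exact hpzy

set_option maxHeartbeats 800000 in
/-- Maximality for decompositions into planes. -/
theorem decomposition_maximal_two (hG : Good Q) (hD : Geo.IsOrthogonalMDecomposition ⇑Q 2 D) (ht : 5 ≤ t)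
    (hok : ∀ l, PlaneOK Q (D l)) :
    Geo.IsMaximalIn (Geo.omegaGL ⇑Q) (Geo.decompositionStabilizer D ⊓ Geo.omegaGL ⇑Q) := by
  classical
  have hQ := hG.nd
  refine ⟨decomposition_stabilizer_lt hG hD le_rfl (by omega) (by rw [card_eq_mul hQ hD]; omega)
    (.inr (.inr (by omega))), fun M hHM hMK => ?_⟩
  by_cases hM : ∀ g ∈ M, g ∈ Geo.decompositionStabilizer D
  · exact .inl (le_antisymm (le_inf hM hMK) hHM)
  refine .inr (le_antisymm hMK ?_)
  push Not at hM
  obtain ⟨g, hgM, hgD⟩ := hM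
  obtain ⟨g, -, rfl⟩ := mem_omegaGL_iff.1 (hMK hgM)
  set N : Subgroup (IsoGrp Q) := M.comap (isometryGroup F ⇑Q).subtype
  suffices hle : Omega F ⇑Q ≤ N by
    intro y hy
    obtain ⟨h, hh, rfl⟩ := mem_omegaGL_iff.1 hy
    exact hle hh
  have hH : ∀ h : IsoGrp Q, h ∈ Omega F ⇑Q → (h : GL ι F) ∈ Geo.decompositionStabilizer D → h ∈ N :=
    fun h hh hd => hHM ⟨hd, coe_mem_omegaGL.2 hh⟩
  rcases exists_anchor_two hG hD ht hok hH (show g ∈ N from hgM) hgD with h | ⟨g', hg', hg'D, l0, p, hp, hQp, hgp⟩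
  · exact h
  set c := Q p with hc'
  set S := {x | Q x = c ∧ refl Q x * refl Q p ∈ N}
  have hS : PairClass Q N c S := pairClass_of N p
  have hNS : ∀ l, ∀ x ∈ D l, Q x = c → x ∈ S := fun l x hx hQx => ⟨hQx,
    member_pair_mem hG hD hH hx hp (by rw [hQx]; exact hQp) (by rw [hQx, hc'])⟩
  have hg'S : ∀ x ∈ S, ap g' x ∈ S :=
    hS.move g' hg' p (hNS l0 p hp rfl) (by rw [hgp]; exact hNS l0 p hp rfl)
  obtain ⟨x, hx, hxout⟩ : ∃ x ∈ S, ∀ l, x ∉ D l := by
    by_contra! h
    exact hg'D (mem_decomp_of_maps_two hD hok hQp fun l x hx hQx => h _ (hg'S x (hNS l x hx hQx)))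
  exact TwoCtx.omega_le_of_outside (C := ⟨hG, hD, ht, hok, hH, hS, hNS, hQp⟩) hx hxout

end Cfsg.Agent.Orth
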