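import Cfsg.Agent.Lib.Orth.DecompBig
import Cfsg.Agent.Lib.Orth.DecompMax
import Cfsg.Agent.Lib.Orth.DecompTwoMax

/-!
# Orthogonal decompositions: the maximality theorem, all member sizes
-/

set_option autoImplicit false

open Cfsg Matrix Module

namespace Cfsg.Agent.Orth

variable {ι : Type} [Fintype ι] [DecidableEq ι] {F : Type*} [Field F] [Fintype F]
variable {Q : QuadraticForm F (ι → F)} {k t : ℕ} {D : Fin t → Submodule F (ι → F)}

theorem plus_of_singular_mem {W : Submodule F (ι → F)} (hW : finrank F W = 2) {x : ι → F} (hx : x ∈ W)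
    (hx0 : x ≠ 0) (hQx : Q x = 0) : Geo.IsPlusTypeOn ⇑Q W := by
  refine ⟨F ∙ x, (Submodule.span_singleton_le_iff_mem _ _).2 hx, fun u hu => ?_, ?_⟩
  · obtain ⟨r, rfl⟩ := Submodule.mem_span_singleton.1 hu
    rw [QuadraticMap.map_smul, hQx, smul_zero]
  · rw [finrank_span_singleton hx0, hW]

theorem card_ne_six : Fintype.card F ≠ 6 := fun h => by
  obtain ⟨n, hp, hn⟩ := FiniteField.card F (ringChar F)
  rw [h] at hn
  have h2 : 2 ∣ ringChar F := Nat.prime_two.dvd_of_dvd_pow (n := n) (hn ▸ (by norm_num))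
  have h3 : 3 ∣ ringChar F := Nat.prime_three.dvd_of_dvd_pow (n := n) (hn ▸ (by norm_num))
  have e2 := (Nat.prime_dvd_prime_iff_eq Nat.prime_two hp).1 h2
  have e3 := (Nat.prime_dvd_prime_iff_eq Nat.prime_three hp).1 h3
  omega

theorem two_ne_zero_of_odd_card (h : Odd (Fintype.card F)) : (2 : F) ≠ 0 := fun h2 => by
  have hc : ringChar F = 2 := CharP.ringChar_of_prime_eq_zero Nat.prime_two (by exact_mod_cast h2)
  have := (FiniteField.even_card_iff_char_two).1 hc
  rw [Nat.odd_iff] at h
  omega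

/-- Maximality of the stabiliser of an orthogonal decomposition in dimension at least `10`. -/
theorem decomposition_maximal_main (hG : Good Q) (hD : Geo.IsOrthogonalMDecomposition ⇑Q k D)
    (hn : 10 ≤ Fintype.card ι) (hk : 2 ≤ k) (hko : Odd k → Odd (Fintype.card F))
    (h3 : Fintype.card F = 3 → k ≠ 2 ∧ k ≠ 3)
    (hp : (∀ i, Geo.IsPlusTypeOn ⇑Q (D i)) →
      (k = 2 → Fintype.card F ≠ 2 ∧ Fintype.card F ≠ 4 ∧ Fintype.card F ≠ 5) ∧
      (k = 4 → Fintype.card F ≠ 2)) :
    Geo.IsMaximalIn (Geo.omegaGL ⇑Q) (Geo.decompositionStabilizer D ⊓ Geo.omegaGL ⇑Q) := by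
  classical
  have ht : 2 ≤ t := hD.decomp.decomp.two_le
  rw [card_eq_mul hG.nd hD] at hn
  rcases (show k = 2 ∨ k = 3 ∨ 4 ≤ k by omega) with rfl | rfl | hk4
  · refine decomposition_maximal_two hG hD (by omega) fun l => ?_
    have hq3 : Fintype.card F ≠ 3 := fun h => (h3 h).1 rfl
    by_cases h : ∀ i, Geo.IsPlusTypeOn ⇑Q (D i)
    · left
      obtain ⟨a, b, c⟩ := (hp h).1 rfl
      have := Fintype.one_lt_card (α := F)
      have := card_ne_six (F := F)
      omega
    · exact .inr ⟨fun x hx hQx => by_contra fun hx0 => not_plus_members hD h l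
        (plus_of_singular_mem (hD.decomp.decomp.finrank_eq l) hx hx0 hQx), hq3⟩
  · have hodd := hko ⟨1, rfl⟩
    have h2 := two_ne_zero_of_odd_card hodd
    refine decomposition_stabilizer_maximal hG h2 hD le_rfl (by omega) (.inr ?_)
    by_contra hc
    push_neg at hc
    have hsub : (Finset.univ : Finset F) ⊆ {0, 1, -1} := fun r _ => by
      rcases eq_or_ne r 0 with h | h
      · simp [h]
      · rcases mul_self_eq_one_iff.1 (hc r h) with h | h <;> simp [h]
    have hle := (Finset.card_le_card hsub).trans Finset.card_le_three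
    rw [Finset.card_univ] at hle
    have := Fintype.one_lt_card (α := F)
    have hq3 : Fintype.card F ≠ 3 := fun h => (h3 h).2 rfl
    rw [Nat.odd_iff] at hodd
    omega
  · refine decomposition_maximal_big hG hD hk4 ht (fun h2 => ?_) (fun hk' hq => ?_)
    · rw [← Nat.not_odd_iff_even]
      exact fun ho => two_ne_zero_of_odd_card (hko ho) h2
    · exact not_plus_members hD fun h => (hp h).2 hk' hq

end Cfsg.Agent.Orth
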