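import Cfsg.Agent.Lib.Orth.Eichler

/-!
# Orthogonal groups: action on singular points, centre of `Ω`, simplicity of `PΩ`

* `SPt Q` : singular points, with the action of `IsoGrp Q`
* `HPair.scalar_of_fix` : an isometry fixing all singular points is `±1`
* `fix_of_mem_center` : central elements of `Ω` fix all singular points
* `mem_center_omega_iff` : the centre of `Ω` consists of its scalars
* `isPreprimitive_spt` : the action of `Ω` is primitive for `n ≥ 5`
* `isSimpleGroup_pomega` : `PΩ(Q)` is simple for `n ≥ 5`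
-/

set_option autoImplicit false
set_option linter.unusedSectionVars false

namespace Cfsg.Agent.Orth

open Cfsg Matrix Module
open QuadraticMap (polar)
open scoped commutatorElement Pointwise

variable {ι : Type} [Fintype ι] [DecidableEq ι] {F : Type*} [Field F]
variable {Q : QuadraticForm F (ι → F)}

/-- The singular points. -/
abbrev SPt (Q : QuadraticForm F (ι → F)) : Type _ :=
  {p : Projectivization F (ι → F) // Q p.rep = 0}

theorem Q_rep_mk_iff (v : ι → F) (h0 : v ≠ 0) :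
    Q (Projectivization.mk F v h0).rep = 0 ↔ Q v = 0 := by
  obtain ⟨a, ha⟩ := Projectivization.exists_smul_eq_mk_rep F v h0
  rw [← ha, Units.smul_def, Q_smul]
  simp

/-- The point of a singular vector. -/
def spt (v : ι → F) (h0 : v ≠ 0) (hQ : Q v = 0) : SPt Q :=
  ⟨Projectivization.mk F v h0, (Q_rep_mk_iff v h0).2 hQ⟩

theorem spt_eq_iff {v w : ι → F} (hv : v ≠ 0) (hw : w ≠ 0) (hQv : Q v = 0) (hQw : Q w = 0) :
    spt v hv hQv = spt w hw hQw ↔ ∃ a : F, a • w = v := by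
  rw [spt, spt, Subtype.mk.injEq, Projectivization.mk_eq_mk_iff']

theorem exists_spt (p : SPt Q) :
    ∃ (v : ι → F) (h0 : v ≠ 0) (hQ : Q v = 0), p = spt v h0 hQ :=
  ⟨p.1.rep, p.1.rep_nonzero, p.2, Subtype.ext p.1.mk_rep.symm⟩

theorem ap_injective (g : IsoGrp Q) : Function.Injective (ap g) := fun _ _ h => ap_inj g h

theorem ap_ne_zero (g : IsoGrp Q) {v : ι → F} (h : v ≠ 0) : ap g v ≠ 0 := fun h' =>
  h (ap_inj g (h'.trans (map_zero _).symm))

/-- The action on singular points. -/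
noncomputable instance sptAction : MulAction (IsoGrp Q) (SPt Q) where
  smul g p := spt (ap g p.1.rep) (ap_ne_zero g p.1.rep_nonzero) (by rw [Q_ap]; exact p.2)
  one_smul p := by
    show spt _ _ _ = p
    simp only [ap_one]
    exact Subtype.ext p.1.mk_rep
  mul_smul g h p := by
    show spt _ _ _ = spt _ _ _
    rw [spt_eq_iff]
    obtain ⟨a, ha⟩ := Projectivization.exists_smul_eq_mk_rep F (ap h p.1.rep)
      (ap_ne_zero h p.1.rep_nonzero)
    refine ⟨(a⁻¹ : Fˣ), ?_⟩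
    show ((a⁻¹ : Fˣ) : F) • ap g (Projectivization.mk F (ap h p.1.rep) _).rep = ap (g * h) p.1.rep
    rw [← ha, Units.smul_def, map_smul, smul_smul, Units.inv_mul, one_smul, ap_mul]

theorem smul_spt (g : IsoGrp Q) (v : ι → F) (h0 : v ≠ 0) (hQ : Q v = 0) :
    g • spt v h0 hQ = spt (ap g v) (ap_ne_zero g h0) (by rw [Q_ap, hQ]) := by
  show spt _ _ _ = spt _ _ _
  rw [spt_eq_iff]
  obtain ⟨a, ha⟩ := Projectivization.exists_smul_eq_mk_rep F v h0
  refine ⟨(a : F), ?_⟩
  show (a : F) • ap g v = ap g (Projectivization.mk F v h0).rep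
  rw [← ha, Units.smul_def, map_smul]

theorem smul_spt_eq_self_iff (g : IsoGrp Q) (v : ι → F) (h0 : v ≠ 0) (hQ : Q v = 0) :
    g • spt v h0 hQ = spt v h0 hQ ↔ ∃ a : F, ap g v = a • v := by
  rw [smul_spt, spt_eq_iff]
  simp only [eq_comm]

/-! ### isometries fixing all singular points -/

theorem HPair.scalar_of_fix {e f : ι → F} (h : HPair Q e f) (hQ : Q.polarBilin.Nondegenerate)
    (hn : 3 ≤ Fintype.card ι) {g : IsoGrp Q}
    (hg : ∀ v, v ≠ 0 → Q v = 0 → ∃ a : F, ap g v = a • v) :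
    ∃ a : F, a * a = 1 ∧ ∀ x, ap g x = a • x := by
  obtain ⟨a, ha⟩ := hg e h.ne_zero h.qe
  obtain ⟨b, hb⟩ := hg f h.swap.ne_zero h.qf
  have hab : a * b = 1 := by
    have := polar_ap g e f
    rw [ha, hb, pl_smul_left, pl_smul_right, h.pf, mul_one] at this
    exact this
  have ha0 : a ≠ 0 := left_ne_zero_of_mul_eq_one hab
  have hb0 : b ≠ 0 := right_ne_zero_of_mul_eq_one hab
  have key : ∀ w ∈ perp Q e f, Q w ≠ 0 → a = b ∧ ap g w = a • w := by
    intro w hw hQw
    obtain ⟨he, hf⟩ := mem_perp.1 hw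
    set v := (-Q w) • e + (1 : F) • f + w with hv
    have hQv : Q v = 0 := by rw [hv, h.Q_comb hw]; ring
    have hfv : polar ⇑Q e v = 1 := by
      rw [hv]; simp only [pl_add_right, pl_smul_right, pl_self, h.qe, h.pf, he]; ring
    obtain ⟨c, hc⟩ := hg v (fun h0 => by rw [h0, pl_zero_right] at hfv; exact zero_ne_one hfv) hQv
    have e1 := polar_ap g e v
    rw [ha, hc, pl_smul_left, pl_smul_right, hfv, mul_one] at e1
    have hcb : c = b := mul_left_cancel₀ ha0 (e1.trans hab.symm)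
    have hfv' : polar ⇑Q f v = -Q w := by
      rw [hv]; simp only [pl_add_right, pl_smul_right, pl_self, h.qf, pl_comm Q f e, h.pf, hf]; ring
    have e2 := polar_ap g f v
    rw [hb, hc, pl_smul_left, pl_smul_right, hfv'] at e2
    have hbb : b * b = 1 := by
      rw [hcb] at e2
      exact mul_right_cancel₀ (neg_ne_zero.2 hQw) (by linear_combination e2)
    have hab' : a = b := mul_right_cancel₀ hb0 (hab.trans hbb.symm)
    refine ⟨hab', ?_⟩
    have e3 : ap g v = a • v := by rw [hc, hcb, hab']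
    rw [hv, map_add, map_add, map_smul, map_smul, ha, hb, ← hab'] at e3
    linear_combination (norm := module) e3
  obtain ⟨z, hz, hQz⟩ := h.exists_nonsing_perp hQ hn
  obtain ⟨hab', -⟩ := key z hz hQz
  refine ⟨a, by rw [← hab', mul_comm] at hab; exact hab, fun x => ?_⟩
  have hw : ∀ w ∈ perp Q e f, ap g w = a • w := by
    intro w hw
    by_cases hQw : Q w = 0
    · by_cases hw0 : w = 0
      · simp [hw0]
      obtain ⟨he, hf⟩ := mem_perp.1 hw
      obtain ⟨c, hc⟩ := hg w hw0 hQw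
      have hfew : polar ⇑Q f (e + w) = 1 := by
        rw [pl_add_right, pl_comm Q f e, h.pf, hf, add_zero]
      obtain ⟨d, hd⟩ := hg (e + w) (fun h0 => by
          rw [h0, pl_zero_right] at hfew; exact zero_ne_one hfew)
        (by rw [Q_add, h.qe, hQw, he]; ring)
      have hd' := hd
      rw [map_add, ha, hc] at hd'
      have hda := congrArg (polar ⇑Q f) hd'
      rw [pl_smul_right, hfew, pl_add_right, pl_smul_right, pl_smul_right, pl_comm Q f e, h.pf, hf,
        mul_zero, add_zero] at hda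
      rw [hc]
      rw [← show a = d by simpa using hda] at hd'
      linear_combination (norm := module) hd'
    · exact (key w hw hQw).2
  conv_lhs => rw [decomp (Q := Q) e f x]
  rw [map_add, map_add, map_smul, map_smul, ha, hb, ← hab', hw _ (h.wPart_mem x), smul_comm,
    smul_comm (polar ⇑Q e x) a f, ← smul_add, ← smul_add, ← decomp e f x]

theorem fix_of_scalar {g : IsoGrp Q} {a : F} (hg : ∀ x, ap g x = a • x) (p : SPt Q) :
    g • p = p := by
  obtain ⟨v, h0, hv, rfl⟩ := exists_spt p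
  rw [smul_spt_eq_self_iff]
  exact ⟨a, hg v⟩

theorem commute_of_scalar {g h : IsoGrp Q} {a : F} (hg : ∀ x, ap g x = a • x) : g * h = h * g :=
  ext_ap fun x => by rw [ap_mul, ap_mul, hg, hg, map_smul]

/-- An element commuting with a non-trivial Eichler transformation at `u` fixes the point `u`. -/
theorem fix_of_commute_eich (hQ : Q.polarBilin.Nondegenerate) {u w : ι → F} (hu : Q u = 0)
    (hu0 : u ≠ 0) (huw : polar ⇑Q u w = 0) (hQw : Q w ≠ 0) {g : IsoGrp Q}
    (hg : g * eich Q u w = eich Q u w * g) : ∃ a : F, ap g u = a • u := by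
  have hspan : ∀ x, ∃ a b : F, ap (eich Q u w) x - x = a • u + b • w := fun x => by
    refine ⟨-(polar ⇑Q w x + Q w * polar ⇑Q u x), polar ⇑Q u x, ?_⟩
    rw [eich_ap hu huw]; module
  have hwu : polar ⇑Q w u = 0 := by rw [pl_comm]; exact huw
  obtain ⟨y, hy1, hy2⟩ : ∃ y, polar ⇑Q u y = 0 ∧ polar ⇑Q w y ≠ 0 := by
    have hind : w ∉ (F ∙ u) := fun hmem => by
      obtain ⟨t, rfl⟩ := Submodule.mem_span_singleton.1 hmem
      exact hQw (by rw [Q_smul, hu, mul_zero])
    obtain ⟨y, -, hy⟩ := exists_sep (Q := Q) (W := ⊤)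
      (fun x _ hx => by simpa using exists_polar_ne hQ hx) (Submodule.mem_top (x := w))
      (Submodule.mem_top (x := u)) hu0 hind
    exact ⟨y, hy⟩
  have hy3 : ap (eich Q u w) y - y = (-(polar ⇑Q w y)) • u := by
    rw [eich_ap hu huw, hy1]; module
  have hy4 : ap (eich Q u w) (ap g y) - ap g y = (-(polar ⇑Q w y)) • ap g u := by
    rw [← ap_mul, ← hg, ap_mul, ← map_sub, hy3, map_smul]
  obtain ⟨a, b, hab⟩ := hspan (ap g y)
  rw [hy4] at hab
  have hQ0 := congrArg (fun x => Q x) hab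
  simp only [Q_add, Q_smul, Q_ap, hu, pl_smul_left, pl_smul_right, huw, mul_zero, zero_add,
    add_zero] at hQ0
  have hb : b = 0 := mul_self_eq_zero.1 ((mul_eq_zero.1 hQ0.symm).resolve_right hQw)
  rw [hb, zero_smul, add_zero] at hab
  refine ⟨(-(polar ⇑Q w y))⁻¹ * a, ?_⟩
  rw [← smul_smul, ← hab, inv_smul_smul₀ (neg_ne_zero.2 hy2)]

variable [Fintype F]

/-- Central elements of `Ω` fix all singular points. -/
theorem fix_of_mem_center (hQ : Q.polarBilin.Nondegenerate) (hn : 3 ≤ Fintype.card ι)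
    (hE : eichGen Q ≤ Omega F ⇑Q) {g : ↥(Omega F ⇑Q)}
    (hg : g ∈ Subgroup.center ↥(Omega F ⇑Q)) {v : ι → F} (h0 : v ≠ 0) (hv : Q v = 0) :
    ∃ a : F, ap (g : IsoGrp Q) v = a • v := by
  obtain ⟨y, hp⟩ := exists_hpair_left hQ hv h0
  obtain ⟨w, hw, hQw⟩ := hp.exists_nonsing_perp hQ hn
  refine fix_of_commute_eich hQ hv h0 (mem_perp.1 hw).1 hQw ?_
  exact congrArg Subtype.val
    ((Subgroup.mem_center_iff.1 hg ⟨eich Q v w, hE (eich_mem_eichGen v w)⟩).symm)

/-- The centre of `Ω` consists of the scalars in `Ω`. -/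
theorem mem_center_omega_iff (hQ : Q.polarBilin.Nondegenerate) (hn : 3 ≤ Fintype.card ι)
    (hE : eichGen Q ≤ Omega F ⇑Q) (g : ↥(Omega F ⇑Q)) :
    g ∈ Subgroup.center ↥(Omega F ⇑Q) ↔ ∃ a : F, a * a = 1 ∧ ∀ x, ap (g : IsoGrp Q) x = a • x := by
  constructor
  · intro hg
    obtain ⟨e, f, hp⟩ := exists_hpair hQ hn
    exact hp.scalar_of_fix hQ hn fun v h0 hv => fix_of_mem_center hQ hn hE hg h0 hv
  · rintro ⟨a, -, ha⟩
    exact Subgroup.mem_center_iff.2 fun h => Subtype.ext (commute_of_scalar ha).symm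

/-! ### primitivity -/

theorem isPretransitive_spt (hQ : Q.polarBilin.Nondegenerate) (hn : 3 ≤ Fintype.card ι)
    (hE : eichGen Q ≤ Omega F ⇑Q) : MulAction.IsPretransitive ↥(Omega F ⇑Q) (SPt Q) := by
  obtain ⟨e, f, hp⟩ := exists_hpair hQ hn
  refine (MulAction.isPretransitive_iff_base (spt f hp.swap.ne_zero hp.qf)).2 fun p => ?_
  obtain ⟨v, h0, hv, rfl⟩ := exists_spt p
  obtain ⟨g, hg, c, hc, hgv⟩ := hp.exists_move_singular hQ hn h0 hv
  refine ⟨⟨g⁻¹, inv_mem (hE (eichPair_le e f hg))⟩, ?_⟩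
  show g⁻¹ • spt f _ _ = _
  rw [inv_smul_eq_iff, smul_spt, eq_comm, spt_eq_iff]
  exact ⟨c, hgv.symm⟩

theorem exists_opposite_both (hQ : Q.polarBilin.Nondegenerate) (hn : 3 ≤ Fintype.card ι)
    {x p : ι → F} (hx : Q x = 0) (hx0 : x ≠ 0) (hp : Q p = 0) (hp0 : p ≠ 0) :
    ∃ z, Q z = 0 ∧ polar ⇑Q x z ≠ 0 ∧ polar ⇑Q p z ≠ 0 := by
  obtain ⟨y, hxy⟩ := exists_hpair_left hQ hx hx0
  by_cases hpy : polar ⇑Q p y = 0
  swap
  · exact ⟨y, hxy.qf, by rw [hxy.pf]; exact one_ne_zero, hpy⟩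
  by_cases hxp : polar ⇑Q x p = 0
  swap
  · have hxp' : HPair Q x ((polar ⇑Q x p)⁻¹ • p) :=
      ⟨hx, by rw [Q_smul, hp, mul_zero], by rw [pl_smul_right, inv_mul_cancel₀ hxp]⟩
    obtain ⟨w, hw, hQw⟩ := hxp'.exists_nonsing_perp hQ hn
    obtain ⟨hxw, hpw⟩ := mem_perp.1 hw
    rw [pl_smul_left, mul_eq_zero] at hpw
    have hpw' : polar ⇑Q p w = 0 := hpw.resolve_left (inv_ne_zero hxp)
    refine ⟨(-Q w) • x + (1 : F) • ((polar ⇑Q x p)⁻¹ • p) + w, ?_, ?_, ?_⟩
    · rw [hxp'.Q_comb hw]; ring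
    · rw [pl_add_right, pl_add_right, pl_smul_right, one_smul, pl_smul_right, pl_self, hx,
        inv_mul_cancel₀ hxp, hxw]; simp
    · simp only [pl_add_right, pl_smul_right, pl_self, hp, hpw', pl_comm Q p x]
      simpa using mul_ne_zero hQw hxp
  · have hpW : p ∈ perp Q x y := mem_perp.2 ⟨hxp, by rw [pl_comm]; exact hpy⟩
    obtain ⟨q, hq, hpq⟩ := hxy.perp_nondeg hQ hpW hp0
    set t := (polar ⇑Q p q)⁻¹ with ht
    set q' := t • q - Q (t • q) • p with hq'
    have hq'W : q' ∈ perp Q x y := sub_mem (Submodule.smul_mem _ _ hq) (Submodule.smul_mem _ _ hpW)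
    have h1 : polar ⇑Q p (t • q) = 1 := by rw [pl_smul_right, inv_mul_cancel₀ hpq]
    have hQq' : Q q' = 0 := by
      rw [hq', Q_sub, Q_smul Q (Q (t • q)) p, hp, pl_smul_right, pl_comm Q (t • q) p, h1]; ring
    have hpq' : polar ⇑Q p q' = 1 := by
      rw [hq', pl_sub_right, h1, pl_smul_right, pl_self, hp]; ring
    refine ⟨y + q', ?_, ?_, ?_⟩
    · rw [Q_add, hxy.qf, hQq', (mem_perp.1 hq'W).2]; ring
    · rw [pl_add_right, hxy.pf, (mem_perp.1 hq'W).1, add_zero]; exact one_ne_zero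
    · rw [pl_add_right, hpy, hpq', zero_add]; exact one_ne_zero

theorem isPreprimitive_spt (hQ : Q.polarBilin.Nondegenerate) (hn : 5 ≤ Fintype.card ι)
    (hE : eichGen Q ≤ Omega F ⇑Q) : MulAction.IsPreprimitive ↥(Omega F ⇑Q) (SPt Q) := by
  obtain ⟨e, f, hp⟩ := exists_hpair hQ (by omega : 3 ≤ Fintype.card ι)
  have := isPretransitive_spt hQ (by omega) hE
  refine MulAction.IsPreprimitive.of_isTrivialBlock_base (spt e hp.ne_zero hp.qe) fun {B} haB hB => ?_
  -- an element of Ω fixing a member of B stabilises B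
  have stab : ∀ (g : IsoGrp Q), g ∈ Omega F ⇑Q → ∀ x ∈ B, g • x = x → ∀ y ∈ B, g • y ∈ B := by
    intro g hg x hx hgx y hy
    have := MulAction.IsBlock.smul_eq_of_mem hB (g := (⟨g, hg⟩ : ↥(Omega F ⇑Q))) hx
      (show g • x ∈ B by rw [hgx]; exact hx)
    rw [← this]
    exact Set.smul_mem_smul_set (a := (⟨g, hg⟩ : ↥(Omega F ⇑Q))) hy
  have eichfix : ∀ (u w : ι → F) (h0 : u ≠ 0) (hu : Q u = 0), polar ⇑Q u w = 0 →
      eich Q u w • spt u h0 hu = spt u h0 hu := by
    intro u w h0 hu huw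
    rw [smul_spt_eq_self_iff]
    refine ⟨1, ?_⟩
    rw [eich_ap hu huw, pl_self, hu, pl_comm Q w u, huw]; module
  -- two opposite members of B give all of B
  have stepA : ∀ (x y : ι → F) (hx0 : x ≠ 0) (hx : Q x = 0) (hy0 : y ≠ 0) (hy : Q y = 0),
      polar ⇑Q x y ≠ 0 → spt x hx0 hx ∈ B → spt y hy0 hy ∈ B →
      ∀ (z : ι → F) (hz0 : z ≠ 0) (hz : Q z = 0), polar ⇑Q x z ≠ 0 → spt z hz0 hz ∈ B := by
    intro x y hx0 hx hy0 hy hxy hxB hyB z hz0 hz hxz
    set y' := (polar ⇑Q x y)⁻¹ • y with hy'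
    have hp' : HPair Q x y' := ⟨hx, by rw [hy', Q_smul, hy, mul_zero],
      by rw [hy', pl_smul_right, inv_mul_cancel₀ hxy]⟩
    set z' := (polar ⇑Q x z)⁻¹ • z with hz'
    have hxz' : polar ⇑Q x z' = 1 := by rw [hz', pl_smul_right, inv_mul_cancel₀ hxz]
    have hw := hp'.wPart_mem z'
    have hdec := decomp (Q := Q) x y' z'
    rw [hxz'] at hdec
    have hQz' : polar ⇑Q y' z' + Q (wPart Q x y' z') = 0 := by
      have := hp'.Q_comb hw (polar ⇑Q y' z') 1
      rw [← hdec, hz', Q_smul, hz, mul_zero, mul_one] at this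
      rw [hz']
      exact this.symm
    have hmov : ap (eich Q x (wPart Q x y' z')) y' = z' := by
      have := hp'.eich_left_ap hw (zero_mem _) 0 1
      rw [zero_smul, zero_add, add_zero, one_smul, pl_zero_right] at this
      rw [this]
      conv_rhs => rw [hdec]
      rw [show polar ⇑Q y' z' = -Q (wPart Q x y' z') by linear_combination hQz']
      module
    have := stab _ (hE (eich_mem_eichGen x (wPart Q x y' z'))) _ hxB
      (eichfix x _ hx0 hx (mem_perp.1 hw).1) _ hyB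
    rw [smul_spt] at this
    convert this using 1
    rw [spt_eq_iff]
    refine ⟨polar ⇑Q x z * (polar ⇑Q x y)⁻¹, ?_⟩
    rw [← smul_smul, ← map_smul, ← hy', hmov, hz', smul_inv_smul₀ hxz]
  -- an opposite pair in B forces B = univ
  have stepA' : ∀ (x y : ι → F) (hx0 : x ≠ 0) (hx : Q x = 0) (hy0 : y ≠ 0) (hy : Q y = 0),
      polar ⇑Q x y ≠ 0 → spt x hx0 hx ∈ B → spt y hy0 hy ∈ B → B = Set.univ := by
    intro x y hx0 hx hy0 hy hxy hxB hyB
    refine Set.eq_univ_iff_forall.2 fun p => ?_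
    obtain ⟨v, hv0, hv, rfl⟩ := exists_spt p
    obtain ⟨z, hz, hxz, hvz⟩ := exists_opposite_both hQ (by omega) hx hx0 hv hv0
    have hz0 : z ≠ 0 := fun h0 => hxz (by rw [h0, pl_zero_right])
    have hzB := stepA x y hx0 hx hy0 hy hxy hxB hyB z hz0 hz hxz
    exact stepA z x hz0 hz hx0 hx (by rw [pl_comm]; exact hxz) hzB hxB v hv0 hv
      (by rw [pl_comm]; exact hvz)
  rcases Set.subsingleton_or_nontrivial B with hs | hs
  · exact .inl hs
  right
  obtain ⟨q, hqB, hqe⟩ := hs.exists_ne (spt e hp.ne_zero hp.qe)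
  obtain ⟨x, hx0, hx, rfl⟩ := exists_spt q
  by_cases hex : polar ⇑Q e x = 0
  swap
  · exact stepA' e x hp.ne_zero hp.qe hx0 hx hex haB hqB
  -- collinear: move x to a point opposite to x, fixing e
  set a := polar ⇑Q f x with ha
  set x0 := wPart Q e f x with hx0d
  have hdec : x = a • e + (0 : F) • f + x0 := by rw [← hex]; exact decomp e f x
  have hx0W : x0 ∈ perp Q e f := hp.wPart_mem x
  have hQx0 : Q x0 = 0 := by
    have := hp.Q_comb hx0W a 0
    rw [← hdec, hx, mul_zero, zero_add] at this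
    exact this.symm
  have hx00 : x0 ≠ 0 := fun h0 => hqe (by
    rw [spt_eq_iff]; exact ⟨a, by rw [hdec, h0]; simp⟩)
  obtain ⟨z1, hz1, hz1x⟩ := hp.perp_nondeg hQ hx0W hx00
  set s := (polar ⇑Q x0 z1)⁻¹ with hs'
  set z := s • z1 - Q (s • z1) • x0 with hzd
  have hzW : z ∈ perp Q e f := sub_mem (Submodule.smul_mem _ _ hz1) (Submodule.smul_mem _ _ hx0W)
  have hsz1 : polar ⇑Q x0 (s • z1) = 1 := by rw [pl_smul_right, inv_mul_cancel₀ hz1x]
  have hQz : Q z = 0 := by
    rw [hzd, Q_sub, Q_smul Q (Q (s • z1)) x0, hQx0, pl_smul_right, pl_comm Q (s • z1) x0, hsz1]; ring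
  have hx0z : polar ⇑Q x0 z = 1 := by rw [hzd, pl_sub_right, hsz1, pl_smul_right, pl_self, hQx0]; ring
  obtain ⟨w, hw, hQw⟩ : ∃ w ∈ orthFam Q ![e, f, x0, z], Q w ≠ 0 := by
    by_contra! hall
    have hd : Fintype.card ι ≤ finrank F (orthFam Q ![e, f, x0, z]) + 4 :=
      card_le_finrank_orthFam ![e, f, x0, z]
    have hne : orthFam Q ![e, f, x0, z] ≠ ⊥ := fun hb => by rw [hb, finrank_bot] at hd; omega
    obtain ⟨h', hh', hh'0⟩ := (Submodule.ne_bot_iff _).1 hne
    have hm := mem_orthFam.1 hh'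
    have hh'W : h' ∈ perp Q e f := mem_perp.2 ⟨hm 0, hm 1⟩
    obtain ⟨y, hy, hy'⟩ := hp.perp_nondeg hQ hh'W hh'0
    set y' := y - polar ⇑Q z y • x0 - polar ⇑Q x0 y • z with hy'd
    have hy'm : y' ∈ orthFam Q ![e, f, x0, z] := by
      have hy'W : y' ∈ perp Q e f :=
        sub_mem (sub_mem hy (Submodule.smul_mem _ _ hx0W)) (Submodule.smul_mem _ _ hzW)
      rw [mem_orthFam]
      intro i
      fin_cases i
      · exact (mem_perp.1 hy'W).1
      · exact (mem_perp.1 hy'W).2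
      · show polar ⇑Q x0 y' = 0
        rw [hy'd, pl_sub_right, pl_sub_right, pl_smul_right, pl_smul_right, pl_self, hQx0, hx0z]; ring
      · show polar ⇑Q z y' = 0
        rw [hy'd, pl_sub_right, pl_sub_right, pl_smul_right, pl_smul_right, pl_self, hQz,
          pl_comm Q z x0, hx0z]; ring
    apply hy'
    have h1 : polar ⇑Q h' y' = 0 := by
      simp [polar, hall h' hh', hall y' hy'm, hall _ (add_mem hh' hy'm)]
    have h2 : polar ⇑Q h' x0 = 0 := by rw [pl_comm]; exact hm 2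
    have h3 : polar ⇑Q h' z = 0 := by rw [pl_comm]; exact hm 3
    rw [hy'd, pl_sub_right, pl_sub_right, pl_smul_right, pl_smul_right, h2, h3] at h1
    simpa using h1
  have hwm := mem_orthFam.1 hw
  have hew : polar ⇑Q e w = 0 := hwm 0
  have hfw : polar ⇑Q f w = 0 := hwm 1
  have hxw : polar ⇑Q x0 w = 0 := hwm 2
  have hzw : polar ⇑Q z w = 0 := hwm 3
  have hze : polar ⇑Q z e = 0 := by rw [pl_comm]; exact (mem_perp.1 hzW).1
  have hwx : polar ⇑Q w x = 0 := by
    rw [hdec, pl_add_right, pl_add_right, pl_smul_right, pl_smul_right, pl_comm Q w e, hew,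
      pl_comm Q w f, hfw, pl_comm Q w x0, hxw]; ring
  have hzx : polar ⇑Q z x = 1 := by
    rw [hdec, pl_add_right, pl_add_right, pl_smul_right, pl_smul_right, hze,
      pl_comm Q z x0, hx0z]; ring
  set E := eich Q z w with hEd
  have hEx : ap E x = x + w - Q w • z := by
    rw [hEd, eich_ap hQz hzw, hwx, hzx]; module
  have hEe : E • spt e hp.ne_zero hp.qe = spt e hp.ne_zero hp.qe := by
    rw [smul_spt_eq_self_iff]
    refine ⟨1, ?_⟩
    rw [hEd, eich_ap hQz hzw, hze, pl_comm Q w e, hew]; module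
  have hxB' := stab E (hE (eich_mem_eichGen z w)) _ haB hEe _ hqB
  rw [smul_spt] at hxB'
  refine stepA' x (ap E x) hx0 hx _ _ ?_ hqB hxB'
  rw [hEx, pl_sub_right, pl_add_right, pl_smul_right, pl_self, hx, pl_comm Q x w, hwx,
    pl_comm Q x z, hzx]
  simpa using hQw

/-! ### the root groups and simplicity -/

/-- The abelian group `U_u` of Eichler transformations at `u`. -/
def eichU (Q : QuadraticForm F (ι → F)) (u : ι → F) : Subgroup (IsoGrp Q) :=
  Subgroup.closure {g | ∃ w, polar ⇑Q u w = 0 ∧ g = eich Q u w}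

theorem mem_eichU_iff {u : ι → F} (hu : Q u = 0) {g : IsoGrp Q} :
    g ∈ eichU Q u ↔ ∃ w, polar ⇑Q u w = 0 ∧ g = eich Q u w := by
  refine ⟨fun hg => ?_, fun h => Subgroup.subset_closure h⟩
  induction hg using Subgroup.closure_induction with
  | mem x hx => exact hx
  | one => exact ⟨0, pl_zero_right Q u, (eich_zero u).symm⟩
  | mul x y _ _ hx hy =>
    obtain ⟨w, hw, rfl⟩ := hx
    obtain ⟨w', hw', rfl⟩ := hy
    exact ⟨w + w', by rw [pl_add_right, hw, hw', add_zero], eich_add hu hw hw'⟩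
  | inv x _ hx =>
    obtain ⟨w, hw, rfl⟩ := hx
    exact ⟨-w, by rw [pl_neg_right, hw, neg_zero], eich_inv u w⟩

theorem eichU_comm {u : ι → F} (hu : Q u = 0) {g h : IsoGrp Q} (hg : g ∈ eichU Q u)
    (hh : h ∈ eichU Q u) : g * h = h * g := by
  obtain ⟨w, hw, rfl⟩ := (mem_eichU_iff hu).1 hg
  obtain ⟨w', hw', rfl⟩ := (mem_eichU_iff hu).1 hh
  rw [eich_add hu hw hw', eich_add hu hw' hw, add_comm]

theorem eichU_smul {u : ι → F} {c : F} (hc : c ≠ 0) : eichU Q (c • u) = eichU Q u := by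
  unfold eichU
  congr 1
  ext g
  constructor
  · rintro ⟨w, hw, rfl⟩
    exact ⟨c • w, by rw [pl_smul_right, ← pl_smul_left, hw], eich_smul_left u w c⟩
  · rintro ⟨w, hw, rfl⟩
    exact ⟨c⁻¹ • w, by rw [pl_smul_left, pl_smul_right, hw, mul_zero, mul_zero],
      by rw [eich_smul_left, smul_inv_smul₀ hc]⟩

theorem mem_eichU_ap (γ : IsoGrp Q) (u : ι → F) {g : IsoGrp Q} :
    g ∈ eichU Q (ap γ u) ↔ γ⁻¹ * g * γ ∈ eichU Q u := by
  have key : ∀ (γ : IsoGrp Q) (u : ι → F),
      (eichU Q u).map (MulAut.conj γ).toMonoidHom ≤ eichU Q (ap γ u) := by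
    intro γ u
    rw [eichU, MonoidHom.map_closure, eichU, Subgroup.closure_le]
    rintro _ ⟨_, ⟨w, hw, rfl⟩, rfl⟩
    exact Subgroup.subset_closure ⟨ap γ w, by rw [polar_ap, hw], by simp [conj_eich]⟩
  constructor
  · intro hg
    have := key γ⁻¹ (ap γ u) ⟨g, hg, rfl⟩
    simpa using this
  · intro hg
    have := key γ u ⟨_, hg, rfl⟩
    simpa [mul_assoc] using this

theorem rep_smul_spt (γ : IsoGrp Q) (p : SPt Q) :
    ∃ c : F, c ≠ 0 ∧ (γ • p).1.rep = c • ap γ p.1.rep := by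
  obtain ⟨a, ha⟩ := Projectivization.exists_smul_eq_mk_rep F (ap γ p.1.rep)
    (ap_ne_zero γ p.1.rep_nonzero)
  exact ⟨a, a.ne_zero, ha.symm⟩

theorem nontrivial_spt (hQ : Q.polarBilin.Nondegenerate) (hn : 3 ≤ Fintype.card ι) :
    Nontrivial (SPt Q) := by
  obtain ⟨e, f, hp⟩ := exists_hpair hQ hn
  refine ⟨spt e hp.ne_zero hp.qe, spt f hp.swap.ne_zero hp.qf, fun h => ?_⟩
  obtain ⟨a, ha⟩ := (spt_eq_iff hp.ne_zero hp.swap.ne_zero hp.qe hp.qf).1 h
  have := hp.pf
  rw [← ha, pl_smul_left, pl_self, hp.qf] at this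
  simp at this

/-- `PΩ(Q)` is simple in dimension at least 5. -/
theorem isSimpleGroup_pomega (hQ : Q.polarBilin.Nondegenerate) (hn : 5 ≤ Fintype.card ι) :
    IsSimpleGroup (POmega F ⇑Q) := by
  have hG : Good Q := ⟨hQ, .inr (by omega)⟩
  have hΩ := omega_eq_eichGen hG (by omega) (.inr hn)
  have hE : eichGen Q ≤ Omega F ⇑Q := hΩ.ge
  set Ω := Omega F ⇑Q with hΩdef
  set π := QuotientGroup.mk' (Subgroup.center ↥Ω) with hπ
  have hker : Subgroup.center ↥Ω ≤ (MulAction.toPermHom ↥Ω (SPt Q)).ker := by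
    intro g hg
    obtain ⟨a, -, ha⟩ := (mem_center_omega_iff hQ (by omega) hE g).1 hg
    refine MonoidHom.mem_ker.2 (Equiv.Perm.ext fun p => ?_)
    exact fix_of_scalar ha p
  let act : MulAction (POmega F ⇑Q) (SPt Q) :=
    MulAction.compHom _ (QuotientGroup.lift (Subgroup.center ↥Ω) (MulAction.toPermHom ↥Ω (SPt Q)) hker)
  have smul_mk : ∀ (g : ↥Ω) (p : SPt Q), π g • p = g • p := fun g p => rfl
  have hprim := isPreprimitive_spt hQ hn hE
  have hP : MulAction.IsPreprimitive (POmega F ⇑Q) (SPt Q) := by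
    let φ : SPt Q →ₑ[⇑π] SPt Q := { toFun := id, map_smul' := fun g p => (smul_mk g p).symm }
    exact MulAction.IsPreprimitive.of_surjective (f := φ) Function.surjective_id
  have hfaith : FaithfulSMul (POmega F ⇑Q) (SPt Q) := by
    refine ⟨fun {a b} hab => ?_⟩
    obtain ⟨a, rfl⟩ := QuotientGroup.mk'_surjective _ a
    obtain ⟨b, rfl⟩ := QuotientGroup.mk'_surjective _ b
    refine (QuotientGroup.eq.2 ?_)
    obtain ⟨e, f, hp⟩ := exists_hpair hQ (by omega : 3 ≤ Fintype.card ι)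
    rw [mem_center_omega_iff hQ (by omega) hE]
    refine hp.scalar_of_fix hQ (by omega) fun v h0 hv => ?_
    refine (smul_spt_eq_self_iff _ v h0 hv).1 ?_
    have := hab (spt v h0 hv)
    rw [← hπ, smul_mk, smul_mk] at this
    show (a⁻¹ * b) • spt v h0 hv = spt v h0 hv
    rw [mul_smul, ← this, inv_smul_smul]
  have hnt : Nontrivial (POmega F ⇑Q) := by
    have := nontrivial_spt hQ (by omega : 3 ≤ Fintype.card ι)
    obtain ⟨p, q, hpq⟩ := exists_pair_ne (SPt Q)
    obtain ⟨g, hg⟩ := MulAction.exists_smul_eq (POmega F ⇑Q) p q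
    exact ⟨g, 1, fun h => hpq (by rw [← hg, h, one_smul])⟩
  have hperf : commutator (POmega F ⇑Q) = ⊤ := by
    have h1 : commutator ↥Ω = ⊤ := by
      rw [eq_top_iff]
      intro g _
      have h2 := omega_le_commutator_omega hG hn g.2
      rw [← Subgroup.map_subtype_commutator] at h2
      obtain ⟨g', hg', he⟩ := h2
      rwa [← Subtype.ext (show (g' : IsoGrp Q) = g from he)]
    rw [eq_top_iff]
    intro a _
    obtain ⟨a, rfl⟩ := QuotientGroup.mk'_surjective _ a
    have : π a ∈ (commutator ↥Ω).map π := ⟨a, h1 ▸ Subgroup.mem_top a, rfl⟩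
    rw [map_commutator_eq] at this
    exact Subgroup.commutator_mono le_top le_top this
  let T : SPt Q → Subgroup (POmega F ⇑Q) := fun p => ((eichU Q p.1.rep).subgroupOf Ω).map π
  have hTconj : ∀ (g : ↥Ω) (p : SPt Q) (x : ↥Ω), (x : IsoGrp Q) ∈ eichU Q (g • p).1.rep ↔
      ((g⁻¹ * x * g : ↥Ω) : IsoGrp Q) ∈ eichU Q p.1.rep := by
    intro g p x
    obtain ⟨c, hc, hr⟩ := rep_smul_spt (g : IsoGrp Q) p
    show (x : IsoGrp Q) ∈ eichU Q ((g : IsoGrp Q) • p).1.rep ↔ _
    rw [hr, eichU_smul hc, mem_eichU_ap]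
    rfl
  let S : MulAction.IwasawaStructure (POmega F ⇑Q) (SPt Q) :=
  { T := T
    is_comm := fun p => ⟨⟨by
      rintro ⟨_, a, ha, rfl⟩ ⟨_, b, hb, rfl⟩
      refine Subtype.ext ?_
      show π a * π b = π b * π a
      rw [← map_mul, ← map_mul]
      exact congrArg π (Subtype.ext (eichU_comm p.2 ha hb))⟩⟩
    is_conj := by
      intro g p
      obtain ⟨g, rfl⟩ := QuotientGroup.mk'_surjective _ g
      rw [← hπ, smul_mk]
      ext y
      constructor
      · rintro ⟨x, hx, rfl⟩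
        refine ⟨π (g⁻¹ * x * g), ⟨_, (hTconj g p x).1 hx, rfl⟩, ?_⟩
        simp [mul_assoc]
      · rintro ⟨_, ⟨x, hx, rfl⟩, rfl⟩
        refine ⟨g * x * g⁻¹, ?_, by simp⟩
        rw [SetLike.mem_coe, Subgroup.mem_subgroupOf, hTconj]
        simpa [mul_assoc] using Subgroup.mem_subgroupOf.1 hx
    is_generator := by
      rw [eq_top_iff]
      intro a _
      obtain ⟨a, rfl⟩ := QuotientGroup.mk'_surjective _ a
      rw [← hπ]
      suffices h : Ω ≤ ((⨆ p, T p).comap π).map Ω.subtype by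
        obtain ⟨b, hb, he⟩ := h a.2
        rwa [← Subtype.ext (show (b : IsoGrp Q) = a from he)]
      intro g hg
      rw [hΩ] at hg
      refine (Subgroup.closure_le _).2 ?_ hg
      rintro _ ⟨u, w, rfl⟩
      refine ⟨⟨eich Q u w, hE (eich_mem_eichGen u w)⟩, ?_, rfl⟩
      by_cases hv : Q u = 0 ∧ polar ⇑Q u w = 0
      swap
      · have : (⟨eich Q u w, hE (eich_mem_eichGen u w)⟩ : ↥Ω) = 1 := Subtype.ext (eich_eq_one hv)
        rw [this]; exact one_mem _
      by_cases hu : u = 0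
      · have : (⟨eich Q u w, hE (eich_mem_eichGen u w)⟩ : ↥Ω) = 1 := Subtype.ext (by
          show eich Q u w = 1
          rw [hu, ← zero_smul F (0 : ι → F), eich_smul_left, zero_smul, eich_zero])
        rw [this]; exact one_mem _
      refine Subgroup.mem_iSup_of_mem (spt u hu hv.1) ⟨_, ?_, rfl⟩
      obtain ⟨c, hc⟩ := Projectivization.exists_smul_eq_mk_rep F u hu
      show eich Q u w ∈ eichU Q (Projectivization.mk F u hu).rep
      rw [← hc, Units.smul_def, eichU_smul c.ne_zero]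
      exact Subgroup.subset_closure ⟨w, hv.2, rfl⟩ }
  exact S.isSimpleGroup hperf hfaith

end Cfsg.Agent.Orth
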