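import Cfsg.Agent.Lib.Orth.Simple
import Cfsg.Agent.Lib.Orth.Models

/-!
# Orthogonal groups: centre of `Ω` by order, order of `PΩ`

* `center_omega_eq_bot`, `card_center_omega` (`2` if `q` is odd and `-1 ∈ Ω`)
* `index_mul_card_pomega` : `[O:Ω] * |Z(Ω)| * |PΩ| = |O|`
-/

set_option autoImplicit false
set_option linter.unusedSectionVars false

namespace Cfsg.Agent.Orth

open Cfsg Matrix Module
open QuadraticMap (polar)

variable {ι : Type} [Fintype ι] [DecidableEq ι] {F : Type*} [Field F] [Fintype F]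
variable {Q : QuadraticForm F (ι → F)}

theorem eq_one_or_eq_negOne_of_scalar {g : IsoGrp Q} {a : F} (ha : a * a = 1)
    (hg : ∀ x, ap g x = a • x) : g = 1 ∨ g = negOne Q := by
  rcases mul_self_eq_one_iff.1 ha with rfl | rfl
  · exact .inl (ext_ap fun x => by rw [hg, ap_one, one_smul])
  · exact .inr (ext_ap fun x => by rw [hg, negOne_ap, neg_one_smul])

theorem center_omega_eq_bot (hQ : Q.polarBilin.Nondegenerate) (hn : 3 ≤ Fintype.card ι)
    (hE : eichGen Q ≤ Omega F ⇑Q) (h : negOne Q ∉ Omega F ⇑Q ∨ (2 : F) = 0) :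
    Subgroup.center ↥(Omega F ⇑Q) = ⊥ := by
  rw [Subgroup.eq_bot_iff_forall]
  intro g hg
  obtain ⟨a, ha, hga⟩ := (mem_center_omega_iff hQ hn hE g).1 hg
  rcases eq_one_or_eq_negOne_of_scalar ha hga with h1 | h1
  · exact Subtype.ext h1
  · rcases h with h | h
    · exact absurd (h1 ▸ g.2) h
    · refine Subtype.ext (h1.trans (ext_ap fun x => ?_))
      rw [negOne_ap]
      show -x = ap (1 : IsoGrp Q) x
      rw [ap_one]
      funext i
      show -(x i) = x i
      linear_combination -(x i) * h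

theorem card_center_omega_two (hQ : Q.polarBilin.Nondegenerate) (hn : 3 ≤ Fintype.card ι)
    (hE : eichGen Q ≤ Omega F ⇑Q) (h2 : (2 : F) ≠ 0) (hmem : negOne Q ∈ Omega F ⇑Q) :
    Nat.card (Subgroup.center ↥(Omega F ⇑Q)) = 2 := by
  have hc : (⟨negOne Q, hmem⟩ : ↥(Omega F ⇑Q)) ∈ Subgroup.center ↥(Omega F ⇑Q) :=
    (mem_center_omega_iff hQ hn hE _).2 ⟨-1, by ring, fun x => by rw [negOne_ap, neg_one_smul]⟩
  rw [Nat.card_eq_two_iff]
  refine ⟨1, ⟨_, hc⟩, fun h => ?_, Set.eq_univ_iff_forall.2 fun g => ?_⟩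
  · have h1 : negOne Q = (1 : IsoGrp Q) := by
      have := congrArg (fun z : ↥(Subgroup.center ↥(Omega F ⇑Q)) => (z.1.1 : IsoGrp Q)) h
      exact this.symm
    obtain ⟨i⟩ := Fintype.card_pos_iff.1 (by omega : 0 < Fintype.card ι)
    have := congrArg (fun z => ap z (Pi.single i 1) i) h1
    simp only [negOne_ap, ap_one, Pi.neg_apply, Pi.single_eq_same] at this
    exact h2 (by linear_combination -this)
  · obtain ⟨a, ha, hga⟩ := (mem_center_omega_iff hQ hn hE g.1).1 g.2
    rcases eq_one_or_eq_negOne_of_scalar ha hga with h1 | h1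
    · exact .inl (Subtype.ext (Subtype.ext h1))
    · exact .inr (Subtype.ext (Subtype.ext h1))

theorem index_mul_card_pomega (Q : (ι → F) → F) :
    (Omega F Q).index * (Nat.card (Subgroup.center ↥(Omega F Q)) * Nat.card (POmega F Q)) =
      Nat.card (isometryGroup F Q) := by
  rw [← Subgroup.index_eq_card, Subgroup.card_mul_index, Subgroup.index_mul_card]

end Cfsg.Agent.Orth
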