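import Cfsg.Agent.Lib.Orth.Basic

/-!
# A criterion for being dihedral, and two-dimensional helpers

* `equiv_dihedral` : a cyclic subgroup `C` of order `n`, an involution `s ∉ C` inverting it, and
  `G = C ∪ s C` give `G ≃* DihedralGroup n`
* `mk2Iso` : a `2`-variable isometry from four entries
-/

set_option autoImplicit false
set_option linter.unusedSectionVars false

namespace Cfsg.Agent.Orth

open Cfsg Matrix

theorem equiv_dihedral {G : Type*} [Group G] {n : ℕ} [NeZero n] (C : Subgroup G) [IsCyclic C]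
    (hC : Nat.card C = n) (s : G) (hs : s * s = 1) (hsC : s ∉ C)
    (hinv : ∀ c ∈ C, s * c * s = c⁻¹) (hall : ∀ g, g ∈ C ∨ s * g ∈ C) :
    Nonempty (G ≃* DihedralGroup n) := by
  subst hC
  let φ : Multiplicative (ZMod (Nat.card C)) ≃* C := zmodCyclicMulEquiv ‹IsCyclic C›
  let ρ : ZMod (Nat.card C) → G := fun i => ((φ (Multiplicative.ofAdd i) : C) : G)
  have hρ : ∀ i j, ρ (i + j) = ρ i * ρ j := fun i j => by
    simp [ρ, ofAdd_add]
  have hρneg : ∀ i, ρ (-i) = (ρ i)⁻¹ := fun i => by simp [ρ, ofAdd_neg]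
  have hρC : ∀ i, ρ i ∈ C := fun i => (φ _).2
  have hρinj : Function.Injective ρ := fun i j h => by
    simpa using φ.injective (Subtype.ext h)
  have hρsub : ∀ i j, ρ (i - j) = ρ i * (ρ j)⁻¹ := fun i j => by rw [sub_eq_add_neg, hρ, hρneg]
  have hsinv : s⁻¹ = s := inv_eq_of_mul_eq_one_right hs
  have hmove : ∀ c ∈ C, c * s = s * c⁻¹ := fun c hc => by
    rw [← hinv c hc, ← mul_assoc, ← mul_assoc, hs, one_mul]
  let f : DihedralGroup (Nat.card C) → G := fun
    | .r i => ρ i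
    | .sr i => s * ρ i
  have hcomm : ∀ i j, ρ i * ρ j = ρ j * ρ i := fun i j => by rw [← hρ, ← hρ, add_comm]
  have hf : ∀ x y, f (x * y) = f x * f y := by
    rintro (i | i) (j | j)
    · simp only [DihedralGroup.r_mul_r, f, hρ]
    · show s * ρ (j - i) = ρ i * (s * ρ j)
      rw [← mul_assoc, hmove _ (hρC i), mul_assoc, hρsub, ← hρneg, hcomm, hρneg]
    · simp only [DihedralGroup.sr_mul_r, f, hρ, mul_assoc]
    · show ρ (j - i) = s * ρ i * (s * ρ j)
      rw [← mul_assoc, mul_assoc s (ρ i) s, hmove _ (hρC i), ← mul_assoc, hs, one_mul,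
        hρsub, ← hρneg, hcomm, hρneg]
  refine ⟨(MulEquiv.ofBijective (MonoidHom.mk' f hf) ⟨?_, fun g => ?_⟩).symm⟩
  · rintro (i | i) (j | j) h
    · exact congrArg _ (hρinj h)
    · exact absurd ((Subgroup.mul_mem_cancel_right C (hρC j)).1
        (show s * ρ j ∈ C by rw [← show ρ i = s * ρ j from h]; exact hρC i)) hsC
    · exact absurd ((Subgroup.mul_mem_cancel_right C (hρC i)).1
        (show s * ρ i ∈ C by rw [show s * ρ i = ρ j from h]; exact hρC j)) hsC
    · exact congrArg _ (hρinj (mul_left_cancel h))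
  · rcases hall g with hg | hg
    · refine ⟨.r (Multiplicative.toAdd (φ.symm ⟨g, hg⟩)), ?_⟩
      show ρ _ = g
      simp [ρ]
    · refine ⟨.sr (Multiplicative.toAdd (φ.symm ⟨s * g, hg⟩)), ?_⟩
      show s * ρ _ = g
      simp [ρ, ← mul_assoc, hs]

variable {ι : Type} [Fintype ι] [DecidableEq ι] {F : Type*} [Field F]

/-- An isometry from a matrix with a two-sided inverse. -/
def isoMk {Q : (ι → F) → F} (M N : Matrix ι ι F) (h1 : M * N = 1) (h2 : N * M = 1)
    (h : ∀ x, Q (M *ᵥ x) = Q x) : ↥(isometryGroup F Q) :=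
  ⟨⟨M, N, h1, h2⟩, fun x _ => h x⟩

theorem coe_isoMk {Q : (ι → F) → F} (M N : Matrix ι ι F) (h1 : M * N = 1) (h2 : N * M = 1)
    (h : ∀ x, Q (M *ᵥ x) = Q x) : ((isoMk M N h1 h2 h : GL ι F) : Matrix ι ι F) = M := rfl

theorem iso_ext {Q : (ι → F) → F} {g h : ↥(isometryGroup F Q)}
    (e : ((g : GL ι F) : Matrix ι ι F) = ((h : GL ι F) : Matrix ι ι F)) : g = h :=
  Subtype.ext (Units.ext e)

theorem iso_preserves {Q : (ι → F) → F} (g : ↥(isometryGroup F Q)) (x : ι → F) :
    Q (((g : GL ι F) : Matrix ι ι F) *ᵥ x) = Q x := g.2 x x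

theorem iso_coe_mul {Q : (ι → F) → F} (g h : ↥(isometryGroup F Q)) :
    (((g * h : ↥(isometryGroup F Q)) : GL ι F) : Matrix ι ι F) =
      ((g : GL ι F) : Matrix ι ι F) * ((h : GL ι F) : Matrix ι ι F) := rfl

theorem iso_coe_one {Q : (ι → F) → F} :
    (((1 : ↥(isometryGroup F Q)) : GL ι F) : Matrix ι ι F) = 1 := rfl

end Cfsg.Agent.Orth
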