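import Cfsg.Agent.Lib.Orth.NondegTools
import Cfsg.Agent.Lib.Orth.Geo
import Cfsg.Agent.Lib.Aschbacher.FrameThree

/-!
# The stabiliser of `Sp₂ ⊗ Sp_m` over `𝔽₂` lies in a unitary extension-field group
-/

set_option autoImplicit false
set_option linter.unusedSectionVars false

namespace Cfsg.Agent.Orth

open Cfsg Matrix Module
open QuadraticMap (polar)
open Cfsg.Agent.Transvect (tp tp_apply app app_apply)
open scoped MatrixGroups

variable {F : Type*} [Field F] {ι : Type} [Fintype ι] [DecidableEq ι]

theorem tp_basis_ext {d t : ℕ} (e : ι ≃ Fin d × Fin t) (P : GL ι F) {M : Type*} [AddCommGroup M] [Module F M]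
    {L L' : (ι → F) →ₗ[F] M}
    (h : ∀ a b, L (tp e P (Pi.single a 1) (Pi.single b 1)) = L' (tp e P (Pi.single a 1) (Pi.single b 1))) :
    L = L' := by
  have key : ∀ i, tp e P (Pi.single (e i).1 1) (Pi.single (e i).2 1) = app P (Pi.single i 1) := by
    intro i
    rw [tp_apply]
    congr 1
    funext j
    by_cases hji : j = i
    · subst hji; simp
    · rw [Pi.single_eq_of_ne hji]
      by_cases h1 : (e j).1 = (e i).1
      · have h2 : (e j).2 ≠ (e i).2 := fun h2 => hji (e.injective (Prod.ext h1 h2))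
        rw [Pi.single_eq_of_ne h2, mul_zero]
      · rw [Pi.single_eq_of_ne h1, zero_mul]
  refine ((Pi.basisFun F ι).map (app P)).ext fun i => ?_
  rw [Basis.map_apply, Pi.basisFun_apply, ← key i]
  exact h _ _

theorem app_tp_of_eq {d t : ℕ} {e : ι ≃ Fin d × Fin t} {P T : GL ι F} {A : GL (Fin d) F} {B : GL (Fin t) F}
    (h : (T : Matrix ι ι F) = PrimeDim.cj P (Aschbacher.tens e (A : Matrix _ _ F) (B : Matrix _ _ F)))
    (a : Fin d → F) (w : Fin t → F) : app T (tp e P a w) = tp e P (app A a) (app B w) := by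
  rw [tp_apply, tp_apply, app_apply T, h]
  show ((P : Matrix ι ι F) * Aschbacher.tens e (A : Matrix _ _ F) (B : Matrix _ _ F) *
    ((P⁻¹ : GL ι F) : Matrix ι ι F)) *ᵥ ((P : Matrix ι ι F) *ᵥ _) = _
  rw [Matrix.mulVec_mulVec, Matrix.mul_assoc, Units.inv_mul, Matrix.mul_one, ← Matrix.mulVec_mulVec,
    app_apply P]
  congr 1
  funext i
  simp only [Matrix.mulVec, dotProduct, Aschbacher.tens_apply, app_apply]
  rw [← e.symm.sum_comp, Fintype.sum_prod_type, Finset.sum_mul_sum]
  simp only [Equiv.apply_symm_apply]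
  refine Finset.sum_congr rfl fun j _ => Finset.sum_congr rfl fun k _ => ?_
  ring

theorem card_two_cases [Fintype F] (hq : Fintype.card F = 2) (x : F) : x = 0 ∨ x = 1 := by
  by_cases hx : x = 0
  · exact Or.inl hx
  · have h1 := FiniteField.pow_card_sub_one_eq_one x hx
    rw [hq] at h1
    exact Or.inr (by simpa using h1)

/-- A vector orthogonal to finitely many given ones. -/
theorem exists_common_perp {m k : ℕ} {f : (Fin m → F) → (Fin m → F) → F} (hf : Geo.IsBilinearForm f)
    (u : Fin k → Fin m → F) (hk : k < m) : ∃ v, v ≠ 0 ∧ ∀ i, f v (u i) = 0 := by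
  let L : (Fin m → F) →ₗ[F] (Fin k → F) :=
    { toFun := fun v i => f v (u i)
      map_add' := fun a b => funext fun i => hf.add_left a b (u i)
      map_smul' := fun c a => funext fun i => hf.smul_left c a (u i) }
  have h := L.finrank_range_add_finrank_ker
  have h1 := Submodule.finrank_le (LinearMap.range L)
  rw [finrank_space, Fintype.card_fin] at h h1
  obtain ⟨v, hv, hv0⟩ := Submodule.exists_mem_ne_zero_of_ne_bot
    (p := LinearMap.ker L) (fun hb => by rw [hb, finrank_bot] at h; omega)
  exact ⟨v, hv0, fun i => congrFun (LinearMap.mem_ker.1 hv) i⟩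

variable [Fintype F] {Q : QuadraticForm F (ι → F)}

/-- Over the field with two elements the stabiliser of `Sp₂ ⊗ Sp_m` is not maximal in `Ω`. -/
theorem exists_between_tensor_two (hG : Good Q) (hq : Fintype.card F = 2) {m : ℕ} (hm : 5 ≤ m)
    (e : ι ≃ Fin 2 × Fin m) (P : GL ι F) {f₁ : (Fin 2 → F) → (Fin 2 → F) → F}
    {f₂ : (Fin m → F) → (Fin m → F) → F} (hf₁ : Geo.IsSymplecticForm f₁) (hf₂ : Geo.IsSymplecticForm f₂)
    (hT : Geo.IsTensorFormStructure id (polar ⇑Q) f₁ f₂ e P)
    (hpure : ∀ x v, Q (tp e P x v) = 0) :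
    ∃ K : Subgroup (GL ι F), Geo.tensorProductSubgroup 2 m e P ⊓ Geo.omegaGL ⇑Q < K ∧
      K < Geo.omegaGL ⇑Q := by
  classical
  have b2 := card_two_cases hq
  have h2 : (2 : F) = 0 := by
    have := FiniteField.cast_card_eq_zero F
    rw [hq] at this
    exact_mod_cast this
  have h11 : (1 : F) + 1 = 0 := by linear_combination h2
  have hadd : ∀ x : ι → F, x + x = 0 := fun x => by rw [← two_smul F x, h2, zero_smul]
  have hneg : ∀ a : F, -a = a := fun a => by linear_combination (-a) * h2
  obtain ⟨κ, hκ, htp⟩ := Transvect.form_tp (σ := id) (fun _ _ => rfl)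
    (Aschbacher.FrameThree.fog_eq hf₁.bilinear) (Aschbacher.FrameThree.fog_eq hf₂.bilinear) hT
  obtain rfl : κ = 1 := (b2 κ).resolve_left hκ
  simp only [one_mul] at htp
  -- the two coordinate vectors
  set x₁ : Fin 2 → F := ![1, 0] with hx₁
  set x₂ : Fin 2 → F := ![0, 1] with hx₂
  have hf11 : f₁ x₁ x₁ = 0 := hf₁.alternating _
  have hf22 : f₁ x₂ x₂ = 0 := hf₁.alternating _
  have hf12 : f₁ x₁ x₂ = 1 := by
    refine (b2 _).resolve_left fun h0 => ?_
    have hx : x₁ ≠ 0 := fun h => one_ne_zero (α := F) (congrFun h 0)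
    obtain ⟨-, y, hy⟩ := hf₁.nondegenerate x₁ hx
    apply hy
    have : y = y 0 • x₁ + y 1 • x₂ := by
      funext i; fin_cases i <;> simp [hx₁, hx₂]
    rw [this, hf₁.bilinear.add_right, hf₁.bilinear.smul_right, hf₁.bilinear.smul_right, hf11, h0]
    simp
  have hf21 : f₁ x₂ x₁ = 1 := by rw [hf₁.skew x₂ x₁, hf12, hneg]
  have hsym : ∀ v w, f₂ v w = f₂ w v := fun v w => by rw [hf₂.skew v w, hneg]
  have hswap : ∀ v, f₂ v v = 0 := hf₂.alternating
  -- the element of order three
  let C : GL (Fin 2) F := ⟨!![0, 1; 1, 1], !![1, 1; 1, 0],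
    by simp [Matrix.one_fin_two, h11], by simp [Matrix.one_fin_two, h11]⟩
  have hC1 : app C x₁ = x₂ := by
    funext i; fin_cases i <;> simp [app_apply, C, hx₁, hx₂, Matrix.mulVec, dotProduct, Fin.sum_univ_two]
  have hC2 : app C x₂ = x₁ + x₂ := by
    funext i; fin_cases i <;> simp [app_apply, C, hx₁, hx₂, Matrix.mulVec, dotProduct, Fin.sum_univ_two]
  let cjt : GL (Fin 2) F → GL ι F := fun a =>
    Units.map (PrimeDim.cj P).toMonoidHom
      ⟨Aschbacher.tens e (a : Matrix (Fin 2) (Fin 2) F) 1,
        Aschbacher.tens e ((a⁻¹ : GL (Fin 2) F) : Matrix (Fin 2) (Fin 2) F) 1,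
        by rw [Aschbacher.tens_mul, Units.mul_inv, one_mul, Aschbacher.tens_one],
        by rw [Aschbacher.tens_mul, Units.inv_mul, one_mul, Aschbacher.tens_one]⟩
  have hcjt : ∀ a, ((cjt a : GL ι F) : Matrix ι ι F) =
      PrimeDim.cj P (Aschbacher.tens e (a : Matrix (Fin 2) (Fin 2) F)
        ((1 : GL (Fin m) F) : Matrix (Fin m) (Fin m) F)) := fun a => rfl
  set T := cjt C with hTdef
  have hTtp : ∀ x v, app T (tp e P x v) = tp e P (app C x) v := fun x v => by
    rw [app_tp_of_eq (hcjt C) x v]
    simp [app_apply]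
  have hT1 : ∀ v, app T (tp e P x₁ v) = tp e P x₂ v := fun v => by rw [hTtp, hC1]
  have hT2 : ∀ v, app T (tp e P x₂ v) = tp e P x₁ v + tp e P x₂ v := fun v => by
    rw [hTtp, hC2, map_add, LinearMap.add_apply]
  have hbasis : ∀ a : Fin 2, (Pi.single a 1 : Fin 2 → F) = x₁ ∨ (Pi.single a 1 : Fin 2 → F) = x₂ := by
    intro a; fin_cases a
    · left; funext i; fin_cases i <;> simp [hx₁]
    · right; funext i; fin_cases i <;> simp [hx₂]
  have hTT : ∀ y, app T (app T y) = y + app T y := by
    have := tp_basis_ext e P (L := (app T).toLinearMap.comp (app T).toLinearMap)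
      (L' := LinearMap.id + (app T).toLinearMap) (fun a b => ?_)
    · exact fun y => LinearMap.congr_fun this y
    simp only [LinearMap.coe_comp, LinearEquiv.coe_coe, Function.comp_apply, LinearMap.add_apply,
      LinearMap.id_coe, id_eq]
    rcases hbasis a with h | h <;> rw [h]
    · rw [hT1, hT2]
    · rw [hT2, map_add, hT1, hT2]
  let pB : LinearMap.BilinForm F (ι → F) := Q.polarBilin
  have hTiso : ∀ x y, polar ⇑Q (app T x) (app T y) = polar ⇑Q x y := by
    have := tp_basis_ext e P (L := (pB.compl₁₂ (app T).toLinearMap (app T).toLinearMap)) (L' := pB)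
      (fun a b => tp_basis_ext e P fun c d => ?_)
    · exact fun x y => LinearMap.congr_fun₂ this x y
    simp only [pB, LinearMap.compl₁₂_apply, LinearEquiv.coe_coe, QuadraticMap.polarBilin_apply_apply]
    rcases hbasis a with h | h <;> rcases hbasis c with h' | h' <;> rw [h, h'] <;>
      simp only [hT1, hT2, pl_add_left, pl_add_right, htp, hf11, hf22, hf12, hf21, one_mul, zero_mul,
        add_zero, zero_add]
    linear_combination (f₂ (Pi.single b 1) (Pi.single d 1)) * h2
  -- vectors of the second factor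
  obtain ⟨w, hw⟩ : ∃ w : Fin m → F, w ≠ 0 :=
    ⟨fun _ => 1, fun h => one_ne_zero (α := F) (congrFun h ⟨0, by omega⟩)⟩
  obtain ⟨-, w', hw'⟩ := hf₂.nondegenerate w hw
  have hww : f₂ w w' = 1 := (b2 _).resolve_left hw'
  obtain ⟨v, hv, hvp⟩ := exists_common_perp hf₂.bilinear ![w, w'] (by omega)
  have hvw : f₂ v w = 0 := hvp 0
  have hvw' : f₂ v w' = 0 := hvp 1
  obtain ⟨-, z, hz⟩ := hf₂.nondegenerate v hv
  have hvz : f₂ v z = 1 := (b2 _).resolve_left hz
  set v' := z + f₂ z w' • w + f₂ z w • w' with hv'def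
  have hvv : f₂ v v' = 1 := by
    simp only [hv'def, hf₂.bilinear.add_right, hf₂.bilinear.smul_right, hvz, hvw, hvw']; ring
  have hv'w : f₂ v' w = 0 := by
    simp only [hv'def, hf₂.bilinear.add_left, hf₂.bilinear.smul_left, hswap, hsym w' w, hww]
    linear_combination (f₂ z w) * h2
  have hv'w' : f₂ v' w' = 0 := by
    simp only [hv'def, hf₂.bilinear.add_left, hf₂.bilinear.smul_left, hswap, hww]
    linear_combination (f₂ z w') * h2
  obtain ⟨v'', hv'', hvp''⟩ := exists_common_perp hf₂.bilinear ![w, w', v, v'] (by omega)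
  -- the anisotropic vectors
  set u := tp e P x₁ w + tp e P x₂ w' with hu
  set a := tp e P x₁ v + tp e P x₂ v' with ha
  clear_value u a v'
  have hTu : app T u = tp e P x₂ w + (tp e P x₁ w' + tp e P x₂ w') := by rw [hu, map_add, hT1, hT2]
  have hQu : Q u = 1 := by
    rw [hu, Q_add, hpure, hpure, htp, hf12, hww]; ring
  have hQa : Q a = 1 := by
    rw [ha, Q_add, hpure, hpure, htp, hf12, hvv]; ring
  have hQTu : Q (app T u) = 1 := by
    rw [hTu, Q_add, Q_add, hpure, hpure, hpure]
    simp only [pl_add_right, htp, hf11, hf22, hf12, hf21, hswap, hww]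
    ring
  have huTu : polar ⇑Q (app T u) u = 1 := by
    rw [hTu, hu]
    simp only [pl_add_left, pl_add_right, htp, hf11, hf22, hf12, hf21, hswap, hww, hsym w' w]
    ring_nf
  have haTu : polar ⇑Q a (app T u) = 0 := by
    rw [hTu, ha]
    simp only [pl_add_left, pl_add_right, htp, hvw, hvw', hv'w, hv'w', mul_zero, add_zero]
  have hau : polar ⇑Q a u = 0 := by
    rw [hu, ha]
    simp only [pl_add_left, pl_add_right, htp, hvw, hvw', hv'w, hv'w', mul_zero, add_zero]
  have hu0 : u ≠ 0 := fun h => one_ne_zero (α := F) (by rw [← hQu, h, QuadraticMap.map_zero])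
  have hTu0 : ∀ x, app T x = 0 → x = 0 := fun x hx => (app T).map_eq_zero_iff.1 hx
  have hrefl : ∀ {b : ι → F}, Q b = 1 → ∀ x, ap (refl Q b) x = x + polar ⇑Q b x • b := by
    intro b hb x
    rw [refl_ap, hb, inv_one, one_mul, sub_eq_add_neg, ← neg_smul, hneg]
  -- the element in the unitary group
  set g := refl Q u * refl Q (app T u) with hg
  have hgform : ∀ x, ap g x =
      x + polar ⇑Q x (app T u) • app T u + polar ⇑Q x (app T (app T u)) • u := by
    intro x
    rw [hg, ap_mul, hrefl hQTu, hrefl hQu, pl_add_right, pl_smul_right, pl_comm (Q := Q) u (app T u), huTu,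
      mul_one, hTT u, pl_add_right, pl_comm (Q := Q) x (app T u), pl_comm (Q := Q) x u]
  have hgT : (g : GL ι F) * T = T * (g : GL ι F) := by
    refine Units.ext ((Matrix.toLin' (R := F)).injective (LinearMap.ext fun x => ?_))
    simp only [Units.val_mul, Matrix.toLin'_mul, LinearMap.coe_comp, Function.comp_apply,
      Matrix.toLin'_apply]
    show ap g (app T x) = app T (ap g x)
    rw [hgform, hgform, map_add, map_add, map_smul, map_smul, hTiso, hTiso, hTT u, pl_add_right, smul_add,
      add_smul]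
    have := hadd (polar ⇑Q x (app T u) • app T u)
    calc _ = app T x + polar ⇑Q x u • app T u + polar ⇑Q x (app T u) • u := rfl
      _ = app T x + polar ⇑Q x u • app T u + polar ⇑Q x (app T u) • u +
          (polar ⇑Q x (app T u) • app T u + polar ⇑Q x (app T u) • app T u) := by rw [this, add_zero]
      _ = _ := by abel
  let S : Subgroup (GL ι F) := Subgroup.normalizer ({T, T * T} : Set (GL ι F))
  have hT3 : T * T * T = 1 := by
    refine Units.ext ((Matrix.toLin' (R := F)).injective (LinearMap.ext fun x => ?_))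
    simp only [Units.val_mul, Matrix.toLin'_mul, LinearMap.coe_comp, Function.comp_apply,
      Matrix.toLin'_apply, Units.val_one, Matrix.toLin'_one, LinearMap.id_coe, id_eq]
    show app T (app T (app T x)) = x
    rw [hTT (app T x), hTT x, add_left_comm, hadd, add_zero]
  have hmemS : ∀ h : GL ι F, h * T * h⁻¹ ∈ ({T, T * T} : Set (GL ι F)) → h ∈ S := by
    intro h hh
    rw [Subgroup.mem_set_normalizer_iff]
    intro y
    have hsq : h * (T * T) * h⁻¹ = (h * T * h⁻¹) * (h * T * h⁻¹) := by group
    simp only [Set.mem_insert_iff, Set.mem_singleton_iff] at hh ⊢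
    rcases hh with hh | hh
    · rw [hh] at hsq
      constructor
      · rintro (rfl | rfl)
        · exact Or.inl hh
        · exact Or.inr hsq
      · rintro (h' | h')
        · exact Or.inl (mul_left_cancel (mul_right_cancel (h'.trans hh.symm)))
        · exact Or.inr (mul_left_cancel (mul_right_cancel (h'.trans hsq.symm)))
    · rw [hh, show T * T * (T * T) = T * T * T * T by group, hT3, one_mul] at hsq
      constructor
      · rintro (rfl | rfl)
        · exact Or.inr hh
        · exact Or.inl hsq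
      · rintro (h' | h')
        · exact Or.inr (mul_left_cancel (mul_right_cancel (h'.trans hsq.symm)))
        · exact Or.inl (mul_left_cancel (mul_right_cancel (h'.trans hh.symm)))
  refine Transvect.exists_between S (fun h hh => ?_) inf_le_right
    ⟨(g : GL ι F), hmemS _ (Or.inl ?_), coe_mem_omegaGL.2 (refl_pair_mem_omega hG (by rw [hQu]; exact one_ne_zero)
      (by rw [hQTu, hQu])), fun hmem => ?_⟩
    ⟨((refl Q u * refl Q a : IsoGrp Q) : GL ι F), coe_mem_omegaGL.2 (refl_pair_mem_omega hG
      (by rw [hQu]; exact one_ne_zero) (by rw [hQa, hQu])), fun hmem => ?_⟩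
  · -- the tensor stabiliser normalises the group of order three
    obtain ⟨A, B, hAB⟩ := (Aschbacher.mem_tensorProductSubgroup_iff e P h).1 hh.1
    have hA : (A : Matrix (Fin 2) (Fin 2) F) * (C : Matrix (Fin 2) (Fin 2) F) =
          (C : Matrix (Fin 2) (Fin 2) F) * A ∨
        (A : Matrix (Fin 2) (Fin 2) F) * (C : Matrix (Fin 2) (Fin 2) F) =
          (C : Matrix (Fin 2) (Fin 2) F) * C * A := by
      have hd : (A : Matrix (Fin 2) (Fin 2) F).det ≠ 0 := (Matrix.GeneralLinearGroup.det A).ne_zero
      rw [Matrix.det_fin_two] at hd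
      rw [Matrix.eta_fin_two ((A : GL (Fin 2) F) : Matrix (Fin 2) (Fin 2) F)]
      rcases b2 ((A : Matrix (Fin 2) (Fin 2) F) 0 0) with e1 | e1 <;> rcases b2 ((A : Matrix (Fin 2) (Fin 2) F) 0 1) with e2 | e2 <;>
        rcases b2 ((A : Matrix (Fin 2) (Fin 2) F) 1 0) with e3 | e3 <;> rcases b2 ((A : Matrix (Fin 2) (Fin 2) F) 1 1) with e4 | e4 <;>
        simp [e1, e2, e3, e4, C, h11] at hd ⊢
    apply hmemS
    simp only [Set.mem_insert_iff, Set.mem_singleton_iff, mul_inv_eq_iff_eq_mul]
    refine hA.imp (fun h' => Units.ext ?_) (fun h' => Units.ext ?_) <;>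
      simp only [Units.val_mul, hAB, hTdef, hcjt, ← map_mul, Aschbacher.tens_mul, h', Units.val_one, one_mul,
        mul_one]
  · rw [mul_inv_eq_iff_eq_mul]; exact hgT
  · -- the unitary element is not a tensor
    obtain ⟨A, B, hAB⟩ := Transvect.exists_app_tp hmem.1
    have happ : ∀ y, ap g y = app (g : GL ι F) y := fun y => rfl
    have hgv : ap g (tp e P x₁ v) = tp e P x₁ v := by
      rw [hgform, hTT u, hTu, hu]
      simp only [pl_add_right, htp, hvw, hvw', mul_zero, add_zero, zero_smul]
    have hBv : app B v ≠ 0 := fun h => hv ((app B).map_eq_zero_iff.1 h)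
    obtain ⟨-, y, hy⟩ := hf₂.nondegenerate _ hBv
    have h1 : f₁ (app A x₁) x₁ = 0 := by
      have := congrArg (fun t => polar ⇑Q t (tp e P x₁ y)) (hgv.symm.trans ((happ _).trans (hAB x₁ v)))
      simp only [htp, hf11, zero_mul] at this
      exact (mul_eq_zero.1 this.symm).resolve_right hy
    have := congrArg (fun t => polar ⇑Q t (tp e P x₁ w)) ((happ _).trans (hAB x₁ w))
    rw [hgform, hTT u, hTu] at this
    rw [hu] at this
    simp only [pl_add_left, pl_add_right, pl_smul_left, htp, h1, hf11, hf22, hf12, hf21, hswap, hww,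
      hsym w' w, zero_mul, one_mul, mul_zero, mul_one, add_zero, zero_add] at this
    exact one_ne_zero (α := F) (by linear_combination this - h2)
  · -- the second pair of reflections does not normalise it
    set g' := refl Q u * refl Q a with hg'
    have happ : ∀ y, app (g' : GL ι F) y = ap g' y := fun y => rfl
    have hg'u : ap g' u = u := by
      rw [hg', ap_mul, refl_ap_of_orth Q hau, hrefl hQu, pl_self, h2, zero_mul, zero_smul, add_zero]
    have hg'Tu : ap g' (app T u) = app T u + u := by
      rw [hg', ap_mul, refl_ap_of_orth Q haTu, hrefl hQu, pl_comm (Q := Q) u (app T u), huTu, one_smul]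
    have hfix : ∀ xx, ap g' (tp e P xx v'') = tp e P xx v'' := by
      intro xx
      have p0 : f₂ w v'' = 0 := (hsym _ _).trans (hvp'' 0)
      have p1 : f₂ w' v'' = 0 := (hsym _ _).trans (hvp'' 1)
      have p2 : f₂ v v'' = 0 := (hsym _ _).trans (hvp'' 2)
      have p3 : f₂ v' v'' = 0 := (hsym _ _).trans (hvp'' 3)
      rw [hg', ap_mul, refl_ap_of_orth Q (v := a), refl_ap_of_orth Q (v := u)]
      · rw [hu]; simp only [pl_add_left, htp, p0, p1, mul_zero, add_zero]
      · rw [ha]; simp only [pl_add_left, htp, p2, p3, mul_zero, add_zero]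
    have hmem' := ((Subgroup.mem_set_normalizer_iff.1 hmem) T).1 (Set.mem_insert _ _)
    simp only [Set.mem_insert_iff, Set.mem_singleton_iff, mul_inv_eq_iff_eq_mul] at hmem'
    rcases hmem' with h | h
    · have := congrArg (fun g => app g u) h
      simp only [map_mul, LinearEquiv.mul_apply, happ, hg'u, hg'Tu, add_eq_left] at this
      exact hu0 this
    · have := congrArg (fun g => app g (tp e P x₁ v'')) h
      simp only [map_mul, LinearEquiv.mul_apply, happ, hfix, hT1, hT2, right_eq_add] at this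
      have hne : tp e P x₁ v'' ≠ 0 := fun h0 => by
        obtain ⟨-, y, hy⟩ := hf₂.nondegenerate v'' hv''
        have := htp x₁ v'' x₂ y
        rw [h0, pl_zero_left, hf12, one_mul] at this
        exact hy this.symm
      exact hne this

end Cfsg.Agent.Orth
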