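import Cfsg.Agent.Lib.Orth.Parabolic

/-!
# The stabiliser of a pair of complementary totally singular subspaces of even dimension is maximal

* `InR Q M x y` : all `eich x (c y)` lie in `M`; `InR.add`, `InR.smul`, `InR.symm`, `InR.map`
* `SPair Q A B` : a polarisation; `SPair.eich_mixed_mem` and the criterion `SPair.top_of_line`
* `singular_pair_stabilizer_maximal`
-/

set_option autoImplicit false

namespace Cfsg.Agent.Orth

open Cfsg Matrix Module
open QuadraticMap (polar)

variable {ι : Type} [Fintype ι] [DecidableEq ι] {F : Type*} [Field F]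
variable {Q : QuadraticForm F (ι → F)}

/-- All `eich x (c y)` lie in `M`. -/
def InR (Q : QuadraticForm F (ι → F)) (M : Subgroup (GL ι F)) (x y : ι → F) : Prop :=
  Q x = 0 ∧ polar ⇑Q x y = 0 ∧ ∀ c : F, (eich Q x (c • y) : GL ι F) ∈ M

theorem InR.add {M : Subgroup (GL ι F)} {x y z : ι → F} (h1 : InR Q M x y) (h2 : InR Q M x z) :
    InR Q M x (y + z) := by
  refine ⟨h1.1, by rw [pl_add_right, h1.2.1, h2.2.1, add_zero], fun c => ?_⟩
  rw [smul_add, ← eich_add h1.1 (by rw [pl_smul_right, h1.2.1, mul_zero])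
    (by rw [pl_smul_right, h2.2.1, mul_zero]), Subgroup.coe_mul]
  exact mul_mem (h1.2.2 c) (h2.2.2 c)

theorem InR.smul {M : Subgroup (GL ι F)} {x y : ι → F} (h : InR Q M x y) (t : F) :
    InR Q M x (t • y) :=
  ⟨h.1, by rw [pl_smul_right, h.2.1, mul_zero], fun c => by rw [smul_smul]; exact h.2.2 _⟩

theorem InR.neg {M : Subgroup (GL ι F)} {x y : ι → F} (h : InR Q M x y) : InR Q M x (-y) := by
  rw [← neg_one_smul F y]; exact h.smul _

theorem InR.sub {M : Subgroup (GL ι F)} {x y z : ι → F} (h1 : InR Q M x y) (h2 : InR Q M x z) :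
    InR Q M x (y - z) := by rw [sub_eq_add_neg]; exact h1.add h2.neg

theorem eich_swap {u w : ι → F} (hu : Q u = 0) (hw : Q w = 0) (h : polar ⇑Q u w = 0) :
    eich Q u w = eich Q w (-u) := by
  refine ext_ap fun x => ?_
  rw [eich_ap hu h, eich_ap hw (by rw [pl_neg_right, pl_comm, h, neg_zero]), hw,
    QuadraticMap.map_neg, hu, pl_neg_left]
  module

theorem InR.symm {M : Subgroup (GL ι F)} {x y : ι → F} (h : InR Q M x y) (hy : Q y = 0) :
    InR Q M y x := by
  refine ⟨hy, by rw [pl_comm]; exact h.2.1, fun c => ?_⟩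
  rw [eich_swap hy (by rw [Q_smul, h.1, mul_zero]) (by rw [pl_smul_right, pl_comm, h.2.1, mul_zero]),
    eich_smul_left, smul_neg, ← neg_smul]
  exact h.2.2 _

theorem InR.map {M : Subgroup (GL ι F)} {x y : ι → F} (h : InR Q M x y) {g : IsoGrp Q}
    (hg : (g : GL ι F) ∈ M) : InR Q M (ap g x) (ap g y) := by
  refine ⟨by rw [Q_ap, h.1], by rw [polar_ap, h.2.1], fun c => ?_⟩
  rw [← map_smul, ← conj_eich, Subgroup.coe_mul, Subgroup.coe_mul, Subgroup.coe_inv]
  exact mul_mem (mul_mem hg (h.2.2 c)) (inv_mem hg)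

/-- A polarisation: complementary totally singular subspaces. -/
structure SPair (Q : QuadraticForm F (ι → F)) (A B : Submodule F (ι → F)) : Prop where
  qa : ∀ a ∈ A, Q a = 0
  qb : ∀ b ∈ B, Q b = 0
  disj : ∀ x, x ∈ A → x ∈ B → x = 0
  top : ∀ x : ι → F, ∃ a ∈ A, ∃ b ∈ B, a + b = x

namespace SPair

variable {A B : Submodule F (ι → F)} (P : SPair Q A B)
include P

theorem swap : SPair Q B A := ⟨P.qb, P.qa, fun x h1 h2 => P.disj x h2 h1, fun x => by
  obtain ⟨a, ha, b, hb, rfl⟩ := P.top x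
  exact ⟨b, hb, a, ha, add_comm _ _⟩⟩

theorem paa {a a' : ι → F} (ha : a ∈ A) (ha' : a' ∈ A) : polar ⇑Q a a' = 0 :=
  OrthAct.polar_eq_zero_of_singular P.qa ha ha'

theorem pbb {a a' : ι → F} (ha : a ∈ B) (ha' : a' ∈ B) : polar ⇑Q a a' = 0 :=
  OrthAct.polar_eq_zero_of_singular P.qb ha ha'

/-- A functional separating in `A` is given by a vector of `B`. -/
theorem exists_dual (hQ : Q.polarBilin.Nondegenerate) {S : Submodule F (ι → F)} (hS : S ≤ A)
    {x : ι → F} (hx : x ∈ A) (hxS : x ∉ S) :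
    ∃ b ∈ B, (∀ s ∈ S, polar ⇑Q b s = 0) ∧ polar ⇑Q b x = 1 := by
  obtain ⟨v, hv, hvx⟩ := Forms.exists_dual_vector Q.polarBilin hQ.2 S x hxS 1
  obtain ⟨a, ha, b, hb, rfl⟩ := P.top v
  refine ⟨b, hb, fun s hs => ?_, ?_⟩
  · have := hv s hs
    simp only [QuadraticMap.polarBilin_apply_apply, pl_add_left, P.paa ha (hS hs), zero_add] at this
    exact this
  · simp only [QuadraticMap.polarBilin_apply_apply, pl_add_left, P.paa ha hx, zero_add] at hvx
    exact hvx

end SPair

section Max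

variable [Fintype F] {A B : Submodule F (ι → F)} {M : Subgroup (GL ι F)}

theorem mem_span_pair_iff' {x y z : ι → F} :
    x ∈ (F ∙ y) ⊔ (F ∙ z) ↔ ∃ s t : F, x = s • y + t • z := by
  simp only [Submodule.mem_sup, Submodule.mem_span_singleton]
  constructor
  · rintro ⟨_, ⟨s, rfl⟩, _, ⟨t, rfl⟩, rfl⟩; exact ⟨s, t, rfl⟩
  · rintro ⟨s, t, rfl⟩; exact ⟨_, ⟨s, rfl⟩, _, ⟨t, rfl⟩, rfl⟩

theorem finrank_span_pair_le (y z : ι → F) :
    finrank F ((F ∙ y) ⊔ (F ∙ z) : Submodule F (ι → F)) ≤ 2 := by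
  have h := Submodule.finrank_sup_add_finrank_inf_eq (F ∙ y) (F ∙ z)
  have h1 : finrank F (F ∙ y) ≤ 1 := by
    by_cases h0 : y = 0
    · rw [h0, Submodule.span_zero_singleton, finrank_bot]; omega
    · rw [finrank_span_singleton h0]
  have h2 : finrank F (F ∙ z) ≤ 1 := by
    by_cases h0 : z = 0
    · rw [h0, Submodule.span_zero_singleton, finrank_bot]; omega
    · rw [finrank_span_singleton h0]
  omega

/-- The mixed Eichler elements. -/
def Mixed (Q : QuadraticForm F (ι → F)) (M : Subgroup (GL ι F)) (A B : Submodule F (ι → F)) : Prop :=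
  ∀ a ∈ A, ∀ b ∈ B, polar ⇑Q a b = 0 → InR Q M a b

theorem Mixed.swap (P : SPair Q A B) (hmix : Mixed Q M A B) : Mixed Q M B A :=
  fun b hb a ha h => (hmix a ha b hb (by rw [pl_comm]; exact h)).symm (P.qb b hb)

/-- A line not of mixed type gives a line in `B`. -/
theorem exists_line_of_proj (P : SPair Q A B) (hQ : Q.polarBilin.Nondegenerate) (hk : 5 ≤ finrank F B)
    (hmix : Mixed Q M A B) {xa xb ya yb : ι → F} (hxa : xa ∈ A) (hxb : xb ∈ B) (hya : ya ∈ A)
    (hyb : yb ∈ B) (hx0 : xb ≠ 0) (hR : InR Q M (xa + xb) (ya + yb)) (hne : yb ∉ F ∙ xb) :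
    ∃ b ∈ B, ∃ b' ∈ B, InR Q M b b' ∧ b' ∉ (F ∙ b) ∧ b ≠ 0 := by
  set T := B ⊓ LinearMap.ker (Q.polarBilin xa) ⊓ LinearMap.ker (Q.polarBilin ya) with hT
  have hTd : 3 ≤ finrank F T := by
    have h1 := Submodule.finrank_sup_add_finrank_inf_eq B (LinearMap.ker (Q.polarBilin xa))
    have h2 := Submodule.finrank_sup_add_finrank_inf_eq
      (B ⊓ LinearMap.ker (Q.polarBilin xa)) (LinearMap.ker (Q.polarBilin ya))
    have k1 : ∀ v : ι → F, Fintype.card ι ≤ finrank F (LinearMap.ker (Q.polarBilin v)) + 1 := fun v => by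
      have h3 := LinearMap.finrank_range_add_finrank_ker (Q.polarBilin v)
      have h4 := Submodule.finrank_le (LinearMap.range (Q.polarBilin v))
      rw [Module.finrank_self] at h4
      rw [finrank_space] at h3
      omega
    have h5 := Submodule.finrank_le (B ⊔ LinearMap.ker (Q.polarBilin xa))
    have h6 := Submodule.finrank_le (B ⊓ LinearMap.ker (Q.polarBilin xa) ⊔ LinearMap.ker (Q.polarBilin ya))
    rw [finrank_space] at h5 h6
    rw [← hT] at h2
    have := k1 xa
    have := k1 ya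
    omega
  obtain ⟨b, hbT, hb⟩ : ∃ b ∈ T, b ∉ (F ∙ xb) ⊔ (F ∙ yb) := by
    by_contra! h
    have := Submodule.finrank_mono (show T ≤ (F ∙ xb) ⊔ (F ∙ yb) from h)
    have := finrank_span_pair_le (F := F) xb yb
    omega
  have hbB : b ∈ B := hbT.1.1
  have hbxa : polar ⇑Q xa b = 0 := hbT.1.2
  have hbya : polar ⇑Q ya b = 0 := hbT.2
  have hb0 : b ≠ 0 := fun h => hb (h ▸ Submodule.zero_mem _)
  have hyb' : yb ∉ (F ∙ b) ⊔ (F ∙ xb) := by
    rw [mem_span_pair_iff']
    rintro ⟨s, t, hst⟩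
    by_cases hs : s = 0
    · exact hne (by rw [hst, hs, zero_smul, zero_add]; exact Submodule.smul_mem _ _ (Submodule.mem_span_singleton_self xb))
    · refine hb ?_
      rw [mem_span_pair_iff']
      refine ⟨-(s⁻¹ * t), s⁻¹, ?_⟩
      rw [hst, smul_add, smul_smul, smul_smul, inv_mul_cancel₀ hs, one_smul, neg_smul]
      abel
  obtain ⟨u, huA, hu0, hu1⟩ := P.swap.exists_dual hQ
    (S := (F ∙ b) ⊔ (F ∙ xb))
    (sup_le ((Submodule.span_singleton_le_iff_mem _ _).2 hbB)
      ((Submodule.span_singleton_le_iff_mem _ _).2 hxb)) hyb hyb'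
  have hub : polar ⇑Q u b = 0 := hu0 b (Submodule.mem_sup_left (Submodule.mem_span_singleton_self b))
  have hux : polar ⇑Q u xb = 0 := hu0 xb (Submodule.mem_sup_right (Submodule.mem_span_singleton_self xb))
  have hT' : (eich Q u b : GL ι F) ∈ M := by
    have := (hmix u huA b hbB hub).2.2 1
    rwa [one_smul] at this
  have hR' := hR.map (g := eich Q u b) hT'
  have e1 : ap (eich Q u b) (xa + xb) = xa + xb := by
    rw [eich_ap (P.qa u huA) hub, pl_add_right, pl_add_right, P.paa huA hxa, hux, P.qb b hbB,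
      pl_comm Q b xa, hbxa, P.pbb hbB hxb]
    simp
  have e2 : ap (eich Q u b) (ya + yb) = ya + yb + b := by
    rw [eich_ap (P.qa u huA) hub, pl_add_right, pl_add_right, P.paa huA hya, hu1, P.qb b hbB,
      pl_comm Q b ya, hbya, P.pbb hbB hyb]
    simp
  rw [e1, e2] at hR'
  have hb_in : InR Q M (xa + xb) b := by
    have := hR'.sub hR
    rwa [add_sub_cancel_left] at this
  have h1 := hb_in.symm (P.qb b hbB)
  have h2 : InR Q M b xa := (hmix xa hxa b hbB hbxa).symm (P.qb b hbB)
  refine ⟨b, hbB, xb, hxb, ?_, fun hmem => ?_, hb0⟩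
  · have := h1.sub h2
    rwa [add_sub_cancel_left] at this
  · obtain ⟨t, ht⟩ := Submodule.mem_span_singleton.1 hmem
    refine hb (Submodule.mem_sup_left (Submodule.mem_span_singleton.2 ⟨t⁻¹, ?_⟩))
    rw [← ht, inv_smul_smul₀ (fun h0 : t = 0 => hx0 (by rw [← ht, h0, zero_smul]))]

/-- A line in `A` makes every point of `A` a centre. -/
theorem centres_of_line (P : SPair Q A B) (hQ : Q.polarBilin.Nondegenerate) (hmix : Mixed Q M A B)
    {a a' : ι → F} (ha : a ∈ A) (ha' : a' ∈ A) (ha0 : a ≠ 0) (hR : InR Q M a a')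
    (hne : a' ∉ F ∙ a) : ∀ z ∈ A, z ∈ eichCentres Q M := by
  have key : ∀ a a', a ∈ A → a' ∈ A → InR Q M a a' → a' ∉ (F ∙ a) → a ∈ eichCentres Q M := by
    intro a a' ha ha' hR hne
    have hall : ∀ z ∈ A, InR Q M a z := by
      intro z hz
      by_cases hmem : a' ∈ (F ∙ a) ⊔ (F ∙ z)
      · obtain ⟨s, t, hst⟩ := mem_span_pair_iff'.1 hmem
        by_cases ht : t = 0
        · exact absurd (by rw [hst, ht, zero_smul, add_zero]; exact Submodule.smul_mem _ _ (Submodule.mem_span_singleton_self a)) hne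
        · have haa : InR Q M a a := ⟨P.qa a ha, P.paa ha ha, fun c => by
            have := eich_add_smul_self (Q := Q) (P.qa a ha) (pl_zero_right Q a) c
            rw [zero_add, eich_zero] at this
            rw [this]; exact one_mem _⟩
          have h1 := (hR.sub (haa.smul s)).smul t⁻¹
          rwa [show a' - s • a = t • z by rw [hst]; abel, inv_smul_smul₀ ht] at h1
      · obtain ⟨b, hb, hb0, hb1⟩ := P.exists_dual hQ (S := (F ∙ a) ⊔ (F ∙ z))
          (sup_le ((Submodule.span_singleton_le_iff_mem _ _).2 ha)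
            ((Submodule.span_singleton_le_iff_mem _ _).2 hz)) ha' hmem
        have hba := hb0 a (Submodule.mem_sup_left (Submodule.mem_span_singleton_self a))
        have hbz := hb0 z (Submodule.mem_sup_right (Submodule.mem_span_singleton_self z))
        have hzb : polar ⇑Q z b = 0 := by rw [pl_comm]; exact hbz
        have hT' : (eich Q z b : GL ι F) ∈ M := by
          have := (hmix z hz b hb hzb).2.2 1
          rwa [one_smul] at this
        have h := hR.map (g := eich Q z b) hT'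
        rw [eich_ap (P.qa z hz) hzb, eich_ap (P.qa z hz) hzb, P.paa hz ha, P.paa hz ha', hba, hb1,
          P.qb b hb] at h
        simp only [zero_smul, mul_zero, add_zero, sub_zero, one_smul] at h
        have := hR.sub h
        rwa [sub_sub_cancel] at this
    refine ⟨P.qa a ha, fun w => ?_⟩
    by_cases hw : polar ⇑Q a w = 0
    · obtain ⟨wa, hwa, wb, hwb, rfl⟩ := P.top w
      rw [pl_add_right, P.paa ha hwa, zero_add] at hw
      have := ((hall wa hwa).add (hmix a ha wb hwb hw)).2.2 1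
      rwa [one_smul] at this
    · rw [eich_eq_one fun h => hw h.2]; exact one_mem _
  have hac := key a a' ha ha' hR hne
  intro z hz
  by_cases hza : z ∈ F ∙ a
  · obtain ⟨t, rfl⟩ := Submodule.mem_span_singleton.1 hza
    exact eichCentres_smul hac t
  · have h : InR Q M a z := ⟨P.qa a ha, P.paa ha hz, fun c => hac.2 _⟩
    refine key z a hz ha (h.symm (P.qa z hz)) fun h' => hza ?_
    obtain ⟨t, ht⟩ := Submodule.mem_span_singleton.1 h'
    refine Submodule.mem_span_singleton.2 ⟨t⁻¹, ?_⟩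
    rw [← ht, inv_smul_smul₀ (fun h0 : t = 0 => ha0 (by rw [← ht, h0, zero_smul]))]

/-- With a swap, a line in `A` gives all of `Ω`. -/
theorem omega_le_of_line (P : SPair Q A B) (hG : Good Q) (hn : 5 ≤ Fintype.card ι)
    (hmix : Mixed Q M A B) {s : IsoGrp Q} (hs : (s : GL ι F) ∈ M) (hsA : ∀ a ∈ A, ap s a ∈ B)
    {a a' : ι → F} (ha : a ∈ A) (ha' : a' ∈ A) (ha0 : a ≠ 0) (hR : InR Q M a a') (hne : a' ∉ F ∙ a) :
    Geo.omegaGL ⇑Q ≤ M := by
  have hA := centres_of_line P hG.nd hmix ha ha' ha0 hR hne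
  have hb := eichCentres_ap hs (hA a ha)
  have hb0 : ap s a ≠ 0 := fun h => ha0 (ap_inj s (by rw [h, map_zero]))
  obtain ⟨y, hy⟩ := exists_polar_ne hG.nd hb0
  obtain ⟨ya, hya, yb, hyb, rfl⟩ := P.top y
  refine omegaGL_le_of_centres hG hn hb (hA ya hya) ?_
  rwa [pl_add_right, P.pbb (hsA a ha) hyb, add_zero] at hy

end Max

section Swap

variable [Fintype F]

/-- An element of `Ω` interchanging the members of a polarisation of even dimension. -/
theorem exists_swap {A B : Submodule F (ι → F)} (P : SPair Q A B) (hG : Good Q) {k : ℕ}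
    (hA : finrank F A = k) (hB : finrank F B = k) (hk : Even k) :
    ∃ s : IsoGrp Q, s ∈ Omega F ⇑Q ∧ (∀ a ∈ A, ap s a ∈ B) ∧ (∀ b ∈ B, ap s b ∈ A) := by
  classical
  let bA := Module.finBasisOfFinrankEq F A hA
  let ev : B →ₗ[F] (Fin k → F) :=
    LinearMap.pi fun i => (Q.polarBilin (bA i : ι → F)).comp B.subtype
  have hev : Function.Injective ev := by
    rw [injective_iff_map_eq_zero]
    intro b hb
    refine Subtype.ext (by_contra fun h0 => ?_)
    obtain ⟨y, hy⟩ := exists_polar_ne hG.nd h0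
    obtain ⟨ya, hya, yb, hyb, rfl⟩ := P.top y
    rw [pl_add_right, P.pbb b.2 hyb, add_zero] at hy
    have hsum := bA.sum_repr ⟨ya, hya⟩
    have hz : ∀ i, polar ⇑Q (b : ι → F) (bA i : ι → F) = 0 := fun i => by
      have := congrFun hb i
      rw [pl_comm]; exact this
    refine hy ?_
    have e : ya = ∑ i, bA.repr ⟨ya, hya⟩ i • (bA i : ι → F) := by
      have := congrArg Subtype.val hsum
      simp only [Submodule.coe_sum, Submodule.coe_smul] at this
      exact this.symm
    rw [e, show polar ⇑Q (b : ι → F) (∑ i, bA.repr ⟨ya, hya⟩ i • (bA i : ι → F)) =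
      Q.polarBilin (b : ι → F) (∑ i, bA.repr ⟨ya, hya⟩ i • (bA i : ι → F)) from rfl, map_sum]
    refine Finset.sum_eq_zero fun i _ => ?_
    rw [map_smul, QuadraticMap.polarBilin_apply_apply, hz i, smul_zero]
  have hbij : Function.Bijective ev :=
    ⟨hev, (LinearMap.injective_iff_surjective_of_finrank_eq_finrank
      (by rw [hB, Module.finrank_fin_fun])).1 hev⟩
  choose e he using fun i => hbij.2 (Pi.single i (1 : F))
  set a : Fin k → ι → F := fun i => (bA i : ι → F) with ha
  set b : Fin k → ι → F := fun i => (e i : ι → F) with hb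
  have hab : ∀ j i, polar ⇑Q (a j) (b i) = if j = i then 1 else 0 := fun j i => by
    have := congrFun (he i) j
    rw [Pi.single_apply] at this
    exact this
  have haA : ∀ i, a i ∈ A := fun i => (bA i).2
  have hbB : ∀ i, b i ∈ B := fun i => (e i).2
  set v : Fin k → ι → F := fun i => a i - b i with hv
  have hQv : ∀ i, Q (v i) = -1 := fun i => by
    rw [hv, Q_sub, P.qa _ (haA i), P.qb _ (hbB i), hab, if_pos rfl]; ring
  set s : List (Fin k) → IsoGrp Q := fun l => (l.map fun i => refl Q (v i)).prod with hs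
  have hva : ∀ i j, polar ⇑Q (v i) (a j) = if i = j then -1 else 0 := fun i j => by
    rw [hv, pl_sub_left, P.paa (haA i) (haA j), pl_comm, hab, zero_sub]
    by_cases h : i = j <;> simp [h, eq_comm]
  have hvb : ∀ i j, polar ⇑Q (v i) (b j) = if i = j then 1 else 0 := fun i j => by
    rw [hv, pl_sub_left, P.pbb (hbB i) (hbB j), hab, sub_zero]
  have hsw : ∀ l : List (Fin k), l.Nodup → ∀ j,
      ap (s l) (a j) = (if j ∈ l then b j else a j) ∧ ap (s l) (b j) = (if j ∈ l then a j else b j) ∧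
      dick (s l) = (-1) ^ l.length ∧ spin (s l) = (quadraticChar F (-1)) ^ l.length := by
    intro l
    induction l with
    | nil => intro _ j; simp [hs, dick_one, spin_one]
    | cons i l ih =>
      intro hl j
      rw [List.nodup_cons] at hl
      obtain ⟨h1, h2, h3, h4⟩ := ih hl.2 j
      have hne : Q (v i) ≠ 0 := by rw [hQv]; exact neg_ne_zero.2 one_ne_zero
      have hcons : s (i :: l) = refl Q (v i) * s l := by simp [hs]
      rw [hcons]
      refine ⟨?_, ?_, ?_, ?_⟩
      · rw [ap_mul, h1, refl_ap, hQv]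
        by_cases hji : j = i
        · subst hji
          rw [if_neg hl.1, hva, if_pos rfl, if_pos List.mem_cons_self, hv]
          simp
        · by_cases hjl : j ∈ l
          · rw [if_pos hjl, hvb, if_neg (Ne.symm hji), if_pos (List.mem_cons_of_mem _ hjl)]; simp
          · rw [if_neg hjl, hva, if_neg (Ne.symm hji), if_neg (by simp [hji, hjl])]; simp
      · rw [ap_mul, h2, refl_ap, hQv]
        by_cases hji : j = i
        · subst hji
          rw [if_neg hl.1, hvb, if_pos rfl, if_pos List.mem_cons_self, hv]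
          simp
        · by_cases hjl : j ∈ l
          · rw [if_pos hjl, hva, if_neg (Ne.symm hji), if_pos (List.mem_cons_of_mem _ hjl)]; simp
          · rw [if_neg hjl, hvb, if_neg (Ne.symm hji), if_neg (by simp [hji, hjl])]; simp
      · rw [dick_refl_mul hG.nd _ hne, h3, List.length_cons, pow_succ]; ring
      · rw [spin_refl_mul hG.nd _ hne, h4, hQv, List.length_cons, pow_succ]; ring
  have hnd := List.nodup_finRange k
  refine ⟨s (List.finRange k), (mem_omega_iff hG _).2 ?_, ?_, ?_⟩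
  · rcases Nat.eq_zero_or_pos k with hk0 | hk0
    · subst hk0
      simp [hs, dick_one, spin_one]
    · obtain ⟨-, -, h3, h4⟩ := hsw _ hnd ⟨0, hk0⟩
      rw [h3, h4, List.length_finRange, hk.neg_one_pow]
      obtain ⟨r, rfl⟩ := hk
      rw [← two_mul, pow_mul, quadraticChar_sq_one (neg_ne_zero.2 one_ne_zero), one_pow]
      exact ⟨rfl, rfl⟩
  · intro x hx
    have hsum := congrArg Subtype.val (bA.sum_repr ⟨x, hx⟩)
    simp only [Submodule.coe_sum, Submodule.coe_smul] at hsum
    rw [← hsum, map_sum]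
    refine B.sum_mem fun i _ => ?_
    rw [map_smul, show (bA i : ι → F) = a i from rfl, (hsw _ hnd i).1, if_pos (List.mem_finRange i)]
    exact B.smul_mem _ (hbB i)
  · intro x hx
    have hli : LinearIndependent F e := by
      refine LinearIndependent.of_comp ev ?_
      rw [show ev ∘ e = fun i => Pi.single i (1 : F) from funext he]
      exact Pi.linearIndependent_single_one (Fin k) F
    have hsp := hli.span_eq_top_of_card_eq_finrank' (by rw [Fintype.card_fin, hB])
    have hmem : (⟨x, hx⟩ : B) ∈ Submodule.span F (Set.range e) := by rw [hsp]; trivial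
    rw [Submodule.mem_span_range_iff_exists_fun] at hmem
    obtain ⟨c, hc⟩ := hmem
    have hc' := congrArg Subtype.val hc
    simp only [Submodule.coe_sum, Submodule.coe_smul] at hc'
    rw [← hc', map_sum]
    refine A.sum_mem fun i _ => ?_
    rw [map_smul, show (e i : ι → F) = b i from rfl, (hsw _ hnd i).2.1, if_pos (List.mem_finRange i)]
    exact A.smul_mem _ (haA i)

end Swap

theorem singular_pair_stabilizer_maximal [Fintype F] (hG : Good Q) {k : ℕ}
    (hι : Fintype.card ι = 2 * k) (hk5 : 5 ≤ k) (hke : Even k) {D : Fin 2 → Submodule F (ι → F)}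
    (hD : Geo.IsMDecomposition k D) (hts : ∀ i, Geo.IsTotallySingularQuad ⇑Q (D i)) :
    Geo.IsMaximalIn (Geo.omegaGL ⇑Q) (Geo.decompositionStabilizer D ⊓ Geo.omegaGL ⇑Q) := by
  classical
  have hdis : D 0 ⊓ D 1 = ⊥ :=
    disjoint_iff.1 (hD.indep.pairwiseDisjoint (show (0 : Fin 2) ≠ 1 by decide))
  have htop : D 0 ⊔ D 1 = ⊤ := by
    rw [← hD.iSup_eq_top]
    refine le_antisymm (sup_le (le_iSup D 0) (le_iSup D 1)) (iSup_le fun i => ?_)
    fin_cases i
    · exact le_sup_left
    · exact le_sup_right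
  have P : SPair Q (D 0) (D 1) := ⟨hts 0, hts 1,
    fun x h1 h2 => (Submodule.mem_bot F).1 (hdis ▸ (⟨h1, h2⟩ : x ∈ D 0 ⊓ D 1)),
    fun x => Submodule.mem_sup.1 (htop.symm ▸ Submodule.mem_top : x ∈ D 0 ⊔ D 1)⟩
  have hn : 5 ≤ Fintype.card ι := by omega
  have hmap : ∀ (g : IsoGrp Q) (i : Fin 2),
      (D i).map (Matrix.toLin' ((g : GL ι F) : Matrix ι ι F)) = (D i).map (ap g) := fun g i => by
    ext x; simp [Submodule.mem_map, ap_apply]
  have hstab : ∀ g : IsoGrp Q, (g : GL ι F) ∈ Geo.decompositionStabilizer D ↔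
      ∃ σ : Equiv.Perm (Fin 2), ∀ i, ∀ x ∈ D i, ap g x ∈ D (σ i) := by
    intro g
    constructor
    · rintro ⟨σ, hσ⟩
      refine ⟨σ, fun i x hx => ?_⟩
      rw [← hσ i, hmap]; exact Submodule.mem_map_of_mem hx
    · rintro ⟨σ, hσ⟩
      refine ⟨σ, fun i => ?_⟩
      rw [hmap]
      refine Submodule.eq_of_le_of_finrank_eq (by rintro _ ⟨x, hx, rfl⟩; exact hσ i x hx) ?_
      rw [finrank_map_ap, hD.finrank_eq, hD.finrank_eq]
  refine ⟨lt_of_le_of_ne inf_le_right fun heq => ?_, fun M hHM hMK => ?_⟩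
  · -- an element with both centres in `D 0`
    obtain ⟨u, hu, hu0⟩ := Submodule.exists_mem_ne_zero_of_ne_bot (p := D 0) fun h => by
      have := hD.finrank_eq 0; rw [h, finrank_bot] at this; omega
    obtain ⟨w, hw, hwu⟩ : ∃ w ∈ D 0, w ∉ (F ∙ u) := by
      by_contra! hall
      have := Submodule.finrank_mono (show D 0 ≤ F ∙ u from hall)
      rw [hD.finrank_eq 0, finrank_span_singleton hu0] at this
      omega
    obtain ⟨x, hx, -, hux⟩ := P.exists_dual hG.nd (S := ⊥) bot_le hu (by simpa using hu0)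
    have hK : (eich Q u w : GL ι F) ∈ Geo.decompositionStabilizer D ⊓ Geo.omegaGL ⇑Q := by
      rw [heq]; exact eich_mem_omegaGL hG hn u w
    obtain ⟨σ, hσ⟩ := (hstab _).1 hK.1
    have h := hσ 1 x hx
    rw [eich_ap (hts 0 u hu) (P.paa hu hw), hts 0 w hw, pl_comm Q u x, hux, one_smul, zero_mul,
      add_zero, add_sub_assoc] at h
    have hmem : w - polar ⇑Q w x • u ∈ D 0 := (D 0).sub_mem hw ((D 0).smul_mem _ hu)
    by_cases h1 : σ 1 = 1
    · rw [h1, Submodule.add_mem_iff_right _ hx] at h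
      have := P.disj _ hmem h
      rw [sub_eq_zero] at this
      exact hwu (this ▸ Submodule.smul_mem _ _ (Submodule.mem_span_singleton_self u))
    · rw [show σ 1 = 0 by omega, Submodule.add_mem_iff_left _ hmem] at h
      have := P.disj x h hx
      rw [this, pl_zero_left] at hux
      exact zero_ne_one hux
  by_cases hM : ∀ g ∈ M, g ∈ Geo.decompositionStabilizer D
  · exact .inl (le_antisymm (le_inf hM hMK) hHM)
  refine .inr (le_antisymm hMK ?_)
  by_contra hcon
  obtain ⟨s, hs, hsA, hsB⟩ := exists_swap P hG (hD.finrank_eq 0) (hD.finrank_eq 1) hke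
  have hsM : (s : GL ι F) ∈ M := hHM ⟨(hstab s).2 ⟨Equiv.swap 0 1, fun i x hx => by
    fin_cases i
    · simpa using hsA x hx
    · simpa using hsB x hx⟩, coe_mem_omegaGL.2 hs⟩
  have hmix : Mixed Q M (D 0) (D 1) := by
    intro a ha b hb hab
    refine ⟨hts 0 a ha, hab, fun c => hHM ⟨(hstab _).2 ⟨1, fun i x hx => ?_⟩, eich_mem_omegaGL hG hn _ _⟩⟩
    rw [eich_ap (hts 0 a ha) (by rw [pl_smul_right, hab, mul_zero]), Q_smul, hts 1 b hb, pl_smul_left,
      Equiv.Perm.one_apply]
    fin_cases i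
    · simp only [Fin.isValue, Fin.zero_eta] at hx ⊢
      rw [P.paa ha hx, zero_smul, add_zero]
      exact (D 0).sub_mem hx ((D 0).smul_mem _ ha)
    · simp only [Fin.isValue, Fin.mk_one] at hx ⊢
      rw [P.pbb hb hx, mul_zero, mul_zero, zero_mul]
      simp only [zero_add, zero_smul, sub_zero]
      exact (D 1).add_mem hx ((D 1).smul_mem _ ((D 1).smul_mem _ hb))
  have hlineA : ∀ a ∈ D 0, ∀ a' ∈ D 0, a ≠ 0 → InR Q M a a' → a' ∈ F ∙ a :=
    fun a ha a' ha' h0 hR => by_contra fun hne => hcon (omega_le_of_line P hG hn hmix hsM hsA ha ha' h0 hR hne)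
  have hlineB : ∀ a ∈ D 1, ∀ a' ∈ D 1, a ≠ 0 → InR Q M a a' → a' ∈ F ∙ a :=
    fun a ha a' ha' h0 hR => by_contra fun hne =>
      hcon (omega_le_of_line P.swap hG hn (hmix.swap P) hsM hsB ha ha' h0 hR hne)
  refine hM fun g hg => ?_
  obtain ⟨h, -, rfl⟩ := mem_omegaGL_iff.1 (hMK hg)
  -- images of points of both members lie in the union
  have himg : ∀ (A B : Submodule F (ι → F)), SPair Q A B → finrank F B = k → Mixed Q M A B →
      ∀ u ∈ A, ap h u ∈ D 0 ∨ ap h u ∈ D 1 := by
    intro A B P' hBk hm u hu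
    by_contra! hout
    obtain ⟨xa, hxa, xb, hxb, hx⟩ := P.top (ap h u)
    have hxa0 : xa ≠ 0 := fun h0 => hout.2 (by rw [← hx, h0, zero_add]; exact hxb)
    have hxb0 : xb ≠ 0 := fun h0 => hout.1 (by rw [← hx, h0, add_zero]; exact hxa)
    set S := B ⊓ LinearMap.ker (Q.polarBilin u)
    have hle : S.map (ap h) ≤ (F ∙ xa) ⊔ (F ∙ xb) := by
      rintro _ ⟨y, ⟨hy, hy'⟩, rfl⟩
      obtain ⟨ya, hya, yb, hyb, hyy⟩ := P.top (ap h y)
      have hR : InR Q M (xa + xb) (ya + yb) := by
        rw [hx, hyy]; exact (hm u hu y hy hy').map hg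
      have h1 : yb ∈ F ∙ xb := by
        by_contra hne
        obtain ⟨b, hb, b', hb', hbR, hb'', hb0⟩ := exists_line_of_proj P hG.nd
          (by rw [hD.finrank_eq 1]; exact hk5) hmix hxa hxb hya hyb hxb0 hR hne
        exact hb'' (hlineB b hb b' hb' hb0 hbR)
      have h2 : ya ∈ F ∙ xa := by
        by_contra hne
        obtain ⟨b, hb, b', hb', hbR, hb'', hb0⟩ := exists_line_of_proj P.swap hG.nd
          (by rw [hD.finrank_eq 0]; exact hk5) (hmix.swap P) hxb hxa hyb hya hxa0
          (by rw [add_comm xb, add_comm yb]; exact hR) hne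
        exact hb'' (hlineA b hb b' hb' hb0 hbR)
      rw [← hyy]
      exact Submodule.add_mem_sup h2 h1
    have h1 := Submodule.finrank_mono hle
    have h2 := finrank_span_pair_le (F := F) xa xb
    have h3 := Submodule.finrank_sup_add_finrank_inf_eq B (LinearMap.ker (Q.polarBilin u))
    have h4 := LinearMap.finrank_range_add_finrank_ker (Q.polarBilin u)
    have h5 := Submodule.finrank_le (LinearMap.range (Q.polarBilin u))
    have h6 := Submodule.finrank_le (B ⊔ LinearMap.ker (Q.polarBilin u))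
    rw [Module.finrank_self] at h5
    rw [finrank_space] at h4 h6
    rw [finrank_map_ap] at h1
    have h7 : finrank F S + 1 ≥ k := by
      show finrank F (B ⊓ LinearMap.ker (Q.polarBilin u) : Submodule F (ι → F)) + 1 ≥ k
      omega
    omega
  have hside : ∀ i, ∃ j, ∀ x ∈ D i, ap h x ∈ D j := by
    intro i
    have hu : ∀ x ∈ D i, ap h x ∈ D 0 ∨ ap h x ∈ D 1 := by
      fin_cases i
      · exact himg _ _ P (hD.finrank_eq 1) hmix
      · exact himg _ _ P.swap (hD.finrank_eq 0) (hmix.swap P)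
    rcases OrthAct.mem_or_mem_of_subset_union (U := (D i).map (ap h)) (V := D 0) (W := D 1)
      (by rintro _ ⟨x, hx, rfl⟩; exact hu x hx) with h' | h'
    · exact ⟨0, fun x hx => h' (Submodule.mem_map_of_mem hx)⟩
    · exact ⟨1, fun x hx => h' (Submodule.mem_map_of_mem hx)⟩
  choose σ hσ using hside
  have hσi : Function.Injective σ := by
    intro i j hij
    by_contra hne
    have hall : ∀ x, ap h x ∈ D (σ i) := fun x => by
      obtain ⟨a, ha, b, hb, rfl⟩ := P.top x
      rw [map_add]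
      rcases (by omega : (i = 0 ∧ j = 1) ∨ (i = 1 ∧ j = 0)) with ⟨rfl, rfl⟩ | ⟨rfl, rfl⟩
      · exact (D _).add_mem (hσ 0 a ha) (hij ▸ hσ 1 b hb)
      · exact (D _).add_mem (hij ▸ hσ 0 a ha) (hσ 1 b hb)
    have htop' : D (σ i) = ⊤ := eq_top_iff.2 fun x _ => by
      have := hall (ap h⁻¹ x)
      rwa [ap_ap_inv] at this
    have := hD.finrank_eq (σ i)
    rw [htop', finrank_top, finrank_space] at this
    omega
  exact (hstab h).2 ⟨Equiv.ofBijective σ (Finite.injective_iff_bijective.1 hσi), fun i x hx => hσ i x hx⟩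

end Cfsg.Agent.Orth
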