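import Cfsg.Agent.Lib.Orth.NondegTools

/-!
# Decomposition stabilisers that are not maximal in `Ω`

* `setStab N` : the stabiliser of a set of vectors
* `exists_between` : a subgroup strictly between `H` and `Ω` from an invariant set
* `exists_coords` : coordinates in a subspace from dual systems
* `exists_between_line` : members with a distinguished line (`(q,k) = (3,2), (3,3), (5,2+)`)
* `exists_between_additive` : `q ∈ {2,4}`, plus lines
* `exists_between_plane` : `q = 2`, plus members of dimension four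
-/

set_option autoImplicit false
set_option linter.unusedSectionVars false

namespace Cfsg.Agent.Orth

open Cfsg Matrix Module
open QuadraticMap (polar)

variable {ι : Type} [Fintype ι] [DecidableEq ι] {F : Type*} [Field F] [Fintype F]
variable {Q : QuadraticForm F (ι → F)}

/-- The stabiliser of a set of vectors. -/
def setStab (N : Set (ι → F)) : Subgroup (GL ι F) where
  carrier := {g | ∀ x ∈ N, (g : Matrix ι ι F) *ᵥ x ∈ N}
  mul_mem' {a b} ha hb x hx := by
    rw [Units.val_mul, ← Matrix.mulVec_mulVec]; exact ha _ (hb x hx)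
  one_mem' x hx := by simpa using hx
  inv_mem' {a} ha x hx := by
    let φ : N → N := fun y => ⟨(a : Matrix ι ι F) *ᵥ y, ha y y.2⟩
    have hinj : Function.Injective φ := fun y z h =>
      Subtype.ext (Matrix.mulVec_injective_iff_isUnit.2 a.isUnit (congrArg Subtype.val h))
    obtain ⟨y, hy⟩ := Finite.injective_iff_surjective.1 hinj ⟨x, hx⟩
    have e : (a : Matrix ι ι F) *ᵥ (y : ι → F) = x := congrArg Subtype.val hy
    rw [← e, Matrix.mulVec_mulVec, ← Units.val_mul, inv_mul_cancel, Units.val_one,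
      Matrix.one_mulVec]
    exact y.2

theorem coe_mem_setStab {N : Set (ι → F)} {h : IsoGrp Q} :
    (h : GL ι F) ∈ setStab N ↔ ∀ x ∈ N, ap h x ∈ N := Iff.rfl

theorem exists_between (N : Set (ι → F)) (H : Subgroup (GL ι F))
    (hH : ∀ h : IsoGrp Q, h ∈ Omega F ⇑Q → (h : GL ι F) ∈ H → ∀ x ∈ N, ap h x ∈ N)
    {g : IsoGrp Q} (hg : g ∈ Omega F ⇑Q) (hgN : ∀ x ∈ N, ap g x ∈ N) (hgH : (g : GL ι F) ∉ H)
    {g' : IsoGrp Q} (hg' : g' ∈ Omega F ⇑Q) {w : ι → F} (hw : w ∈ N) (hgw : ap g' w ∉ N) :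
    ∃ K : Subgroup (GL ι F), H ⊓ Geo.omegaGL ⇑Q < K ∧ K < Geo.omegaGL ⇑Q := by
  refine ⟨setStab N ⊓ Geo.omegaGL ⇑Q, lt_of_le_not_ge (fun x hx => ?_) (fun hle => hgH ?_),
    lt_of_le_not_ge inf_le_right (fun hle => hgw ?_)⟩
  · obtain ⟨h, hh, rfl⟩ := mem_omegaGL_iff.1 hx.2
    exact ⟨coe_mem_setStab.2 (hH h hh hx.1), hx.2⟩
  · exact (hle ⟨coe_mem_setStab.2 hgN, coe_mem_omegaGL.2 hg⟩).1
  · exact coe_mem_setStab.1 (hle (coe_mem_omegaGL.2 hg')).1 w hw

/-- Coordinates in `W` with respect to a dual system. -/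
theorem exists_coords {W : Submodule F (ι → F)} {r : ℕ} (hr : finrank F W = r)
    (v u : Fin r → ι → F) (hv : ∀ i, v i ∈ W)
    (hd : ∀ i j, polar ⇑Q (v i) (u j) = if i = j then 1 else 0) {x : ι → F} (hx : x ∈ W) :
    x = ∑ i, polar ⇑Q x (u i) • v i := by
  let L : W →ₗ[F] (Fin r → F) := LinearMap.pi fun j => (Q.polarBilin.flip (u j)).comp W.subtype
  have hL : ∀ (y : W) j, L y j = polar ⇑Q (y : ι → F) (u j) := fun y j => rfl
  have key : ∀ c : Fin r → F, ∀ j, polar ⇑Q (∑ i, c i • v i) (u j) = c j := fun c j => by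
    rw [show polar ⇑Q (∑ i, c i • v i) (u j) = (Q.polarBilin.flip (u j)) (∑ i, c i • v i) from rfl,
      map_sum]
    simp [hd]
  have hsurj : Function.Surjective L := fun c =>
    ⟨⟨∑ i, c i • v i, W.sum_mem fun i _ => W.smul_mem _ (hv i)⟩, funext fun j => by rw [hL]; exact key c j⟩
  have hinj : Function.Injective L :=
    (LinearMap.injective_iff_surjective_of_finrank_eq_finrank (by simp [hr])).2 hsurj
  have := @hinj ⟨x, hx⟩ ⟨∑ i, polar ⇑Q x (u i) • v i, W.sum_mem fun i _ => W.smul_mem _ (hv i)⟩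
    (funext fun j => by rw [hL, hL]; exact (key (fun i => polar ⇑Q x (u i)) j).symm)
  exact congrArg Subtype.val this

variable {t k : ℕ} {D : Fin t → Submodule F (ι → F)}

theorem member_nondeg (hD : Geo.IsOrthogonalMDecomposition ⇑Q k D) (i : Fin t) :
    ∀ x ∈ D i, x ≠ 0 → ∃ y ∈ D i, polar ⇑Q x y ≠ 0 :=
  nondegOn_of_geo (hD.decomp.nondegenerate i)

theorem member_orth (hD : Geo.IsOrthogonalMDecomposition ⇑Q k D) {i j : Fin t} (hij : i ≠ j)
    {x y : ι → F} (hx : x ∈ D i) (hy : y ∈ D j) : polar ⇑Q x y = 0 :=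
  hD.decomp.orthogonal i j hij x hx y hy

theorem member_eq (hD : Geo.IsOrthogonalMDecomposition ⇑Q k D) {i j : Fin t} {x : ι → F}
    (hi : x ∈ D i) (hj : x ∈ D j) (hx : x ≠ 0) : i = j := by
  by_contra hne
  obtain ⟨y, hy, hxy⟩ := member_nondeg hD i x hi hx
  exact hxy (member_orth hD (Ne.symm hne) hj hy)

theorem ap_mem_member {h : IsoGrp Q} (hh : (h : GL ι F) ∈ Geo.decompositionStabilizer D) :
    ∃ σ : Equiv.Perm (Fin t), (∀ i, ∀ x ∈ D i, ap h x ∈ D (σ i)) ∧
      ∀ i, ∀ y ∈ D (σ i), ∃ x ∈ D i, ap h x = y := by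
  obtain ⟨σ, hσ⟩ := hh
  refine ⟨σ, fun i x hx => ?_, fun i y hy => ?_⟩
  · rw [← hσ i]; exact Submodule.mem_map_of_mem hx
  · rw [← hσ i] at hy; exact hy

/-- A member meeting two members in the image shows that `D` is not preserved. -/
theorem not_mem_decomp (hD : Geo.IsOrthogonalMDecomposition ⇑Q k D) {g : IsoGrp Q} {i : Fin t}
    {x y : ι → F} (hx : x ∈ D i) (hy : y ∈ D i) (hgy : ap g y ∈ D i) (hy0 : y ≠ 0)
    (hgx : ap g x ∉ D i) : (g : GL ι F) ∉ Geo.decompositionStabilizer D := by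
  intro hg
  obtain ⟨σ, hσ, -⟩ := ap_mem_member hg
  have : σ i = i := member_eq hD (hσ i y hy) hgy (fun h => hy0 (ap_inj g (by rw [h, map_zero])))
  exact hgx (this ▸ hσ i x hx)

theorem exists_transport (hD : Geo.IsOrthogonalMDecomposition ⇑Q k D) (i0 i : Fin t) :
    ∃ e : D i0 ≃ₗ[F] D i, (∀ x : D i0, Q ((e x : D i) : ι → F) = Q (x : ι → F)) ∧
      ∀ x y : D i0, polar ⇑Q ((e x : D i) : ι → F) ((e y : D i) : ι → F) =
        polar ⇑Q (x : ι → F) (y : ι → F) := by
  obtain ⟨e, he⟩ := hD.isometric i0 i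
  refine ⟨e, he, fun x y => ?_⟩
  simp only [polar, ← Submodule.coe_add, ← map_add, he]

theorem polar_sum_left {α : Type*} (s : Finset α) (x : α → ι → F) (y : ι → F) :
    polar ⇑Q (∑ i ∈ s, x i) y = ∑ i ∈ s, polar ⇑Q (x i) y := by
  rw [show polar ⇑Q (∑ i ∈ s, x i) y = (Q.polarBilin.flip y) (∑ i ∈ s, x i) from rfl, map_sum]
  rfl

theorem Q_sum_orth {α : Type*} (s : Finset α) (x : α → ι → F)
    (h : ∀ i ∈ s, ∀ j ∈ s, i ≠ j → polar ⇑Q (x i) (x j) = 0) :
    Q (∑ i ∈ s, x i) = ∑ i ∈ s, Q (x i) := by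
  classical
  induction s using Finset.induction_on with
  | empty => simp
  | insert a s ha ih =>
    rw [Finset.sum_insert ha, Finset.sum_insert ha, Q_add, pl_comm, polar_sum_left,
      Finset.sum_eq_zero fun i hi => h i (Finset.mem_insert_of_mem hi) a (Finset.mem_insert_self a s)
        (fun e => ha (e ▸ hi)),
      ih fun i hi j hj => h i (Finset.mem_insert_of_mem hi) j (Finset.mem_insert_of_mem hj), add_zero]

/-- Members with a distinguished line through a vector of norm `c`. -/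
theorem exists_between_line (hG : Good Q) (h2 : (2 : F) ≠ 0) (hn : 6 ≤ Fintype.card ι)
    (hD : Geo.IsOrthogonalMDecomposition ⇑Q k D) (hk : 2 ≤ k) (p : ℕ) (hp : (p : F) = 1)
    (hp2 : 3 ≤ p) (hpt : p ≤ t) {a0 : ι → F} {i0 : Fin t} (ha0 : a0 ∈ D i0) (hc : Q a0 ≠ 0)
    (hline : ∀ x ∈ D i0, Q x = Q a0 → x ∈ F ∙ a0 ∨ polar ⇑Q x a0 = 0) :
    ∃ K : Subgroup (GL ι F), Geo.decompositionStabilizer D ⊓ Geo.omegaGL ⇑Q < K ∧
      K < Geo.omegaGL ⇑Q := by
  classical
  choose e he hef using fun i => exists_transport hD i0 i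
  let a : Fin t → ι → F := fun i => (e i ⟨a0, ha0⟩ : D i)
  have ha : ∀ i, a i ∈ D i := fun i => (e i ⟨a0, ha0⟩).2
  have hQa : ∀ i, Q (a i) = Q a0 := fun i => he i ⟨a0, ha0⟩
  have hl : ∀ i, ∀ x ∈ D i, Q x = Q a0 → x ∈ F ∙ a i ∨ polar ⇑Q x (a i) = 0 := by
    intro i x hx hQx
    obtain ⟨y, hy⟩ := (e i).surjective ⟨x, hx⟩
    have hxy : x = ((e i y : D i) : ι → F) := by rw [hy]
    rcases hline y y.2 (by rw [← he i y, ← hxy, hQx]) with h | h
    · obtain ⟨c, hc'⟩ := Submodule.mem_span_singleton.1 h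
      refine .inl (Submodule.mem_span_singleton.2 ⟨c, ?_⟩)
      have hy' : y = c • ⟨a0, ha0⟩ := Subtype.ext hc'.symm
      rw [hxy, hy', map_smul, Submodule.coe_smul]
    · exact .inr (by rw [hxy]; exact (hef i y ⟨a0, ha0⟩).trans h)
  have hne : ∀ i, a i ≠ 0 := fun i h => hc (by rw [← hQa i, h, QuadraticMap.map_zero])
  let N : Set (ι → F) := {x | ∃ i, x ∈ D i ∧ Q x = Q a0}
  let i1 : Fin t := ⟨0, by omega⟩
  let i2 : Fin t := ⟨1, by omega⟩
  let i3 : Fin t := ⟨2, by omega⟩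
  have h12 : i1 ≠ i2 := by simp [i1, i2, Fin.ext_iff]
  have h13 : i1 ≠ i3 := by simp [i1, i3, Fin.ext_iff]
  have h23 : i2 ≠ i3 := by simp [i2, i3, Fin.ext_iff]
  have hoa : ∀ i j, i ≠ j → polar ⇑Q (a i) (a j) = 0 := fun i j h => member_orth hD h (ha i) (ha j)
  have hQd : ∀ i j, i ≠ j → Q (a i - a j) = 2 * Q a0 := fun i j h => by
    rw [Q_sub, hQa, hQa, hoa i j h]; ring
  have hQd0 : ∀ i j, i ≠ j → Q (a i - a j) ≠ 0 := fun i j h => by
    rw [hQd i j h]; exact mul_ne_zero h2 hc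
  have hsw : ∀ i j, i ≠ j → ap (refl Q (a i - a j)) (a i) = a j := fun i j h => by
    rw [refl_ap, hQd i j h, pl_sub_left, pl_self, hQa, hoa j i h.symm, sub_zero,
      inv_mul_cancel₀ (mul_ne_zero h2 hc), one_smul, sub_sub_cancel]
  have hsw' : ∀ i j, i ≠ j → ap (refl Q (a i - a j)) (a j) = a i := fun i j h =>
    (congrArg (ap _) (hsw i j h)).symm.trans (refl_ap_ap Q _ _)
  have hfix : ∀ i j x, polar ⇑Q x (a i) = 0 → polar ⇑Q x (a j) = 0 →
      ap (refl Q (a i - a j)) x = x := fun i j x h1 h2' =>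
    refl_ap_of_orth Q (by rw [pl_comm, pl_sub_right, h1, h2', sub_zero])
  set g := refl Q (a i1 - a i2) * refl Q (a i2 - a i3) with hg
  have hgΩ : g ∈ Omega F ⇑Q :=
    refl_pair_mem_omega hG (hQd0 _ _ h12) (by rw [hQd _ _ h23, hQd _ _ h12])
  have g1 : ap g (a i1) = a i2 := by
    rw [hg, ap_mul, hfix i2 i3 _ (hoa _ _ h12) (hoa _ _ h13), hsw _ _ h12]
  have g2 : ap g (a i2) = a i3 := by
    rw [hg, ap_mul, hsw _ _ h23, hfix i1 i2 _ (hoa _ _ h13.symm) (hoa _ _ h23.symm)]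
  have g3 : ap g (a i3) = a i1 := by rw [hg, ap_mul, hsw' _ _ h23, hsw' _ _ h12]
  have gfix : ∀ x, polar ⇑Q x (a i1) = 0 → polar ⇑Q x (a i2) = 0 → polar ⇑Q x (a i3) = 0 →
      ap g x = x := fun x h1 h2' h3 => by rw [hg, ap_mul, hfix _ _ x h2' h3, hfix _ _ x h1 h2']
  have hgN : ∀ x ∈ N, ap g x ∈ N := by
    rintro x ⟨j, hx, hQx⟩
    rcases hl j x hx hQx with h | h
    · obtain ⟨c, rfl⟩ := Submodule.mem_span_singleton.1 h
      obtain ⟨j', hj'⟩ : ∃ j', ap g (a j) = a j' := by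
        by_cases e1 : j = i1
        · exact ⟨i2, e1 ▸ g1⟩
        by_cases e2 : j = i2
        · exact ⟨i3, e2 ▸ g2⟩
        by_cases e3 : j = i3
        · exact ⟨i1, e3 ▸ g3⟩
        exact ⟨j, gfix _ (hoa _ _ e1) (hoa _ _ e2) (hoa _ _ e3)⟩
      exact ⟨j', by rw [map_smul, hj']; exact (D j').smul_mem _ (ha j'), by rw [Q_ap, hQx]⟩
    · have hx' : ∀ i, polar ⇑Q x (a i) = 0 := fun i => by
        by_cases hij : j = i
        · exact hij ▸ h
        · exact member_orth hD hij hx (ha i)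
      exact ⟨j, by rw [gfix x (hx' _) (hx' _) (hx' _)]; exact hx, hQx.symm ▸ (Q_ap g x)⟩
  obtain ⟨y, ⟨hy, hy'⟩, hy0⟩ : ∃ y ∈ D i1 ⊓ perpSub Q (F ∙ a i1), y ≠ 0 := by
    refine Submodule.exists_mem_ne_zero_of_ne_bot fun h => ?_
    have := finrank_le_perp_inf hG.nd (D i1) (F ∙ a i1)
    rw [h, finrank_bot, hD.decomp.decomp.finrank_eq, finrank_span_singleton (hne _)] at this
    omega
  have hgy : ap g y = y := gfix y
    (by rw [pl_comm]; exact mem_perpSub.1 hy' _ (Submodule.mem_span_singleton_self _))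
    (member_orth hD h12 hy (ha _)) (member_orth hD h13 hy (ha _))
  have hgD : (g : GL ι F) ∉ Geo.decompositionStabilizer D :=
    not_mem_decomp hD (ha i1) hy (by rw [hgy]; exact hy) hy0
      (by rw [g1]; exact fun h => h12 (member_eq hD h (ha i2) (hne _)))
  let S : Finset (Fin t) := Finset.univ.filter fun i => i.val < p
  have hS : S.card = p := by
    have : S = Finset.univ.map (Fin.castLEEmb hpt) := by
      ext i; simp only [S, Finset.mem_filter, Finset.mem_univ, true_and, Finset.mem_map]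
      exact ⟨fun h => ⟨⟨i, h⟩, Fin.ext rfl⟩, by rintro ⟨j, rfl⟩; exact j.2⟩
    rw [this, Finset.card_map, Finset.card_univ, Fintype.card_fin]
  set w := ∑ i ∈ S, a i
  have hQw : Q w = Q a0 := by
    rw [Q_sum_orth S a fun i _ j _ => hoa i j, Finset.sum_congr rfl fun i _ => hQa i, Finset.sum_const,
      hS, nsmul_eq_mul, hp, one_mul]
  have hwa : ∀ j ∈ S, polar ⇑Q w (a j) = 2 * Q a0 := fun j hj => by
    rw [polar_sum_left, Finset.sum_eq_single j (fun i _ h => hoa i j h) (fun h => (h hj).elim),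
      pl_self, hQa]
  have hwN : w ∉ N := by
    rintro ⟨j, hw, -⟩
    obtain ⟨l, hl', hlj⟩ : ∃ l ∈ S, l ≠ j := by
      by_cases e1 : j = i1
      · exact ⟨i2, by simp [S, i2]; omega, e1 ▸ h12.symm⟩
      · exact ⟨i1, by simp [S, i1]; omega, Ne.symm e1⟩
    exact mul_ne_zero h2 hc ((hwa l hl').symm.trans (member_orth hD hlj.symm hw (ha l)))
  obtain ⟨g', hg', -, -, hg'w⟩ := exists_omega_transit hG (W := ⊤) (fun x _ hx => by
      obtain ⟨y, hy⟩ := exists_polar_ne hG.nd hx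
      exact ⟨y, trivial, hy⟩) (by rw [finrank_top, finrank_space]; omega)
    (w := a i1) trivial (hne _) (w1 := w) trivial
    (fun h => hc (by rw [← hQw, h, QuadraticMap.map_zero])) (by rw [hQw, hQa])
  refine exists_between N _ (fun h _ hh x hx => ?_) hgΩ hgN hgD hg' (w := a i1) ⟨i1, ha i1, hQa i1⟩
    (by rw [hg'w]; exact hwN)
  obtain ⟨σ, hσ, -⟩ := ap_mem_member hh
  obtain ⟨i, hi, hQx⟩ := hx
  exact ⟨σ i, hσ i x hi, by rw [Q_ap, hQx]⟩

theorem eq_zero_or_one_of_add (hc : (2 : F) = 0) {x y : F} (hx : x = 0 ∨ x = 1) (hy : y = 0 ∨ y = 1) :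
    x + y = 0 ∨ x + y = 1 := by
  rcases hx with rfl | rfl <;> rcases hy with rfl | rfl <;> simp [one_add_one_eq_two, hc]

/-- Characteristic two, members whose norm one vectors (with zero) form an additive group. -/
theorem exists_between_additive (hG : Good Q) (hc : (2 : F) = 0) (hn : 6 ≤ Fintype.card ι)
    (hD : Geo.IsOrthogonalMDecomposition ⇑Q k D) (ht : 4 ≤ t) {i0 : Fin t}
    (hadd : ∀ x ∈ D i0, ∀ y ∈ D i0, Q x = 1 → Q y = 1 → x + y = 0 ∨ Q (x + y) = 1)
    {u0 e0 : ι → F} (hu0 : u0 ∈ D i0) (hQu0 : Q u0 = 1) (he0 : e0 ∈ D i0) (hQe0 : Q e0 = 0)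
    (hue : polar ⇑Q u0 e0 ≠ 0) :
    ∃ K : Subgroup (GL ι F), Geo.decompositionStabilizer D ⊓ Geo.omegaGL ⇑Q < K ∧
      K < Geo.omegaGL ⇑Q := by
  classical
  choose e he hef using fun i => exists_transport hD i0 i
  let u : Fin t → ι → F := fun i => (e i ⟨u0, hu0⟩ : D i)
  let z : Fin t → ι → F := fun i => (e i ⟨e0, he0⟩ : D i)
  have hu : ∀ i, u i ∈ D i := fun i => (e i ⟨u0, hu0⟩).2
  have hQu : ∀ i, Q (u i) = 1 := fun i => (he i ⟨u0, hu0⟩).trans hQu0
  have hz : ∀ i, z i ∈ D i := fun i => (e i ⟨e0, he0⟩).2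
  have hQz : ∀ i, Q (z i) = 0 := fun i => (he i ⟨e0, he0⟩).trans hQe0
  have hne : ∀ i, u i ≠ 0 := fun i h => one_ne_zero (α := F) (by rw [← hQu i, h, QuadraticMap.map_zero])
  let P : Fin t → (ι → F) → Prop := fun i y => y ∈ D i ∧ (y = 0 ∨ Q y = 1)
  have hPadd : ∀ i x y, P i x → P i y → P i (x + y) := by
    rintro i x y ⟨hx, rfl | hQx⟩ ⟨hy, hy'⟩
    · rw [zero_add]; exact ⟨hy, hy'⟩
    · rcases hy' with rfl | hQy
      · rw [add_zero]; exact ⟨hx, .inr hQx⟩
      obtain ⟨x', hx'⟩ := (e i).surjective ⟨x, hx⟩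
      obtain ⟨y', hy''⟩ := (e i).surjective ⟨y, hy⟩
      have ex : x = ((e i x' : D i) : ι → F) := by rw [hx']
      have ey : y = ((e i y' : D i) : ι → F) := by rw [hy'']
      refine ⟨(D i).add_mem hx hy, ?_⟩
      rcases hadd x' x'.2 y' y'.2 (by rw [← he i x', ← ex, hQx]) (by rw [← he i y', ← ey, hQy]) with h | h
      · have h0 : x' + y' = 0 := Subtype.ext h
        refine .inl ?_
        rw [ex, ey, ← Submodule.coe_add, ← map_add, h0, map_zero, Submodule.coe_zero]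
      · exact .inr (by rw [ex, ey, ← Submodule.coe_add, ← map_add, he]; exact h)
  let N : Set (ι → F) := {x | ∀ i, ∃ y, P i y ∧ ∀ v ∈ D i, polar ⇑Q x v = polar ⇑Q y v}
  have hNadd : ∀ x ∈ N, ∀ y ∈ N, x + y ∈ N := fun x hx y hy i => by
    obtain ⟨a, ha, ha'⟩ := hx i
    obtain ⟨b, hb, hb'⟩ := hy i
    exact ⟨a + b, hPadd i a b ha hb, fun v hv => by rw [pl_add_left, pl_add_left, ha' v hv, hb' v hv]⟩
  have huN : ∀ j, u j ∈ N := fun j i => by
    by_cases hij : i = j
    · subst hij; exact ⟨u i, ⟨hu i, .inr (hQu i)⟩, fun v _ => rfl⟩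
    · exact ⟨0, ⟨(D i).zero_mem, .inl rfl⟩, fun v hv => by
        rw [pl_zero_left, member_orth hD (Ne.symm hij) (hu j) hv]⟩
  have hNu : ∀ x ∈ N, ∀ j, polar ⇑Q x (u j) = 0 ∨ polar ⇑Q x (u j) = 1 := fun x hx j => by
    obtain ⟨y, ⟨hy, hy'⟩, hxy⟩ := hx j
    rw [hxy _ (hu j)]
    rcases hy' with rfl | hQy
    · exact .inl (pl_zero_left Q _)
    obtain ⟨hs, hs'⟩ := hPadd j y (u j) ⟨hy, .inr hQy⟩ ⟨hu j, .inr (hQu j)⟩
    have e1 : polar ⇑Q y (u j) = Q (y + u j) := by
      rw [Q_add, hQy, hQu]; linear_combination -hc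
    rw [e1]
    rcases hs' with h | h
    · rw [h, QuadraticMap.map_zero]; exact .inl rfl
    · exact .inr h
  let i1 : Fin t := ⟨0, by omega⟩
  let i2 : Fin t := ⟨1, by omega⟩
  let i3 : Fin t := ⟨2, by omega⟩
  let i4 : Fin t := ⟨3, by omega⟩
  have h12 : i1 ≠ i2 := by simp [i1, i2, Fin.ext_iff]
  have h13 : i1 ≠ i3 := by simp [i1, i3, Fin.ext_iff]
  have h14 : i1 ≠ i4 := by simp [i1, i4, Fin.ext_iff]
  have h23 : i2 ≠ i3 := by simp [i2, i3, Fin.ext_iff]
  set a := u i1 + u i2 + u i3 with ha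
  have hQa : Q a = 1 := by
    rw [ha, Q_add, Q_add, hQu, hQu, hQu, member_orth hD h12 (hu _) (hu _), pl_add_left,
      member_orth hD h13 (hu _) (hu _), member_orth hD h23 (hu _) (hu _)]
    linear_combination hc
  have haN : a ∈ N := hNadd _ (hNadd _ (huN _) _ (huN _)) _ (huN _)
  have hrefl : ∀ v, v ∈ N → Q v = 1 → ∀ x, ap (refl Q v) x = x + polar ⇑Q v x • v := fun v _ hv x => by
    have h : x - polar ⇑Q v x • v = x + polar ⇑Q v x • v := by
      have : (2 : F) • (polar ⇑Q v x • v) = 0 := by rw [hc, zero_smul]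
      rw [two_smul] at this
      rw [sub_eq_iff_eq_add, add_assoc, this, add_zero]
    rw [refl_ap, hv, inv_one, one_mul, h]
  have hstep : ∀ v, v ∈ N → Q v = 1 → (∀ x ∈ N, polar ⇑Q x v = 0 ∨ polar ⇑Q x v = 1) →
      ∀ x ∈ N, ap (refl Q v) x ∈ N := fun v hv hQv hf x hx => by
    rw [hrefl v hv hQv, pl_comm]
    rcases hf x hx with h | h <;> rw [h]
    · simpa using hx
    · rw [one_smul]; exact hNadd x hx v hv
  set g := refl Q a * refl Q (u i4) with hg
  have hgΩ : g ∈ Omega F ⇑Q := refl_pair_mem_omega hG (by rw [hQa]; exact one_ne_zero) (by rw [hQa, hQu])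
  have hgN : ∀ x ∈ N, ap g x ∈ N := fun x hx => by
    rw [hg, ap_mul]
    refine hstep a haN hQa (fun y hy => ?_) _ (hstep _ (huN _) (hQu _) (fun y hy => hNu y hy _) x hx)
    rw [ha, pl_add_right, pl_add_right]
    exact eq_zero_or_one_of_add hc (eq_zero_or_one_of_add hc (hNu y hy _) (hNu y hy _)) (hNu y hy _)
  have gD1 : ∀ x ∈ D i1, ap g x = x + polar ⇑Q (u i1) x • a := fun x hx => by
    rw [hg, ap_mul, refl_ap_of_orth Q (member_orth hD h14.symm (hu _) hx), hrefl a haN hQa, ha,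
      pl_add_left, pl_add_left, member_orth hD h12.symm (hu _) hx, member_orth hD h13.symm (hu _) hx,
      add_zero, add_zero]
  have hgD : (g : GL ι F) ∉ Geo.decompositionStabilizer D := by
    refine not_mem_decomp hD (hz i1) (hu i1) ?_ (hne _) ?_
    · rw [gD1 _ (hu i1), pl_self, hc, zero_mul, zero_smul, add_zero]; exact hu i1
    · rw [gD1 _ (hz i1)]
      intro h
      have hα : polar ⇑Q (u i1) (z i1) ≠ 0 := (hef i1 ⟨u0, hu0⟩ ⟨e0, he0⟩).trans_ne hue
      obtain ⟨v, hv, hv'⟩ := member_nondeg hD i2 _ (hu i2) (hne _)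
      have h0 := member_orth hD h12 h hv
      rw [pl_add_left, member_orth hD h12 (hz _) hv, zero_add, pl_smul_left, ha, pl_add_left,
        pl_add_left, member_orth hD h12 (hu _) hv, member_orth hD h23.symm (hu _) hv, zero_add,
        add_zero] at h0
      exact mul_ne_zero hα hv' h0
  have hwN : u i1 + z i2 ∉ N := by
    intro h
    obtain ⟨y, ⟨hy, hy'⟩, hy''⟩ := h i2
    have hyz : y = z i2 := by
      by_contra hne'
      obtain ⟨v, hv, hv'⟩ := member_nondeg hD i2 _ ((D i2).sub_mem hy (hz i2)) (sub_ne_zero.2 hne')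
      refine hv' ?_
      rw [pl_sub_left, ← hy'' v hv, pl_add_left, member_orth hD h12 (hu _) hv, zero_add, sub_self]
    rcases hy' with h0 | h1
    · have := hef i2 ⟨u0, hu0⟩ ⟨e0, he0⟩
      rw [show ((e i2 ⟨e0, he0⟩ : D i2) : ι → F) = 0 from hyz.symm.trans h0, pl_zero_right] at this
      exact hue this.symm
    · rw [hyz, hQz] at h1; exact zero_ne_one h1
  have hQw : Q (u i1 + z i2) = 1 := by
    rw [Q_add, hQu, hQz, member_orth hD h12 (hu _) (hz _)]; ring
  obtain ⟨g', hg', -, -, hg'w⟩ := exists_omega_transit hG (W := ⊤) (fun x _ hx => by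
      obtain ⟨y, hy⟩ := exists_polar_ne hG.nd hx
      exact ⟨y, trivial, hy⟩) (by rw [finrank_top, finrank_space]; omega)
    (w := u i1) trivial (hne _) (w1 := u i1 + z i2) trivial
    (fun h => one_ne_zero (α := F) (by rw [← hQw, h, QuadraticMap.map_zero])) (by rw [hQw, hQu])
  refine exists_between N _ (fun h _ hh x hx i => ?_) hgΩ hgN hgD hg' (huN i1)
    (by rw [hg'w]; exact hwN)
  obtain ⟨σ, hσ, hσ'⟩ := ap_mem_member hh
  obtain ⟨y, ⟨hy, hy'⟩, hxy⟩ := hx (σ.symm i)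
  refine ⟨ap h y, ⟨σ.apply_symm_apply i ▸ hσ _ y hy, ?_⟩, fun v hv => ?_⟩
  · rcases hy' with h' | h'
    · exact .inl (by rw [h', map_zero])
    · exact .inr (by rw [Q_ap, h'])
  · obtain ⟨v', hv', rfl⟩ := hσ' (σ.symm i) v (by rwa [σ.apply_symm_apply])
    rw [polar_ap, polar_ap, hxy v' hv']

/-- Characteristic two, members with a distinguished anisotropic plane. -/
theorem exists_between_plane (hG : Good Q) (hc : (2 : F) = 0) (hn : 6 ≤ Fintype.card ι)
    (hD : Geo.IsOrthogonalMDecomposition ⇑Q k D) (hk : 3 ≤ k) (ht : 2 ≤ t) {i0 : Fin t}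
    {a0 b0 e0 : ι → F} (ha0 : a0 ∈ D i0) (hb0 : b0 ∈ D i0) (he0 : e0 ∈ D i0) (he00 : e0 ≠ 0)
    (hQe0 : Q e0 = 0) (hQa : Q a0 = 1) (hQb : Q b0 = 1) (hab : polar ⇑Q a0 b0 = 1)
    (hline : ∀ x ∈ D i0, Q x = 1 → (∃ α β : F, α • a0 + β • b0 = x) ∨
      (polar ⇑Q x a0 = 0 ∧ polar ⇑Q x b0 = 0)) :
    ∃ K : Subgroup (GL ι F), Geo.decompositionStabilizer D ⊓ Geo.omegaGL ⇑Q < K ∧
      K < Geo.omegaGL ⇑Q := by
  classical
  choose e he hef using fun i => exists_transport hD i0 i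
  let a : Fin t → ι → F := fun i => (e i ⟨a0, ha0⟩ : D i)
  let b : Fin t → ι → F := fun i => (e i ⟨b0, hb0⟩ : D i)
  let z : Fin t → ι → F := fun i => (e i ⟨e0, he0⟩ : D i)
  have ha : ∀ i, a i ∈ D i := fun i => (e i ⟨a0, ha0⟩).2
  have hb : ∀ i, b i ∈ D i := fun i => (e i ⟨b0, hb0⟩).2
  have hz : ∀ i, z i ∈ D i := fun i => (e i ⟨e0, he0⟩).2
  have hQa' : ∀ i, Q (a i) = 1 := fun i => (he i _).trans hQa
  have hQb' : ∀ i, Q (b i) = 1 := fun i => (he i _).trans hQb
  have hQz : ∀ i, Q (z i) = 0 := fun i => (he i _).trans hQe0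
  have hab' : ∀ i, polar ⇑Q (a i) (b i) = 1 := fun i => (hef i _ _).trans hab
  have hne : ∀ i, a i ≠ 0 := fun i h => one_ne_zero (α := F) (by rw [← hQa' i, h, QuadraticMap.map_zero])
  have hl : ∀ i, ∀ x ∈ D i, Q x = 1 → (∃ α β : F, α • a i + β • b i = x) ∨
      (polar ⇑Q x (a i) = 0 ∧ polar ⇑Q x (b i) = 0) := by
    intro i x hx hQx
    obtain ⟨y, hy⟩ := (e i).surjective ⟨x, hx⟩
    have hxy : x = ((e i y : D i) : ι → F) := by rw [hy]
    rcases hline y y.2 (by rw [← he i y, ← hxy, hQx]) with ⟨α, β, h⟩ | ⟨h1, h2⟩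
    · refine .inl ⟨α, β, ?_⟩
      have hy' : y = α • ⟨a0, ha0⟩ + β • ⟨b0, hb0⟩ := Subtype.ext h.symm
      rw [hxy, hy', map_add, map_smul, map_smul, Submodule.coe_add, Submodule.coe_smul, Submodule.coe_smul]
    · exact .inr ⟨by rw [hxy]; exact (hef i y ⟨a0, ha0⟩).trans h1,
        by rw [hxy]; exact (hef i y ⟨b0, hb0⟩).trans h2⟩
  let N : Set (ι → F) := {x | ∃ i, x ∈ D i ∧ Q x = 1}
  let i1 : Fin t := ⟨0, by omega⟩
  let i2 : Fin t := ⟨1, by omega⟩
  have h12 : i1 ≠ i2 := by simp [i1, i2, Fin.ext_iff]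
  set p := a i1 + a i2 with hp
  set r := b i1 + b i2 with hr
  have oaa : polar ⇑Q (a i1) (a i2) = 0 := member_orth hD h12 (ha _) (ha _)
  have obb : polar ⇑Q (b i1) (b i2) = 0 := member_orth hD h12 (hb _) (hb _)
  have oab : polar ⇑Q (a i1) (b i2) = 0 := member_orth hD h12 (ha _) (hb _)
  have oba : polar ⇑Q (a i2) (b i1) = 0 := member_orth hD h12.symm (ha _) (hb _)
  have hQp : Q p = 0 := by rw [hp, Q_add, hQa', hQa', oaa]; linear_combination hc
  have hQr : Q r = 0 := by rw [hr, Q_add, hQb', hQb', obb]; linear_combination hc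
  have hpr : polar ⇑Q p r = 0 := by
    rw [hp, hr, pl_add_left, pl_add_right, pl_add_right, hab', hab', oab, oba]; linear_combination hc
  set g := eich Q p r with hg
  have hneg : ∀ v : ι → F, -v = v := fun v => neg_eq_of_add_eq_zero_left (by
    rw [← two_smul F v, hc, zero_smul])
  have gap : ∀ x, ap g x = x + polar ⇑Q p x • r + polar ⇑Q r x • p := fun x => by
    rw [hg, eich_ap hQp hpr, hQr, zero_mul, add_zero, sub_eq_add_neg, hneg]
  have gfix : ∀ x, polar ⇑Q p x = 0 → polar ⇑Q r x = 0 → ap g x = x := fun x h1 h2 => by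
    rw [gap, h1, h2, zero_smul, zero_smul, add_zero, add_zero]
  have hself : ∀ v, polar ⇑Q v v = 0 := fun v => by rw [pl_self, hc, zero_mul]
  have hadd2 : ∀ u v : ι → F, u + (u + v) = v := fun u v => by
    rw [← add_assoc, ← two_smul F u, hc, zero_smul, zero_add]
  have ga1 : ap g (a i1) = a i2 := by
    rw [gap, hp, hr, pl_add_left, pl_add_left, hself, pl_comm Q (a i2), oaa, pl_comm Q (b i1), hab',
      pl_comm Q (b i2), oab]
    simp only [add_zero, zero_smul, one_smul, hadd2]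
  have gb1 : ap g (b i1) = b i2 := by
    rw [gap, hp, hr, pl_add_left, pl_add_left, hab', oba, hself, pl_comm Q (b i2), obb]
    simp only [add_zero, zero_smul, one_smul, hadd2]
  have ga2 : ap g (a i2) = a i1 := by
    rw [gap, hp, hr, pl_add_left, pl_add_left, hself, oaa, pl_comm Q (b i1), oba, pl_comm Q (b i2),
      hab']
    simp only [zero_add, add_zero, zero_smul, one_smul]
    rw [add_comm (a i1) (a i2), hadd2]
  have gb2 : ap g (b i2) = b i1 := by
    rw [gap, hp, hr, pl_add_left, pl_add_left, hab', oab, hself, obb]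
    simp only [zero_add, add_zero, zero_smul, one_smul]
    rw [add_comm (b i1) (b i2), hadd2]
  have hgΩ : g ∈ Omega F ⇑Q := eichGen_le_omega hG.nd (by omega) (.inr (by omega)) (eich_mem_eichGen _ _)
  have hgN : ∀ x ∈ N, ap g x ∈ N := by
    rintro x ⟨j, hx, hQx⟩
    have hQgx : Q (ap g x) = 1 := by rw [Q_ap, hQx]
    by_cases e1 : j = i1
    · subst e1
      rcases hl _ x hx hQx with ⟨α, β, rfl⟩ | ⟨h1, h2⟩
      · refine ⟨i2, ?_, hQgx⟩
        rw [map_add, map_smul, map_smul, ga1, gb1]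
        exact (D i2).add_mem ((D i2).smul_mem _ (ha _)) ((D i2).smul_mem _ (hb _))
      · refine ⟨i1, ?_, hQgx⟩
        rw [gfix x (by rw [pl_comm, hp, pl_add_right, h1, member_orth hD h12 hx (ha _), add_zero])
          (by rw [pl_comm, hr, pl_add_right, h2, member_orth hD h12 hx (hb _), add_zero])]
        exact hx
    by_cases e2 : j = i2
    · subst e2
      rcases hl _ x hx hQx with ⟨α, β, rfl⟩ | ⟨h1, h2⟩
      · refine ⟨i1, ?_, hQgx⟩
        rw [map_add, map_smul, map_smul, ga2, gb2]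
        exact (D i1).add_mem ((D i1).smul_mem _ (ha _)) ((D i1).smul_mem _ (hb _))
      · refine ⟨i2, ?_, hQgx⟩
        rw [gfix x (by rw [pl_comm, hp, pl_add_right, h1, member_orth hD h12.symm hx (ha _), add_zero])
          (by rw [pl_comm, hr, pl_add_right, h2, member_orth hD h12.symm hx (hb _), add_zero])]
        exact hx
    refine ⟨j, ?_, hQgx⟩
    rw [gfix x (by rw [pl_comm, hp, pl_add_right, member_orth hD e1 hx (ha _), member_orth hD e2 hx (ha _), add_zero])
      (by rw [pl_comm, hr, pl_add_right, member_orth hD e1 hx (hb _), member_orth hD e2 hx (hb _), add_zero])]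
    exact hx
  obtain ⟨y, ⟨hy, hy'⟩, hy0⟩ : ∃ y ∈ D i1 ⊓ perpSub Q ((F ∙ a i1) ⊔ (F ∙ b i1)), y ≠ 0 := by
    refine Submodule.exists_mem_ne_zero_of_ne_bot fun h => ?_
    have := finrank_le_perp_inf hG.nd (D i1) ((F ∙ a i1) ⊔ (F ∙ b i1))
    have h1 := Submodule.finrank_sup_add_finrank_inf_eq (F ∙ a i1) (F ∙ b i1)
    have h3 : finrank F (F ∙ a i1) ≤ 1 := (finrank_span_le_card {a i1}).trans (by simp)
    have h4 : finrank F (F ∙ b i1) ≤ 1 := (finrank_span_le_card {b i1}).trans (by simp)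
    rw [h, finrank_bot, hD.decomp.decomp.finrank_eq] at this
    omega
  have hya := mem_perpSub.1 hy' _ (Submodule.mem_sup_left (Submodule.mem_span_singleton_self _))
  have hyb := mem_perpSub.1 hy' _ (Submodule.mem_sup_right (Submodule.mem_span_singleton_self _))
  have hgy : ap g y = y := gfix y
    (by rw [hp, pl_add_left, hya, member_orth hD h12.symm (ha _) hy, add_zero])
    (by rw [hr, pl_add_left, hyb, member_orth hD h12.symm (hb _) hy, add_zero])
  have hgD : (g : GL ι F) ∉ Geo.decompositionStabilizer D :=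
    not_mem_decomp hD (ha i1) hy (by rw [hgy]; exact hy) hy0
      (by rw [ga1]; exact fun h => h12 (member_eq hD h (ha i2) (hne _)))
  have hQw : Q (a i1 + z i2) = 1 := by
    rw [Q_add, hQa', hQz, member_orth hD h12 (ha _) (hz _)]; ring
  have hwN : a i1 + z i2 ∉ N := by
    rintro ⟨j, hw, -⟩
    have hj : i1 = j := by
      by_contra hne'
      have := member_orth hD (Ne.symm hne') hw (hb i1)
      rw [pl_add_left, hab', member_orth hD h12.symm (hz _) (hb _), add_zero] at this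
      exact one_ne_zero this
    subst hj
    have hz1 : z i2 ∈ D i1 := by simpa using (D i1).sub_mem hw (ha i1)
    refine h12 (member_eq hD hz1 (hz i2) fun h => he00 ?_)
    have : e i2 ⟨e0, he0⟩ = 0 := Subtype.ext h
    exact congrArg Subtype.val ((e i2).map_eq_zero_iff.1 this)
  obtain ⟨g', hg', -, -, hg'w⟩ := exists_omega_transit hG (W := ⊤) (fun x _ hx => by
      obtain ⟨y, hy⟩ := exists_polar_ne hG.nd hx
      exact ⟨y, trivial, hy⟩) (by rw [finrank_top, finrank_space]; omega)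
    (w := a i1) trivial (hne _) (w1 := a i1 + z i2) trivial
    (fun h => one_ne_zero (α := F) (by rw [← hQw, h, QuadraticMap.map_zero])) (by rw [hQw, hQa'])
  refine exists_between N _ (fun h _ hh x hx => ?_) hgΩ hgN hgD hg' (w := a i1) ⟨i1, ha i1, hQa' i1⟩
    (by rw [hg'w]; exact hwN)
  obtain ⟨σ, hσ, -⟩ := ap_mem_member hh
  obtain ⟨i, hi, hQx⟩ := hx
  exact ⟨σ i, hσ i x hi, by rw [Q_ap, hQx]⟩

/-! ### bases of the members -/

theorem card_le_mul (hD : Geo.IsOrthogonalMDecomposition ⇑Q k D) : Fintype.card ι ≤ t * k := by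
  classical
  have h : ∀ s : Finset (Fin t), finrank F (s.sup D : Submodule F (ι → F)) ≤ s.card * k := by
    intro s
    induction s using Finset.induction_on with
    | empty => simp
    | insert a s ha ih =>
      rw [Finset.sup_insert, Finset.card_insert_of_notMem ha, add_mul, one_mul]
      refine (Submodule.finrank_add_le_finrank_add_finrank _ _).trans ?_
      rw [hD.decomp.decomp.finrank_eq]
      omega
  have htop : (Finset.univ.sup D : Submodule F (ι → F)) = ⊤ :=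
    eq_top_iff.2 (hD.decomp.decomp.iSup_eq_top.symm.le.trans
      (iSup_le fun i => Finset.le_sup (Finset.mem_univ i)))
  have := h Finset.univ
  rwa [htop, finrank_top, finrank_space, Finset.card_univ, Fintype.card_fin] at this

/-- A singular vector of a non-degenerate subspace has a singular partner. -/
theorem exists_partner_in (hQ : Q.polarBilin.Nondegenerate) {W : Submodule F (ι → F)}
    (hW : ∀ x ∈ W, x ≠ 0 → ∃ y ∈ W, polar ⇑Q x y ≠ 0) {S : Submodule F (ι → F)} (hS : S ≤ W)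
    {e : ι → F} (heW : e ∈ W) (heS : e ∉ S) (hQe : Q e = 0) (heo : ∀ s ∈ S, polar ⇑Q e s = 0) :
    ∃ f ∈ W, Q f = 0 ∧ polar ⇑Q e f = 1 ∧ ∀ s ∈ S, polar ⇑Q f s = 0 := by
  obtain ⟨v, hv, hvS, hve⟩ := exists_dual_in hQ hW hS heW heS
  refine ⟨v - Q v • e, W.sub_mem hv (W.smul_mem _ heW), ?_, ?_, fun s hs => ?_⟩
  · rw [Q_sub, Q_smul, hQe, pl_smul_right, hve]; ring
  · rw [pl_sub_right, pl_smul_right, pl_self, hQe, pl_comm, hve]; ring
  · rw [pl_sub_left, pl_smul_left, hvS s hs, heo s hs]; ring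

theorem exists_hpair_in (hQ : Q.polarBilin.Nondegenerate) {W : Submodule F (ι → F)}
    (hW : ∀ x ∈ W, x ≠ 0 → ∃ y ∈ W, polar ⇑Q x y ≠ 0) {e : ι → F} (heW : e ∈ W) (he : e ≠ 0)
    (hQe : Q e = 0) :
    ∃ f ∈ W, Q f = 0 ∧ polar ⇑Q e f = 1 := by
  obtain ⟨f, h1, h2, h3, -⟩ := exists_partner_in hQ hW (bot_le : (⊥ : Submodule F (ι → F)) ≤ W) heW
    (by simpa using he) hQe (fun s hs => by rw [(Submodule.mem_bot F).1 hs, pl_zero_right])
  exact ⟨f, h1, h2, h3⟩

theorem coords_two {W : Submodule F (ι → F)} (hr : finrank F W = 2) {e f : ι → F} (he : e ∈ W)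
    (hf : f ∈ W) (hQe : Q e = 0) (hQf : Q f = 0) (hef : polar ⇑Q e f = 1) {x : ι → F} (hx : x ∈ W) :
    x = polar ⇑Q x f • e + polar ⇑Q x e • f ∧ Q x = polar ⇑Q x f * polar ⇑Q x e := by
  have h := exists_coords (Q := Q) hr ![e, f] ![f, e] (by simp [Fin.forall_fin_two, he, hf])
    (by simp [Fin.forall_fin_two, hef, pl_comm Q f e, pl_self, hQe, hQf]) hx
  rw [Fin.sum_univ_two] at h
  simp only [Matrix.cons_val_zero, Matrix.cons_val_one] at h
  refine ⟨h, ?_⟩
  conv_lhs => rw [h]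
  rw [Q_add, Q_smul, Q_smul, hQe, hQf, pl_smul_left, pl_smul_right, hef]
  ring

theorem line_plus_five (hF : Fintype.card F = 5) {W : Submodule F (ι → F)} (hr : finrank F W = 2)
    {e f : ι → F} (he : e ∈ W) (hf : f ∈ W) (hQe : Q e = 0) (hQf : Q f = 0)
    (hef : polar ⇑Q e f = 1) {x : ι → F} (hx : x ∈ W) (hQx : Q x = 1) :
    x ∈ F ∙ (e + f) ∨ polar ⇑Q x (e + f) = 0 := by
  obtain ⟨h, hq⟩ := coords_two hr he hf hQe hQf hef hx
  set α := polar ⇑Q x f
  set β := polar ⇑Q x e with hβ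
  rw [hQx] at hq
  have hα : α ≠ 0 := fun h0 => by rw [h0, zero_mul] at hq; exact one_ne_zero hq
  have h4 : α ^ 4 = 1 := by
    have := FiniteField.pow_card_sub_one_eq_one α hα
    rwa [hF] at this
  have key : (α - β) * (α + β) = 0 := by
    have : α ^ 2 * ((α - β) * (α + β)) = 0 := by linear_combination h4 + (1 + α * β) * hq
    exact (mul_eq_zero.1 this).resolve_left (pow_ne_zero _ hα)
  rcases mul_eq_zero.1 key with h' | h'
  · exact .inl (Submodule.mem_span_singleton.2 ⟨α, by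
      conv_rhs => rw [h, ← sub_eq_zero.1 h']
      rw [smul_add]⟩)
  · exact .inr (by rw [pl_add_right, ← hβ, add_comm]; exact h')

theorem sq_eq_one_of_card_three (hF : Fintype.card F = 3) {a : F} (ha : a ≠ 0) : a * a = 1 := by
  have := FiniteField.pow_card_sub_one_eq_one a ha
  rw [hF] at this
  simpa [sq] using this

theorem line_of_orth_anisotropic (hF : Fintype.card F = 3) (h2 : (2 : F) ≠ 0)
    {W : Submodule F (ι → F)} {a : ι → F} (ha : a ∈ W) (hQa : Q a ≠ 0)
    (han : ∀ y ∈ W, polar ⇑Q y a = 0 → Q y = 0 → y = 0) {x : ι → F} (hx : x ∈ W) (hQx : Q x = Q a) :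
    x ∈ F ∙ a ∨ polar ⇑Q x a = 0 := by
  by_cases h : polar ⇑Q x a = 0
  · exact .inr h
  refine .inl (Submodule.mem_span_singleton.2 ⟨polar ⇑Q x a * (2 * Q a)⁻¹, ?_⟩)
  set c := polar ⇑Q x a * (2 * Q a)⁻¹ with hc
  have hne : (2 * Q a) ≠ 0 := mul_ne_zero h2 hQa
  have hc0 : c ≠ 0 := mul_ne_zero h (inv_ne_zero hne)
  have hca : c * (2 * Q a) = polar ⇑Q x a := by rw [hc, mul_assoc, inv_mul_cancel₀ hne, mul_one]
  refine (sub_eq_zero.1 (han (x - c • a) (W.sub_mem hx (W.smul_mem _ ha)) ?_ ?_)).symm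
  · rw [pl_sub_left, pl_smul_left, pl_self, hca, sub_self]
  · rw [Q_sub, Q_smul, pl_smul_right, ← hca, hQx]
    linear_combination (-Q a) * sq_eq_one_of_card_three hF hc0

theorem exists_line_three (hQ : Q.polarBilin.Nondegenerate) (hF : Fintype.card F = 3)
    (h2 : (2 : F) ≠ 0) {W : Submodule F (ι → F)} (hW : ∀ x ∈ W, x ≠ 0 → ∃ y ∈ W, polar ⇑Q x y ≠ 0)
    (hr : finrank F W = 3) :
    ∃ a ∈ W, Q a ≠ 0 ∧ ∀ x ∈ W, Q x = Q a → x ∈ F ∙ a ∨ polar ⇑Q x a = 0 := by
  classical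
  obtain ⟨e, heW, he0, hQe⟩ := exists_ne_zero_Q_eq hW (by omega) 0
  obtain ⟨f, hfW, hQf, hef⟩ := exists_hpair_in hQ hW heW he0 hQe
  obtain ⟨z, ⟨hzW, hzp⟩, hz0⟩ : ∃ z ∈ W ⊓ perpSub Q ((F ∙ e) ⊔ (F ∙ f)), z ≠ 0 := by
    refine Submodule.exists_mem_ne_zero_of_ne_bot fun h => ?_
    have := finrank_le_perp_inf hQ W ((F ∙ e) ⊔ (F ∙ f))
    have h1 := Submodule.finrank_sup_add_finrank_inf_eq (F ∙ e) (F ∙ f)
    have h3 : finrank F (F ∙ e) ≤ 1 := (finrank_span_le_card {e}).trans (by simp)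
    have h4 : finrank F (F ∙ f) ≤ 1 := (finrank_span_le_card {f}).trans (by simp)
    rw [h, finrank_bot, hr] at this
    omega
  have hzW : z ∈ W := hzW
  have hze : polar ⇑Q e z = 0 :=
    mem_perpSub.1 hzp _ (Submodule.mem_sup_left (Submodule.mem_span_singleton_self _))
  have hzf : polar ⇑Q f z = 0 :=
    mem_perpSub.1 hzp _ (Submodule.mem_sup_right (Submodule.mem_span_singleton_self _))
  have hQz : Q z ≠ 0 := by
    intro h0
    obtain ⟨y, hy, hzy⟩ := hW z hzW hz0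
    obtain ⟨f', hf'W, hQf', hzf', hf'S⟩ := exists_partner_in hQ hW (S := (F ∙ e) ⊔ (F ∙ f))
      (sup_le ((Submodule.span_singleton_le_iff_mem _ _).2 heW)
        ((Submodule.span_singleton_le_iff_mem _ _).2 hfW)) hzW (fun hmem => by
          obtain ⟨u, hu, v, hv, rfl⟩ := Submodule.mem_sup.1 hmem
          obtain ⟨α, rfl⟩ := Submodule.mem_span_singleton.1 hu
          obtain ⟨β, rfl⟩ := Submodule.mem_span_singleton.1 hv
          rw [pl_add_right, pl_smul_right, pl_smul_right, pl_self, hQe, hef] at hze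
          rw [pl_add_right, pl_smul_right, pl_smul_right, pl_self, hQf, pl_comm Q f e, hef] at hzf
          have hα : α = 0 := by linear_combination hzf
          have hβ : β = 0 := by linear_combination hze
          exact hz0 (by rw [hα, hβ, zero_smul, zero_smul, add_zero]))
      h0 (fun s hs => by rw [pl_comm]; exact mem_perpSub.1 hzp s hs)
    have hz' : polar ⇑Q z e = 0 := by rw [pl_comm]; exact hze
    have hf'e : polar ⇑Q f' e = 0 :=
      hf'S e (Submodule.mem_sup_left (Submodule.mem_span_singleton_self _))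
    have hf'f : polar ⇑Q f' f = 0 :=
      hf'S f (Submodule.mem_sup_right (Submodule.mem_span_singleton_self _))
    have := exists_coords (Q := Q) hr ![e, f, z] ![f, e, f'] (by simp [Fin.forall_fin_succ, heW, hfW, hzW])
      (by simp [Fin.forall_fin_succ, hef, pl_comm Q f e, pl_self, hQe, hQf, hz', pl_comm Q z f, hzf,
        hzf', pl_comm Q e f', hf'e, pl_comm Q f f', hf'f]) hf'W
    rw [Fin.sum_univ_three] at this
    simp only [Matrix.cons_val_zero, Matrix.cons_val_one, Matrix.cons_val_two, Matrix.tail_cons,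
      Matrix.head_cons] at this
    rw [hf'f, hf'e, pl_self Q f', hQf', mul_zero, zero_smul, zero_smul, zero_smul, add_zero, add_zero] at this
    rw [this, pl_zero_right] at hzf'
    exact zero_ne_one hzf'
  set d := Q z with hd
  have h2d : 2 * d ≠ 0 := mul_ne_zero h2 hQz
  have hQb : Q (e - d • f) = -d := by rw [Q_sub, Q_smul, hQe, hQf, pl_smul_right, hef]; ring
  have hdd : d⁻¹ * 2⁻¹ * (2 * d) = 1 := by rw [← _root_.mul_inv, mul_comm d, inv_mul_cancel₀ h2d]
  refine ⟨e - d • f, W.sub_mem heW (W.smul_mem _ hfW), by rw [hQb]; exact neg_ne_zero.2 hQz,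
    fun x hx hQx => line_of_orth_anisotropic hF h2 (W.sub_mem heW (W.smul_mem _ hfW))
      (by rw [hQb]; exact neg_ne_zero.2 hQz) (fun y hy hyb hQy => ?_) hx hQx⟩
  have h := exists_coords (Q := Q) hr ![e, f, z] ![f, e, (2 * d)⁻¹ • z]
    (by simp [Fin.forall_fin_succ, heW, hfW, hzW])
    (by simp [Fin.forall_fin_succ, hef, pl_comm Q f e, pl_self, hQe, hQf, pl_comm Q z e, hze,
      pl_comm Q z f, hzf, pl_smul_right, ← hd, hdd]) hy
  rw [Fin.sum_univ_three] at h
  simp only [Matrix.cons_val_zero, Matrix.cons_val_one, Matrix.cons_val_two, Matrix.tail_cons,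
    Matrix.head_cons] at h
  set α := polar ⇑Q y f with hα
  set β := polar ⇑Q y e with hβ
  set γ := polar ⇑Q y ((2 * d)⁻¹ • z)
  rw [pl_sub_right, pl_smul_right, ← hα, ← hβ] at hyb
  rw [h] at hQy
  simp only [Q_add, Q_smul, hQe, hQf, ← hd, pl_add_left, pl_smul_left, pl_smul_right, hef, hze,
    hzf] at hQy
  have hαγ : α * α + γ * γ = 0 := by
    have : d * (α * α + γ * γ) = 0 := by linear_combination hQy - α * hyb
    exact (mul_eq_zero.1 this).resolve_left hQz
  have hα0 : α = 0 := by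
    by_contra h0
    rw [sq_eq_one_of_card_three hF h0] at hαγ
    rcases eq_or_ne γ 0 with hg | hg
    · rw [hg, mul_zero, add_zero] at hαγ; exact one_ne_zero hαγ
    · rw [sq_eq_one_of_card_three hF hg, one_add_one_eq_two] at hαγ; exact h2 hαγ
  have hγ0 : γ = 0 := by rw [hα0, zero_mul, zero_add] at hαγ; exact mul_self_eq_zero.1 hαγ
  have hβ0 : β = 0 := by rw [hα0, mul_zero, sub_zero] at hyb; exact hyb
  rw [h, hα0, hβ0, hγ0]
  simp

theorem add_or_one_of_cube (hc : (2 : F) = 0) (h3 : ∀ a : F, a ≠ 0 → a ^ 3 = 1)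
    {W : Submodule F (ι → F)} (hr : finrank F W = 2)
    {e f : ι → F} (he : e ∈ W) (hf : f ∈ W) (hQe : Q e = 0) (hQf : Q f = 0) (hef : polar ⇑Q e f = 1)
    {x y : ι → F} (hx : x ∈ W) (hy : y ∈ W) (hQx : Q x = 1) (hQy : Q y = 1) :
    x + y = 0 ∨ Q (x + y) = 1 := by
  obtain ⟨ex, qx⟩ := coords_two hr he hf hQe hQf hef hx
  obtain ⟨ey, qy⟩ := coords_two hr he hf hQe hQf hef hy
  obtain ⟨exy, qxy⟩ := coords_two hr he hf hQe hQf hef (W.add_mem hx hy)
  rw [pl_add_left, pl_add_left] at exy qxy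
  set α := polar ⇑Q x f
  set α' := polar ⇑Q x e
  set β := polar ⇑Q y f
  set β' := polar ⇑Q y e
  rw [hQx] at qx
  rw [hQy] at qy
  by_cases hab : α + β = 0
  · left
    have hβ : β = α := by linear_combination hab - α * hc
    have hb' : α' + β' = 0 := by
      have hα : α ≠ 0 := fun h => by rw [h, zero_mul] at qx; exact one_ne_zero qx
      have : α * (α' + β') = 0 := by rw [hβ] at qy; linear_combination (-1) * qx - qy + hc
      exact (mul_eq_zero.1 this).resolve_left hα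
    rw [exy, hab, hb', zero_smul, zero_smul, add_zero]
  · right
    rw [qxy]
    have hα : α ≠ 0 := fun h => by rw [h, zero_mul] at qx; exact one_ne_zero qx
    have hβ : β ≠ 0 := fun h => by rw [h, zero_mul] at qy; exact one_ne_zero qy
    set r := α * β' with hr'
    have hr0 : r ≠ 0 := mul_ne_zero hα (fun h => by rw [h, mul_zero] at qy; exact one_ne_zero qy)
    have hr1 : r ≠ 1 := fun h => hab (by
      have : α = β := by linear_combination β * h + α * qy
      linear_combination this + β * hc)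
    have hr2 : r * r + r + 1 = 0 := by
      have h := h3 r hr0
      have : (r - 1) * (r * r + r + 1) = 0 := by linear_combination h
      exact (mul_eq_zero.1 this).resolve_left (sub_ne_zero.2 hr1)
    have hinv : r * (α' * β) = 1 := by rw [hr']; linear_combination (-β * β') * qx - qy
    have : r * ((α + β) * (α' + β') - 1) = 0 := by
      rw [hr'] at hr2 hinv ⊢
      linear_combination hr2 + hinv + (-α * β') * qx + (-α * β') * qy
    exact sub_eq_zero.1 ((mul_eq_zero.1 this).resolve_left hr0)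

theorem exists_plane_base (hQ : Q.polarBilin.Nondegenerate) (h01 : ∀ a : F, a = 0 ∨ a = 1)
    (hc : (2 : F) = 0) {W : Submodule F (ι → F)} (hW : ∀ x ∈ W, x ≠ 0 → ∃ y ∈ W, polar ⇑Q x y ≠ 0)
    (hr : finrank F W = 4) {U : Submodule F (ι → F)} (hUW : U ≤ W) (hU : ∀ u ∈ U, Q u = 0)
    (hUr : finrank F U = 2) :
    ∃ a ∈ W, ∃ b ∈ W, ∃ e ∈ W, e ≠ 0 ∧ Q e = 0 ∧ Q a = 1 ∧ Q b = 1 ∧ polar ⇑Q a b = 1 ∧
      ∀ x ∈ W, Q x = 1 → (∃ α β : F, α • a + β • b = x) ∨ (polar ⇑Q x a = 0 ∧ polar ⇑Q x b = 0) := by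
  classical
  obtain ⟨e1, he1, he10⟩ := Submodule.exists_mem_ne_zero_of_ne_bot (p := U)
    (fun h => by rw [h, finrank_bot] at hUr; omega)
  obtain ⟨f1, hf1, hQf1, hef1⟩ := exists_hpair_in hQ hW (hUW he1) he10 (hU _ he1)
  obtain ⟨e2, ⟨he2, he2p⟩, he20⟩ : ∃ z ∈ U ⊓ perpSub Q (F ∙ f1), z ≠ 0 := by
    refine Submodule.exists_mem_ne_zero_of_ne_bot fun h => ?_
    have := finrank_le_perp_inf hQ U (F ∙ f1)
    have h4 : finrank F (F ∙ f1) ≤ 1 := (finrank_span_le_card {f1}).trans (by simp)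
    rw [h, finrank_bot, hUr] at this
    omega
  have hQe1 : Q e1 = 0 := hU _ he1
  have hQe2 : Q e2 = 0 := hU _ he2
  have he2f1 : polar ⇑Q f1 e2 = 0 := mem_perpSub.1 he2p _ (Submodule.mem_span_singleton_self _)
  have he2e1 : polar ⇑Q e1 e2 = 0 := by
    have := hU _ (U.add_mem he1 he2)
    rw [Q_add, hQe1, hQe2, zero_add, zero_add] at this
    exact this
  have hperp : ∀ s ∈ (F ∙ e1) ⊔ (F ∙ f1), polar ⇑Q e2 s = 0 := fun s hs => by
    obtain ⟨u, hu, v, hv, rfl⟩ := Submodule.mem_sup.1 hs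
    obtain ⟨α, rfl⟩ := Submodule.mem_span_singleton.1 hu
    obtain ⟨β, rfl⟩ := Submodule.mem_span_singleton.1 hv
    rw [pl_add_right, pl_smul_right, pl_smul_right, pl_comm, he2e1, pl_comm, he2f1]; ring
  obtain ⟨f2, hf2, hQf2, hef2, hf2S⟩ := exists_partner_in hQ hW (S := (F ∙ e1) ⊔ (F ∙ f1))
    (sup_le ((Submodule.span_singleton_le_iff_mem _ _).2 (hUW he1))
      ((Submodule.span_singleton_le_iff_mem _ _).2 hf1)) (hUW he2) (fun hmem => by
        obtain ⟨u, hu, v, hv, h⟩ := Submodule.mem_sup.1 hmem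
        obtain ⟨α, rfl⟩ := Submodule.mem_span_singleton.1 hu
        obtain ⟨β, rfl⟩ := Submodule.mem_span_singleton.1 hv
        rw [← h, pl_add_right, pl_smul_right, pl_smul_right, pl_self, hQe1, hef1] at he2e1
        rw [← h, pl_add_right, pl_smul_right, pl_smul_right, pl_self, hQf1, pl_comm Q f1 e1, hef1] at he2f1
        have hα : α = 0 := by linear_combination he2f1
        have hβ : β = 0 := by linear_combination he2e1
        exact he20 (by rw [← h, hα, hβ, zero_smul, zero_smul, add_zero]))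
    hQe2 hperp
  have hf2e1 : polar ⇑Q f2 e1 = 0 :=
    hf2S _ (Submodule.mem_sup_left (Submodule.mem_span_singleton_self _))
  have hf2f1 : polar ⇑Q f2 f1 = 0 :=
    hf2S _ (Submodule.mem_sup_right (Submodule.mem_span_singleton_self _))
  have he1f2 : polar ⇑Q e1 f2 = 0 := by rw [pl_comm]; exact hf2e1
  have hf1f2 : polar ⇑Q f1 f2 = 0 := by rw [pl_comm]; exact hf2f1
  have hf1e1 : polar ⇑Q f1 e1 = 1 := by rw [pl_comm]; exact hef1
  have hf2e2 : polar ⇑Q f2 e2 = 1 := by rw [pl_comm]; exact hef2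
  have he2e1' : polar ⇑Q e2 e1 = 0 := by rw [pl_comm]; exact he2e1
  have he2f1' : polar ⇑Q e2 f1 = 0 := by rw [pl_comm]; exact he2f1
  refine ⟨e1 + f1, W.add_mem (hUW he1) hf1, e1 + e2 + f2, W.add_mem (W.add_mem (hUW he1) (hUW he2)) hf2,
    e1, hUW he1, he10, hQe1, ?_, ?_, ?_, fun x hx hQx => ?_⟩
  · rw [Q_add, hQe1, hQf1, hef1]; ring
  · rw [Q_add, Q_add, hQe1, hQe2, hQf2, he2e1, pl_add_left, he1f2, hef2]; ring
  · simp only [pl_add_left, pl_add_right, pl_self, hQe1, he2e1, he1f2, hf1e1, he2f1, hf1f2]; ring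
  have h := exists_coords (Q := Q) hr ![e1, f1, e2, f2] ![f1, e1, f2, e2]
    (by simp [Fin.forall_fin_succ, hUW he1, hf1, hUW he2, hf2])
    (by simp [Fin.forall_fin_succ, pl_self, hQe1, hQf1, hQe2, hQf2, hef1, hf1e1, hef2, hf2e2, he1f2,
      he2e1, he2e1', hf1f2, he2f1, he2f1', hf2e1, hf2f1]) hx
  rw [Fin.sum_univ_four] at h
  simp only [Matrix.cons_val_zero, Matrix.cons_val_one, Matrix.cons_val] at h
  set α := polar ⇑Q x f1
  set β := polar ⇑Q x e1
  set γ := polar ⇑Q x f2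
  set δ := polar ⇑Q x e2
  rw [h] at hQx
  simp only [Q_add, Q_smul, pl_add_left, pl_smul_left, pl_smul_right, hQe1, hQf1, hQe2, hQf2, hef1,
    he2e1, he2f1, he1f2, hf1f2, hef2, mul_zero, mul_one, add_zero, zero_add] at hQx
  have hxa : polar ⇑Q x (e1 + f1) = α + β := by rw [pl_add_right]; exact add_comm _ _
  have hxb : polar ⇑Q x (e1 + e2 + f2) = β + δ + γ := by rw [pl_add_right, pl_add_right]
  rw [hxa, hxb]
  have h11 : (1 : F) + 1 = 0 := by rw [one_add_one_eq_two, hc]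
  rcases h01 α with a1 | a1 <;> rcases h01 β with b1 | b1 <;> rcases h01 γ with c1 | c1 <;>
    rcases h01 δ with d1 | d1 <;> simp [a1, b1, c1, d1, h11] at hQx <;>
    simp only [a1, b1, c1, d1, one_smul, zero_smul, add_zero, zero_add] at h <;>
    first
    | (refine .inr ⟨?_, ?_⟩ <;> simp [a1, b1, c1, d1, h11]; done)
    | (refine .inl ⟨0, 1, ?_⟩; rw [h]; module)
    | (refine .inl ⟨1, 0, ?_⟩; rw [h]; module)
    | (refine .inl ⟨1, 1, ?_⟩
       have : (2 : F) • e1 = 0 := by rw [hc, zero_smul]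
       rw [h, ← sub_eq_zero]
       linear_combination (norm := module) this)

/-- The non-maximal decomposition stabilisers over `𝔽₃`. -/
theorem exists_between_three (hG : Good Q) (hF : Fintype.card F = 3) (hn : 13 ≤ Fintype.card ι)
    (hD : Geo.IsOrthogonalMDecomposition ⇑Q k D) (hk : k = 2 ∨ k = 3) :
    ∃ K : Subgroup (GL ι F), Geo.decompositionStabilizer D ⊓ Geo.omegaGL ⇑Q < K ∧
      K < Geo.omegaGL ⇑Q := by
  have h3 : (3 : F) = 0 := by
    have := FiniteField.cast_card_eq_zero F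
    rw [hF] at this
    exact_mod_cast this
  have h2 : (2 : F) ≠ 0 := fun h => one_ne_zero (α := F) (by linear_combination h3 - h)
  have ht := card_le_mul hD
  have ht4 : 4 ≤ t := by rcases hk with rfl | rfl <;> omega
  let i0 : Fin t := ⟨0, by omega⟩
  obtain ⟨a, ha, hQa, hl⟩ : ∃ a ∈ D i0, Q a ≠ 0 ∧
      ∀ x ∈ D i0, Q x = Q a → x ∈ F ∙ a ∨ polar ⇑Q x a = 0 := by
    rcases hk with rfl | rfl
    · obtain ⟨a, ha, hQa⟩ := exists_Q_eq_in (Q := Q) (D i0) (member_nondeg hD i0)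
        (by rw [hD.decomp.decomp.finrank_eq]) 1
      refine ⟨a, ha, by rw [hQa]; exact one_ne_zero, fun x hx hQx =>
        line_of_orth_anisotropic hF h2 ha (by rw [hQa]; exact one_ne_zero) (fun y hy hya hQy => ?_) hx hQx⟩
      by_contra hy0
      obtain ⟨f, hf, hQf, hyf⟩ := exists_hpair_in hG.nd (member_nondeg hD i0) hy hy0 hQy
      obtain ⟨-, hq⟩ := coords_two (hD.decomp.decomp.finrank_eq i0) hy hf hQy hQf hyf ha
      rw [pl_comm Q a y, hya, mul_zero, hQa] at hq
      exact one_ne_zero hq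
    · exact exists_line_three hG.nd hF h2 (member_nondeg hD i0) (hD.decomp.decomp.finrank_eq i0)
  exact exists_between_line hG h2 (by omega) hD (by omega) 4
    (by push_cast; linear_combination h3) (by omega) ht4 ha hQa hl

theorem exists_sing_of_plus {W : Submodule F (ι → F)} (h : Geo.IsPlusTypeOn ⇑Q W)
    (hr : finrank F W = 2) : ∃ e ∈ W, e ≠ 0 ∧ Q e = 0 := by
  obtain ⟨U, hUW, hU, hUr⟩ := h
  obtain ⟨e, he, he0⟩ := Submodule.exists_mem_ne_zero_of_ne_bot (p := U)
    (fun h => by rw [h, finrank_bot] at hUr; omega)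
  exact ⟨e, hUW he, he0, hU e he⟩

theorem exists_between_plus (hG : Good Q) (hn : 13 ≤ Fintype.card ι)
    (hD : Geo.IsOrthogonalMDecomposition ⇑Q k D) (hpl : ∀ i, Geo.IsPlusTypeOn ⇑Q (D i))
    (hcase : (k = 2 ∧ (Fintype.card F = 2 ∨ Fintype.card F = 4 ∨ Fintype.card F = 5)) ∨
      (k = 4 ∧ Fintype.card F = 2)) :
    ∃ K : Subgroup (GL ι F), Geo.decompositionStabilizer D ⊓ Geo.omegaGL ⇑Q < K ∧
      K < Geo.omegaGL ⇑Q := by
  have ht := card_le_mul hD
  have hq := FiniteField.cast_card_eq_zero F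
  rcases hcase with ⟨rfl, hF⟩ | ⟨rfl, hF⟩
  · let i0 : Fin t := ⟨0, by omega⟩
    have hr := hD.decomp.decomp.finrank_eq i0
    obtain ⟨e, he, he0, hQe⟩ := exists_sing_of_plus (hpl i0) hr
    obtain ⟨f, hf, hQf, hef⟩ := exists_hpair_in hG.nd (member_nondeg hD i0) he he0 hQe
    have hQu : Q (e + f) = 1 := by rw [Q_add, hQe, hQf, hef]; ring
    have hue : polar ⇑Q (e + f) e ≠ 0 := by
      rw [pl_add_left, pl_self, hQe, pl_comm Q f e, hef, mul_zero, zero_add]; exact one_ne_zero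
    by_cases hF5 : Fintype.card F = 5
    · rw [hF5] at hq
      have h5 : (5 : F) = 0 := by exact_mod_cast hq
      have h2 : (2 : F) ≠ 0 := fun h => one_ne_zero (α := F) (by linear_combination h5 - 2 * h)
      refine exists_between_line hG h2 (by omega) hD le_rfl 6 (by push_cast; linear_combination h5)
        (by omega) (by omega) ((D i0).add_mem he hf) (by rw [hQu]; exact one_ne_zero) fun x hx hQx => ?_
      exact line_plus_five hF5 hr he hf hQe hQf hef hx (hQx.trans hQu)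
    · have hF' : Fintype.card F = 2 ∨ Fintype.card F = 4 := by omega
      have hc : (2 : F) = 0 := by
        rcases hF' with h | h <;> rw [h] at hq
        · exact_mod_cast hq
        · have : (2 : F) * 2 = 0 := by norm_num; exact_mod_cast hq
          exact mul_self_eq_zero.1 this
      have hcube : ∀ a : F, a ≠ 0 → a ^ 3 = 1 := fun a ha => by
        have := FiniteField.pow_card_sub_one_eq_one a ha
        rcases hF' with h | h <;> rw [h] at this
        · rw [pow_one] at this; rw [this, one_pow]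
        · exact this
      exact exists_between_additive hG hc (by omega) hD (by omega)
        (fun x hx y hy => add_or_one_of_cube hc hcube hr he hf hQe hQf hef hx hy)
        ((D i0).add_mem he hf) hQu he hQe hue
  · let i0 : Fin t := ⟨0, by omega⟩
    have hr := hD.decomp.decomp.finrank_eq i0
    rw [hF] at hq
    have hc : (2 : F) = 0 := by exact_mod_cast hq
    have h01 : ∀ a : F, a = 0 ∨ a = 1 := fun a => or_iff_not_imp_left.2 fun ha => by
      have := FiniteField.pow_card_sub_one_eq_one a ha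
      rwa [hF, pow_one] at this
    obtain ⟨U, hUW, hU, hUr⟩ := hpl i0
    obtain ⟨a, ha, b, hb, e, he, he0, hQe, hQa, hQb, hab, hl⟩ := exists_plane_base hG.nd h01 hc
      (member_nondeg hD i0) hr hUW hU (by omega)
    exact exists_between_plane hG hc (by omega) hD (by omega) (by omega) ha hb he he0 hQe hQa hQb hab hl

end Cfsg.Agent.Orth
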