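import Cfsg.Agent.Lib.Orth.Singular

/-!
# Stabilisers of totally singular subspaces are maximal in `Ω`

* `eichCentres Q M` : singular points whose Eichler group lies in `M`
* `omegaGL_le_of_centres` : two non-orthogonal centres give all of `Ω`
* `singular_stabilizer_maximal`
-/

set_option autoImplicit false

namespace Cfsg.Agent.Orth

open Cfsg Matrix Module
open QuadraticMap (polar)

variable {ι : Type} [Fintype ι] [DecidableEq ι] {F : Type*} [Field F]
variable {Q : QuadraticForm F (ι → F)}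

/-- The vectors whose Eichler group lies in `M`. -/
def eichCentres (Q : QuadraticForm F (ι → F)) (M : Subgroup (GL ι F)) : Set (ι → F) :=
  {u | Q u = 0 ∧ ∀ w, (eich Q u w : GL ι F) ∈ M}

theorem eichCentres_smul {M : Subgroup (GL ι F)} {u : ι → F} (hu : u ∈ eichCentres Q M) (c : F) :
    c • u ∈ eichCentres Q M :=
  ⟨by rw [Q_smul, hu.1, mul_zero], fun w => by rw [eich_smul_left]; exact hu.2 _⟩

theorem eichCentres_ap {M : Subgroup (GL ι F)} {g : IsoGrp Q} (hg : (g : GL ι F) ∈ M) {u : ι → F}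
    (hu : u ∈ eichCentres Q M) : ap g u ∈ eichCentres Q M := by
  refine ⟨by rw [Q_ap, hu.1], fun w => ?_⟩
  rw [← ap_ap_inv g w, ← conj_eich, Subgroup.coe_mul, Subgroup.coe_mul, Subgroup.coe_inv]
  exact mul_mem (mul_mem hg (hu.2 _)) (inv_mem hg)

/-- Two non-orthogonal centres give all of `Ω`. -/
theorem omegaGL_le_of_centres [Fintype F] (hG : Good Q) (hn : 5 ≤ Fintype.card ι)
    {M : Subgroup (GL ι F)} {a b : ι → F} (ha : a ∈ eichCentres Q M) (hb : b ∈ eichCentres Q M)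
    (hab : polar ⇑Q a b ≠ 0) : Geo.omegaGL ⇑Q ≤ M := by
  have hp : HPair Q a ((polar ⇑Q a b)⁻¹ • b) :=
    ⟨ha.1, by rw [Q_smul, hb.1, mul_zero], by rw [pl_smul_right, inv_mul_cancel₀ hab]⟩
  intro g hg
  obtain ⟨h, hh, rfl⟩ := mem_omegaGL_iff.1 hg
  rw [omega_eq_eichPair hG (by omega) (.inr hn) hp] at hh
  have hle : eichPair Q a ((polar ⇑Q a b)⁻¹ • b) ≤ M.comap (isometryGroup F ⇑Q).subtype := by
    rw [eichPair, Subgroup.closure_le]
    rintro _ ⟨w, -, rfl | rfl⟩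
    · exact ha.2 w
    · exact (eichCentres_smul hb _).2 w
  exact hle hh

theorem eich_mem_omegaGL [Fintype F] (hG : Good Q) (hn : 5 ≤ Fintype.card ι) (u w : ι → F) :
    (eich Q u w : GL ι F) ∈ Geo.omegaGL ⇑Q :=
  coe_mem_omegaGL.2 (eichGen_le_omega hG.nd (by omega) (.inr hn) (eich_mem_eichGen u w))

theorem singular_stabilizer_maximal [Fintype F] (hG : Good Q) (hn : 5 ≤ Fintype.card ι)
    {W : Submodule F (ι → F)} (hW0 : W ≠ ⊥) (hW : ∀ w ∈ W, Q w = 0)
    (hcase : 2 * finrank F W + 3 ≤ Fintype.card ι ∨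
      ∀ U : Submodule F (ι → F), (∀ u ∈ U, Q u = 0) → finrank F U ≤ finrank F W) :
    Geo.IsMaximalIn (Geo.omegaGL ⇑Q) (Geo.subspaceStabilizer W ⊓ Geo.omegaGL ⇑Q) := by
  classical
  obtain ⟨g0, hg0, x0, hx0, hgx0⟩ := exists_omega_move_max hG (by omega) hW0 hW
  refine ⟨lt_of_le_of_ne inf_le_right fun heq => ?_, fun M hHM hMK => ?_⟩
  · have h : (g0 : GL ι F) ∈ Geo.subspaceStabilizer W ⊓ Geo.omegaGL ⇑Q := by
      rw [heq]; exact coe_mem_omegaGL.2 hg0
    exact hgx0 (coe_mem_stabilizer.1 h.1 x0 hx0)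
  by_cases hM : ∀ g ∈ M, g ∈ Geo.subspaceStabilizer W
  · exact .inl (le_antisymm (le_inf hM hMK) hHM)
  refine .inr (le_antisymm hMK ?_)
  push Not at hM
  obtain ⟨g, hgM, hgW⟩ := hM
  obtain ⟨h, -, rfl⟩ := mem_omegaGL_iff.1 (hMK hgM)
  rw [coe_mem_stabilizer] at hgW
  push Not at hgW
  obtain ⟨w, hwW, hx⟩ := hgW
  have hWS : ∀ a ∈ W, a ∈ eichCentres Q M := fun a ha => ⟨hW a ha, fun v => hHM
    ⟨coe_mem_stabilizer.2 fun y hy => by
      by_cases hv : polar ⇑Q a v = 0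
      · rw [eich_ap (hW a ha) hv, OrthAct.polar_eq_zero_of_singular hW ha hy, zero_smul, add_zero]
        exact W.sub_mem hy (W.smul_mem _ ha)
      · rwa [eich_eq_one (fun h => hv h.2), ap_one], eich_mem_omegaGL hG hn a v⟩⟩
  set x := ap h w
  have hxS : x ∈ eichCentres Q M := eichCentres_ap hgM (hWS w hwW)
  by_cases hxp : x ∈ perpSub Q W
  swap
  · rw [mem_perpSub] at hxp
    push Not at hxp
    obtain ⟨a, ha, hax⟩ := hxp
    exact omegaGL_le_of_centres hG hn (hWS a ha) hxS hax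
  rcases hcase with hcase | hmax
  swap
  · exfalso
    have hsing : ∀ u ∈ W ⊔ F ∙ x, Q u = 0 := by
      intro u hu
      obtain ⟨a, ha, z, hz, rfl⟩ := Submodule.mem_sup.1 hu
      obtain ⟨t, rfl⟩ := Submodule.mem_span_singleton.1 hz
      rw [Q_add, Q_smul, pl_smul_right, hW a ha, hxS.1, mem_perpSub.1 hxp a ha]; ring
    have h1 := Submodule.finrank_lt_finrank_of_lt (lt_of_le_of_ne (le_sup_left : W ≤ W ⊔ F ∙ x)
      fun heq => hx (heq ▸ Submodule.mem_sup_right (Submodule.mem_span_singleton_self x)))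
    have h2 := hmax _ hsing
    omega
  -- a partner of `x` inside the orthogonal
  obtain ⟨y0, hy0, hxy0⟩ : ∃ y0 ∈ perpSub Q W, polar ⇑Q x y0 ≠ 0 := by
    by_contra! hall
    refine hx ?_
    rw [← perpSub_perpSub hG.nd W]
    exact mem_perpSub.2 fun y hy => by rw [pl_comm]; exact hall y hy
  obtain ⟨y1, hy1, hxy1⟩ : ∃ y1 ∈ perpSub Q W, polar ⇑Q x y1 = 1 :=
    ⟨(polar ⇑Q x y0)⁻¹ • y0, Submodule.smul_mem _ _ hy0, by rw [pl_smul_right, inv_mul_cancel₀ hxy0]⟩
  set y := y1 - Q y1 • x with hy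
  have hyp : y ∈ perpSub Q W := Submodule.sub_mem _ hy1 (Submodule.smul_mem _ _ hxp)
  have hp : HPair Q x y := ⟨hxS.1, by
    rw [hy, Q_sub, Q_smul, hxS.1, pl_smul_right, pl_comm, hxy1]; ring, by
    rw [hy, pl_sub_right, pl_smul_right, pl_self, hxS.1, hxy1]; ring⟩
  obtain ⟨v, hv, hQv⟩ : ∃ v ∈ perpSub Q W ⊓ perp Q x y, Q v ≠ 0 := by
    by_contra! h0
    have h1 := isotropic_perp_bound hG.nd hp (perpSub Q W ⊓ perp Q x y) inf_le_right fun a ha b hb =>
      show polar ⇑Q a b = 0 by simp [polar, h0 a ha, h0 b hb, h0 _ (Submodule.add_mem _ ha hb)]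
    have h2 := Submodule.finrank_sup_add_finrank_inf_eq (perpSub Q W) (perp Q x y)
    have h3 := card_le_finrank_perp (Q := Q) x y
    have h4 := Submodule.finrank_le (perpSub Q W ⊔ perp Q x y)
    rw [finrank_perpSub hG.nd] at h2
    rw [finrank_space] at h4
    omega
  obtain ⟨hxv, hyv⟩ := mem_perp.1 hv.2
  have hK : (eich Q y v : GL ι F) ∈ M := hHM ⟨coe_mem_stabilizer.2 fun a ha => by
    rw [eich_ap hp.qf hyv]
    have e1 : polar ⇑Q y a = 0 := by rw [pl_comm]; exact mem_perpSub.1 hyp a ha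
    have e2 : polar ⇑Q v a = 0 := by rw [pl_comm]; exact mem_perpSub.1 hv.1 a ha
    rw [e1, e2, zero_smul, add_zero, mul_zero, add_zero, zero_smul, sub_zero]
    exact ha, eich_mem_omegaGL hG hn y v⟩
  refine omegaGL_le_of_centres hG hn hxS (eichCentres_ap hK hxS) ?_
  rw [eich_ap hp.qf hyv, pl_sub_right, pl_add_right, pl_smul_right, pl_smul_right, pl_self, hxS.1,
    hxv, hp.pf, pl_comm Q y x, hp.pf, pl_comm Q v x, hxv]
  simpa using hQv

end Cfsg.Agent.Orth
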