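import Cfsg.Agent.Lib.Orth.Iso
import Cfsg.Agent.Lib.Linear.SLn
import Cfsg.Agent.Lib.GLOrder.Basic

/-!
# Small facts on `SL_n` and counting for the low-rank isomorphisms

* `slTwo_hom_trivial` : `SL₂(q)`, `q ≥ 3`, has no non-trivial character to `ℤˣ`
* `sl_hom_trivial` : the same for `n ≥ 3`
* `card_eq_two_of_iff` : a kernel `{1, z}`
-/

set_option autoImplicit false
set_option linter.unusedSectionVars false

namespace Cfsg.Agent.Orth

open Cfsg Matrix

variable {F : Type*} [Field F]

theorem sl_hom_trivial {n : ℕ} (hn : 3 ≤ n) (χ : SpecialLinearGroup (Fin n) F →* ℤˣ) : χ = 1 :=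
  units_hom_eq_one_of_perfect (Linear.commutator_sl_eq_top (.inl (by simpa using hn))) χ

theorem slTwo_hom_trivial [Fintype F] (hF : 3 ≤ Fintype.card F)
    (χ : SpecialLinearGroup (Fin 2) F →* ℤˣ) : χ = 1 := by
  classical
  by_cases h2 : (2 : F) = 0
  · refine units_hom_eq_one_of_perfect (Linear.commutator_sl_eq_top (.inr ?_)) χ
    obtain ⟨x, hx0, hx1⟩ := exists_scalar_of_card (F := F) (by omega)
    refine ⟨x, hx0, fun h => hx1 ?_⟩
    have : (x - 1) * (x - 1) = 0 := by linear_combination h + (1 - x) * h2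
    exact sub_eq_zero.1 (mul_self_eq_zero.1 this)
  · refine units_hom_eq_one_of_closure _ (Linear.closure_slTvSet (ι := Fin 2) (F := F)) ?_ χ
    rintro _ ⟨i, j, hij, c, rfl⟩
    refine ⟨SpecialLinearGroup.transvection hij (c / 2), Subtype.ext ?_⟩
    show Matrix.transvection i j (c / 2) * Matrix.transvection i j (c / 2) = Matrix.transvection i j c
    rw [Matrix.transvection_mul_transvection_same (h := hij)]
    congr 1
    field_simp
    ring

theorem card_ker_of_iff {G H : Type*} [Group G] [Group H] (φ : G →* H) (z : G)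
    (h : ∀ g, φ g = 1 ↔ g = 1 ∨ g = z) : Nat.card φ.ker ≤ 2 ∧ (z ≠ 1 → Nat.card φ.ker = 2) ∧
      (z = 1 → Nat.card φ.ker = 1) := by
  classical
  have hset : (φ.ker : Set G) = {1, z} := by
    ext g; simpa [MonoidHom.mem_ker] using h g
  have hc : Nat.card φ.ker = ({1, z} : Set G).ncard := by
    rw [← hset, ← Nat.card_coe_set_eq]; rfl
  refine ⟨?_, fun hz => ?_, fun hz => ?_⟩
  · rw [hc]
    exact (Set.ncard_insert_le _ _).trans (by simp)
  · rw [hc, Set.ncard_pair (Ne.symm hz)]
  · rw [hc, hz]; simp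

theorem ker_le_center_of_iff {G H : Type*} [Group G] [Group H] (φ : G →* H) (z : G)
    (h : ∀ g, φ g = 1 ↔ g = 1 ∨ g = z) (hz : z ∈ Subgroup.center G) :
    φ.ker ≤ Subgroup.center G := fun g hg => by
  rcases (h g).1 hg with rfl | rfl
  · exact one_mem _
  · exact hz

end Cfsg.Agent.Orth
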