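import Cfsg.Agent.Lib.Orth.Basic

/-!
# Orthogonal groups: generation by reflections, determinant, transitivity

* `resSpace g` : the range of `g - 1`; `orthogonal` of the fixed space
* `resSpace_refl_mul` : `v ∉ [V,g]` implies `[V, r_v g] = [V,g] ⊕ F v`
* `closure_refl_eq_top` : `O(Q) = ⟨reflections⟩` unless `|F| = 2`, `n = 4` (any field)
* `det_sq_eq_one`, `det_eq_pow`
* `exists_ap_eq` : transitivity on vectors of a given non-zero norm (Witt)
-/

set_option autoImplicit false
set_option linter.unusedSectionVars false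

namespace Cfsg.Agent.Orth

open Cfsg Matrix Module
open QuadraticMap (polar)

variable {ι : Type} [Fintype ι] [DecidableEq ι] {F : Type*} [Field F]
variable {Q : QuadraticForm F (ι → F)}

/-- The space `[V, g]`, the range of `g - 1`. -/
def resSpace (g : IsoGrp Q) : Submodule F (ι → F) := LinearMap.range (ap g - LinearMap.id)

theorem mem_resSpace {g : IsoGrp Q} {w : ι → F} : w ∈ resSpace g ↔ ∃ x, ap g x - x = w := Iff.rfl

theorem sub_mem_resSpace (g : IsoGrp Q) (x : ι → F) : ap g x - x ∈ resSpace g := ⟨x, rfl⟩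

/-- A reflection subgroup. -/
def reflGen (Q : QuadraticForm F (ι → F)) : Subgroup (IsoGrp Q) := Subgroup.closure (Set.range (refl Q))

theorem refl_mem_reflGen (v : ι → F) : refl Q v ∈ reflGen Q := Subgroup.subset_closure ⟨v, rfl⟩

/-- A fixed vector is orthogonal to `[V, g]`. -/
theorem polar_fix_resSpace {g : IsoGrp Q} {z w : ι → F} (hz : ap g z = z) (hw : w ∈ resSpace g) :
    polar ⇑Q z w = 0 := by
  obtain ⟨x, rfl⟩ := mem_resSpace.1 hw
  rw [pl_sub_right, sub_eq_zero]
  conv_lhs => rw [← hz, polar_ap]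

theorem fix_of_orth (hQ : Q.polarBilin.Nondegenerate) {g : IsoGrp Q} {z : ι → F}
    (h : ∀ w ∈ resSpace g, polar ⇑Q z w = 0) : ap g z = z := by
  by_contra hne
  obtain ⟨y, hy⟩ := exists_polar_ne hQ (sub_ne_zero.2 hne)
  apply hy
  have h1 := h _ (sub_mem_resSpace g (ap g⁻¹ y))
  rw [ap_ap_inv, pl_sub_right] at h1
  have h2 : polar ⇑Q (ap g z) y = polar ⇑Q z (ap g⁻¹ y) := by
    rw [← polar_ap g z, ap_ap_inv]
  rw [pl_sub_left, h2, ← neg_sub, h1, neg_zero]

theorem exists_fix_polar_ne (hQ : Q.polarBilin.Nondegenerate) {g : IsoGrp Q} {v : ι → F}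
    (hv : v ∉ resSpace g) : ∃ x, ap g x = x ∧ polar ⇑Q x v ≠ 0 := by
  by_contra! h
  apply hv
  have hR : Q.polarBilin.IsRefl := fun x y hxy => by
    show polar ⇑Q y x = 0
    rw [pl_comm]; exact hxy
  rw [← LinearMap.BilinForm.orthogonal_orthogonal hQ hR (resSpace g)]
  intro z hz
  show polar ⇑Q z v = 0
  exact h z (fix_of_orth hQ fun w hw => by rw [pl_comm]; exact hz w hw)

theorem refl_mul_sub {g : IsoGrp Q} (v x : ι → F) :
    ap (refl Q v * g) x - x = (ap g x - x) - ((Q v)⁻¹ * polar ⇑Q v (ap g x)) • v := by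
  rw [ap_mul, refl_ap]; abel

/-- With `v ∉ [V,g]` a preimage can be adjusted. -/
theorem exists_pre (hQ : Q.polarBilin.Nondegenerate) {g : IsoGrp Q} {v : ι → F}
    (hv : v ∉ resSpace g) {w : ι → F} (hw : w ∈ resSpace g) :
    ∃ x, ap g x - x = w ∧ polar ⇑Q v (ap g x) = 0 := by
  obtain ⟨x0, hx0, hne⟩ := exists_fix_polar_ne hQ hv
  obtain ⟨x, rfl⟩ := mem_resSpace.1 hw
  refine ⟨x - (polar ⇑Q v (ap g x) / polar ⇑Q v x0) • x0, ?_, ?_⟩
  · rw [map_sub, map_smul, hx0]; abel
  · rw [map_sub, map_smul, hx0, pl_sub_right, pl_smul_right,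
      div_mul_cancel₀ _ (by rw [pl_comm]; exact hne), sub_self]

theorem exists_pre_self (hQ : Q.polarBilin.Nondegenerate) {g : IsoGrp Q} {v : ι → F}
    (hQv : Q v ≠ 0) (hv : v ∉ resSpace g) :
    ∃ x, ap g x = x ∧ polar ⇑Q v x = -Q v ∧ ap (refl Q v * g) x - x = v := by
  obtain ⟨x0, hx0, hne⟩ := exists_fix_polar_ne hQ hv
  rw [pl_comm] at hne
  refine ⟨(-Q v / polar ⇑Q v x0) • x0, by rw [map_smul, hx0], ?_, ?_⟩
  · rw [pl_smul_right, div_mul_cancel₀ _ hne]
  · rw [refl_mul_sub, map_smul, hx0, sub_self, pl_smul_right, div_mul_cancel₀ _ hne,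
      mul_neg, inv_mul_cancel₀ hQv, neg_one_smul, zero_sub, neg_neg]

theorem resSpace_refl_mul (hQ : Q.polarBilin.Nondegenerate) {g : IsoGrp Q} {v : ι → F}
    (hQv : Q v ≠ 0) (hv : v ∉ resSpace g) :
    resSpace (refl Q v * g) = resSpace g ⊔ (F ∙ v) := by
  apply le_antisymm
  · rintro _ ⟨x, rfl⟩
    show ap (refl Q v * g) x - x ∈ _
    rw [refl_mul_sub]
    exact Submodule.sub_mem _ (Submodule.mem_sup_left (sub_mem_resSpace g x))
      (Submodule.mem_sup_right (Submodule.smul_mem _ _ (Submodule.mem_span_singleton_self v)))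
  · refine sup_le (fun w hw => ?_) ?_
    · obtain ⟨x, hx, hvx⟩ := exists_pre hQ hv hw
      exact mem_resSpace.2 ⟨x, by rw [refl_mul_sub, hx, hvx, mul_zero, zero_smul, sub_zero]⟩
    · rw [Submodule.span_singleton_le_iff_mem]
      obtain ⟨x, -, -, hx⟩ := exists_pre_self hQ hQv hv
      exact ⟨x, hx⟩

theorem finrank_resSpace_refl_mul (hQ : Q.polarBilin.Nondegenerate) {g : IsoGrp Q} {v : ι → F}
    (hQv : Q v ≠ 0) (hv : v ∉ resSpace g) :
    finrank F (resSpace (refl Q v * g)) = finrank F (resSpace g) + 1 := by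
  rw [resSpace_refl_mul hQ hQv hv]
  have hdis : resSpace g ⊓ (F ∙ v) = ⊥ := by
    rw [Submodule.eq_bot_iff]
    rintro w ⟨hw, hw'⟩
    obtain ⟨a, rfl⟩ := Submodule.mem_span_singleton.1 hw'
    by_contra hne
    exact hv ((Submodule.smul_mem_iff _ fun ha : a = 0 => hne (by simp [ha])).1 hw)
  have h := Submodule.finrank_sup_add_finrank_inf_eq (resSpace g) (F ∙ v)
  rw [hdis, finrank_bot, add_zero, finrank_span_singleton (fun h0 => hQv (by simp [h0]))] at h
  exact h

theorem not_mem_resSpace_refl_mul {g : IsoGrp Q} {v : ι → F}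
    (hQv : Q v ≠ 0) (hv : v ∈ resSpace g) : v ∉ resSpace (refl Q v * g) := by
  obtain ⟨y, hy⟩ := mem_resSpace.1 hv
  have hgy : ap g y = y + v := by rw [← hy]; abel
  have hfy : polar ⇑Q v y = -Q v := by
    have h := Q_ap g y
    rw [hgy, Q_add, pl_comm] at h
    linear_combination h
  have hfix : ap (refl Q v * g) y = y := by
    rw [ap_mul, hgy, refl_ap, pl_add_right, hfy, pl_self,
      show (Q v)⁻¹ * (-Q v + 2 * Q v) = 1 by field_simp; ring, one_smul, add_sub_cancel_right]
  intro hmem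
  have := polar_fix_resSpace hfix hmem
  rw [pl_comm, hfy, neg_eq_zero] at this
  exact hQv this

theorem finrank_resSpace_refl_mul_add_one (hQ : Q.polarBilin.Nondegenerate) {g : IsoGrp Q}
    {v : ι → F} (hQv : Q v ≠ 0) (hv : v ∈ resSpace g) :
    finrank F (resSpace (refl Q v * g)) + 1 = finrank F (resSpace g) := by
  have h := finrank_resSpace_refl_mul hQ hQv (not_mem_resSpace_refl_mul hQv hv)
  rw [← mul_assoc, refl_mul_self, one_mul] at h
  exact h.symm

theorem resSpace_one : resSpace (1 : IsoGrp Q) = ⊥ := by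
  rw [Submodule.eq_bot_iff]
  intro w hw
  obtain ⟨x, rfl⟩ := mem_resSpace.1 hw
  simp

theorem eq_one_of_resSpace_eq_bot {g : IsoGrp Q} (h : resSpace g = ⊥) : g = 1 := by
  refine ext_ap fun x => ?_
  have := sub_mem_resSpace g x
  rw [h, Submodule.mem_bot, sub_eq_zero] at this
  rw [this, ap_one]

theorem exists_two_polar_ne {u v : ι → F} {W : Submodule F (ι → F)}
    (hu : ∃ w ∈ W, polar ⇑Q u w ≠ 0) (hv : ∃ w ∈ W, polar ⇑Q v w ≠ 0) :
    ∃ w ∈ W, polar ⇑Q u w ≠ 0 ∧ polar ⇑Q v w ≠ 0 := by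
  obtain ⟨w1, h1, h1'⟩ := hu
  obtain ⟨w2, h2, h2'⟩ := hv
  by_cases ha : polar ⇑Q v w1 = 0
  · by_cases hb : polar ⇑Q u w2 = 0
    · exact ⟨w1 + w2, add_mem h1 h2, by rwa [pl_add_right, hb, add_zero],
        by rwa [pl_add_right, ha, zero_add]⟩
    · exact ⟨w2, h2, hb, h2'⟩
  · exact ⟨w1, h1, h1', ha⟩

theorem finrank_resSpace_add_fix (g : IsoGrp Q) :
    finrank F (resSpace g) + finrank F (LinearMap.ker (ap g - LinearMap.id)) = Fintype.card ι := by
  rw [resSpace, LinearMap.finrank_range_add_finrank_ker, finrank_space]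

/-- The key step for elements with totally singular `[V, g]`. -/
theorem exists_step (hQ : Q.polarBilin.Nondegenerate) {g : IsoGrp Q}
    (hTS : ∀ w ∈ resSpace g, Q w = 0) {v w0 : ι → F} (hQv : Q v ≠ 0) (hw0 : w0 ∈ resSpace g)
    (hvw : polar ⇑Q v w0 = 0) (h0 : w0 ≠ 0) (h1 : w0 + (ap g v - v) ≠ 0) :
    ∃ v1 v2 : ι → F, finrank F (resSpace (refl Q v2 * (refl Q v1 * g))) ≤ finrank F (resSpace g) ∧
      ∃ z ∈ resSpace (refl Q v2 * (refl Q v1 * g)), Q z ≠ 0 := by
  have hv : v ∉ resSpace g := fun h => hQv (hTS v h)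
  obtain ⟨x0, hx0, hfx0, hx0v⟩ := exists_pre_self hQ hQv hv
  obtain ⟨x1, hx1, hfx1⟩ := exists_pre hQ hv hw0
  have hgx1 : ap g x1 = x1 + w0 := by rw [← hx1]; abel
  have hvx1 : polar ⇑Q v x1 = 0 := by
    have h := hfx1
    rwa [hgx1, pl_add_right, hvw, add_zero] at h
  set g1 := refl Q v * g with hg1
  set v2 := v + w0 with hv2
  have hQv2 : Q v2 ≠ 0 := by rwa [hv2, Q_add, hvw, hTS w0 hw0, add_zero, add_zero]
  have hy : ap g1 (x0 + x1) - (x0 + x1) = v2 := by
    have e1 : ap g1 x1 - x1 = w0 := by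
      rw [hg1, refl_mul_sub, hfx1, hx1, mul_zero, zero_smul, sub_zero]
    rw [map_add, hv2, ← hx0v, ← e1]; abel
  have hmem2 : v2 ∈ resSpace g1 := ⟨_, hy⟩
  refine ⟨v, v2, ?_, ?_⟩
  · have h1' := finrank_resSpace_refl_mul_add_one hQ hQv2 hmem2
    have h2' := finrank_resSpace_refl_mul hQ hQv hv
    rw [← hg1] at h2'
    show finrank F (resSpace (refl Q v2 * g1)) ≤ _
    omega
  -- a vector `w` on which both functionals are non-zero
  have ha : ∃ w ∈ resSpace g, polar ⇑Q x1 w ≠ 0 := by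
    by_contra! h
    exact h0 (by rw [← hx1, fix_of_orth hQ h, sub_self])
  have hb : ∃ w ∈ resSpace g, polar ⇑Q (v + x1) w ≠ 0 := by
    by_contra! h
    have := fix_of_orth hQ h
    rw [map_add, hgx1] at this
    exact h1 (by linear_combination (norm := module) this)
  obtain ⟨w, hw, hwa, hwb⟩ := exists_two_polar_ne ha hb
  obtain ⟨xw, hxw, hfxw⟩ := exists_pre hQ hv hw
  set t := polar ⇑Q x1 w / Q v with ht
  have ht0 : t ≠ 0 := div_ne_zero hwa hQv
  have hzx : ap g1 (xw + t • x0) - (xw + t • x0) = w + t • v := by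
    have e1 : ap g1 xw - xw = w := by
      rw [hg1, refl_mul_sub, hfxw, hxw, mul_zero, zero_smul, sub_zero]
    rw [map_add, map_smul, ← e1, ← hx0v, smul_sub]; abel
  refine ⟨w + t • v, ⟨xw + t • x0, ?_⟩, ?_⟩
  · show ap (refl Q v2 * g1) (xw + t • x0) - (xw + t • x0) = _
    rw [refl_mul_sub, hzx]
    suffices h : polar ⇑Q v2 (ap g1 (xw + t • x0)) = 0 by
      rw [h, mul_zero, zero_smul, sub_zero]
    have hz : polar ⇑Q (w + t • v) (x0 + x1) = 0 := by
      rw [pl_add_left, pl_add_right, pl_add_right, pl_smul_left, pl_smul_left, hvx1, hfx0,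
        pl_comm Q w x0, polar_fix_resSpace hx0 hw, pl_comm Q w x1, ht]
      field_simp; ring
    rw [← hy, pl_sub_left, polar_ap, pl_comm Q (x0 + x1) (xw + t • x0),
      pl_comm Q (x0 + x1) (ap g1 _), ← pl_sub_left, ← neg_sub, pl_neg_left, hzx, hz, neg_zero]
  · rw [Q_add, Q_smul, pl_smul_right, hTS w hw, zero_add]
    have : t * t * Q v + t * polar ⇑Q w v = t * polar ⇑Q (v + x1) w := by
      rw [pl_add_left, pl_comm Q w v, ht]; field_simp; ring
    rw [this]
    exact mul_ne_zero ht0 hwb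

theorem mem_reflGen_of_refl_mul {g : IsoGrp Q} {v : ι → F} (h : refl Q v * g ∈ reflGen Q) :
    g ∈ reflGen Q := by
  have := (reflGen Q).mul_mem (refl_mem_reflGen v) h
  rwa [← mul_assoc, refl_mul_self, one_mul] at this

/-- `O(Q)` is generated by reflections, unless `|F| = 2` and `n = 4`. -/
theorem closure_refl_eq_top (hQ : Q.polarBilin.Nondegenerate)
    (h : (∃ c : F, c ≠ 0 ∧ c ≠ 1) ∨ Fintype.card ι ≠ 4) : reflGen Q = ⊤ := by
  suffices H : ∀ d, ∀ g : IsoGrp Q, finrank F (resSpace g) = d → g ∈ reflGen Q from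
    eq_top_iff.2 fun g _ => H _ g rfl
  intro d
  induction d using Nat.strong_induction_on with
  | _ d ih => ?_
  intro g hd
  by_cases hns : ∃ z ∈ resSpace g, Q z ≠ 0
  · obtain ⟨z, hz, hQz⟩ := hns
    refine mem_reflGen_of_refl_mul (v := z) (ih _ ?_ _ rfl)
    have := finrank_resSpace_refl_mul_add_one hQ hQz hz
    omega
  push Not at hns
  by_cases hbot : resSpace g = ⊥
  · rw [eq_one_of_resSpace_eq_bot hbot]; exact one_mem _
  -- totally singular case: find the data for `exists_step`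
  suffices hdata : ∃ v w0 : ι → F, Q v ≠ 0 ∧ w0 ∈ resSpace g ∧ polar ⇑Q v w0 = 0 ∧ w0 ≠ 0 ∧
      w0 + (ap g v - v) ≠ 0 by
    obtain ⟨v, w0, hQv, hw0, hvw, h0, h1⟩ := hdata
    obtain ⟨v1, v2, hle, z, hz, hQz⟩ := exists_step hQ hns hQv hw0 hvw h0 h1
    refine mem_reflGen_of_refl_mul (v := v1) (mem_reflGen_of_refl_mul (v := v2)
      (mem_reflGen_of_refl_mul (v := z) (ih _ ?_ _ rfl)))
    have := finrank_resSpace_refl_mul_add_one hQ hQz hz
    omega
  obtain ⟨w1, hw1, hw10⟩ := (Submodule.ne_bot_iff _).1 hbot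
  by_cases hfix : ∃ v, ap g v = v ∧ Q v ≠ 0
  · obtain ⟨v, hv, hQv⟩ := hfix
    exact ⟨v, w1, hQv, hw1, polar_fix_resSpace hv hw1, hw10,
      by rwa [hv, sub_self, add_zero]⟩
  push Not at hfix
  have hTS : ∀ w ∈ resSpace g, ∀ w' ∈ resSpace g, polar ⇑Q w w' = 0 := fun w hw w' hw' => by
    simp [polar, hns _ (add_mem hw hw'), hns w hw, hns w' hw']
  have hfixle : ∀ z, ap g z = z → z ∈ resSpace g := fun z hz => by
    by_contra hne
    obtain ⟨x, hx, hxz⟩ := exists_fix_polar_ne hQ hne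
    apply hxz
    simp [polar, hfix x hx, hfix z hz, hfix (x + z) (by rw [map_add, hx, hz])]
  have heq : LinearMap.ker (ap g - LinearMap.id) = resSpace g := by
    ext z
    simp only [LinearMap.mem_ker, LinearMap.sub_apply, LinearMap.id_apply, sub_eq_zero]
    exact ⟨hfixle z, fun hz => fix_of_orth hQ fun w hw => hTS z hz w hw⟩
  have hn : 2 * finrank F (resSpace g) = Fintype.card ι := by
    have := finrank_resSpace_add_fix g
    rw [heq] at this
    omega
  have hd1 : finrank F (resSpace g) ≠ 1 := by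
    intro h1
    obtain ⟨x, hx⟩ := mem_resSpace.1 hw1
    have hwx : polar ⇑Q w1 x = 0 := by
      have h2 := Q_ap g x
      rw [show ap g x = x + w1 by rw [← hx]; abel, Q_add, hns w1 hw1] at h2
      rw [pl_comm]; linear_combination h2
    -- `resSpace g = F w1` is then orthogonal to everything
    obtain ⟨y, hy⟩ := exists_polar_ne hQ hw10
    apply hy
    have hspan : resSpace g ⊔ (F ∙ x) = ⊤ := by
      apply Submodule.eq_top_of_finrank_eq
      have hxn : x ∉ resSpace g := fun hxm => hw10 (by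
        rw [← hx, fix_of_orth hQ (fun w hw => hTS x hxm w hw), sub_self])
      have h3 := Submodule.finrank_lt_finrank_of_lt
        (lt_of_le_of_ne (le_sup_left : resSpace g ≤ resSpace g ⊔ (F ∙ x)) fun e =>
          hxn (e ▸ Submodule.mem_sup_right (Submodule.mem_span_singleton_self x)))
      have h4 := Submodule.finrank_le (resSpace g ⊔ (F ∙ x))
      rw [finrank_space] at h4 ⊢
      omega
    obtain ⟨a, ha, b, hb, rfl⟩ := Submodule.mem_sup.1 (hspan ▸ Submodule.mem_top : y ∈ _)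
    obtain ⟨c, rfl⟩ := Submodule.mem_span_singleton.1 hb
    rw [pl_add_right, pl_smul_right, hwx, hTS w1 hw1 a ha, mul_zero, add_zero]
  obtain ⟨v, hQv⟩ : ∃ v, Q v ≠ 0 := by
    by_contra! hall
    obtain ⟨y, hy⟩ := exists_polar_ne hQ hw10
    exact hy (by simp [polar, hall])
  set K := resSpace g ⊓ LinearMap.ker (Q.polarBilin v) with hK
  have hKdim : finrank F (resSpace g) ≤ finrank F K + 1 := by
    have h5 := Submodule.finrank_sup_add_finrank_inf_eq (resSpace g) (LinearMap.ker (Q.polarBilin v))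
    have h6 := Submodule.finrank_le (resSpace g ⊔ LinearMap.ker (Q.polarBilin v))
    have h7 := LinearMap.finrank_range_add_finrank_ker (Q.polarBilin v)
    have h8 := Submodule.finrank_le (LinearMap.range (Q.polarBilin v))
    rw [finrank_space] at h6 h7
    rw [Module.finrank_self] at h8
    rw [hK]
    omega
  have hd0 : finrank F (resSpace g) ≠ 0 := fun h0 => hbot (Submodule.finrank_eq_zero.1 h0)
  obtain ⟨w2, hw2, hw20⟩ := (Submodule.ne_bot_iff K).1 (fun hK0 => by
    rw [hK0, finrank_bot] at hKdim; omega)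
  have hmemK : ∀ w ∈ K, w ∈ resSpace g ∧ polar ⇑Q v w = 0 := fun w hw => ⟨hw.1, hw.2⟩
  by_cases hbad : w2 + (ap g v - v) = 0
  · rcases h with ⟨c, hc0, hc1⟩ | hn4
    · refine ⟨v, c • w2, hQv, (hmemK _ (K.smul_mem c hw2)).1, (hmemK _ (K.smul_mem c hw2)).2,
        smul_ne_zero hc0 hw20, fun hcon => ?_⟩
      apply smul_ne_zero (sub_ne_zero.2 hc1) hw20
      rw [sub_smul, one_smul]
      linear_combination (norm := module) hcon - hbad
    · have hne : ¬ K ≤ (F ∙ w2) := fun hle => by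
        have := Submodule.finrank_mono hle
        rw [finrank_span_singleton hw20] at this
        omega
      obtain ⟨w3, hw3, hw3'⟩ := SetLike.not_le_iff_exists.1 hne
      refine ⟨v, w3, hQv, (hmemK _ hw3).1, (hmemK _ hw3).2, ?_, fun hcon => hw3' ?_⟩
      · rintro rfl; exact hw3' (zero_mem _)
      · rw [show w3 = w2 by linear_combination (norm := module) hcon - hbad]
        exact Submodule.mem_span_singleton_self w2
  · exact ⟨v, w2, hQv, (hmemK _ hw2).1, (hmemK _ hw2).2, hw20, hbad⟩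

/-! ### determinant -/

theorem det_sq_eq_one (hQ : Q.polarBilin.Nondegenerate) (g : IsoGrp Q) :
    ((g : GL ι F) : Matrix ι ι F).det * ((g : GL ι F) : Matrix ι ι F).det = 1 := by
  set M := ((g : GL ι F) : Matrix ι ι F) with hM
  set B : Matrix ι ι F := LinearMap.BilinForm.toMatrix' Q.polarBilin with hB
  have hdet : B.det ≠ 0 := LinearMap.BilinForm.nondegenerate_iff_det_ne_zero (Pi.basisFun F ι) |>.1 hQ
    |> fun h => by rwa [hB]
  have h : Mᵀ * B * M = B := by
    rw [hB, LinearMap.BilinForm.mul_toMatrix'_mul]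
    congr 1
    refine LinearMap.ext fun x => LinearMap.ext fun y => ?_
    show polar ⇑Q (Matrix.toLin' Mᵀᵀ x) (Matrix.toLin' M y) = polar ⇑Q x y
    rw [Matrix.transpose_transpose]
    exact polar_ap g x y
  have h2 := congrArg Matrix.det h
  rw [Matrix.det_mul, Matrix.det_mul, Matrix.det_transpose] at h2
  exact mul_right_cancel₀ hdet (by linear_combination h2)

theorem det_eq_one_or_neg_one (hQ : Q.polarBilin.Nondegenerate) (g : IsoGrp Q) :
    ((g : GL ι F) : Matrix ι ι F).det = 1 ∨ ((g : GL ι F) : Matrix ι ι F).det = -1 :=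
  mul_self_eq_one_iff.1 (det_sq_eq_one hQ g)

theorem det_eq_pow (hQ : Q.polarBilin.Nondegenerate) {g : IsoGrp Q} (hg : g ∈ reflGen Q) :
    ((g : GL ι F) : Matrix ι ι F).det = (-1) ^ finrank F (resSpace g) := by
  induction hg using Subgroup.closure_induction_left with
  | one => rw [resSpace_one, finrank_bot, pow_zero, coe_one_mat, Matrix.det_one]
  | mul_left x hx y _ ih =>
    obtain ⟨v, rfl⟩ := hx
    by_cases hQv : Q v = 0
    · rwa [refl_eq_one Q hQv, one_mul]
    · rw [coe_mul_mat, Matrix.det_mul, det_refl hQv, ih]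
      by_cases hv : v ∈ resSpace y
      · rw [← finrank_resSpace_refl_mul_add_one hQ hQv hv, pow_succ]; ring
      · rw [finrank_resSpace_refl_mul hQ hQv hv, pow_succ]; ring
  | inv_mul_cancel x hx y _ ih =>
    obtain ⟨v, rfl⟩ := hx
    rw [refl_inv]
    by_cases hQv : Q v = 0
    · rwa [refl_eq_one Q hQv, one_mul]
    · rw [coe_mul_mat, Matrix.det_mul, det_refl hQv, ih]
      by_cases hv : v ∈ resSpace y
      · rw [← finrank_resSpace_refl_mul_add_one hQ hQv hv, pow_succ]; ring
      · rw [finrank_resSpace_refl_mul hQ hQv hv, pow_succ]; ring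

/-! ### transitivity -/

/-- Vectors of the same non-zero norm are conjugate under the reflection group, unless
`|F| = 2`, `n = 4`. -/
theorem exists_ap_eq (hQ : Q.polarBilin.Nondegenerate)
    (h : (∃ c : F, c ≠ 0 ∧ c ≠ 1) ∨ Fintype.card ι ≠ 4) {u v : ι → F} (hu : Q u ≠ 0)
    (huv : Q v = Q u) : ∃ g ∈ reflGen Q, ap g u = v := by
  have hsub : Q (u - v) ≠ 0 → ∃ g ∈ reflGen Q, ap g u = v := fun h1 => by
    refine ⟨_, refl_mem_reflGen (u - v), ?_⟩
    rw [refl_ap, Q_sub, huv, pl_sub_left, pl_self, pl_comm Q v u]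
    have : Q u + Q u - polar ⇑Q u v ≠ 0 := by rwa [Q_sub, huv] at h1
    rw [show (2 * Q u - polar ⇑Q u v) = Q u + Q u - polar ⇑Q u v by ring, inv_mul_cancel₀ this,
      one_smul, sub_sub_cancel]
  by_cases h1 : Q (u - v) = 0
  swap; · exact hsub h1
  by_cases h2 : (2 : F) = 0
  swap
  · have h4 : Q (u + v) ≠ 0 := by
      intro h3
      rw [Q_sub, huv] at h1; rw [Q_add, huv] at h3
      have : (2 : F) * 2 * Q u = 0 := by linear_combination h1 + h3
      simp [h2, hu] at this
    refine ⟨refl Q v * refl Q (u + v), mul_mem (refl_mem_reflGen v) (refl_mem_reflGen _), ?_⟩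
    rw [ap_mul]
    have e : ap (refl Q (u + v)) u = -v := by
      rw [refl_ap, Q_add, huv, pl_add_left, pl_self, pl_comm Q v u]
      have : Q u + Q u + polar ⇑Q u v ≠ 0 := by rwa [Q_add, huv] at h4
      rw [show (2 * Q u + polar ⇑Q u v) = Q u + Q u + polar ⇑Q u v by ring, inv_mul_cancel₀ this,
        one_smul]; abel
    rw [e, map_neg, refl_ap_self Q (huv ▸ hu), neg_neg]
  -- characteristic two
  have huv0 : polar ⇑Q u v = 0 := by
    rw [Q_sub, huv] at h1; linear_combination -h1 + Q u * h2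
  rcases eq_or_ne u v with rfl | hne
  · exact ⟨1, one_mem _, ap_one u⟩
  have huu : polar ⇑Q u u = 0 := by rw [pl_self, h2, zero_mul]
  have hvv : polar ⇑Q v v = 0 := by rw [pl_self, h2, zero_mul]
  suffices hz : ∃ z, Q z ≠ 0 ∧ polar ⇑Q u z ≠ 0 ∧ polar ⇑Q v z ≠ 0 by
    obtain ⟨z, hQz, hzu, hzv⟩ := hz
    set w := ap (refl Q z) u with hw
    have hw1 : Q (w - v) ≠ 0 := by
      rw [Q_sub, hw, Q_ap, huv, refl_ap, pl_sub_left, pl_smul_left, huv0, pl_comm Q z v,
        pl_comm Q z u]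
      have : Q u + Q u = 0 := by linear_combination Q u * h2
      rw [this, zero_sub, zero_sub, neg_neg]
      exact mul_ne_zero (mul_ne_zero (inv_ne_zero hQz) hzu) hzv
    refine ⟨refl Q (w - v) * refl Q z, mul_mem (refl_mem_reflGen _) (refl_mem_reflGen _), ?_⟩
    rw [ap_mul, ← hw, refl_ap]
    have hQw : Q w = Q v := by rw [hw, Q_ap, huv]
    rw [Q_sub, hQw] at hw1 ⊢
    rw [pl_sub_left, pl_self, hQw, pl_comm Q v w]
    rw [show (2 * Q v - polar ⇑Q w v) = Q v + Q v - polar ⇑Q w v by ring, inv_mul_cancel₀ hw1,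
      one_smul, sub_sub_cancel]
  have hun : u ≠ 0 := fun e => hu (by simp [e])
  have hvn : v ≠ 0 := fun e => hu (by rw [← huv]; simp [e])
  obtain ⟨z0, -, hz0u, hz0v⟩ := exists_two_polar_ne (Q := Q) (u := u) (v := v) (W := ⊤)
    (by simpa using exists_polar_ne hQ hun) (by simpa using exists_polar_ne hQ hvn)
  by_contra! hall
  have hQz0 : Q z0 = 0 := by
    by_contra hq; exact hz0v (hall z0 hq hz0u)
  rcases h with ⟨c, hc0, hc1⟩ | hn4
  · have key : ∀ t : F, t ≠ 0 → t * Q u + polar ⇑Q z0 u = 0 := fun t ht => by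
      by_contra hne'
      have hQz : Q (z0 + t • u) ≠ 0 := by
        rw [Q_add, hQz0, Q_smul, pl_smul_right,
          show 0 + t * t * Q u + t * polar ⇑Q z0 u = t * (t * Q u + polar ⇑Q z0 u) by ring]
        exact mul_ne_zero ht hne'
      apply hz0v
      have := hall _ hQz (by rw [pl_add_right, pl_smul_right, huu, mul_zero, add_zero]; exact hz0u)
      rwa [pl_add_right, pl_smul_right, pl_comm Q v u, huv0, mul_zero, add_zero] at this
    apply hc1
    exact mul_right_cancel₀ hu (by linear_combination key c hc0 - key 1 one_ne_zero)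
  · -- no scalars: the orthogonal of `u, v` would be totally isotropic
    have hiso : ∀ x ∈ orthFam Q ![u, v], ∀ y ∈ orthFam Q ![u, v], polar ⇑Q x y = 0 := by
      have key : ∀ x ∈ orthFam Q ![u, v], Q (z0 + x) = 0 := fun x hx => by
        have hxu : polar ⇑Q u x = 0 := mem_orthFam.1 hx 0
        have hxv : polar ⇑Q v x = 0 := mem_orthFam.1 hx 1
        by_contra hq
        apply hz0v
        have := hall _ hq (by rw [pl_add_right, hxu, add_zero]; exact hz0u)
        rwa [pl_add_right, hxv, add_zero] at this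
      intro x hx y hy
      have e1 := key x hx
      have e2 := key y hy
      have e3 := key _ (add_mem hx hy)
      rw [Q_add, Q_add Q x y, pl_add_right, hQz0] at e3
      rw [Q_add, hQz0] at e1 e2
      linear_combination e3 - e1 - e2
    have hspan : ∀ x ∈ Submodule.span F {u, v}, ∀ y ∈ Submodule.span F {u, v}, polar ⇑Q x y = 0 := by
      intro x hx y hy
      obtain ⟨a, b, rfl⟩ := Submodule.mem_span_pair.1 hx
      obtain ⟨a', b', rfl⟩ := Submodule.mem_span_pair.1 hy
      simp only [pl_add_left, pl_add_right, pl_smul_left, pl_smul_right, huu, hvv, huv0,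
        pl_comm Q v u, mul_zero, add_zero]
    have hind : LinearIndependent F ![u, v] := by
      rw [LinearIndependent.pair_iff' hun]
      intro a ha
      apply hne
      have : a * a = 1 := by
        have hq := huv; rw [← ha, Q_smul] at hq
        exact mul_right_cancel₀ hu (by rw [hq, one_mul])
      rw [← ha]
      rcases mul_self_eq_one_iff.1 this with rfl | rfl
      · rw [one_smul]
      · rw [show (-1 : F) = 1 by linear_combination -h2, one_smul]
    have h6 := two_mul_finrank_le_of_isotropic hQ _ hspan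
    have h7 : finrank F (Submodule.span F ({u, v} : Set (ι → F))) = 2 := by
      have := finrank_span_eq_card hind
      rwa [show Set.range ![u, v] = {u, v} by ext; simp [eq_comm, or_comm], Fintype.card_fin] at this
    have h8 := two_mul_finrank_le_of_isotropic hQ _ hiso
    have h9 := card_le_finrank_orthFam (Q := Q) ![u, v]
    omega

end Cfsg.Agent.Orth
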