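import Cfsg.Agent.EqLemmas

/-!
# Orthogonal groups: basic API

`IsoGrp Q` is `Cfsg.isometryGroup F ⇑Q` for a quadratic form `Q` on `ι → F`.
* `ap g` : the linear map of `g`; `ext_ap`, `Q_ap`, `polar_ap`, `ap_inj`
* `refl Q v` : the reflection in `v` (identity when `Q v = 0`): `refl_ap`, `refl_mul_self`, `conj_refl`,
  `refl_smul`, `det_reflectionMatrix`
* `eich Q u w` : the Eichler transformation `x ↦ x + f(x,u) w - f(x,w) u - Q(w) f(x,u) u`
  (`Q u = 0`, `f(u,w) = 0`; identity otherwise): `eich_ap`, `eich_add`, `conj_eich`, `eich_smul_left`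
* linear algebra: `exists_polar_ne`, `exists_mem_orth`, `two_mul_finrank_le_of_isotropic`
-/

set_option autoImplicit false
set_option linter.unusedSectionVars false

namespace Cfsg.Agent.Orth

open Cfsg Matrix Module
open QuadraticMap (polar)

variable {ι : Type} [Fintype ι] [DecidableEq ι] {F : Type*} [Field F]

/-- The isometry group of a quadratic form on coordinate space. -/
abbrev IsoGrp (Q : QuadraticForm F (ι → F)) : Type _ := ↥(isometryGroup F ⇑Q)

variable (Q : QuadraticForm F (ι → F))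

/-! ### polar form rules -/

theorem Q_add (x y : ι → F) : Q (x + y) = Q x + Q y + polar ⇑Q x y := by
  simp only [polar]; ring

theorem Q_smul (a : F) (x : ι → F) : Q (a • x) = a * a * Q x := by
  rw [QuadraticMap.map_smul]; rfl

theorem pl_add_left (x x' y : ι → F) : polar ⇑Q (x + x') y = polar ⇑Q x y + polar ⇑Q x' y :=
  QuadraticMap.polar_add_left Q x x' y

theorem pl_add_right (x y y' : ι → F) : polar ⇑Q x (y + y') = polar ⇑Q x y + polar ⇑Q x y' :=
  QuadraticMap.polar_add_right Q x y y'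

theorem pl_sub_left (x x' y : ι → F) : polar ⇑Q (x - x') y = polar ⇑Q x y - polar ⇑Q x' y :=
  QuadraticMap.polar_sub_left Q x x' y

theorem pl_sub_right (x y y' : ι → F) : polar ⇑Q x (y - y') = polar ⇑Q x y - polar ⇑Q x y' :=
  QuadraticMap.polar_sub_right Q x y y'

theorem pl_smul_left (a : F) (x y : ι → F) : polar ⇑Q (a • x) y = a * polar ⇑Q x y :=
  QuadraticMap.polar_smul_left Q a x y

theorem pl_smul_right (a : F) (x y : ι → F) : polar ⇑Q x (a • y) = a * polar ⇑Q x y :=
  QuadraticMap.polar_smul_right Q a x y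

theorem pl_comm (x y : ι → F) : polar ⇑Q x y = polar ⇑Q y x := QuadraticMap.polar_comm ⇑Q x y

theorem pl_self (x : ι → F) : polar ⇑Q x x = 2 * Q x := by
  rw [QuadraticMap.polar_self, nsmul_eq_mul]; norm_num

theorem pl_zero_left (y : ι → F) : polar ⇑Q 0 y = 0 := QuadraticMap.polar_zero_left Q y

theorem pl_zero_right (y : ι → F) : polar ⇑Q y 0 = 0 := QuadraticMap.polar_zero_right Q y

theorem pl_neg_left (x y : ι → F) : polar ⇑Q (-x) y = -polar ⇑Q x y :=
  QuadraticMap.polar_neg_left Q x y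

theorem pl_neg_right (x y : ι → F) : polar ⇑Q x (-y) = -polar ⇑Q x y :=
  QuadraticMap.polar_neg_right Q x y

theorem Q_sub (x y : ι → F) : Q (x - y) = Q x + Q y - polar ⇑Q x y := by
  rw [sub_eq_add_neg, Q_add, QuadraticMap.map_neg, pl_neg_right]; ring

theorem polarVec_dotProduct (v x : ι → F) : polarVec ⇑Q v ⬝ᵥ x = polar ⇑Q v x := by
  have h : polar ⇑Q v x = (Q.polarBilin v) x := rfl
  rw [h]
  conv_rhs => rw [pi_eq_sum_univ' x]
  simp [map_sum, dotProduct, polarVec, mul_comm]

theorem vecMulVec_polarVec_mulVec (u v x : ι → F) :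
    vecMulVec u (polarVec ⇑Q v) *ᵥ x = polar ⇑Q v x • u := by
  rw [Matrix.vecMulVec_mulVec, polarVec_dotProduct]
  ext i; simp [mul_comm]

/-! ### the linear map of an isometry -/

/-- The linear map of an isometry. -/
def ap {Q : QuadraticForm F (ι → F)} (g : IsoGrp Q) : (ι → F) →ₗ[F] (ι → F) :=
  Matrix.mulVecLin ((g : GL ι F) : Matrix ι ι F)

variable {Q}

theorem ap_apply (g : IsoGrp Q) (x : ι → F) : ap g x = ((g : GL ι F) : Matrix ι ι F) *ᵥ x := rfl

@[simp] theorem ap_one (x : ι → F) : ap (1 : IsoGrp Q) x = x := by simp [ap_apply]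

@[simp] theorem ap_mul (g h : IsoGrp Q) (x : ι → F) : ap (g * h) x = ap g (ap h x) := by
  simp [ap_apply, Matrix.mulVec_mulVec]

@[simp] theorem ap_inv_ap (g : IsoGrp Q) (x : ι → F) : ap g⁻¹ (ap g x) = x := by
  rw [← ap_mul, inv_mul_cancel, ap_one]

@[simp] theorem ap_ap_inv (g : IsoGrp Q) (x : ι → F) : ap g (ap g⁻¹ x) = x := by
  rw [← ap_mul, mul_inv_cancel, ap_one]

theorem ext_ap {g h : IsoGrp Q} (H : ∀ x, ap g x = ap h x) : g = h :=
  Subtype.ext (Units.ext (Matrix.ext_of_mulVec_single fun i => H (Pi.single i 1)))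

theorem ap_inj (g : IsoGrp Q) {x y : ι → F} (h : ap g x = ap g y) : x = y := by
  rw [← ap_inv_ap g x, h, ap_inv_ap]

@[simp] theorem Q_ap (g : IsoGrp Q) (x : ι → F) : Q (ap g x) = Q x := g.2 x x

@[simp] theorem polar_ap (g : IsoGrp Q) (x y : ι → F) :
    polar ⇑Q (ap g x) (ap g y) = polar ⇑Q x y := by
  simp only [polar, ← map_add, Q_ap]

theorem coe_mul_mat (g h : IsoGrp Q) : (((g * h : IsoGrp Q) : GL ι F) : Matrix ι ι F) =
    ((g : GL ι F) : Matrix ι ι F) * ((h : GL ι F) : Matrix ι ι F) := rfl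

theorem coe_one_mat : (((1 : IsoGrp Q) : GL ι F) : Matrix ι ι F) = 1 := rfl

/-! ### reflections -/

variable (Q)

theorem reflectionMatrix_mulVec (v x : ι → F) :
    reflectionMatrix ⇑Q v *ᵥ x = x - ((Q v)⁻¹ * polar ⇑Q v x) • v := by
  rw [reflectionMatrix, Matrix.sub_mulVec, Matrix.one_mulVec, Matrix.smul_mulVec,
    vecMulVec_polarVec_mulVec, smul_smul]

theorem Q_reflectionMatrix_mulVec (v x : ι → F) : Q (reflectionMatrix ⇑Q v *ᵥ x) = Q x := by
  rw [reflectionMatrix_mulVec, Q_sub, Q_smul, pl_smul_right, pl_comm Q x v]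
  rcases eq_or_ne (Q v) 0 with h | h
  · simp [h]
  · field_simp; ring

theorem reflectionMatrix_mul_self (v : ι → F) :
    reflectionMatrix ⇑Q v * reflectionMatrix ⇑Q v = 1 := by
  refine Matrix.ext_of_mulVec_single fun i => ?_
  rw [← Matrix.mulVec_mulVec, reflectionMatrix_mulVec, reflectionMatrix_mulVec, Matrix.one_mulVec,
    pl_sub_right, pl_smul_right, pl_self]
  rcases eq_or_ne (Q v) 0 with h | h
  · simp [h]
  · rw [sub_sub, ← add_smul]
    have : (Q v)⁻¹ * polar ⇑Q v (Pi.single i 1) + (Q v)⁻¹ * (polar ⇑Q v (Pi.single i 1) -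
        (Q v)⁻¹ * polar ⇑Q v (Pi.single i 1) * (2 * Q v)) = 0 := by field_simp; ring
    rw [this, zero_smul, sub_zero]

/-- The reflection in `v` (the identity if `Q v = 0`). -/
def refl (v : ι → F) : IsoGrp Q :=
  ⟨⟨reflectionMatrix ⇑Q v, reflectionMatrix ⇑Q v, reflectionMatrix_mul_self Q v,
    reflectionMatrix_mul_self Q v⟩, fun x _ => Q_reflectionMatrix_mulVec Q v x⟩

theorem refl_mat (v : ι → F) :
    ((refl Q v : GL ι F) : Matrix ι ι F) = reflectionMatrix ⇑Q v := rfl

theorem refl_ap (v x : ι → F) : ap (refl Q v) x = x - ((Q v)⁻¹ * polar ⇑Q v x) • v :=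
  reflectionMatrix_mulVec Q v x

@[simp] theorem refl_mul_self (v : ι → F) : refl Q v * refl Q v = 1 :=
  Subtype.ext (Units.ext (reflectionMatrix_mul_self Q v))

@[simp] theorem refl_inv (v : ι → F) : (refl Q v)⁻¹ = refl Q v :=
  inv_eq_of_mul_eq_one_right (refl_mul_self Q v)

theorem refl_ap_ap (v x : ι → F) : ap (refl Q v) (ap (refl Q v) x) = x := by
  rw [← ap_mul, refl_mul_self, ap_one]

theorem refl_eq_one {v : ι → F} (h : Q v = 0) : refl Q v = 1 :=
  ext_ap fun x => by simp [refl_ap, h]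

theorem eq_refl_of_mat {g : IsoGrp Q} {v : ι → F}
    (h : ((g : GL ι F) : Matrix ι ι F) = reflectionMatrix ⇑Q v) : g = refl Q v :=
  Subtype.ext (Units.ext h)

theorem refl_ap_self {v : ι → F} (h : Q v ≠ 0) : ap (refl Q v) v = -v := by
  rw [refl_ap, pl_self, show (Q v)⁻¹ * (2 * Q v) = 2 by field_simp, two_smul]; abel

theorem refl_ap_of_orth {v x : ι → F} (h : polar ⇑Q v x = 0) : ap (refl Q v) x = x := by
  simp [refl_ap, h]

theorem refl_smul {a : F} (ha : a ≠ 0) (v : ι → F) : refl Q (a • v) = refl Q v := by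
  refine ext_ap fun x => ?_
  rw [refl_ap, refl_ap, Q_smul, pl_smul_left, smul_smul]
  congr 2
  rcases eq_or_ne (Q v) 0 with h | h
  · simp [h]
  · field_simp

variable {Q}

theorem mul_refl (g : IsoGrp Q) (v : ι → F) : g * refl Q v = refl Q (ap g v) * g := by
  refine ext_ap fun x => ?_
  simp only [ap_mul, refl_ap, map_sub, map_smul, Q_ap, polar_ap]

theorem conj_refl (g : IsoGrp Q) (v : ι → F) : g * refl Q v * g⁻¹ = refl Q (ap g v) := by
  rw [mul_refl, mul_inv_cancel_right]

theorem det_reflectionMatrix {v : ι → F} (h : Q v ≠ 0) : (reflectionMatrix ⇑Q v).det = -1 := by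
  have : reflectionMatrix ⇑Q v = 1 + replicateCol Unit (-(Q v)⁻¹ • v) *
      replicateRow Unit (polarVec ⇑Q v) := by
    rw [← Matrix.vecMulVec_eq, reflectionMatrix]
    ext i j; simp [Matrix.vecMulVec_apply]; ring
  rw [this, Matrix.det_one_add_replicateCol_mul_replicateRow, dotProduct_smul,
    polarVec_dotProduct, pl_self, smul_eq_mul]
  field_simp; ring

theorem det_refl {v : ι → F} (h : Q v ≠ 0) :
    ((refl Q v : GL ι F) : Matrix ι ι F).det = -1 := det_reflectionMatrix h

/-! ### Eichler transformations -/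

variable (Q)

/-- The matrix of `x ↦ x + f(x,u) w - f(x,w) u - Q(w) f(x,u) u`. -/
def eichMat (u w : ι → F) : Matrix ι ι F :=
  1 + vecMulVec w (polarVec ⇑Q u) - vecMulVec u (polarVec ⇑Q w) - Q w • vecMulVec u (polarVec ⇑Q u)

theorem eichMat_mulVec (u w x : ι → F) : eichMat Q u w *ᵥ x =
    x + polar ⇑Q u x • w - (polar ⇑Q w x + Q w * polar ⇑Q u x) • u := by
  rw [eichMat, Matrix.sub_mulVec, Matrix.sub_mulVec, Matrix.add_mulVec, Matrix.one_mulVec,
    Matrix.smul_mulVec, vecMulVec_polarVec_mulVec, vecMulVec_polarVec_mulVec,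
    vecMulVec_polarVec_mulVec]
  module

theorem Q_eichMat_mulVec {u w : ι → F} (hu : Q u = 0) (huw : polar ⇑Q u w = 0) (x : ι → F) :
    Q (eichMat Q u w *ᵥ x) = Q x := by
  rw [eichMat_mulVec, Q_sub, Q_add, Q_smul, Q_smul, hu]
  simp only [pl_add_left, pl_smul_left, pl_smul_right]
  rw [pl_comm Q w u, huw, pl_comm Q x w, pl_comm Q x u]
  ring

theorem eichMat_mul {u w w' : ι → F} (hu : Q u = 0) (hw : polar ⇑Q u w = 0)
    (hw' : polar ⇑Q u w' = 0) : eichMat Q u w * eichMat Q u w' = eichMat Q u (w + w') := by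
  refine Matrix.ext_of_mulVec_single fun i => ?_
  simp only [← Matrix.mulVec_mulVec, eichMat_mulVec, Q_add, pl_add_left, pl_add_right, pl_sub_right,
    pl_smul_right, pl_self, hu, hw, hw', pl_comm Q w u]
  module

theorem eichMat_zero (u : ι → F) : eichMat Q u 0 = 1 := by
  refine Matrix.ext_of_mulVec_single fun i => ?_
  rw [eichMat_mulVec, Matrix.one_mulVec]
  simp

open Classical in
/-- The Eichler transformation of `(u, w)`; the identity unless `Q u = 0` and `f(u,w) = 0`. -/
noncomputable def eich (u w : ι → F) : IsoGrp Q :=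
  if h : Q u = 0 ∧ polar ⇑Q u w = 0 then
    ⟨⟨eichMat Q u w, eichMat Q u (-w),
      by rw [eichMat_mul Q h.1 h.2 (by rw [pl_neg_right, h.2, neg_zero]), add_neg_cancel, eichMat_zero],
      by rw [eichMat_mul Q h.1 (by rw [pl_neg_right, h.2, neg_zero]) h.2, neg_add_cancel, eichMat_zero]⟩,
      fun x _ => Q_eichMat_mulVec Q h.1 h.2 x⟩
  else 1

variable {Q}

theorem eich_mat {u w : ι → F} (hu : Q u = 0) (hw : polar ⇑Q u w = 0) :
    ((eich Q u w : GL ι F) : Matrix ι ι F) = eichMat Q u w := by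
  rw [eich, dif_pos ⟨hu, hw⟩]

theorem eich_ap {u w : ι → F} (hu : Q u = 0) (hw : polar ⇑Q u w = 0) (x : ι → F) :
    ap (eich Q u w) x = x + polar ⇑Q u x • w - (polar ⇑Q w x + Q w * polar ⇑Q u x) • u := by
  rw [ap_apply, eich_mat hu hw, eichMat_mulVec]

theorem eich_eq_one {u w : ι → F} (h : ¬(Q u = 0 ∧ polar ⇑Q u w = 0)) : eich Q u w = 1 := by
  rw [eich, dif_neg h]

theorem eich_add {u w w' : ι → F} (hu : Q u = 0) (hw : polar ⇑Q u w = 0)
    (hw' : polar ⇑Q u w' = 0) : eich Q u w * eich Q u w' = eich Q u (w + w') :=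
  Subtype.ext (Units.ext (by
    rw [coe_mul_mat, eich_mat hu hw, eich_mat hu hw', eichMat_mul Q hu hw hw',
      eich_mat hu (by rw [pl_add_right, hw, hw', add_zero])]))

theorem eich_zero (u : ι → F) : eich Q u 0 = 1 := by
  by_cases hu : Q u = 0
  · exact Subtype.ext (Units.ext (by rw [eich_mat hu (pl_zero_right Q u), eichMat_zero, coe_one_mat]))
  · exact eich_eq_one fun h => hu h.1

theorem eich_inv (u w : ι → F) : (eich Q u w)⁻¹ = eich Q u (-w) := by
  by_cases h : Q u = 0 ∧ polar ⇑Q u w = 0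
  · refine inv_eq_of_mul_eq_one_right ?_
    rw [eich_add h.1 h.2 (by rw [pl_neg_right, h.2, neg_zero]), add_neg_cancel, eich_zero]
  · rw [eich_eq_one h, inv_one, eich_eq_one]
    rintro ⟨h1, h2⟩
    exact h ⟨h1, by rwa [pl_neg_right, neg_eq_zero] at h2⟩

theorem mul_eich (g : IsoGrp Q) (u w : ι → F) :
    g * eich Q u w = eich Q (ap g u) (ap g w) * g := by
  by_cases h : Q u = 0 ∧ polar ⇑Q u w = 0
  · refine ext_ap fun x => ?_
    rw [ap_mul, ap_mul, eich_ap h.1 h.2, eich_ap (by rw [Q_ap, h.1]) (by rw [polar_ap, h.2])]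
    simp only [map_add, map_sub, map_smul, polar_ap, Q_ap]
  · rw [eich_eq_one h, eich_eq_one (by simpa [Q_ap, polar_ap] using h), mul_one, one_mul]

theorem conj_eich (g : IsoGrp Q) (u w : ι → F) :
    g * eich Q u w * g⁻¹ = eich Q (ap g u) (ap g w) := by
  rw [mul_eich, mul_inv_cancel_right]

theorem eich_smul_left (u w : ι → F) (c : F) : eich Q (c • u) w = eich Q u (c • w) := by
  rcases eq_or_ne c 0 with rfl | hc
  · rw [zero_smul, zero_smul, eich_zero]
    by_cases h : Q (0 : ι → F) = 0 ∧ polar ⇑Q 0 w = 0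
    · exact ext_ap fun x => by rw [eich_ap h.1 h.2]; simp
    · exact eich_eq_one h
  · by_cases h : Q u = 0 ∧ polar ⇑Q u w = 0
    · refine ext_ap fun x => ?_
      rw [eich_ap (by rw [Q_smul, h.1, mul_zero]) (by rw [pl_smul_left, h.2, mul_zero]),
        eich_ap h.1 (by rw [pl_smul_right, h.2, mul_zero]), Q_smul, pl_smul_left, pl_smul_left]
      module
    · rw [eich_eq_one, eich_eq_one]
      · rw [pl_smul_right, mul_eq_zero]; simp only [hc, false_or]; exact h
      · rw [Q_smul, pl_smul_left, mul_eq_zero, mul_eq_zero]; simpa [hc] using h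

theorem eich_add_smul_self {u w : ι → F} (hu : Q u = 0) (hw : polar ⇑Q u w = 0) (c : F) :
    eich Q u (w + c • u) = eich Q u w := by
  have h2 : polar ⇑Q u u = 0 := by rw [pl_self, hu, mul_zero]
  refine ext_ap fun x => ?_
  rw [eich_ap hu (by rw [pl_add_right, pl_smul_right, hw, h2]; ring), eich_ap hu hw]
  simp only [Q_add, Q_smul, pl_add_left, pl_smul_left, pl_smul_right, hu, pl_comm Q w u, hw]
  module

theorem siegelMatrix_eq_eichMat {u v : ι → F} (hv : Q v = 0) (c : F) :
    siegelMatrix ⇑Q u v c = eichMat Q u (c • v) := by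
  refine Matrix.ext_of_mulVec_single fun i => ?_
  rw [eichMat_mulVec, siegelMatrix, Matrix.add_mulVec, Matrix.one_mulVec, Matrix.smul_mulVec,
    Matrix.sub_mulVec, vecMulVec_polarVec_mulVec, vecMulVec_polarVec_mulVec, Q_smul, hv,
    pl_smul_left]
  module

/-! ### linear algebra with a non-degenerate polar form -/

theorem exists_polar_ne (hQ : Q.polarBilin.Nondegenerate) {x : ι → F} (hx : x ≠ 0) :
    ∃ y, polar ⇑Q x y ≠ 0 := by
  by_contra! h
  exact hx (hQ.1 x h)

theorem finrank_space : finrank F (ι → F) = Fintype.card ι := Module.finrank_fintype_fun_eq_card F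

/-- The vectors orthogonal to the members of a finite family. -/
def orthFam (Q : QuadraticForm F (ι → F)) {k : ℕ} (u : Fin k → ι → F) : Submodule F (ι → F) :=
  LinearMap.ker (LinearMap.pi fun i => Q.polarBilin (u i))

theorem mem_orthFam {k : ℕ} {u : Fin k → ι → F} {x : ι → F} :
    x ∈ orthFam Q u ↔ ∀ i, polar ⇑Q (u i) x = 0 := by
  simp only [orthFam, LinearMap.mem_ker, funext_iff, LinearMap.pi_apply, Pi.zero_apply]
  rfl

theorem card_le_finrank_orthFam {k : ℕ} (u : Fin k → ι → F) :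
    Fintype.card ι ≤ finrank F (orthFam Q u) + k := by
  have h := LinearMap.finrank_range_add_finrank_ker (LinearMap.pi fun i => Q.polarBilin (u i))
  have h2 := Submodule.finrank_le (LinearMap.range (LinearMap.pi fun i => Q.polarBilin (u i)))
  rw [finrank_space] at h
  rw [Module.finrank_fin_fun] at h2
  unfold orthFam
  omega

theorem exists_mem_orth {k : ℕ} (u : Fin k → ι → F) (hk : k < Fintype.card ι) :
    ∃ x, x ≠ 0 ∧ ∀ i, polar ⇑Q (u i) x = 0 := by
  have := card_le_finrank_orthFam (Q := Q) u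
  have hpos : orthFam Q u ≠ ⊥ := by
    intro h; rw [h, finrank_bot] at this; omega
  obtain ⟨x, hx, hx0⟩ := (Submodule.ne_bot_iff _).1 hpos
  exact ⟨x, hx0, mem_orthFam.1 hx⟩

/-- A totally isotropic subspace has at most half the dimension. -/
theorem two_mul_finrank_le_of_isotropic (hQ : Q.polarBilin.Nondegenerate) (H : Submodule F (ι → F))
    (h : ∀ x ∈ H, ∀ y ∈ H, polar ⇑Q x y = 0) : 2 * finrank F H ≤ Fintype.card ι := by
  have hle : H ≤ LinearMap.BilinForm.orthogonal Q.polarBilin H := fun x hx y hy => by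
    show polar ⇑Q y x = 0
    exact h y hy x hx
  have h1 := Submodule.finrank_mono hle
  rw [LinearMap.BilinForm.finrank_orthogonal hQ, finrank_space] at h1
  have h2 := Submodule.finrank_le H
  rw [finrank_space] at h2
  omega

end Cfsg.Agent.Orth
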