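import Cfsg.Agent.Lib.Orth.Refl
/-!
# Orthogonal groups over the field with two elements

* `exists_refl_of_rank`, `rank_refl` : the elements `g` with `rank (g - 1) = 1` are the
  reflections (orthogonal transvections) in nonsingular vectors
* `rankOne_class` : they form a class of 3-transpositions generating `O(Q)`, unless `n = 4`
-/

set_option autoImplicit false

namespace Cfsg.Agent.Orth

open Cfsg Matrix Module
open QuadraticMap (polar)

variable {ι : Type} [Fintype ι] [DecidableEq ι]
variable {Q : QuadraticForm (ZMod 2) (ι → ZMod 2)}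

theorem rank_sub_one {F : Type*} [Field F] {R : QuadraticForm F (ι → F)} (g : IsoGrp R) :
    (((g : GL ι F) : Matrix ι ι F) - 1).rank = finrank F (resSpace g) := by
  have h : ((((g : GL ι F) : Matrix ι ι F) - 1)).mulVecLin = ap g - LinearMap.id := by
    refine LinearMap.ext fun x => ?_
    simp [ap]
  rw [Matrix.rank, h, resSpace]

theorem two_cases (a : ZMod 2) : a = 0 ∨ a = 1 := by revert a; decide

theorem rank_refl (hQ : Q.polarBilin.Nondegenerate) {v : ι → ZMod 2} (hv : Q v ≠ 0) :
    (((refl Q v : GL ι (ZMod 2)) : Matrix ι ι (ZMod 2)) - 1).rank = 1 := by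
  have h := finrank_resSpace_refl_mul hQ (g := 1) hv
    (by rw [resSpace_one, Submodule.mem_bot]; rintro rfl; exact hv (by simp))
  rw [mul_one, resSpace_one, finrank_bot, zero_add] at h
  rw [rank_sub_one, h]

theorem exists_refl_of_rank (hQ : Q.polarBilin.Nondegenerate) (g : IsoGrp Q)
    (hg : (((g : GL ι (ZMod 2)) : Matrix ι ι (ZMod 2)) - 1).rank = 1) :
    ∃ v, Q v ≠ 0 ∧ g = refl Q v := by
  rw [rank_sub_one] at hg
  obtain ⟨⟨w, hwm⟩, hw0, hw⟩ := finrank_eq_one_iff'.1 hg
  have hw0' : w ≠ 0 := fun e => hw0 (Subtype.ext e)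
  by_cases hQw : Q w = 0
  · exfalso
    have key : ∀ x, ap g x = x ∨ (ap g x = x + w ∧ polar ⇑Q x w = 0) := fun x => by
      obtain ⟨c, hc⟩ := hw ⟨_, sub_mem_resSpace g x⟩
      have hc' : c • w = ap g x - x := congrArg Subtype.val hc
      rcases two_cases c with rfl | rfl
      · left; rw [zero_smul] at hc'; exact sub_eq_zero.1 hc'.symm
      · have e : ap g x = x + w := by rw [one_smul] at hc'; rw [hc']; abel
        right
        refine ⟨e, ?_⟩
        have h := Q_ap g x
        rw [e, Q_add, hQw, add_zero] at h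
        simpa using h
    obtain ⟨x1, hx1⟩ := mem_resSpace.1 hwm
    have hg1 : ap g x1 = x1 + w := by rw [← hx1]; abel
    have hp1 : polar ⇑Q x1 w = 0 := ((key x1).resolve_left (by
      rw [hg1]; simpa using hw0')).2
    obtain ⟨y, hy⟩ := exists_polar_ne hQ hw0'
    rw [pl_comm] at hy
    have hg2 : ap g y = y := (key y).resolve_right fun h => hy h.2
    rcases key (x1 + y) with h | ⟨_, h⟩
    · rw [map_add, hg1, hg2, add_right_comm, add_eq_left] at h
      exact hw0' h
    · rw [pl_add_left, hp1, zero_add] at h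
      exact hy h
  · refine ⟨w, hQw, ?_⟩
    have h := finrank_resSpace_refl_mul_add_one hQ hQw hwm
    rw [hg, Nat.add_eq_right, Submodule.finrank_eq_zero] at h
    have h1 := eq_one_of_resSpace_eq_bot h
    rw [mul_eq_one_iff_eq_inv] at h1
    calc g = (refl Q w)⁻¹ := by rw [h1, inv_inv]
      _ = refl Q w := refl_inv Q w

/-- The rank-one elements form a class of 3-transpositions. -/
theorem rankOne_class (hQ : Q.polarBilin.Nondegenerate) (hn : Fintype.card ι ≠ 4)
    {v₀ : ι → ZMod 2} (hv₀ : Q v₀ ≠ 0) :
    IsThreeTranspositionClass {g : IsoGrp Q |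
      (((g : GL ι (ZMod 2)) : Matrix ι ι (ZMod 2)) - 1).rank = 1} := by
  refine ⟨⟨fun d hd => ?_, fun d hd e he => ?_⟩, ⟨refl Q v₀, rank_refl hQ hv₀, ?_⟩, ?_⟩
  · obtain ⟨v, hv, rfl⟩ := exists_refl_of_rank hQ d hd
    refine orderOf_eq_prime (by rw [pow_two, refl_mul_self]) fun h => ?_
    have := rank_refl hQ hv
    rw [h] at this
    simp at this
  · obtain ⟨u, hu, rfl⟩ := exists_refl_of_rank hQ d hd
    obtain ⟨v, hv, rfl⟩ := exists_refl_of_rank hQ e he
    have hu1 : Q u = 1 := (two_cases _).resolve_left hu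
    have hv1 : Q v = 1 := (two_cases _).resolve_left hv
    have e1 : refl Q u * refl Q v * refl Q u = refl Q (ap (refl Q u) v) := by
      have := conj_refl (refl Q u) v
      rwa [refl_inv] at this
    have e2 : refl Q v * refl Q u * refl Q v = refl Q (ap (refl Q v) u) := by
      have := conj_refl (refl Q v) u
      rwa [refl_inv] at this
    rw [refl_ap, hu1, inv_one, one_mul] at e1
    rw [refl_ap, hv1, inv_one, one_mul, pl_comm] at e2
    rcases two_cases (polar ⇑Q u v) with h | h
    · left
      rw [h, zero_smul, sub_zero] at e1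
      calc (refl Q u * refl Q v) ^ 2 = (refl Q u * refl Q v * refl Q u) * refl Q v := by
            rw [pow_two]; simp only [mul_assoc]
        _ = 1 := by rw [e1, refl_mul_self]
    · right
      rw [h, one_smul] at e1 e2
      rw [show u - v = v - u by rw [ZModModule.sub_eq_add, ZModModule.sub_eq_add, add_comm]] at e2
      calc (refl Q u * refl Q v) ^ 3
          = (refl Q u * refl Q v * refl Q u) * (refl Q v * refl Q u * refl Q v) := by
            rw [pow_three]; simp only [mul_assoc]
        _ = 1 := by rw [e1, e2, refl_mul_self]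
  · ext g
    constructor
    · intro hg
      obtain ⟨v, hv, rfl⟩ := exists_refl_of_rank hQ g hg
      obtain ⟨k, -, hk⟩ := exists_ap_eq hQ (Or.inr hn) hv₀
        (show Q v = Q v₀ by rw [(two_cases _).resolve_left hv, (two_cases _).resolve_left hv₀])
      exact isConj_iff.2 ⟨k, by rw [conj_refl, hk]⟩
    · intro h
      obtain ⟨k, rfl⟩ := isConj_iff.1 (show IsConj _ g from h)
      rw [conj_refl]
      exact rank_refl hQ (by rwa [Q_ap])
  · rw [eq_top_iff, ← closure_refl_eq_top hQ (Or.inr hn), reflGen, Subgroup.closure_le]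
    rintro _ ⟨v, rfl⟩
    by_cases hv : Q v = 0
    · rw [refl_eq_one Q hv]; exact one_mem _
    · exact Subgroup.subset_closure (rank_refl hQ hv)

end Cfsg.Agent.Orth
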