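import Cfsg.Agent.Lib.Orth.Models
import Cfsg.Agent.Lib.Orth.Dihedral

/-!
# The Klein correspondence: `SL₄` acting on alternating matrices

* `pl v` : the alternating matrix with Plücker coordinates `v : Fin 3 ⊕ Fin 3 → F`
* `coordL`, `pl_coordL`, `Q_coordL` : coordinates and the Pfaffian
* `pf_congr` : `Pf (g X gᵀ) = det g * Pf X`
* `kleinMat`, `kleinMat_mul`, `Q_kleinMat`, `kleinMat_eq_one_iff`
* `isoHom` : a homomorphism into an isometry group from a matrix-valued monoid hom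
-/

set_option autoImplicit false
set_option linter.unusedSectionVars false

namespace Cfsg.Agent.Orth

open Cfsg Matrix

/-- A homomorphism into an isometry group from matrices preserving the form. -/
def isoHom {G : Type*} [Group G] {ι : Type} [Fintype ι] [DecidableEq ι] {F : Type*} [Field F]
    {Q : (ι → F) → F} (M : G →* Matrix ι ι F) (h : ∀ g v, Q (M g *ᵥ v) = Q v) :
    G →* ↥(isometryGroup F Q) :=
  M.toHomUnits.codRestrict _ fun g x _ => h g x

theorem isoHom_mat {G : Type*} [Group G] {ι : Type} [Fintype ι] [DecidableEq ι] {F : Type*} [Field F]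
    {Q : (ι → F) → F} (M : G →* Matrix ι ι F) (h : ∀ g v, Q (M g *ᵥ v) = Q v) (g : G) :
    ((isoHom M h g : GL ι F) : Matrix ι ι F) = M g := rfl

theorem isoHom_eq_one_iff {G : Type*} [Group G] {ι : Type} [Fintype ι] [DecidableEq ι] {F : Type*}
    [Field F] {Q : (ι → F) → F} (M : G →* Matrix ι ι F) (h : ∀ g v, Q (M g *ᵥ v) = Q v) (g : G) :
    isoHom M h g = 1 ↔ M g = 1 := by
  refine ⟨fun e => ?_, fun e => iso_ext e⟩
  rw [← isoHom_mat M h g, e]; rfl

variable {F : Type*} [Field F]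

/-- The alternating matrix with the given Plücker coordinates
`(p₁₂,p₁₃,p₁₄ ; p₃₄,-p₂₄,p₂₃)`. -/
def pl : (Fin 3 ⊕ Fin 3 → F) →ₗ[F] Matrix (Fin 4) (Fin 4) F where
  toFun v :=
    !![0, v (.inl 0), v (.inl 1), v (.inl 2);
       -v (.inl 0), 0, v (.inr 2), -v (.inr 1);
       -v (.inl 1), -v (.inr 2), 0, v (.inr 0);
       -v (.inl 2), v (.inr 1), -v (.inr 0), 0]
  map_add' u v := by ext i j; fin_cases i <;> fin_cases j <;> simp <;> ring
  map_smul' c v := by ext i j; fin_cases i <;> fin_cases j <;> simp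

/-- The Plücker coordinates of a matrix. -/
def coordL : Matrix (Fin 4) (Fin 4) F →ₗ[F] (Fin 3 ⊕ Fin 3 → F) where
  toFun Y := Sum.elim ![Y 0 1, Y 0 2, Y 0 3] ![Y 2 3, -Y 1 3, Y 1 2]
  map_add' u v := by
    funext k; rcases k with k | k <;> fin_cases k <;> simp <;> ring
  map_smul' c v := by
    funext k; rcases k with k | k <;> fin_cases k <;> simp

theorem coordL_pl (v : Fin 3 ⊕ Fin 3 → F) : coordL (pl v) = v := by
  funext k; rcases k with k | k <;> fin_cases k <;> simp [coordL, pl]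

/-- Being alternating. -/
def IsAltMat (Y : Matrix (Fin 4) (Fin 4) F) : Prop := (∀ i, Y i i = 0) ∧ ∀ i j, Y j i = -Y i j

theorem pl_coordL {Y : Matrix (Fin 4) (Fin 4) F} (h : IsAltMat Y) : pl (coordL Y) = Y := by
  ext i j
  fin_cases i <;> fin_cases j <;>
    simp [coordL, pl, h.1, h.2 0 1, h.2 0 2, h.2 0 3, h.2 1 2, h.2 1 3, h.2 2 3]

theorem isAltMat_congr (g : Matrix (Fin 4) (Fin 4) F) (v : Fin 3 ⊕ Fin 3 → F) :
    IsAltMat (g * pl v * gᵀ) := by
  constructor
  · intro i; simp [Matrix.mul_apply, Fin.sum_univ_four, pl]; ring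
  · intro i j; simp [Matrix.mul_apply, Fin.sum_univ_four, pl]; ring

theorem Q_coordL (Y : Matrix (Fin 4) (Fin 4) F) :
    quadFormPlus 3 F (coordL Y) = Y 0 1 * Y 2 3 - Y 0 2 * Y 1 3 + Y 0 3 * Y 1 2 := by
  simp [quadFormPlus, coordL, Fin.sum_univ_three]; ring

theorem det_four (g : Matrix (Fin 4) (Fin 4) F) : g.det =
    (g 0 0 * g 1 1 - g 0 1 * g 1 0) * (g 2 2 * g 3 3 - g 2 3 * g 3 2)
    - (g 0 0 * g 1 2 - g 0 2 * g 1 0) * (g 2 1 * g 3 3 - g 2 3 * g 3 1)
    + (g 0 0 * g 1 3 - g 0 3 * g 1 0) * (g 2 1 * g 3 2 - g 2 2 * g 3 1)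
    + (g 0 1 * g 1 2 - g 0 2 * g 1 1) * (g 2 0 * g 3 3 - g 2 3 * g 3 0)
    - (g 0 1 * g 1 3 - g 0 3 * g 1 1) * (g 2 0 * g 3 2 - g 2 2 * g 3 0)
    + (g 0 2 * g 1 3 - g 0 3 * g 1 2) * (g 2 0 * g 3 1 - g 2 1 * g 3 0) := by
  simp [Matrix.det_succ_row_zero, Fin.sum_univ_succ, Fin.succAbove]
  ring

theorem congr_apply (g : Matrix (Fin 4) (Fin 4) F) (v : Fin 3 ⊕ Fin 3 → F) (i j : Fin 4) :
    (g * pl v * gᵀ) i j =
      v (.inl 0) * (g i 0 * g j 1 - g i 1 * g j 0) + v (.inl 1) * (g i 0 * g j 2 - g i 2 * g j 0)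
      + v (.inl 2) * (g i 0 * g j 3 - g i 3 * g j 0) + v (.inr 2) * (g i 1 * g j 2 - g i 2 * g j 1)
      - v (.inr 1) * (g i 1 * g j 3 - g i 3 * g j 1) + v (.inr 0) * (g i 2 * g j 3 - g i 3 * g j 2) := by
  simp [Matrix.mul_apply, Fin.sum_univ_four, pl]; ring

theorem pf_congr (g : Matrix (Fin 4) (Fin 4) F) (v : Fin 3 ⊕ Fin 3 → F) :
    quadFormPlus 3 F (coordL (g * pl v * gᵀ)) = g.det * quadFormPlus 3 F v := by
  rw [Q_coordL, congr_apply, congr_apply, congr_apply, congr_apply, congr_apply, congr_apply, det_four]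
  simp only [quadFormPlus, Fin.sum_univ_three]
  ring

/-- `X ↦ g X gᵀ` in Plücker coordinates. -/
def kleinLin (g : Matrix (Fin 4) (Fin 4) F) : (Fin 3 ⊕ Fin 3 → F) →ₗ[F] (Fin 3 ⊕ Fin 3 → F) where
  toFun v := coordL (g * pl v * gᵀ)
  map_add' u v := by simp [Matrix.mul_add, Matrix.add_mul]
  map_smul' c v := by simp

/-- Its matrix. -/
noncomputable def kleinMat (g : Matrix (Fin 4) (Fin 4) F) :
    Matrix (Fin 3 ⊕ Fin 3) (Fin 3 ⊕ Fin 3) F := LinearMap.toMatrix' (kleinLin g)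

theorem kleinMat_mulVec (g : Matrix (Fin 4) (Fin 4) F) (v : Fin 3 ⊕ Fin 3 → F) :
    kleinMat g *ᵥ v = coordL (g * pl v * gᵀ) := by
  rw [kleinMat, LinearMap.toMatrix'_mulVec]; rfl

theorem kleinMat_one : kleinMat (1 : Matrix (Fin 4) (Fin 4) F) = 1 :=
  Matrix.ext_of_mulVec_single fun i => by
    rw [kleinMat_mulVec, Matrix.one_mul, Matrix.transpose_one, Matrix.mul_one, coordL_pl,
      Matrix.one_mulVec]

theorem kleinMat_mul (g h : Matrix (Fin 4) (Fin 4) F) : kleinMat (g * h) = kleinMat g * kleinMat h :=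
  Matrix.ext_of_mulVec_single fun i => by
    rw [← Matrix.mulVec_mulVec, kleinMat_mulVec, kleinMat_mulVec, kleinMat_mulVec,
      pl_coordL (isAltMat_congr h _), Matrix.transpose_mul]
    simp only [Matrix.mul_assoc]

theorem Q_kleinMat (g : Matrix (Fin 4) (Fin 4) F) (hg : g.det = 1) (v : Fin 3 ⊕ Fin 3 → F) :
    quadFormPlus 3 F (kleinMat g *ᵥ v) = quadFormPlus 3 F v := by
  rw [kleinMat_mulVec, pf_congr, hg, one_mul]

theorem eq_scalar_of_kleinMat_eq_one {g : Matrix (Fin 4) (Fin 4) F} (hg : kleinMat g = 1) :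
    ∃ a : F, a * a = 1 ∧ g = a • 1 := by
  have hX : ∀ v, g * pl v * gᵀ = pl v := fun v => by
    rw [← pl_coordL (isAltMat_congr g v), ← kleinMat_mulVec, hg, Matrix.one_mulVec]
  have hm : ∀ a b c d : Fin 4, a ≠ b →
      g c a * g d b - g c b * g d a = (if c = a ∧ d = b then 1 else 0) - (if c = b ∧ d = a then 1 else 0) := by
    intro a b c d hab
    have hs : ∃ v, pl v = (Matrix.of fun i j => (if i = a ∧ j = b then (1 : F) else 0) -
        (if i = b ∧ j = a then 1 else 0)) := by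
      refine ⟨_, pl_coordL ⟨fun i => ?_, fun i j => ?_⟩⟩
      · show (if i = a ∧ i = b then (1 : F) else 0) - (if i = b ∧ i = a then 1 else 0) = 0
        simp only [and_comm, sub_self]
      · show (if j = a ∧ i = b then (1 : F) else 0) - (if j = b ∧ i = a then 1 else 0) =
          -((if i = a ∧ j = b then (1 : F) else 0) - (if i = b ∧ j = a then 1 else 0))
        simp only [and_comm, neg_sub]
    obtain ⟨v, hv⟩ := hs
    have h := congrFun (congrFun (hX v) c) d
    rw [hv] at h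
    simp only [Matrix.mul_apply, Matrix.of_apply, Matrix.transpose_apply, mul_sub, sub_mul,
      Finset.sum_sub_distrib] at h
    simpa [ite_and] using h
  have h3 : ∀ a b : Fin 4, a ≠ b → g a a * g b b - g a b * g b a = 1 := fun a b hab => by
    have := hm a b a b hab
    simpa [hab] using this
  have hoff : ∀ c a : Fin 4, c ≠ a → g c a = 0 := by
    intro c a hca
    obtain ⟨b, hba, hbc⟩ : ∃ b : Fin 4, b ≠ a ∧ b ≠ c :=
      (by decide : ∀ a c : Fin 4, ∃ b, b ≠ a ∧ b ≠ c) a c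
    have e1 := hm a b c b (Ne.symm hba)
    have e2 := hm a b c a (Ne.symm hba)
    simp [hca, hba, Ne.symm hbc] at e1 e2
    linear_combination g a a * e1 - g b a * e2 - g c a * h3 a b (Ne.symm hba)
  have hd : ∀ a b : Fin 4, a ≠ b → g a a * g b b = 1 := fun a b hab => by
    have := h3 a b hab
    rwa [hoff a b hab, zero_mul, sub_zero] at this
  have h01 := hd 0 1 (by decide)
  have h02 := hd 0 2 (by decide)
  have h03 := hd 0 3 (by decide)
  have h12 := hd 1 2 (by decide)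
  have hne : g 0 0 ≠ 0 := left_ne_zero_of_mul_eq_one h01
  have e12 : g 1 1 = g 2 2 := mul_left_cancel₀ hne (h01.trans h02.symm)
  have e13 : g 1 1 = g 3 3 := mul_left_cancel₀ hne (h01.trans h03.symm)
  have hsq : g 1 1 * g 1 1 = 1 := by rw [← e12] at h12; exact h12
  have e01 : g 0 0 = g 1 1 := mul_right_cancel₀ (left_ne_zero_of_mul_eq_one h12) (h01.trans hsq.symm)
  refine ⟨g 1 1, hsq, ?_⟩
  ext i j
  rcases eq_or_ne i j with rfl | hij
  · fin_cases i <;> simp [e01, ← e12, ← e13]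
  · simp [hoff i j hij, hij]

/-- The Klein homomorphism on `SL₄`. -/
noncomputable def kleinHom : Matrix.SpecialLinearGroup (Fin 4) F →* ↥(isometryGroup F (quadFormPlus 3 F)) :=
  isoHom
    { toFun := fun g => kleinMat (g : Matrix (Fin 4) (Fin 4) F)
      map_one' := kleinMat_one
      map_mul' := fun g h => kleinMat_mul _ _ }
    (fun g v => Q_kleinMat _ g.2 v)

/-- `-1` in `SL₄`. -/
def negOneSL : Matrix.SpecialLinearGroup (Fin 4) F :=
  ⟨-1, by rw [Matrix.det_neg, Matrix.det_one, Fintype.card_fin]; ring⟩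

theorem coe_negOneSL : ((negOneSL : Matrix.SpecialLinearGroup (Fin 4) F) : Matrix (Fin 4) (Fin 4) F) = -1 := rfl

theorem kleinHom_eq_one_iff (g : Matrix.SpecialLinearGroup (Fin 4) F) :
    kleinHom g = 1 ↔ g = 1 ∨ g = negOneSL := by
  rw [kleinHom, isoHom_eq_one_iff]
  show kleinMat (g : Matrix (Fin 4) (Fin 4) F) = 1 ↔ _
  constructor
  · intro h
    obtain ⟨a, ha, hga⟩ := eq_scalar_of_kleinMat_eq_one h
    rcases mul_self_eq_one_iff.1 ha with rfl | rfl
    · exact .inl (Subtype.ext (by rw [hga, one_smul]; rfl))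
    · exact .inr (Subtype.ext (by rw [hga, coe_negOneSL]; simp))
  · rintro (rfl | rfl)
    · exact kleinMat_one
    · refine Matrix.ext_of_mulVec_single fun i => ?_
      rw [kleinMat_mulVec, coe_negOneSL]
      simp [coordL_pl]; funext j; simp [Matrix.one_apply, Pi.single_apply]

end Cfsg.Agent.Orth
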