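import Cfsg.Agent.Lib.Orth.DecompMax

/-!
# Stabilisers of orthogonal decompositions are maximal: members of dimension at least four, any field

* `mem_decomp_of_maps_members`, `plus_of_isometric` : basics
* `pair_fix_members`, `member_of_pair` : pairs of reflections permuting the members
* `exists_anchor_big` : a new element fixing an anisotropic vector of a member
* `sphere_pair_big`, `decomposition_maximal_big`
-/

set_option autoImplicit false
set_option linter.unusedSectionVars false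

namespace Cfsg.Agent.Orth

open Cfsg Matrix Module
open QuadraticMap (polar)

variable {ι : Type} [Fintype ι] [DecidableEq ι] {F : Type*} [Field F] [Fintype F]
variable {Q : QuadraticForm F (ι → F)} {t k : ℕ} {D : Fin t → Submodule F (ι → F)}
variable {N : Subgroup (IsoGrp Q)} {c : F} {S : Set (ι → F)}

theorem mem_decomp_of_maps_members (hD : Geo.IsOrthogonalMDecomposition ⇑Q k D) (hk : 1 ≤ k)
    {g : IsoGrp Q} (h : ∀ i, ∃ j, ∀ x ∈ D i, ap g x ∈ D j) :
    (g : GL ι F) ∈ Geo.decompositionStabilizer D := by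
  classical
  have hr := hD.decomp.decomp.finrank_eq
  choose σ hσ using h
  have hinj : Function.Injective σ := by
    intro i i' hii
    by_contra hne
    obtain ⟨y, hy, hy0⟩ := Submodule.exists_mem_ne_zero_of_ne_bot (p := D i')
      (fun e => by have := hr i'; rw [e, finrank_bot] at this; omega)
    have hmap : (D i).map (ap g) = D (σ i) := by
      refine Submodule.eq_of_le_of_finrank_le (Submodule.map_le_iff_le_comap.2 (hσ i)) ?_
      rw [hr, ← (Submodule.equivMapOfInjective (ap g) (fun a b e => ap_inj g e) (D i)).finrank_eq, hr]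
    have hgy : ap g y ∈ (D i).map (ap g) := by rw [hmap, hii]; exact hσ i' y hy
    obtain ⟨x, hx, hxy⟩ := hgy
    rw [ap_inj g hxy] at hx
    exact hne (member_eq hD hx hy hy0)
  refine ⟨Equiv.ofBijective σ (Finite.injective_iff_bijective.1 hinj), fun i => ?_⟩
  refine Submodule.eq_of_le_of_finrank_le (Submodule.map_le_iff_le_comap.2 (hσ i)) ?_
  have hinj' : Function.Injective (Matrix.toLin' ((g : GL ι F) : Matrix ι ι F)) := fun a b e => ap_inj g e
  rw [hr, ← (Submodule.equivMapOfInjective _ hinj' (D i)).finrank_eq, hr]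

theorem plus_of_isometric {W W' : Submodule F (ι → F)} (h : Geo.AreIsometricFor ⇑Q W W')
    (hp : Geo.IsPlusTypeOn ⇑Q W) : Geo.IsPlusTypeOn ⇑Q W' := by
  obtain ⟨e, he⟩ := h
  obtain ⟨U, hUW, hU, hUr⟩ := hp
  set U' := ((U.comap W.subtype).map (e : W →ₗ[F] W')).map W'.subtype
  refine ⟨U', fun x hx => ?_, fun x hx => ?_, ?_⟩
  · obtain ⟨y, -, rfl⟩ := Submodule.mem_map.1 hx
    exact y.2
  · obtain ⟨y, hy, rfl⟩ := Submodule.mem_map.1 hx
    obtain ⟨z, hz, rfl⟩ := Submodule.mem_map.1 hy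
    exact (he z).trans (hU _ hz)
  · show 2 * finrank F (((U.comap W.subtype).map (e : W →ₗ[F] W')).map W'.subtype) = _
    rw [← ((U.comap W.subtype).map (e : W →ₗ[F] W')).equivMapOfInjective W'.subtype Subtype.val_injective
      |>.finrank_eq, ← (e.submoduleMap (U.comap W.subtype)).finrank_eq,
      (Submodule.comapSubtypeEquivOfLe hUW).finrank_eq, hUr, e.finrank_eq]

theorem not_plus_members (hD : Geo.IsOrthogonalMDecomposition ⇑Q k D)
    (h : ¬ ∀ i, Geo.IsPlusTypeOn ⇑Q (D i)) : ∀ i, ¬ Geo.IsPlusTypeOn ⇑Q (D i) :=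
  fun i hi => h fun j => plus_of_isometric (hD.isometric i j) hi

/-! ### pairs of reflections permuting the members -/

theorem pair_fix_members (hG : Good Q) (hD : Geo.IsOrthogonalMDecomposition ⇑Q k D) (hk : 2 ≤ k)
    {x y : ι → F} (hx : Q x ≠ 0) (hxy : Q y = Q x) (hf : polar ⇑Q x y ≠ 0)
    (hK : ((refl Q x * refl Q y : IsoGrp Q) : GL ι F) ∈ Geo.decompositionStabilizer D) :
    ∀ n, ∀ z ∈ D n, ap (refl Q x * refl Q y) z ∈ D n := by
  obtain ⟨σ, hσ, -⟩ := ap_mem_member hK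
  set K := refl Q x * refl Q y with hKdef
  intro n
  suffices hn : σ n = n by
    intro z hz
    have := hσ n z hz
    rwa [hn] at this
  by_contra hne
  set P := (F ∙ x) ⊔ (F ∙ y)
  set φ : (ι → F) →ₗ[F] (ι → F) := ap K - LinearMap.id
  have hle : (D n).map φ ≤ P := by
    rintro _ ⟨z, -, rfl⟩
    refine mem_pair.2 ⟨-((Q x)⁻¹ * polar ⇑Q x (z - ((Q y)⁻¹ * polar ⇑Q y z) • y)),
      -((Q y)⁻¹ * polar ⇑Q y z), ?_⟩
    show ap K z - z = _
    rw [hKdef, ap_mul, refl_ap Q y z, refl_ap]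
    module
  have hinj : ∀ z ∈ D n, φ z = 0 → z = 0 := fun z hz h0 => by
    have h0' : ap K z = z := sub_eq_zero.1 h0
    by_contra hz0
    exact hne (member_eq hD (h0' ▸ hσ n z hz) hz hz0)
  have heq : (D n).map φ = P := by
    refine Submodule.eq_of_le_of_finrank_le hle ?_
    have hi : Function.Injective (φ.domRestrict (D n)) :=
      (injective_iff_map_eq_zero _).2 fun z hz => Subtype.ext (hinj z z.2 hz)
    have h1 := (LinearEquiv.ofInjective _ hi).finrank_eq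
    rw [LinearMap.range_domRestrict, hD.decomp.decomp.finrank_eq] at h1
    have h3 := finrank_pair_le (F := F) x y
    rw [← h1]
    exact h3.trans hk
  have hyP : y ∈ P := Submodule.mem_sup_right (Submodule.mem_span_singleton_self y)
  have hxP : x ∈ P := Submodule.mem_sup_left (Submodule.mem_span_singleton_self x)
  have hKy : ap K y = -y + ((Q x)⁻¹ * polar ⇑Q x y) • x := by
    have hy : Q y ≠ 0 := by rw [hxy]; exact hx
    rw [hKdef, ap_mul, refl_ap_self Q hy, map_neg, refl_ap]; abel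
  obtain ⟨w, hw, hwy⟩ : y ∈ (D n).map φ := heq ▸ hyP
  obtain ⟨u, hu, huy⟩ : ap K y ∈ (D n).map φ := by
    rw [heq, hKy]; exact P.add_mem (P.neg_mem hyP) (P.smul_mem _ hxP)
  change ap K w - w = y at hwy
  change ap K u - u = ap K y at huy
  have hmm : σ (σ n) ≠ σ n := fun h => hne (σ.injective h)
  have h1 : cmp hG.nd hD (σ n) (ap K y) = -ap K w := by
    conv_lhs => rw [← hwy]
    rw [map_sub, map_sub, cmp_of_mem_ne hG.nd hD hmm.symm (hσ _ _ (hσ n w hw)),
      cmp_of_mem hG.nd hD (hσ n w hw), zero_sub]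
  rw [← huy, map_sub, cmp_of_mem hG.nd hD (hσ n u hu), cmp_of_mem_ne hG.nd hD hne hu, sub_zero,
    ← map_neg] at h1
  rw [ap_inj K h1, map_neg, show -ap K w - -w = -(ap K w - w) by abel, hwy, hKy] at huy
  have h0 : ((Q x)⁻¹ * polar ⇑Q x y) • x = 0 := by
    have := congrArg (fun v => v + y) huy
    simpa [add_comm, add_left_comm, add_assoc] using this.symm
  rcases smul_eq_zero.1 h0 with h | h
  · exact mul_ne_zero (inv_ne_zero hx) hf h
  · exact hx (by rw [h, QuadraticMap.map_zero])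

theorem cmp_mem_pair (hG : Good Q) (hD : Geo.IsOrthogonalMDecomposition ⇑Q k D) {x y : ι → F}
    (hx : Q x ≠ 0) (hxy : x ∉ F ∙ y)
    (hfix : ∀ n, ∀ z ∈ D n, ap (refl Q x * refl Q y) z ∈ D n) (n : Fin t) :
    cmp hG.nd hD n x ∈ (F ∙ x) ⊔ (F ∙ y) := by
  obtain ⟨z, hzy, hzx⟩ := Forms.exists_dual_vector Q.polarBilin hG.nd.2 (F ∙ y) x hxy (Q x)
  have hzy' : polar ⇑Q z y = 0 := hzy y (Submodule.mem_span_singleton_self y)
  have hzx' : polar ⇑Q x z = Q x := by rw [pl_comm]; exact hzx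
  have hKz : z - ap (refl Q x * refl Q y) z = x := by
    rw [ap_mul, refl_ap_of_orth Q (v := y) (by rw [pl_comm]; exact hzy'), refl_ap, hzx',
      inv_mul_cancel₀ hx, one_smul, sub_sub_cancel]
  have e : cmp hG.nd hD n (ap (refl Q x * refl Q y) z) = ap (refl Q x * refl Q y) (cmp hG.nd hD n z) :=
    cmp_map hG.nd hD 1 hfix n z
  set w := cmp hG.nd hD n z with hw
  have hx' : cmp hG.nd hD n x = w - ap (refl Q x * refl Q y) w := by rw [← e, hw, ← map_sub, hKz]
  rw [hx', ap_mul, refl_ap Q y w, refl_ap]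
  exact mem_pair.2 ⟨(Q x)⁻¹ * polar ⇑Q x (w - ((Q y)⁻¹ * polar ⇑Q y w) • y),
    (Q y)⁻¹ * polar ⇑Q y w, by module⟩

theorem member_of_pair (hG : Good Q) (hD : Geo.IsOrthogonalMDecomposition ⇑Q k D) (hk : 2 ≤ k)
    {x y : ι → F} (hx : Q x ≠ 0) (hxy : Q y = Q x) (hf : polar ⇑Q x y ≠ 0) (hind : y ∉ F ∙ x)
    (hK : ((refl Q x * refl Q y : IsoGrp Q) : GL ι F) ∈ Geo.decompositionStabilizer D) :
    ∃ l, x ∈ D l ∧ y ∈ D l := by
  classical
  have hQ := hG.nd
  have hy : Q y ≠ 0 := by rw [hxy]; exact hx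
  have hx0 : x ≠ 0 := fun h => hx (by rw [h, QuadraticMap.map_zero])
  have hy0 : y ≠ 0 := fun h => hy (by rw [h, QuadraticMap.map_zero])
  have hind' : x ∉ F ∙ y := fun h => by
    obtain ⟨r, hr⟩ := Submodule.mem_span_singleton.1 h
    have hr0 : r ≠ 0 := fun h0 => hx0 (by rw [← hr, h0, zero_smul])
    exact hind (Submodule.mem_span_singleton.2 ⟨r⁻¹, by rw [← hr, inv_smul_smul₀ hr0]⟩)
  have hfix := pair_fix_members hG hD hk hx hxy hf hK
  have hK' : ((refl Q y * refl Q x : IsoGrp Q) : GL ι F) ∈ Geo.decompositionStabilizer D := by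
    have e : (refl Q x * refl Q y : IsoGrp Q)⁻¹ = refl Q y * refl Q x := by
      rw [_root_.mul_inv_rev, refl_inv, refl_inv]
    rw [← e]
    exact (Geo.decompositionStabilizer D).inv_mem hK
  have hfix' := pair_fix_members hG hD hk hy hxy.symm (by rwa [pl_comm]) hK'
  set P := (F ∙ x) ⊔ (F ∙ y) with hP
  have hcx : ∀ n, cmp hQ hD n x ∈ P := cmp_mem_pair hG hD hx hind' hfix
  have hcy : ∀ n, cmp hQ hD n y ∈ P := fun n => by
    rw [hP, sup_comm]; exact cmp_mem_pair hG hD hy hind hfix' n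
  obtain ⟨n, hn⟩ : ∃ n, cmp hQ hD n x ≠ 0 := by
    by_contra! h
    exact hx0 (by rw [← sum_cmp hQ hD x, Finset.sum_eq_zero fun l _ => h l])
  by_cases hone : ∀ m, m ≠ n → cmp hQ hD m x = 0 ∧ cmp hQ hD m y = 0
  · refine ⟨n, ?_, ?_⟩
    · rw [← sum_cmp hQ hD x, Finset.sum_eq_single n (fun m _ hm => (hone m hm).1)
        (fun h => absurd (Finset.mem_univ n) h)]
      exact cmp_mem hQ hD n x
    · rw [← sum_cmp hQ hD y, Finset.sum_eq_single n (fun m _ hm => (hone m hm).2)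
        (fun h => absurd (Finset.mem_univ n) h)]
      exact cmp_mem hQ hD n y
  exfalso
  push Not at hone
  obtain ⟨m, hmn, hm⟩ := hone
  obtain ⟨b, hb, hb0, hbD⟩ : ∃ b ∈ P, b ≠ 0 ∧ b ∈ D m := by
    by_cases h : cmp hQ hD m x = 0
    · exact ⟨_, hcy m, hm h, cmp_mem hQ hD m y⟩
    · exact ⟨_, hcx m, h, cmp_mem hQ hD m x⟩
  set a := cmp hQ hD n x with ha
  have haD : a ∈ D n := cmp_mem hQ hD n x
  have hab : P = (F ∙ a) ⊔ (F ∙ b) := by
    refine (Submodule.eq_of_le_of_finrank_le (sup_le ((Submodule.span_singleton_le_iff_mem _ _).2 (hcx n))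
      ((Submodule.span_singleton_le_iff_mem _ _).2 hb)) ?_).symm
    have h := Submodule.finrank_sup_add_finrank_inf_eq (F ∙ a) (F ∙ b)
    have hbot : (F ∙ a) ⊓ (F ∙ b) = ⊥ := by
      rw [eq_bot_iff]
      rintro z ⟨h1, h3⟩
      by_contra hz
      exact hmn (member_eq hD ((Submodule.span_singleton_le_iff_mem _ _).2 hbD h3)
        ((Submodule.span_singleton_le_iff_mem _ _).2 haD h1) hz)
    rw [hbot, finrank_bot, finrank_span_singleton hn, finrank_span_singleton hb0] at h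
    have := finrank_pair_le (F := F) x y
    have e2 : finrank F ((F ∙ a) ⊔ (F ∙ b) : Submodule F (ι → F)) = 2 := by
      rw [add_zero] at h; exact h
    exact (finrank_pair_le (F := F) x y).trans e2.ge
  obtain ⟨p1, q1, e1⟩ := mem_pair.1 (hab ▸ (Submodule.mem_sup_left (Submodule.mem_span_singleton_self x)) : x ∈ (F ∙ a) ⊔ (F ∙ b))
  obtain ⟨p2, q2, e2⟩ := mem_pair.1 (hab ▸ (Submodule.mem_sup_right (Submodule.mem_span_singleton_self y)) : y ∈ (F ∙ a) ⊔ (F ∙ b))
  -- the pair fixes both lines only if `x`, `y` are dependent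
  have hcoef : ∀ {p q : F} {l l' : Fin t} {u v : ι → F}, l ≠ l' → u ∈ D l → v ∈ D l' → u ≠ 0 → v ≠ 0 →
      ∀ {p' q' : F}, x = p • u + q • v → y = p' • u + q' • v →
        p' * q' + (p - (Q x)⁻¹ * p' * polar ⇑Q x y) * q = 0 := by
    intro p q l l' u v hll hu hv hu0 hv0 p' q' ex ey
    obtain ⟨z, hz, huz⟩ := member_nondeg hD l u hu hu0
    set z' := (polar ⇑Q u z)⁻¹ • z with hz'
    have hz'D : z' ∈ D l := (D l).smul_mem _ hz
    have huz' : polar ⇑Q u z' = 1 := by rw [hz', pl_smul_right, inv_mul_cancel₀ huz]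
    have hxz : polar ⇑Q x z' = p := by
      rw [ex, pl_add_left, pl_smul_left, pl_smul_left, huz', member_orth hD hll.symm hv hz'D]; ring
    have hyz : polar ⇑Q y z' = p' := by
      rw [ey, pl_add_left, pl_smul_left, pl_smul_left, huz', member_orth hD hll.symm hv hz'D]; ring
    have hcx' : cmp hQ hD l' x = q • v := by
      rw [ex, map_add, map_smul, map_smul, cmp_of_mem_ne hQ hD hll.symm hu, cmp_of_mem hQ hD hv,
        smul_zero, zero_add]
    have hcy' : cmp hQ hD l' y = q' • v := by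
      rw [ey, map_add, map_smul, map_smul, cmp_of_mem_ne hQ hD hll.symm hu, cmp_of_mem hQ hD hv,
        smul_zero, zero_add]
    clear_value z'
    have h := cmp_of_mem_ne hQ hD hll.symm (hfix l z' hz'D)
    rw [ap_mul, refl_ap Q y z', refl_ap, pl_sub_right, pl_smul_right, hxz, hyz, hxy, map_sub, map_sub,
      map_smul, map_smul, cmp_of_mem_ne hQ hD hll.symm hz'D, hcx', hcy', smul_smul, smul_smul, zero_sub,
      ← neg_smul, ← sub_smul] at h
    have h' := (smul_eq_zero.1 h).resolve_right hv0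
    field_simp at h'
    field_simp
    linear_combination -h'
  have h1 := hcoef hmn.symm haD hbD hn hb0 e1 e2
  have h2 := hcoef hmn hbD haD hb0 hn (e1.trans (add_comm _ _)) (e2.trans (add_comm _ _))
  have hp1 : p1 = 1 := by
    have h := congrArg (cmp hQ hD n) e1
    rw [map_add, map_smul, map_smul, cmp_of_mem hQ hD haD, cmp_of_mem_ne hQ hD hmn.symm hbD, smul_zero,
      add_zero, ← ha] at h
    have h' : (p1 - 1) • a = 0 := by rw [sub_smul, one_smul, ← h, sub_self]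
    exact sub_eq_zero.1 ((smul_eq_zero.1 h').resolve_right hn)
  subst hp1
  have h3 : (Q x)⁻¹ * polar ⇑Q x y * (q1 * p2 - q2) = 0 := by linear_combination -h1 + h2
  rcases mul_eq_zero.1 h3 with h | h
  · exact mul_ne_zero (inv_ne_zero hx) hf h
  · refine hind (Submodule.mem_span_singleton.2 ⟨p2, ?_⟩)
    rw [e2, e1, sub_eq_zero.1 h |>.symm]
    module

/-! ### inside a member of dimension at least four -/

theorem two_mul_finrank_le_in (hQ : Q.polarBilin.Nondegenerate) {W X : Submodule F (ι → F)}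
    (hW : ∀ x ∈ W, x ≠ 0 → ∃ y ∈ W, polar ⇑Q x y ≠ 0) (hXW : X ≤ W) :
    finrank F (W ⊓ perpSub Q X : Submodule F (ι → F)) + finrank F X ≤ finrank F W := by
  have hle : perpSub Q W ⊔ (W ⊓ perpSub Q X) ≤ perpSub Q X :=
    sup_le (fun z hz => mem_perpSub.2 fun w hw => mem_perpSub.1 hz w (hXW hw)) inf_le_right
  have hbot : perpSub Q W ⊓ (W ⊓ perpSub Q X) = ⊥ := by
    rw [eq_bot_iff]; rintro z ⟨h1, h2, -⟩; exact disjoint_perpSub hW h2 h1
  have h1 := Submodule.finrank_mono hle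
  have h2 := Submodule.finrank_sup_add_finrank_inf_eq (perpSub Q W) (W ⊓ perpSub Q X)
  rw [hbot, finrank_bot, finrank_perpSub hQ] at h2
  rw [finrank_perpSub hQ] at h1
  have h3 := Submodule.finrank_le W
  have h4 := Submodule.finrank_le X
  rw [finrank_space] at h3 h4
  omega

theorem exists_dual_scaled (hQ : Q.polarBilin.Nondegenerate) {W : Submodule F (ι → F)}
    (hW : ∀ x ∈ W, x ≠ 0 → ∃ y ∈ W, polar ⇑Q x y ≠ 0) {w : ι → F} (hw : w ∈ W) (hw0 : w ≠ 0) (r : F) :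
    ∃ v ∈ W, polar ⇑Q v w = r := by
  obtain ⟨v, hv, -, hvw⟩ := exists_dual_in hQ hW (bot_le : (⊥ : Submodule F (ι → F)) ≤ W) hw
    (by simpa using hw0)
  exact ⟨r • v, W.smul_mem _ hv, by rw [pl_smul_left, hvw, mul_one]⟩

theorem exists_norm_polar (hQ : Q.polarBilin.Nondegenerate) {W : Submodule F (ι → F)}
    (hW : ∀ x ∈ W, x ≠ 0 → ∃ y ∈ W, polar ⇑Q x y ≠ 0) (hk : 4 ≤ finrank F W) {w : ι → F} (hw : w ∈ W)
    (hw0 : w ≠ 0) (s r : F) : ∃ p ∈ W, Q p = s ∧ polar ⇑Q p w = r := by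
  obtain ⟨v, hv, hvw⟩ := exists_dual_scaled hQ hW hw hw0 r
  obtain ⟨p, hp, hQp, hpw⟩ := exists_quad_affine hQ hW (P := F ∙ w)
    ((Submodule.span_singleton_le_iff_mem _ _).2 hw) (by rw [finrank_span_singleton hw0]; omega) hv s
  exact ⟨p, hp, hQp, by rw [hpw w (Submodule.mem_span_singleton_self w), hvw]⟩

theorem exists_singular_perp (hQ : Q.polarBilin.Nondegenerate) {W : Submodule F (ι → F)}
    (hk : 4 ≤ finrank F W) (w : ι → F) :
    ∃ z ∈ W, z ≠ 0 ∧ Q z = 0 ∧ polar ⇑Q w z = 0 := by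
  have h := finrank_inf_perp_ge hQ W w
  obtain ⟨v, hv0, hv⟩ := Forms.exists_singular_of_three_le
    (Q.comp (W ⊓ perpSub Q (F ∙ w)).subtype) (by omega)
  exact ⟨v, v.2.1, fun h => hv0 (Subtype.ext h), hv,
    mem_perpSub.1 v.2.2 w (Submodule.mem_span_singleton_self w)⟩

theorem exists_partner_big (hQ : Q.polarBilin.Nondegenerate) {W : Submodule F (ι → F)}
    (hW : ∀ x ∈ W, x ≠ 0 → ∃ y ∈ W, polar ⇑Q x y ≠ 0) (hk : 4 ≤ finrank F W) {a : ι → F}
    (ha : a ∈ W) (hQa : Q a ≠ 0) :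
    ∃ b ∈ W, Q b = Q a ∧ polar ⇑Q a b ≠ 0 ∧ b ∉ F ∙ a := by
  have ha0 : a ≠ 0 := fun h => hQa (by rw [h, QuadraticMap.map_zero])
  by_cases h2 : (2 : F) = 0
  · obtain ⟨b, hb, hQb, hba⟩ := exists_norm_polar hQ hW hk ha ha0 (Q a) 1
    refine ⟨b, hb, hQb, by rw [pl_comm, hba]; exact one_ne_zero, fun h => ?_⟩
    obtain ⟨r, rfl⟩ := Submodule.mem_span_singleton.1 h
    rw [pl_smul_left, pl_self, h2, zero_mul, mul_zero] at hba
    exact zero_ne_one hba
  · obtain ⟨z, hz, hz0, hQz, haz⟩ := exists_singular_perp hQ hk a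
    refine ⟨a + z, W.add_mem ha hz, by rw [Q_add, hQz, haz]; ring,
      by rw [pl_add_right, pl_self, haz, add_zero]; exact mul_ne_zero h2 hQa, fun h => ?_⟩
    obtain ⟨r, hr⟩ := Submodule.mem_span_singleton.1 ((Submodule.add_mem_iff_right _
      (Submodule.mem_span_singleton_self a)).1 h)
    rw [← hr, Q_smul] at hQz
    rcases mul_eq_zero.1 hQz with h' | h'
    · exact hz0 (by rw [← hr, mul_self_eq_zero.1 h', zero_smul])
    · exact hQa h'

theorem exists_anisotropic_perp_big (hG : Good Q) (hD : Geo.IsOrthogonalMDecomposition ⇑Q k D)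
    (hk : 4 ≤ k) {x y : ι → F} (hx : Q x ≠ 0) :
    ∃ l, ∃ p ∈ D l, Q p ≠ 0 ∧ polar ⇑Q x p = 0 ∧ polar ⇑Q y p = 0 := by
  classical
  by_contra! h
  refine hx ?_
  rw [Q_eq_sum_cmp hG.nd hD x]
  refine Finset.sum_eq_zero fun l _ => ?_
  set X := D l ⊓ perpSub Q ((F ∙ x) ⊔ (F ∙ y))
  have hXP : ∀ z ∈ X, polar ⇑Q x z = 0 ∧ polar ⇑Q y z = 0 := fun z hz =>
    ⟨mem_perpSub.1 hz.2 x (Submodule.mem_sup_left (Submodule.mem_span_singleton_self x)),
      mem_perpSub.1 hz.2 y (Submodule.mem_sup_right (Submodule.mem_span_singleton_self y))⟩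
  have hsing : ∀ z ∈ X, Q z = 0 := fun z hz => by
    by_contra h0
    exact h l z hz.1 h0 (hXP z hz).1 (hXP z hz).2
  have hr := hD.decomp.decomp.finrank_eq l
  have h1 : finrank F (D l) ≤ finrank F X + finrank F ((F ∙ x) ⊔ (F ∙ y) : Submodule F (ι → F)) :=
    finrank_le_perp_inf hG.nd (D l) ((F ∙ x) ⊔ (F ∙ y))
  have h2 := finrank_pair_le (F := F) x y
  have h3 := two_mul_finrank_le_in hG.nd (member_nondeg hD l) (X := X) inf_le_left
  have hXX : X ≤ D l ⊓ perpSub Q X := fun z hz => ⟨hz.1, mem_perpSub.2 fun w hw => by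
    have := hsing _ (X.add_mem hw hz)
    rw [Q_add, hsing w hw, hsing z hz] at this
    simpa using this⟩
  have h4 := Submodule.finrank_mono hXX
  have heq : X = D l ⊓ perpSub Q X := Submodule.eq_of_le_of_finrank_le hXX (by omega)
  refine hsing _ (heq ▸ ⟨cmp_mem hG.nd hD l x, mem_perpSub.2 fun w hw => ?_⟩)
  rw [pl_comm, polar_cmp hG.nd hD hw.1, (hXP w hw).1]

theorem mem_decomp_of_maps_big (hG : Good Q) (hD : Geo.IsOrthogonalMDecomposition ⇑Q k D)
    (hk : 4 ≤ k) (hex : k = 4 → Fintype.card F = 2 → ∀ i, ¬ Geo.IsPlusTypeOn ⇑Q (D i))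
    (hc : c ≠ 0) {g : IsoGrp Q}
    (h : ∀ i, ∀ x ∈ D i, Q x = c → ∃ j, ap g x ∈ D j) :
    (g : GL ι F) ∈ Geo.decompositionStabilizer D := by
  classical
  have hr := hD.decomp.decomp.finrank_eq
  refine mem_decomp_of_maps_members hD (by omega) fun i => ?_
  have hnd := member_nondeg hD i
  have hki : 4 ≤ finrank F (D i) := by rw [hr]; exact hk
  obtain ⟨p0, hp0, hQp0⟩ := exists_Q_eq_in (Q := Q) (D i) hnd (by omega) c
  obtain ⟨j, hj⟩ := h i p0 hp0 hQp0
  refine ⟨j, ?_⟩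
  by_contra! hne
  obtain ⟨x, hx, hgx⟩ := hne
  have hspan : D i ≤ Submodule.span F {p | p ∈ D i ∧ Q p = c} := by
    set U := Submodule.span F {p | p ∈ D i ∧ Q p = c}
    have hUW : U ≤ D i := Submodule.span_le.2 fun p hp => hp.1
    by_contra hne
    obtain ⟨z, ⟨hz, hzU⟩, hz0⟩ : ∃ z ∈ D i ⊓ perpSub Q U, z ≠ 0 := by
      refine Submodule.exists_mem_ne_zero_of_ne_bot fun h => hne ?_
      have := finrank_le_perp_inf hG.nd (D i) U
      rw [h, finrank_bot, zero_add] at this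
      rw [Submodule.eq_of_le_of_finrank_le hUW this]
    obtain ⟨p, hp, hQp, hpz⟩ := exists_norm_polar hG.nd hnd hki hz hz0 c 1
    rw [mem_perpSub.1 hzU p (Submodule.subset_span ⟨hp, hQp⟩)] at hpz
    exact zero_ne_one hpz
  set S1 := {p : ι → F | (p ∈ D i ∧ Q p = c) ∧ ap g p ∈ D j}
  set S2 := {p : ι → F | (p ∈ D i ∧ Q p = c) ∧ ap g p ∉ D j}
  set U1 := Submodule.span F S1
  set U2 := Submodule.span F S2
  have hsup : D i ≤ U1 ⊔ U2 := hspan.trans (Submodule.span_le.2 fun p hp => by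
    by_cases hgp : ap g p ∈ D j
    · exact Submodule.mem_sup_left (Submodule.subset_span ⟨hp, hgp⟩)
    · exact Submodule.mem_sup_right (Submodule.subset_span ⟨hp, hgp⟩))
  obtain ⟨q, ⟨⟨hq, hQq⟩, hgq⟩⟩ : ∃ q, q ∈ S2 := by
    by_contra! hS2
    refine hgx ((hspan.trans (Submodule.span_le.2 fun p hp => ?_)) hx : x ∈ (D j).comap (ap g))
    by_contra hp'
    exact hS2 p ⟨hp, hp'⟩
  have horth : ∀ a ∈ U1, ∀ b ∈ U2, polar ⇑Q a b = 0 := by
    intro a ha b hb
    have h1 : ∀ a ∈ S1, U2 ≤ LinearMap.ker (Q.polarBilin a) := fun a ha => Submodule.span_le.2 fun b hb => by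
      obtain ⟨l, hl⟩ := h i b hb.1.1 hb.1.2
      have hlj : j ≠ l := fun e => hb.2 (e ▸ hl)
      show polar ⇑Q a b = 0
      rw [← polar_ap g]
      exact member_orth hD hlj ha.2 hl
    have h2' : U1 ≤ LinearMap.ker (Q.polarBilin.flip b) := Submodule.span_le.2 fun a ha => h1 a ha hb
    exact h2' ha
  have hU1D : U1 ≤ D i := Submodule.span_le.2 fun p hp => hp.1.1
  have hU2D : U2 ≤ D i := Submodule.span_le.2 fun p hp => hp.1.1
  have hnd1 : ∀ a ∈ U1, a ≠ 0 → ∃ b ∈ U1, polar ⇑Q a b ≠ 0 := by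
    intro a ha ha0
    obtain ⟨y, hy, hay⟩ := hnd a (hU1D ha) ha0
    obtain ⟨y1, hy1, y2, hy2, rfl⟩ := Submodule.mem_sup.1 (hsup hy)
    exact ⟨y1, hy1, by rwa [pl_add_right, horth a ha y2 hy2, add_zero] at hay⟩
  have hnd2 : ∀ a ∈ U2, a ≠ 0 → ∃ b ∈ U2, polar ⇑Q a b ≠ 0 := by
    intro a ha ha0
    obtain ⟨y, hy, hay⟩ := hnd a (hU2D ha) ha0
    obtain ⟨y1, hy1, y2, hy2, rfl⟩ := Submodule.mem_sup.1 (hsup hy)
    exact ⟨y2, hy2, by rwa [pl_add_right, pl_comm Q a y1, horth y1 hy1 a ha, zero_add] at hay⟩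
  suffices hw : ∃ u ∈ U1, ∃ v ∈ U2, u ≠ 0 ∧ v ≠ 0 ∧ Q u + Q v = c by
    obtain ⟨u, hu, v, hv, hu0, hv0, hQ'⟩ := hw
    have hQw : Q (u + v) = c := by rw [Q_add, horth u hu v hv, hQ', add_zero]
    have hwD : u + v ∈ D i := (D i).add_mem (hU1D hu) (hU2D hv)
    by_cases hgw : ap g (u + v) ∈ D j
    · obtain ⟨b, hb, hvb⟩ := hnd2 v hv hv0
      refine hvb ?_
      have := horth _ (Submodule.subset_span ⟨⟨hwD, hQw⟩, hgw⟩) b hb
      rwa [pl_add_left, horth u hu b hb, zero_add] at this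
    · obtain ⟨b, hb, hub⟩ := hnd1 u hu hu0
      refine hub ?_
      have := horth b hb _ (Submodule.subset_span ⟨⟨hwD, hQw⟩, hgw⟩)
      rwa [pl_add_right, horth b hb v hv, add_zero, pl_comm] at this
  have hp0U : p0 ∈ U1 := Submodule.subset_span ⟨⟨hp0, hQp0⟩, hj⟩
  have hqU : q ∈ U2 := Submodule.subset_span ⟨⟨hq, hQq⟩, hgq⟩
  have hne : ∀ {v : ι → F}, Q v ≠ 0 → v ≠ 0 := fun h h0 => h (by rw [h0, QuadraticMap.map_zero])
  by_cases hsing1 : ∃ u ∈ U1, u ≠ 0 ∧ Q u = 0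
  · obtain ⟨u, hu, hu0, hQu⟩ := hsing1
    exact ⟨u, hu, q, hqU, hu0, hne (by rw [hQq]; exact hc), by rw [hQu, zero_add, hQq]⟩
  by_cases hsing2 : ∃ v ∈ U2, v ≠ 0 ∧ Q v = 0
  · obtain ⟨v, hv, hv0, hQv⟩ := hsing2
    exact ⟨p0, hp0U, v, hv, hne (by rw [hQp0]; exact hc), hv0, by rw [hQv, add_zero, hQp0]⟩
  push Not at hsing1 hsing2
  have h13 : finrank F U1 ≤ 2 := by
    by_contra h13
    obtain ⟨u, hu, hu0, hQu⟩ := exists_ne_zero_Q_eq hnd1 (by omega) 0
    exact hsing1 u hu hu0 hQu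
  have h23 : finrank F U2 ≤ 2 := by
    by_contra h23
    obtain ⟨u, hu, hu0, hQu⟩ := exists_ne_zero_Q_eq hnd2 (by omega) 0
    exact hsing2 u hu hu0 hQu
  have hsum : k ≤ finrank F U1 + finrank F U2 := by
    rw [← hr i]
    exact (Submodule.finrank_mono hsup).trans (Submodule.finrank_add_le_finrank_add_finrank U1 U2)
  by_cases hq2 : Fintype.card F = 2
  swap
  · obtain ⟨s, hs0, hs1⟩ := exists_scalar_of_card (F := F) hq2
    obtain ⟨u, hu, hQu⟩ := exists_Q_eq_in (Q := Q) U1 hnd1 (by omega) (s * c)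
    obtain ⟨v, hv, hQv⟩ := exists_Q_eq_in (Q := Q) U2 hnd2 (by omega) (c - s * c)
    have hb : c - s * c ≠ 0 := fun h => hs1 (mul_right_cancel₀ hc (by linear_combination -h))
    exact ⟨u, hu, v, hv, hne (by rw [hQu]; exact mul_ne_zero hs0 hc), hne (by rw [hQv]; exact hb),
      by rw [hQu, hQv]; ring⟩
  -- both parts are minus planes over `𝔽₂`
  exfalso
  have h01 : ∀ a : F, a = 0 ∨ a = 1 := fun a => by
    by_contra! h
    have := Finset.card_le_univ ({0, 1, a} : Finset F)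
    rw [Finset.card_eq_three.2 ⟨0, 1, a, zero_ne_one, h.1.symm, h.2.symm, rfl⟩, hq2] at this
    omega
  have hc1 : c = 1 := (h01 c).resolve_left hc
  have hplane : ∀ U : Submodule F (ι → F), finrank F U = 2 → (∀ u ∈ U, u ≠ 0 → Q u ≠ 0) →
      ∃ a ∈ U, ∃ b ∈ U, Q a = 1 ∧ Q b = 1 ∧ polar ⇑Q a b = 1 ∧ b ∉ F ∙ a := by
    intro U hU hns
    obtain ⟨a, ha, ha0⟩ := Submodule.exists_mem_ne_zero_of_ne_bot (p := U)
      (fun e => by rw [e, finrank_bot] at hU; omega)
    obtain ⟨b, hb, hba⟩ := SetLike.not_le_iff_exists.1 (show ¬ U ≤ F ∙ a from fun hle => by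
      have := Submodule.finrank_mono hle
      rw [hU, finrank_span_singleton ha0] at this; omega)
    have h1 : ∀ u ∈ U, u ≠ 0 → Q u = 1 := fun u hu hu0 => (h01 _).resolve_left (hns u hu hu0)
    have hb0 : b ≠ 0 := fun h => hba (h ▸ Submodule.zero_mem _)
    have hab0 : a + b ≠ 0 := fun h => hba (by
      rw [show b = -a by rw [eq_neg_iff_add_eq_zero, add_comm]; exact h]
      exact Submodule.neg_mem _ (Submodule.mem_span_singleton_self a))
    have := h1 _ (U.add_mem ha hb) hab0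
    rw [Q_add, h1 a ha ha0, h1 b hb hb0] at this
    have h2 : (2 : F) = 0 := by
      have := FiniteField.cast_card_eq_zero F
      rw [hq2] at this; exact_mod_cast this
    exact ⟨a, ha, b, hb, h1 a ha ha0, h1 b hb hb0, by linear_combination this - h2, hba⟩
  obtain ⟨a, ha, b, hb, hQa, hQb, hab, hba⟩ := hplane U1 (by omega) hsing1
  obtain ⟨a', ha', b', hb', hQa', hQb', hab', -⟩ := hplane U2 (by omega) hsing2
  have h2 : (1 : F) + 1 = 0 := by
    have := FiniteField.cast_card_eq_zero F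
    rw [hq2] at this; rw [one_add_one_eq_two]; exact_mod_cast this
  refine hex (by omega) hq2 i ⟨(F ∙ (a + a')) ⊔ (F ∙ (b + b')), sup_le
    ((Submodule.span_singleton_le_iff_mem _ _).2 ((D i).add_mem (hU1D ha) (hU2D ha')))
    ((Submodule.span_singleton_le_iff_mem _ _).2 ((D i).add_mem (hU1D hb) (hU2D hb'))), fun w hw => ?_, ?_⟩
  · obtain ⟨s, r, rfl⟩ := mem_pair.1 hw
    rw [Q_add, Q_smul, Q_smul, pl_smul_left, pl_smul_right, Q_add, Q_add, pl_add_left, pl_add_right,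
      pl_add_right, horth a ha a' ha', horth b hb b' hb', horth a ha b' hb', pl_comm Q a' b,
      horth b hb a' ha', hQa, hQa', hQb, hQb', hab, hab']
    linear_combination (s * s + r * r + s * r) * h2
  · have hind : LinearIndependent F ![a + a', b + b'] := by
      rw [LinearIndependent.pair_iff]
      intro s r hsr
      have h0 : s • a + r • b = 0 := by
        have hz : s • a + r • b = -(s • a' + r • b') := by
          rw [eq_neg_iff_add_eq_zero, ← hsr]; module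
        have hmem : s • a + r • b ∈ U2 := hz ▸ U2.neg_mem (U2.add_mem (U2.smul_mem _ ha') (U2.smul_mem _ hb'))
        by_contra hne'
        obtain ⟨y, hy, hy'⟩ := hnd1 _ (U1.add_mem (U1.smul_mem _ ha) (U1.smul_mem _ hb)) hne'
        exact hy' (by rw [pl_comm]; exact horth y hy _ hmem)
      by_cases hr0 : r = 0
      · rw [hr0, zero_smul, add_zero] at h0
        exact ⟨(smul_eq_zero.1 h0).resolve_right (hne (by rw [hQa]; exact one_ne_zero)), hr0⟩
      · have h' : r⁻¹ • (s • a + r • b) = 0 := by rw [h0, smul_zero]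
        rw [smul_add, inv_smul_smul₀ hr0] at h'
        exact absurd (Submodule.mem_span_singleton.2 ⟨-(r⁻¹ * s), by
          rw [neg_smul, mul_smul]; exact (eq_neg_of_add_eq_zero_right h').symm⟩) hba
    have := finrank_span_eq_card hind
    rw [Matrix.range_cons, Matrix.range_cons, Matrix.range_empty, Set.union_empty,
      Submodule.span_union, Fintype.card_fin] at this
    rw [this, hr i]
    omega

/-- A new element fixing an anisotropic vector of a member. -/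
theorem exists_anchor_big (hG : Good Q) (hD : Geo.IsOrthogonalMDecomposition ⇑Q k D) (hk : 4 ≤ k)
    (hex : k = 4 → Fintype.card F = 2 → ∀ i, ¬ Geo.IsPlusTypeOn ⇑Q (D i))
    (hH : ∀ h : IsoGrp Q, h ∈ Omega F ⇑Q → (h : GL ι F) ∈ Geo.decompositionStabilizer D → h ∈ N)
    {g : IsoGrp Q} (hg : g ∈ N) (hgD : (g : GL ι F) ∉ Geo.decompositionStabilizer D) :
    ∃ g' ∈ N, (g' : GL ι F) ∉ Geo.decompositionStabilizer D ∧
      ∃ l, ∃ p ∈ D l, Q p ≠ 0 ∧ ap g' p = p := by
  by_contra! hcon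
  refine hgD (mem_decomp_of_maps_big hG hD hk hex one_ne_zero fun i a ha hQa => ?_)
  have hQa0 : Q a ≠ 0 := by rw [hQa]; exact one_ne_zero
  obtain ⟨b, hb, hQb, hab, hba⟩ := exists_partner_big hG.nd (member_nondeg hD i)
    (by rw [hD.decomp.decomp.finrank_eq]; exact hk) ha hQa0
  have hKN : refl Q (ap g a) * refl Q (ap g b) ∈ N := by
    rw [← conj_refl, ← conj_refl, show g * refl Q a * g⁻¹ * (g * refl Q b * g⁻¹) =
      g * (refl Q a * refl Q b) * g⁻¹ by group]
    exact mul_mem (mul_mem hg (hH _ (refl_pair_mem_omega hG hQa0 hQb)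
      (mem_decomp_pair hG hD ⟨i, ha⟩ ⟨i, hb⟩))) (inv_mem hg)
  obtain ⟨l, p, hp, hQp, hxp, hyp⟩ := exists_anisotropic_perp_big hG hD hk (x := ap g a) (y := ap g b)
    (by rwa [Q_ap])
  by_cases hK : ((refl Q (ap g a) * refl Q (ap g b) : IsoGrp Q) : GL ι F) ∈ Geo.decompositionStabilizer D
  · obtain ⟨j, hj, -⟩ := member_of_pair hG hD (by omega) (by rwa [Q_ap]) (by rw [Q_ap, Q_ap, hQb])
      (by rwa [polar_ap]) (fun h => hba (by
        obtain ⟨r, hr⟩ := Submodule.mem_span_singleton.1 h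
        rw [← map_smul] at hr
        exact Submodule.mem_span_singleton.2 ⟨r, ap_inj g hr⟩)) hK
    exact ⟨j, hj⟩
  · refine absurd ?_ (hcon _ hKN hK l p hp hQp)
    rw [ap_mul, refl_ap_of_orth Q hyp, refl_ap_of_orth Q hxp]

/-! ### moving a component inside its member -/

set_option maxHeartbeats 800000 in
theorem transit_member_big (hG : Good Q) (hD : Geo.IsOrthogonalMDecomposition ⇑Q k D) (hk : 4 ≤ k)
    (h2k : (2 : F) = 0 → Even k)
    (hex : k = 4 → Fintype.card F = 2 → ∀ i, ¬ Geo.IsPlusTypeOn ⇑Q (D i))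
    (hH : ∀ h : IsoGrp Q, h ∈ Omega F ⇑Q → (h : GL ι F) ∈ Geo.decompositionStabilizer D → h ∈ N)
    (hS : PairClass Q N c S) (hNS : ∀ i, ∀ x ∈ D i, Q x = c → x ∈ S) {l : Fin t} {y : ι → F}
    (hy : y ∈ S) {u' : ι → F} (hu' : u' ∈ D l) (hu'0 : u' ≠ 0) (hy0 : cmp hG.nd hD l y ≠ 0)
    (hQu : Q u' = Q (cmp hG.nd hD l y)) : y - cmp hG.nd hD l y + u' ∈ S := by
  classical
  have hQ := hG.nd
  have hnd := member_nondeg hD l
  have hr := hD.decomp.decomp.finrank_eq l
  have hkl : 4 ≤ finrank F (D l) := by rw [hr]; exact hk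
  obtain ⟨a0, ha0, hQa0⟩ := exists_Q_eq_in (Q := Q) (D l) hnd (by omega) c
  -- one step
  have step : ∀ z ∈ S, ∀ w ∈ D l, Q w = Q (cmp hQ hD l z) → Q (cmp hQ hD l z - w) ≠ 0 →
      z - cmp hQ hD l z + w ∈ S := by
    intro z hz w hw hQw hne
    set u := cmp hQ hD l z with hu
    have huD : u ∈ D l := cmp_mem hQ hD l z
    set d := u - w with hd
    have hdD : d ∈ D l := (D l).sub_mem huD hw
    have hzd : polar ⇑Q z d = Q d := by
      rw [← polar_cmp hQ hD hdD, ← hu, hd, pl_sub_right, pl_self, Q_sub, hQw]; ring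
    obtain ⟨p, hp, hQp, hpu⟩ := exists_norm_polar hQ hnd hkl huD
      (fun h => hne (by rw [hd, h, zero_sub, QuadraticMap.map_neg, hQw, h, QuadraticMap.map_zero]))
      (Q d) 0
    have hzp : polar ⇑Q p z = 0 := by rw [pl_comm, ← polar_cmp hQ hD hp, ← hu, pl_comm]; exact hpu
    set h := refl Q d * refl Q p with hh
    have hN : h ∈ N := hH h (refl_pair_mem_omega hG hne hQp) (mem_decomp_pair hG hD ⟨l, hdD⟩ ⟨l, hp⟩)
    have hha : ap h a0 ∈ D l := by rw [hh, ap_mul]; exact refl_ap_mem hdD (refl_ap_mem hp ha0)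
    have := hS.move h hN a0 (hNS l a0 ha0 hQa0) (hNS l _ hha (by rw [Q_ap, hQa0])) z hz
    rw [hh, ap_mul, refl_ap_of_orth Q hzp, refl_ap, pl_comm Q d z, hzd, inv_mul_cancel₀ hne,
      one_smul] at this
    convert this using 1
    rw [hd]; abel
  set u := cmp hQ hD l y with hu
  have huD : u ∈ D l := cmp_mem hQ hD l y
  by_cases hne : Q (u - u') ≠ 0
  · exact step y hy u' hu' hQu hne
  push Not at hne
  have hf : polar ⇑Q u u' = 2 * Q u := by rw [Q_sub, hQu] at hne; linear_combination -hne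
  -- through an intermediate vector
  suffices hm : ∃ m ∈ D l, Q m = Q u ∧ polar ⇑Q u m ≠ 2 * Q u ∧ polar ⇑Q u' m ≠ 2 * Q u by
    obtain ⟨m, hm, hQm, hm1, hm2⟩ := hm
    have e1 := step y hy m hm hQm (fun h => hm1 (by rw [Q_sub, hQm] at h; linear_combination -h))
    have ec : cmp hQ hD l (y - u + m) = m := by
      rw [map_add, map_sub, ← hu, cmp_of_mem hQ hD huD, cmp_of_mem hQ hD hm, sub_self, zero_add]
    have e2 := step _ e1 u' hu' (by rw [ec, hQm, hQu]) (fun h => hm2 (by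
      rw [ec, Q_sub, hQm, hQu, pl_comm] at h; linear_combination -h))
    rw [ec] at e2
    convert e2 using 1
    abel
  by_cases hdep : u' ∈ F ∙ u
  · obtain ⟨a, ha⟩ := Submodule.mem_span_singleton.1 hdep
    have ha0' : a ≠ 0 := fun h => hu'0 (by rw [← ha, h, zero_smul])
    by_cases hs : 2 * Q u = 0
    · obtain ⟨m, hm, hQm, hmu⟩ := exists_norm_polar hQ hnd hkl huD hy0 (Q u) 1
      refine ⟨m, hm, hQm, by rw [pl_comm, hmu, hs]; exact one_ne_zero, ?_⟩
      rw [← ha, pl_smul_left, pl_comm, hmu, hs, mul_one]; exact ha0'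
    · obtain ⟨m, hm, hQm, hmu⟩ := exists_norm_polar hQ hnd hkl huD hy0 (Q u) 0
      refine ⟨m, hm, hQm, by rw [pl_comm, hmu]; exact Ne.symm hs, ?_⟩
      rw [← ha, pl_smul_left, pl_comm, hmu, mul_zero]; exact Ne.symm hs
  have hdep' : u ∉ F ∙ u' := fun h => by
    obtain ⟨a, ha⟩ := Submodule.mem_span_singleton.1 h
    refine hdep (Submodule.mem_span_singleton.2 ⟨a⁻¹, ?_⟩)
    rw [← ha, inv_smul_smul₀ (fun h0 : a = 0 => hy0 (by rw [← ha, h0, zero_smul]))]
  by_cases hQu0 : Q u = 0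
  · -- two partners
    rw [hQu0, mul_zero] at hf
    obtain ⟨f1, hf1, hQf1, huf1, hf1u'⟩ := exists_partner_in hQ hnd
      ((Submodule.span_singleton_le_iff_mem _ _).2 hu') huD hdep' hQu0 (fun s hs => by
        obtain ⟨r, rfl⟩ := Submodule.mem_span_singleton.1 hs
        rw [pl_smul_right, hf, mul_zero])
    have hf1u : polar ⇑Q f1 u' = 0 := hf1u' u' (Submodule.mem_span_singleton_self u')
    obtain ⟨f2, hf2, hQf2, hu'f2, hf2S⟩ := exists_partner_in hQ hnd (S := (F ∙ u) ⊔ (F ∙ f1))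
      (sup_le ((Submodule.span_singleton_le_iff_mem _ _).2 huD) ((Submodule.span_singleton_le_iff_mem _ _).2 hf1))
      hu' (fun h => by
        obtain ⟨a, b, e⟩ := mem_pair.1 h
        have : polar ⇑Q u' u = b := by
          rw [e, pl_add_left, pl_smul_left, pl_smul_left, pl_self, hQu0, pl_comm Q f1 u, huf1]; ring
        rw [pl_comm, hf] at this
        exact hdep (Submodule.mem_span_singleton.2 ⟨a, by rw [e, ← this, zero_smul, add_zero]⟩))
      (by rw [hQu, hQu0]) (fun s hs => by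
        obtain ⟨a, b, rfl⟩ := mem_pair.1 hs
        rw [pl_add_right, pl_smul_right, pl_smul_right, pl_comm Q u' u, hf, pl_comm Q u' f1, hf1u]
        ring)
    have h1 := hf2S u (Submodule.mem_sup_left (Submodule.mem_span_singleton_self u))
    have h3 := hf2S f1 (Submodule.mem_sup_right (Submodule.mem_span_singleton_self f1))
    refine ⟨f1 + f2, (D l).add_mem hf1 hf2, ?_, ?_, ?_⟩
    · rw [Q_add, hQf1, hQf2, hQu0, pl_comm, h3]; ring
    · rw [pl_add_right, huf1, pl_comm Q u f2, h1, add_zero, hQu0, mul_zero]; exact one_ne_zero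
    · rw [pl_add_right, pl_comm Q u' f1, hf1u, hu'f2, zero_add, hQu0, mul_zero]; exact one_ne_zero
  -- `u' - u` is singular
  set d := u' - u with hd
  have hdD : d ∈ D l := (D l).sub_mem hu' huD
  have hQd : Q d = 0 := by rw [hd, Q_sub, hQu, pl_comm, hf]; ring
  have hud : polar ⇑Q u d = 0 := by rw [hd, pl_sub_right, hf, pl_self, sub_self]
  have hdu : d ∉ F ∙ u := fun h => hdep (by
    have := Submodule.add_mem _ h (Submodule.mem_span_singleton_self u)
    rwa [hd, sub_add_cancel] at this)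
  obtain ⟨f, hfD, hQf, hdf, hfu'⟩ := exists_partner_in hQ hnd
    ((Submodule.span_singleton_le_iff_mem _ _).2 huD) hdD hdu hQd (fun s hs => by
      obtain ⟨r, rfl⟩ := Submodule.mem_span_singleton.1 hs
      rw [pl_smul_right, pl_comm, hud, mul_zero])
  have hfu : polar ⇑Q f u = 0 := hfu' u (Submodule.mem_span_singleton_self u)
  have hu'e : u' = u + d := by rw [hd]; abel
  by_cases h2 : (2 : F) = 0
  swap
  · have h4 : (4 : F) ≠ 0 := by rw [show (4 : F) = 2 * 2 by norm_num]; exact mul_ne_zero h2 h2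
    set δ := -(2 * Q u) with hδ
    have hδ0 : δ ≠ 0 := neg_ne_zero.2 (mul_ne_zero h2 hQu0)
    refine ⟨(Q u / δ) • d + δ • f, (D l).add_mem ((D l).smul_mem _ hdD) ((D l).smul_mem _ hfD), ?_, ?_, ?_⟩
    · rw [Q_add, Q_smul, Q_smul, hQd, hQf, pl_smul_left, pl_smul_right, hdf]; field_simp; ring
    · rw [pl_add_right, pl_smul_right, pl_smul_right, hud, pl_comm Q u f, hfu]
      simpa using (mul_ne_zero h2 hQu0).symm
    · rw [hu'e, pl_add_right, pl_add_left, pl_add_left, pl_smul_right, pl_smul_right, pl_smul_right,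
        pl_smul_right, hud, pl_comm Q u f, hfu, pl_self, hQd, hdf, hδ]
      intro h
      exact mul_ne_zero h4 hQu0 (by linear_combination -h)
  by_cases hq : Fintype.card F = 2
  swap
  · obtain ⟨δ, hδ0, hδ1⟩ := exists_scalar_of_card (F := F) hq
    obtain ⟨s, hs, hsS, hsu⟩ := exists_dual_in hQ hnd (S := (F ∙ d) ⊔ (F ∙ f))
      (sup_le ((Submodule.span_singleton_le_iff_mem _ _).2 hdD) ((Submodule.span_singleton_le_iff_mem _ _).2 hfD))
      huD (fun h => by
        obtain ⟨a, b, e⟩ := mem_pair.1 h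
        have hb : polar ⇑Q u d = b := by
          rw [e, pl_add_left, pl_smul_left, pl_smul_left, pl_self, hQd, pl_comm Q f d, hdf]; ring
        have ha : polar ⇑Q u f = a := by
          rw [e, pl_add_left, pl_smul_left, pl_smul_left, pl_self, hQf, hdf]; ring
        rw [hud] at hb; rw [pl_comm, hfu] at ha
        exact hy0 (by rw [e, ← ha, ← hb, zero_smul, zero_smul, add_zero]))
    have hsd := hsS d (Submodule.mem_sup_left (Submodule.mem_span_singleton_self d))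
    have hsf := hsS f (Submodule.mem_sup_right (Submodule.mem_span_singleton_self f))
    refine ⟨((Q u - Q s) / δ) • d + δ • f + s,
      (D l).add_mem ((D l).add_mem ((D l).smul_mem _ hdD) ((D l).smul_mem _ hfD)) hs, ?_, ?_, ?_⟩
    · rw [Q_add, Q_add, Q_smul, Q_smul, hQd, hQf, pl_add_left, pl_smul_left, pl_smul_left, pl_smul_left,
        pl_smul_right, hdf, pl_comm Q d s, hsd, pl_comm Q f s, hsf]
      field_simp; ring
    · rw [pl_add_right, pl_add_right, pl_smul_right, pl_smul_right, hud, pl_comm Q u f, hfu,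
        pl_comm Q u s, hsu, h2, zero_mul]
      simp
    · rw [hu'e, pl_add_right, pl_add_right, pl_add_left, pl_add_left, pl_add_left, pl_smul_right,
        pl_smul_right, pl_smul_right, pl_smul_right, hud, pl_comm Q u f, hfu, pl_self, hQd, hdf,
        pl_comm Q u s, hsu, pl_comm Q d s, hsd, h2, zero_mul]
      intro h
      exact hδ1 (by linear_combination h - h2)
  -- two elements only
  have h01 : ∀ a : F, a ≠ 0 → a = 1 := fun a ha => by
    by_contra h
    have := Finset.card_le_univ ({0, 1, a} : Finset F)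
    rw [Finset.card_eq_three.2 ⟨0, 1, a, zero_ne_one, Ne.symm ha, Ne.symm h, rfl⟩, hq] at this
    omega
  rcases (show k = 4 ∨ 6 ≤ k by
    obtain ⟨r, hr'⟩ := h2k h2
    omega) with hk4 | hk6
  swap
  · obtain ⟨v1, hv1, hv1S, hv1u⟩ := exists_dual_in hQ hnd (S := F ∙ d)
      ((Submodule.span_singleton_le_iff_mem _ _).2 hdD) huD (fun h => by
        obtain ⟨a, ha⟩ := Submodule.mem_span_singleton.1 h
        exact hQu0 (by rw [← ha, Q_smul, hQd, mul_zero]))
    obtain ⟨m, hm, hQm, hmP⟩ := exists_quad_affine hQ hnd (P := (F ∙ u) ⊔ (F ∙ d))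
      (sup_le ((Submodule.span_singleton_le_iff_mem _ _).2 huD) ((Submodule.span_singleton_le_iff_mem _ _).2 hdD))
      (by have := finrank_pair_le (F := F) u d; rw [hr]; omega) hv1 (Q u)
    have e1 : polar ⇑Q u m = 1 := by
      rw [pl_comm, hmP u (Submodule.mem_sup_left (Submodule.mem_span_singleton_self u)), hv1u]
    have e2 : polar ⇑Q d m = 0 := by
      rw [pl_comm, hmP d (Submodule.mem_sup_right (Submodule.mem_span_singleton_self d)),
        hv1S d (Submodule.mem_span_singleton_self d)]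
    refine ⟨m, hm, hQm, by rw [e1, h2, zero_mul]; exact one_ne_zero, ?_⟩
    rw [hu'e, pl_add_left, e1, e2, add_zero, h2, zero_mul]; exact one_ne_zero
  obtain ⟨s, hs, hsS, hsu⟩ := exists_dual_in hQ hnd (S := F ∙ d)
    ((Submodule.span_singleton_le_iff_mem _ _).2 hdD) huD (fun h => by
      obtain ⟨a, ha⟩ := Submodule.mem_span_singleton.1 h
      exact hQu0 (by rw [← ha, Q_smul, hQd, mul_zero]))
  have hsd := hsS d (Submodule.mem_span_singleton_self d)
  by_cases hQs : Q s = 0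
  · exfalso
    refine hex hk4 hq l ⟨(F ∙ d) ⊔ (F ∙ s), sup_le ((Submodule.span_singleton_le_iff_mem _ _).2 hdD)
      ((Submodule.span_singleton_le_iff_mem _ _).2 hs), fun w hw => ?_, ?_⟩
    · obtain ⟨a, b, rfl⟩ := mem_pair.1 hw
      rw [Q_add, Q_smul, Q_smul, pl_smul_left, pl_smul_right, hQd, hQs, pl_comm, hsd]; ring
    · have h := Submodule.finrank_sup_add_finrank_inf_eq (F ∙ d) (F ∙ s)
      have hbot : (F ∙ d) ⊓ (F ∙ s) = ⊥ := by
        rw [eq_bot_iff]
        rintro z ⟨h1, h3⟩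
        obtain ⟨a, rfl⟩ := Submodule.mem_span_singleton.1 h1
        obtain ⟨b, hb⟩ := Submodule.mem_span_singleton.1 h3
        have := congrArg (fun v => polar ⇑Q v u) hb
        simp only [pl_smul_left, hsu, pl_comm Q d u, hud, mul_zero, mul_one] at this
        rw [← hb, this, zero_smul]; exact Submodule.zero_mem _
      rw [hbot, finrank_bot, finrank_span_singleton (fun h => hdu (by rw [h]; exact Submodule.zero_mem _)),
        finrank_span_singleton (fun h => by rw [h, pl_zero_left] at hsu; exact zero_ne_one hsu)] at h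
      rw [hr, hk4]
      omega
  · refine ⟨s, hs, by rw [h01 _ hQs, h01 _ hQu0], ?_, ?_⟩
    · rw [pl_comm, hsu, h2, zero_mul]; exact one_ne_zero
    · rw [hu'e, pl_add_left, pl_comm Q u s, hsu, pl_comm Q d s, hsd, add_zero, h2, zero_mul]
      exact one_ne_zero

/-- A vector of the class with two non-zero components gives all of the class in two members. -/
theorem sphere_pair_big (hG : Good Q) (hD : Geo.IsOrthogonalMDecomposition ⇑Q k D) (hk : 4 ≤ k)
    (h2k : (2 : F) = 0 → Even k)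
    (hex : k = 4 → Fintype.card F = 2 → ∀ i, ¬ Geo.IsPlusTypeOn ⇑Q (D i)) (hc : c ≠ 0)
    (hH : ∀ h : IsoGrp Q, h ∈ Omega F ⇑Q → (h : GL ι F) ∈ Geo.decompositionStabilizer D → h ∈ N)
    (hS : PairClass Q N c S) (hNS : ∀ i, ∀ x ∈ D i, Q x = c → x ∈ S) {x : ι → F} (hx : x ∈ S)
    {i j : Fin t} (hij : i ≠ j) (hxi : Q (cmp hG.nd hD i x) ≠ 0) (hxj : cmp hG.nd hD j x ≠ 0) :
    ∀ u ∈ D i, ∀ v ∈ D j, Q u + Q v = c → u + v ∈ S := by
  classical
  have hQ := hG.nd
  have hnd := member_nondeg hD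
  have hkl : ∀ l, 4 ≤ finrank F (D l) := fun l => by rw [hD.decomp.decomp.finrank_eq]; exact hk
  have hne : ∀ {v : ι → F}, Q v ≠ 0 → v ≠ 0 := fun h h0 => h (by rw [h0, QuadraticMap.map_zero])
  have tr : ∀ {l : Fin t} {y : ι → F}, y ∈ S → ∀ {u' : ι → F}, u' ∈ D l → u' ≠ 0 →
      cmp hQ hD l y ≠ 0 → Q u' = Q (cmp hQ hD l y) → y - cmp hQ hD l y + u' ∈ S :=
    fun hy _ hu' hu'0 h0 hQu => transit_member_big hG hD hk h2k hex hH hS hNS hy hu' hu'0 h0 hQu
  -- difference of two components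
  have hdiff : ∀ y ∈ S, cmp hQ hD i y ≠ 0 → cmp hQ hD j y ≠ 0 → ∀ di ∈ D i, ∀ dj ∈ D j,
      di ≠ cmp hQ hD i y → dj ≠ cmp hQ hD j y →
      polar ⇑Q (cmp hQ hD i y) di = Q di → polar ⇑Q (cmp hQ hD j y) dj = Q dj → Q di + Q dj = c →
      di + dj ∈ S := by
    intro y hy hyi hyj di hdi dj hdj hni hnj hfi hfj hsum
    have hi := cmp_mem hQ hD i y
    have hj := cmp_mem hQ hD j y
    have h1 : y - di ∈ S := by
      have := tr hy ((D i).sub_mem hi hdi) (sub_ne_zero.2 hni.symm) hyi (by rw [Q_sub, hfi]; ring)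
      convert this using 1; abel
    have hcj : cmp hQ hD j (y - di) = cmp hQ hD j y := by
      rw [map_sub, cmp_of_mem_ne hQ hD hij.symm hdi, sub_zero]
    have h3 : y - di - dj ∈ S := by
      have := tr h1 (l := j) ((D j).sub_mem hj hdj) (sub_ne_zero.2 hnj.symm) (by rw [hcj]; exact hyj)
        (by rw [hcj, Q_sub, hfj]; ring)
      rw [hcj] at this
      convert this using 1; abel
    have h4 := hS.refl_mem _ hy _ h3
    have e : polar ⇑Q (y - di - dj) y = c := by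
      rw [pl_sub_left, pl_sub_left, pl_self, hS.norm y hy, pl_comm Q di y, pl_comm Q dj y,
        ← polar_cmp hQ hD hdi y, ← polar_cmp hQ hD hdj y, hfi, hfj]
      linear_combination -hsum
    rw [refl_ap, hS.norm _ h3, e, inv_mul_cancel₀ hc, one_smul] at h4
    convert h4 using 1
    abel
  have haff : ∀ l, ∀ w ∈ D l, w ≠ 0 → ∀ a : F, a ≠ 0 →
      ∃ d ∈ D l, Q d = a ∧ polar ⇑Q w d = Q d ∧ d ≠ w := by
    intro l w hw hw0 a ha
    obtain ⟨d, hd, hQd, hdw⟩ := exists_norm_polar hQ (hnd l) (hkl l) hw hw0 a a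
    refine ⟨d, hd, hQd, by rw [pl_comm, hdw, hQd], fun h => ha ?_⟩
    rw [h, pl_self] at hdw
    rw [h] at hQd
    linear_combination hdw - 2 * hQd
  have hzero : ∀ l, ∀ w ∈ D l, Q w ≠ 0 →
      ∃ d ∈ D l, d ≠ 0 ∧ Q d = 0 ∧ polar ⇑Q w d = Q d ∧ d ≠ w := by
    intro l w _ hQw
    obtain ⟨z, hz, hz0, hQz, hwz⟩ := exists_singular_perp hQ (hkl l) w
    exact ⟨z, hz, hz0, hQz, by rw [hwz, hQz], fun h => hQw (by rw [← h, hQz])⟩
  have hcmp : ∀ {u v : ι → F}, u ∈ D i → v ∈ D j →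
      cmp hQ hD i (u + v) = u ∧ cmp hQ hD j (u + v) = v := fun {u v} hu hv =>
    ⟨by rw [map_add, cmp_of_mem hQ hD hu, cmp_of_mem_ne hQ hD hij hv, add_zero],
      by rw [map_add, cmp_of_mem hQ hD hv, cmp_of_mem_ne hQ hD hij.symm hu, zero_add]⟩
  have htr2 : ∀ a ∈ D i, ∀ b ∈ D j, a + b ∈ S → a ≠ 0 → b ≠ 0 → ∀ u ∈ D i, ∀ v ∈ D j,
      u ≠ 0 → v ≠ 0 → Q u = Q a → Q v = Q b → u + v ∈ S := by
    intro a ha b hb hab ha0 hb0 u hu v hv hu0 hv0 hQu hQv
    have h1 := tr hab hu hu0 (by rw [(hcmp ha hb).1]; exact ha0) (by rw [(hcmp ha hb).1]; exact hQu)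
    rw [(hcmp ha hb).1, add_sub_cancel_left, add_comm] at h1
    have h3 := tr h1 (l := j) hv hv0 (by rw [(hcmp hu hb).2]; exact hb0)
      (by rw [(hcmp hu hb).2]; exact hQv)
    rw [(hcmp hu hb).2, add_sub_cancel_right] at h3
    exact h3
  -- the first vector
  obtain ⟨di, hdi, hdi0, hQdi, hfi, hni⟩ := hzero i _ (cmp_mem hQ hD i x) hxi
  obtain ⟨dj, hdj, hQdj, hfj, hnj⟩ := haff j _ (cmp_mem hQ hD j x) hxj c hc
  have hdj0 : dj ≠ 0 := hne (by rw [hQdj]; exact hc)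
  have hz : di + dj ∈ S := hdiff x hx (hne hxi) hxj di hdi dj hdj hni hnj hfi hfj (by rw [hQdi, hQdj, zero_add])
  obtain ⟨hci, hcj⟩ := hcmp hdi hdj
  intro u hu v hv huv
  by_cases hu0 : u = 0
  · rw [hu0, zero_add]
    exact hNS j v hv (by rw [hu0, QuadraticMap.map_zero, zero_add] at huv; exact huv)
  by_cases hv0 : v = 0
  · rw [hv0, add_zero]
    exact hNS i u hu (by rw [hv0, QuadraticMap.map_zero, add_zero] at huv; exact huv)
  by_cases hQu : Q u = 0
  · exact htr2 di hdi dj hdj hz hdi0 hdj0 u hu v hv hu0 hv0 (by rw [hQu, hQdi])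
      (by rw [hQdj, ← huv, hQu, zero_add])
  obtain ⟨a, ha, hQa, hfa, hna⟩ := haff i di hdi hdi0 (Q u) hQu
  by_cases hQv : Q v = 0
  · obtain ⟨b, hb, hb0, hQb, hfb, hnb⟩ := hzero j dj hdj (by rw [hQdj]; exact hc)
    have := hdiff _ hz (by rw [hci]; exact hdi0) (by rw [hcj]; exact hdj0) a ha b hb (by rw [hci]; exact hna)
      (by rw [hcj]; exact hnb) (by rw [hci]; exact hfa) (by rw [hcj]; exact hfb) (by rw [hQa, hQb, ← hQv, huv])
    exact htr2 a ha b hb this (hne (by rw [hQa]; exact hQu)) hb0 u hu v hv hu0 hv0 hQa.symm (by rw [hQv, hQb])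
  · obtain ⟨b, hb, hQb, hfb, hnb⟩ := haff j dj hdj hdj0 (Q v) hQv
    have := hdiff _ hz (by rw [hci]; exact hdi0) (by rw [hcj]; exact hdj0) a ha b hb (by rw [hci]; exact hna)
      (by rw [hcj]; exact hnb) (by rw [hci]; exact hfa) (by rw [hcj]; exact hfb) (by rw [hQa, hQb, huv])
    exact htr2 a ha b hb this (hne (by rw [hQa]; exact hQu)) (hne (by rw [hQb]; exact hQv)) u hu v hv hu0 hv0
      hQa.symm hQb.symm

/-- The stabiliser is a proper subgroup of `Ω`. -/
theorem decomposition_stabilizer_lt (hG : Good Q) (hD : Geo.IsOrthogonalMDecomposition ⇑Q k D)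
    (hk : 2 ≤ k) (ht : 2 ≤ t) (hn : 6 ≤ Fintype.card ι)
    (hcase : 3 ≤ k ∨ Fintype.card F ≠ 2 ∨ 3 ≤ t) :
    Geo.decompositionStabilizer D ⊓ Geo.omegaGL ⇑Q < Geo.omegaGL ⇑Q := by
  classical
  have hQ := hG.nd
  have hr := hD.decomp.decomp.finrank_eq
  let i0 : Fin t := ⟨0, by omega⟩
  let i1 : Fin t := ⟨1, by omega⟩
  have h01 : i0 ≠ i1 := by simp [i0, i1, Fin.ext_iff]
  have hne : ∀ {v : ι → F}, Q v ≠ 0 → v ≠ 0 := fun h h0 => h (by rw [h0, QuadraticMap.map_zero])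
  obtain ⟨a, ha, hQa⟩ := exists_Q_eq_in (Q := Q) (D i0) (member_nondeg hD i0) (by rw [hr]; omega) 1
  suffices hw : ∃ w, Q w = 1 ∧ ∃ i j, i ≠ j ∧ cmp hQ hD i w ≠ 0 ∧ cmp hQ hD j w ≠ 0 by
    obtain ⟨w, hQw, i, j, hij, hi, hj⟩ := hw
    refine lt_of_le_of_ne inf_le_right fun heq => ?_
    obtain ⟨g, hg, -, -, hgw⟩ := exists_omega_transit hG (W := ⊤) (fun x _ hx => by
        obtain ⟨y, hy⟩ := exists_polar_ne hQ hx
        exact ⟨y, trivial, hy⟩) (by rw [finrank_top, finrank_space]; omega)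
      (w := a) trivial (hne (by rw [hQa]; exact one_ne_zero)) (w1 := w) trivial
      (hne (by rw [hQw]; exact one_ne_zero)) (by rw [hQw, hQa])
    have hmem : (g : GL ι F) ∈ Geo.decompositionStabilizer D ⊓ Geo.omegaGL ⇑Q := by
      rw [heq]; exact coe_mem_omegaGL.2 hg
    obtain ⟨σ, hσ, -⟩ := ap_mem_member hmem.1
    have hw := hσ i0 a ha
    rw [hgw] at hw
    by_cases e : i = σ i0
    · exact hj (cmp_of_mem_ne hQ hD (fun h => hij (e.trans h.symm)) hw)
    · exact hi (cmp_of_mem_ne hQ hD e hw)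
  have hcmp : ∀ u ∈ D i0, ∀ v ∈ D i1, u ≠ 0 → v ≠ 0 → ∃ i j, i ≠ j ∧
      cmp hQ hD i (u + v) ≠ 0 ∧ cmp hQ hD j (u + v) ≠ 0 := fun u hu v hv hu0 hv0 =>
    ⟨i0, i1, h01, by rwa [map_add, cmp_of_mem hQ hD hu, cmp_of_mem_ne hQ hD h01 hv, add_zero],
      by rwa [map_add, cmp_of_mem hQ hD hv, cmp_of_mem_ne hQ hD h01.symm hu, zero_add]⟩
  have hQ2 : ∀ u ∈ D i0, ∀ v ∈ D i1, Q (u + v) = Q u + Q v := fun u hu v hv => by
    rw [Q_add, member_orth hD h01 hu hv, add_zero]
  by_cases hq : Fintype.card F = 2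
  swap
  · obtain ⟨s, hs0, hs1⟩ := exists_scalar_of_card (F := F) hq
    obtain ⟨u, hu, hQu⟩ := exists_Q_eq_in (Q := Q) (D i0) (member_nondeg hD i0) (by rw [hr]; omega) s
    obtain ⟨v, hv, hQv⟩ := exists_Q_eq_in (Q := Q) (D i1) (member_nondeg hD i1) (by rw [hr]; omega) (1 - s)
    exact ⟨u + v, by rw [hQ2 u hu v hv, hQu, hQv, add_sub_cancel], hcmp u hu v hv
      (hne (by rw [hQu]; exact hs0)) (hne (by rw [hQv]; exact sub_ne_zero.2 hs1.symm))⟩
  by_cases hk3 : 3 ≤ k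
  · obtain ⟨v, hv, hv0, hQv⟩ := exists_ne_zero_Q_eq (member_nondeg hD i1) (by rw [hr]; exact hk3) 0
    exact ⟨a + v, by rw [hQ2 a ha v hv, hQa, hQv, add_zero], hcmp a ha v hv
      (hne (by rw [hQa]; exact one_ne_zero)) hv0⟩
  have ht3 : 3 ≤ t := by omega
  let i2 : Fin t := ⟨2, by omega⟩
  have h02 : i0 ≠ i2 := by simp [i0, i2, Fin.ext_iff]
  have h12 : i1 ≠ i2 := by simp [i1, i2, Fin.ext_iff]
  obtain ⟨b, hb, hQb⟩ := exists_Q_eq_in (Q := Q) (D i1) (member_nondeg hD i1) (by rw [hr]; omega) 1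
  obtain ⟨e, he, hQe⟩ := exists_Q_eq_in (Q := Q) (D i2) (member_nondeg hD i2) (by rw [hr]; omega) 1
  have h2 : (1 : F) + 1 = 0 := by
    have := FiniteField.cast_card_eq_zero F
    rw [hq] at this; rw [one_add_one_eq_two]; exact_mod_cast this
  refine ⟨a + b + e, ?_, i0, i1, h01, ?_, ?_⟩
  · rw [Q_add, hQ2 a ha b hb, pl_add_left, member_orth hD h02 ha he, member_orth hD h12 hb he, hQa, hQb,
      hQe, h2]; ring
  · rw [map_add, map_add, cmp_of_mem hQ hD ha, cmp_of_mem_ne hQ hD h01 hb, cmp_of_mem_ne hQ hD h02 he,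
      add_zero, add_zero]
    exact hne (by rw [hQa]; exact one_ne_zero)
  · rw [map_add, map_add, cmp_of_mem hQ hD hb, cmp_of_mem_ne hQ hD h01.symm ha, cmp_of_mem_ne hQ hD h12 he,
      zero_add, add_zero]
    exact hne (by rw [hQb]; exact one_ne_zero)

set_option maxHeartbeats 800000 in
/-- Maximality for members of dimension at least four. -/
theorem decomposition_maximal_big (hG : Good Q) (hD : Geo.IsOrthogonalMDecomposition ⇑Q k D)
    (hk : 4 ≤ k) (ht : 2 ≤ t) (h2k : (2 : F) = 0 → Even k)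
    (hex : k = 4 → Fintype.card F = 2 → ∀ i, ¬ Geo.IsPlusTypeOn ⇑Q (D i)) :
    Geo.IsMaximalIn (Geo.omegaGL ⇑Q) (Geo.decompositionStabilizer D ⊓ Geo.omegaGL ⇑Q) := by
  classical
  have hQ := hG.nd
  have hr := hD.decomp.decomp.finrank_eq
  have hn : 8 ≤ Fintype.card ι := by rw [card_eq_mul hQ hD]; calc
    8 = 2 * 4 := rfl
    _ ≤ t * k := Nat.mul_le_mul ht hk
  refine ⟨decomposition_stabilizer_lt hG hD (by omega) ht (by omega) (.inl (by omega)), fun M hHM hMK => ?_⟩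
  by_cases hM : ∀ g ∈ M, g ∈ Geo.decompositionStabilizer D
  · exact .inl (le_antisymm (le_inf hM hMK) hHM)
  refine .inr (le_antisymm hMK ?_)
  push Not at hM
  obtain ⟨g, hgM, hgD⟩ := hM
  obtain ⟨g, -, rfl⟩ := mem_omegaGL_iff.1 (hMK hgM)
  set N : Subgroup (IsoGrp Q) := M.comap (isometryGroup F ⇑Q).subtype
  suffices hle : Omega F ⇑Q ≤ N by
    intro y hy
    obtain ⟨h, hh, rfl⟩ := mem_omegaGL_iff.1 hy
    exact hle hh
  have hH : ∀ h : IsoGrp Q, h ∈ Omega F ⇑Q → (h : GL ι F) ∈ Geo.decompositionStabilizer D → h ∈ N :=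
    fun h hh hd => hHM ⟨hd, coe_mem_omegaGL.2 hh⟩
  obtain ⟨g', hg', hg'D, l0, p, hp, hQp, hgp⟩ := exists_anchor_big hG hD hk hex hH (show g ∈ N from hgM) hgD
  set c := Q p with hc'
  have hA1 : ∀ l, ∃ a ∈ D l, Q a = c := fun l =>
    exists_Q_eq_in (Q := Q) (D l) (member_nondeg hD l) (by rw [hr]; omega) c
  set S := {x | Q x = c ∧ refl Q x * refl Q p ∈ N}
  have hS : PairClass Q N c S := pairClass_of N p
  have hNS : ∀ l, ∀ x ∈ D l, Q x = c → x ∈ S := fun l x hx hQx => ⟨hQx, hH _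
    (refl_pair_mem_omega hG (by rw [hQx]; exact hQp) (by rw [hQx, hc']))
    (mem_decomp_pair hG hD ⟨l, hx⟩ ⟨l0, hp⟩)⟩
  have hg'S : ∀ x ∈ S, ap g' x ∈ S :=
    hS.move g' hg' p (hNS l0 p hp rfl) (by rw [hgp]; exact hNS l0 p hp rfl)
  obtain ⟨x, hx, hxout⟩ : ∃ x ∈ S, ∀ l, x ∉ D l := by
    by_contra! h
    exact hg'D (mem_decomp_of_maps_big hG hD hk hex hQp fun l x hx hQx => h _ (hg'S x (hNS l x hx hQx)))
  obtain ⟨i, hxi⟩ : ∃ i, Q (cmp hQ hD i x) ≠ 0 := by
    by_contra! h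
    exact hQp (by rw [← hS.norm x hx, Q_eq_sum_cmp hQ hD x, Finset.sum_eq_zero fun l _ => h l])
  obtain ⟨j, hij, hxj⟩ : ∃ j, i ≠ j ∧ cmp hQ hD j x ≠ 0 := by
    by_contra! h
    refine hxout i ?_
    rw [← sum_cmp hQ hD x, Finset.sum_eq_single i (fun l _ hl => h l (Ne.symm hl))
      (fun h' => absurd (Finset.mem_univ i) h')]
    exact cmp_mem hQ hD i x
  have hpair := sphere_pair_big hG hD hk h2k hex hQp hH hS hNS hx hij hxi hxj
  -- transport by swaps
  let P : Fin t → Fin t → Prop := fun i j => ∀ u ∈ D i, ∀ v ∈ D j, Q u + Q v = c → u + v ∈ S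
  have hsymm : ∀ i j, P i j → P j i := fun i j h u hu v hv huv => by
    rw [add_comm]; exact h v hv u hu (by rw [← huv, add_comm])
  have hstep : ∀ i j j', i ≠ j → i ≠ j' → P i j → P i j' := by
    intro i j j' hij hij' h u hu v hv huv
    by_cases hjj : j = j'
    · exact h u hu v (hjj ▸ hv) huv
    obtain ⟨s, hsΩ, hs1, hs2, hs3⟩ := exists_swap_members hG hD (by omega : 2 ≤ k) (Ne.symm hjj)
    have hsD : (s : GL ι F) ∈ Geo.decompositionStabilizer D :=
      mem_decomp_of_maps_members hD (by omega) fun l => by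
        by_cases e1 : l = j'
        · exact ⟨j, fun x hx => hs1 x (e1 ▸ hx)⟩
        by_cases e2 : l = j
        · exact ⟨j', fun x hx => hs2 x (e2 ▸ hx)⟩
        exact ⟨l, fun x hx => hs3 l e1 e2 x hx⟩
    have hsN := hH s hsΩ hsD
    have h1 : ap s (u + v) ∈ S := by
      rw [map_add]
      exact h _ (hs3 i hij' hij u hu) _ (hs1 v hv) (by rw [Q_ap, Q_ap, huv])
    obtain ⟨a, ha, hQa⟩ := hA1 i
    have := hS.move s⁻¹ (inv_mem hsN) (ap s a) (hNS i _ (hs3 i hij' hij a ha) (by rw [Q_ap, hQa]))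
      (by rw [ap_inv_ap]; exact hNS i a ha hQa) _ h1
    rwa [ap_inv_ap] at this
  have hall : ∀ i' j', i' ≠ j' → P i' j' := by
    intro i' j' h'
    by_cases e : i = j'
    · subst e
      by_cases e2 : i' = j
      · subst e2; exact hsymm _ _ hpair
      · exact hsymm _ _ (hstep i j i' hij (Ne.symm h') hpair)
    · have h1 : P i j' := hstep i j j' hij e hpair
      by_cases e2 : i' = i
      · rwa [e2]
      · exact hsymm _ _ (hstep j' i i' (Ne.symm e) (Ne.symm h') (hsymm _ _ h1))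
  -- the final step
  let i0 : Fin t := ⟨0, by omega⟩
  let i1 : Fin t := ⟨1, by omega⟩
  have h01 : i0 ≠ i1 := by simp [i0, i1, Fin.ext_iff]
  set W := D i0 ⊔ D i1
  have hW : ∀ x ∈ W, x ≠ 0 → ∃ y ∈ W, polar ⇑Q x y ≠ 0 := by
    intro x hx hx0
    obtain ⟨u, hu, v, hv, rfl⟩ := Submodule.mem_sup.1 hx
    by_cases hu0 : u = 0
    · obtain ⟨y, hy, hvy⟩ := member_nondeg hD i1 v hv (fun h => hx0 (by rw [hu0, h, add_zero]))
      exact ⟨y, Submodule.mem_sup_right hy, by rw [pl_add_left, member_orth hD h01 hu hy, zero_add]; exact hvy⟩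
    · obtain ⟨y, hy, huy⟩ := member_nondeg hD i0 u hu hu0
      exact ⟨y, Submodule.mem_sup_left hy,
        by rw [pl_add_left, member_orth hD h01.symm hv hy, add_zero]; exact huy⟩
  have hWd : 6 ≤ finrank F W := by
    have h := Submodule.finrank_sup_add_finrank_inf_eq (D i0) (D i1)
    have hb : D i0 ⊓ D i1 = ⊥ := by
      rw [eq_bot_iff]; rintro z ⟨h1, h3⟩; by_contra hz; exact h01 (member_eq hD h1 h3 hz)
    rw [hb, finrank_bot, hr, hr] at h
    change 6 ≤ finrank F (D i0 ⊔ D i1 : Submodule F (ι → F))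
    omega
  have hWS : ∀ s ∈ W, Q s = c → s ∈ S := by
    intro s hs hQs
    obtain ⟨u, hu, v, hv, rfl⟩ := Submodule.mem_sup.1 hs
    exact hall i0 i1 h01 u hu v hv (by rw [← hQs, Q_add, member_orth hD h01 hu hv, add_zero])
  obtain ⟨a0, ha0, hQa0⟩ := hA1 i0
  refine omega_le_of_sphere hG hW hWd hQp hS hWS fun z hz => ?_
  have hsingle : ∀ l, ∀ y ∈ D l, l ≠ i0 → l ≠ i1 →
      y ∈ perpSub Q W ∧ ∃ w ∈ W, w ≠ 0 ∧ w + y ∈ S := by
    intro l y hy h0 h1
    refine ⟨mem_perpSub.2 fun w hw => ?_, ?_⟩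
    · obtain ⟨u, hu, v, hv, rfl⟩ := Submodule.mem_sup.1 hw
      rw [pl_add_left, member_orth hD (Ne.symm h0) hu hy, member_orth hD (Ne.symm h1) hv hy, add_zero]
    · obtain ⟨u, hu, hu0, hQu⟩ := exists_ne_zero_Q_eq (member_nondeg hD i0) (by rw [hr]; omega) (c - Q y)
      exact ⟨u, Submodule.mem_sup_left hu, hu0, hall i0 l (Ne.symm h0) u hu y hy (by rw [hQu]; ring)⟩
  have hsum : ∀ s : Finset (Fin t), ∑ l ∈ s, cmp hQ hD l z ∈ perpSub Q W ∧
      ∃ w ∈ W, w ≠ 0 ∧ w + ∑ l ∈ s, cmp hQ hD l z ∈ S := by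
    intro s
    induction s using Finset.induction_on with
    | empty =>
      rw [Finset.sum_empty]
      exact ⟨Submodule.zero_mem _, a0, Submodule.mem_sup_left ha0,
        fun h => hQp (by rw [← hQa0, h, QuadraticMap.map_zero]),
        by rw [add_zero]; exact hNS i0 _ ha0 hQa0⟩
    | insert l s hl ih =>
      rw [Finset.sum_insert hl]
      by_cases h0 : l = i0 ∨ l = i1
      · have : cmp hQ hD l z = 0 := by
          by_contra hne
          obtain ⟨y, hy, hzy⟩ := member_nondeg hD l _ (cmp_mem hQ hD l z) hne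
          rw [polar_cmp hQ hD hy, pl_comm] at hzy
          rcases h0 with rfl | rfl
          · exact hzy (mem_perpSub.1 hz y (Submodule.mem_sup_left hy))
          · exact hzy (mem_perpSub.1 hz y (Submodule.mem_sup_right hy))
        rw [this, zero_add]; exact ih
      · push Not at h0
        obtain ⟨h1, h3⟩ := hsingle l _ (cmp_mem hQ hD l z) h0.1 h0.2
        exact ⟨Submodule.add_mem _ h1 ih.1, sphere_add hQ hW hWd hQp hS hWS h1 ih.1 h3 ih.2⟩
  have h := (hsum Finset.univ).2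
  rwa [sum_cmp hQ hD z] at h

end Cfsg.Agent.Orth
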