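import Cfsg.Agent.Lib.Orth.DecompBig

/-!
# Non-degenerate planes: lines, spheres, distances and similitudes
-/

set_option autoImplicit false
set_option linter.unusedSectionVars false

namespace Cfsg.Agent.Orth

open Cfsg Matrix Module
open QuadraticMap (polar)

variable {ι : Type} [Fintype ι] [DecidableEq ι] {F : Type*} [Field F] [Fintype F]
variable {Q : QuadraticForm F (ι → F)}

/-- A non-degenerate plane. -/
structure NPlane (Q : QuadraticForm F (ι → F)) (W : Submodule F (ι → F)) : Prop where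
  nd : ∀ x ∈ W, x ≠ 0 → ∃ y ∈ W, polar ⇑Q x y ≠ 0
  rk : finrank F W = 2

/-- Large fields, or anisotropic planes outside `𝔽₃`. -/
def PlaneOK (Q : QuadraticForm F (ι → F)) (W : Submodule F (ι → F)) : Prop :=
  7 ≤ Fintype.card F ∨ ((∀ x ∈ W, Q x = 0 → x = 0) ∧ Fintype.card F ≠ 3)

theorem card_roots_le_two [DecidableEq F] (a b c : F) (h : ¬(a = 0 ∧ b = 0 ∧ c = 0)) :
    (Finset.univ.filter (fun x : F => a * (x * x) + b * x + c = 0)).card ≤ 2 := by
  by_contra hlt
  obtain ⟨x, hx, y, hy, z, hz, hxy, hxz, hyz⟩ := Finset.two_lt_card.1 (not_le.1 hlt)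
  simp only [Finset.mem_filter, Finset.mem_univ, true_and] at hx hy hz
  have e1 : a * (x + y) + b = 0 := mul_left_cancel₀ (sub_ne_zero.2 hxy) (by linear_combination hx - hy)
  have e2 : a * (x + z) + b = 0 := mul_left_cancel₀ (sub_ne_zero.2 hxz) (by linear_combination hx - hz)
  have ha : a = 0 := (mul_eq_zero.1 (show a * (y - z) = 0 by linear_combination e1 - e2)).resolve_right
    (sub_ne_zero.2 hyz)
  subst ha
  exact h ⟨rfl, by linear_combination e1, by linear_combination hx - x * e1⟩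

theorem exists_add_eq_of_card [DecidableEq F] {A B : Finset F} (h : Fintype.card F < A.card + B.card) (M : F) :
    ∃ a ∈ A, ∃ b ∈ B, a + b = M := by
  by_contra! hne
  have hdis : Disjoint A (B.image fun b => M - b) := Finset.disjoint_left.2 fun a ha ha' => by
    obtain ⟨b, hb, rfl⟩ := Finset.mem_image.1 ha'
    exact hne _ ha b hb (by ring)
  have := Finset.card_le_univ (A ∪ B.image fun b => M - b)
  rw [Finset.card_union_of_disjoint hdis, Finset.card_image_of_injective _ sub_right_injective] at this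
  omega

variable {W : Submodule F (ι → F)}

theorem NPlane.span (hP : NPlane Q W) {u w : ι → F} (hu : u ∈ W) (hu0 : u ≠ 0) (hw : w ∈ W)
    (hwu : w ∉ F ∙ u) : (F ∙ u) ⊔ (F ∙ w) = W := by
  refine Submodule.eq_of_le_of_finrank_le (sup_le ((Submodule.span_singleton_le_iff_mem _ _).2 hu)
    ((Submodule.span_singleton_le_iff_mem _ _).2 hw)) ?_
  have h : ((F ∙ u) : Submodule F (ι → F)) < (F ∙ u) ⊔ (F ∙ w) := lt_of_le_of_ne le_sup_left fun e =>
    hwu (by rw [e]; exact Submodule.mem_sup_right (Submodule.mem_span_singleton_self w))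
  have := Submodule.finrank_lt_finrank_of_lt h
  rw [finrank_span_singleton hu0] at this
  rw [hP.rk]; omega

theorem NPlane.coords (hP : NPlane Q W) {u w : ι → F} (hu : u ∈ W) (hu0 : u ≠ 0) (hw : w ∈ W)
    (hwu : w ∉ F ∙ u) {x : ι → F} (hx : x ∈ W) : ∃ α β : F, x = α • u + β • w :=
  mem_pair.1 (by rw [hP.span hu hu0 hw hwu]; exact hx)

theorem NPlane.exists_notMem (hP : NPlane Q W) (u : ι → F) : ∃ w ∈ W, w ∉ F ∙ u := by
  by_contra! h
  have h1 := Submodule.finrank_mono (show W ≤ F ∙ u from h)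
  have h2 : finrank F (F ∙ u) ≤ 1 := (finrank_span_le_card {u}).trans (by simp)
  rw [hP.rk] at h1
  omega

theorem NPlane.eq_zero_of_singular_perp (hP : NPlane Q W) {u z : ι → F} (hu : u ∈ W) (hQu : Q u ≠ 0)
    (hz : z ∈ W) (hQz : Q z = 0) (huz : polar ⇑Q z u = 0) : z = 0 := by
  by_contra hz0
  have hu0 : u ≠ 0 := fun h => hQu (by rw [h, QuadraticMap.map_zero])
  have hzu : z ∉ F ∙ u := fun h => by
    obtain ⟨r, rfl⟩ := Submodule.mem_span_singleton.1 h
    rw [Q_smul] at hQz
    rcases mul_eq_zero.1 hQz with h' | h'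
    · exact hz0 (by rw [mul_self_eq_zero.1 h', zero_smul])
    · exact hQu h'
  obtain ⟨y, hy, hzy⟩ := hP.nd z hz hz0
  obtain ⟨α, β, rfl⟩ := hP.coords hu hu0 hz hzu hy
  rw [pl_add_right, pl_smul_right, pl_smul_right, huz, pl_self, hQz] at hzy
  exact hzy (by ring)

theorem NPlane.sub_aniso (hP : NPlane Q W) {u u' : ι → F} (hu : u ∈ W) (hu' : u' ∈ W) (hQu : Q u ≠ 0)
    (he : Q u' = Q u) (hne : u' ≠ u) : Q (u - u') ≠ 0 := fun h0 =>
  hne (sub_eq_zero.1 (hP.eq_zero_of_singular_perp hu hQu ((W).sub_mem hu' hu)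
    (by rw [show u' - u = -(u - u') by abel, QuadraticMap.map_neg, h0])
    (by rw [Q_sub, he] at h0; rw [pl_sub_left, pl_self, pl_comm Q u' u]; linear_combination -h0)))

theorem refl_sub_ap {u u' : ι → F} (he : Q u' = Q u) (hne : Q (u - u') ≠ 0) :
    ap (refl Q (u - u')) u = u' := by
  have e : polar ⇑Q (u - u') u = Q (u - u') := by rw [pl_sub_left, pl_self, Q_sub, he, pl_comm Q u' u]; ring
  rw [refl_ap, e, inv_mul_cancel₀ hne, one_smul, sub_sub_cancel]

theorem NPlane.perp_line (hQ : Q.polarBilin.Nondegenerate) (hP : NPlane Q W) {u : ι → F} (hu : u ∈ W)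
    (hQu : Q u ≠ 0) : ∃ b ∈ W, Q b ≠ 0 ∧ polar ⇑Q b u = 0 ∧
      (∀ z ∈ W, polar ⇑Q z u = 0 → z ∈ F ∙ b) ∧ ∀ z ∈ W, polar ⇑Q z b = 0 → z ∈ F ∙ u := by
  have hu0 : u ≠ 0 := fun h => hQu (by rw [h, QuadraticMap.map_zero])
  have h := finrank_inf_perp_ge hQ W u
  rw [hP.rk] at h
  obtain ⟨b, ⟨hb, hbu⟩, hb0⟩ := Submodule.exists_mem_ne_zero_of_ne_bot (p := W ⊓ perpSub Q (F ∙ u))
    (fun e => by rw [e, finrank_bot] at h; omega)
  have hbu' : polar ⇑Q b u = 0 := by
    rw [pl_comm]; exact mem_perpSub.1 hbu u (Submodule.mem_span_singleton_self u)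
  have hQb : Q b ≠ 0 := fun h0 => hb0 (hP.eq_zero_of_singular_perp hu hQu hb h0 hbu')
  have line : ∀ {a a' : ι → F}, a ∈ W → a ≠ 0 → a' ∈ W → a' ≠ 0 → polar ⇑Q a' a = 0 →
      ∀ z ∈ W, polar ⇑Q z a = 0 → z ∈ F ∙ a' := by
    intro a a' ha ha0 ha' ha'0 hpa z hz hza
    have h1 := two_mul_finrank_le_in hQ hP.nd (X := F ∙ a) ((Submodule.span_singleton_le_iff_mem _ _).2 ha)
    rw [hP.rk, finrank_span_singleton ha0] at h1
    have hmem : ∀ y ∈ W, polar ⇑Q y a = 0 → y ∈ W ⊓ perpSub Q (F ∙ a) := fun y hy hya =>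
      ⟨hy, mem_perpSub.2 fun w hw => by
        obtain ⟨r, rfl⟩ := Submodule.mem_span_singleton.1 hw
        rw [pl_smul_left, pl_comm, hya, mul_zero]⟩
    have heq : (F ∙ a') = W ⊓ perpSub Q (F ∙ a) := Submodule.eq_of_le_of_finrank_le
      ((Submodule.span_singleton_le_iff_mem _ _).2 (hmem a' ha' hpa))
      (by rw [finrank_span_singleton ha'0]; omega)
    rw [heq]; exact hmem z hz hza
  exact ⟨b, hb, hQb, hbu', line hu hu0 hb hb0 hbu', line hb hb0 hu hu0 (by rw [pl_comm]; exact hbu')⟩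

/-- A vector of the same norm, neither proportional nor orthogonal. -/
theorem NPlane.exists_partner (hP : NPlane Q W) (hok : PlaneOK Q W) {a : ι → F} (ha : a ∈ W)
    (hQa : Q a ≠ 0) : ∃ b ∈ W, Q b = Q a ∧ polar ⇑Q a b ≠ 0 ∧ b ∉ F ∙ a := by
  classical
  have ha0 : a ≠ 0 := fun h => hQa (by rw [h, QuadraticMap.map_zero])
  obtain ⟨w, hw, hwa⟩ := hP.exists_notMem a
  set φ := polar ⇑Q a w with hφ
  set A := Finset.univ.filter (fun τ : F => Q a * (τ * τ) + φ * τ + Q w = 0) with hA
  set B := Finset.univ.filter (fun τ : F => 0 * (τ * τ) + 2 * Q a * τ + φ = 0) with hB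
  set C := Finset.univ.filter (fun τ : F => (-2 * (Q a * Q a)) * (τ * τ) + (-2 * (Q a * φ)) * τ
    + (2 * (Q a * Q w) - φ * φ) = 0) with hC
  have hφ2 : (2 : F) = 0 → φ ≠ 0 := fun h2 h0 => by
    obtain ⟨y, hy, hay⟩ := hP.nd a ha ha0
    obtain ⟨α, β, rfl⟩ := hP.coords ha ha0 hw hwa hy
    rw [pl_add_right, pl_smul_right, pl_smul_right, pl_self, h2, ← hφ, h0] at hay
    exact hay (by ring)
  have hcA : A.card ≤ 2 := card_roots_le_two _ _ _ fun h => hQa h.1
  have hsum : (A ∪ B ∪ C).card < Fintype.card F := by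
    by_cases h2 : (2 : F) = 0
    · have hB0 : B = ∅ := Finset.filter_eq_empty_iff.2 fun τ _ h => hφ2 h2 (by linear_combination h - (Q a * τ) * h2)
      have hC0 : C = ∅ := Finset.filter_eq_empty_iff.2 fun τ _ h => hφ2 h2 (mul_self_eq_zero.1 (by
        linear_combination -h + (-(Q a * Q a * (τ * τ)) - Q a * φ * τ + Q a * Q w) * h2))
      rw [hB0, hC0, Finset.union_empty, Finset.union_empty]
      rcases hok with h | ⟨h, -⟩
      · omega
      · have hA0 : A = ∅ := Finset.filter_eq_empty_iff.2 fun τ _ hτ => by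
          have h1 := h (w + τ • a) (W.add_mem hw (W.smul_mem _ ha))
            (by rw [Q_add, Q_smul, pl_smul_right, pl_comm Q w a]; linear_combination hτ)
          exact hwa (Submodule.mem_span_singleton.2 ⟨-τ, by rw [neg_smul]; exact (eq_neg_of_add_eq_zero_left h1).symm⟩)
        rw [hA0, Finset.card_empty]; exact Fintype.card_pos
    · have hBc : B.card ≤ 1 := Finset.card_le_one.2 fun x hx y hy => by
        simp only [hB, Finset.mem_filter, Finset.mem_univ, true_and] at hx hy
        exact mul_left_cancel₀ (mul_ne_zero h2 hQa) (by linear_combination hx - hy)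
      have hCc : C.card ≤ 2 := card_roots_le_two _ _ _ fun h =>
        mul_ne_zero (neg_ne_zero.2 h2) (mul_ne_zero hQa hQa) h.1
      have h1 := Finset.card_union_le (A ∪ B) C
      have h3 := Finset.card_union_le A B
      rcases hok with h | ⟨h, h3'⟩
      · omega
      · have hA0 : A = ∅ := Finset.filter_eq_empty_iff.2 fun τ _ hτ => by
          have h1 := h (w + τ • a) (W.add_mem hw (W.smul_mem _ ha))
            (by rw [Q_add, Q_smul, pl_smul_right, pl_comm Q w a]; linear_combination hτ)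
          exact hwa (Submodule.mem_span_singleton.2 ⟨-τ, by rw [neg_smul]; exact (eq_neg_of_add_eq_zero_left h1).symm⟩)
        have hA1 : A.card = 0 := by rw [hA0, Finset.card_empty]
        have hodd : Fintype.card F % 2 = 1 := by
          rcases Nat.even_or_odd (Fintype.card F) with he | ho
          · refine absurd ?_ h2
            have h2' := (FiniteField.even_card_iff_char_two (F := F)).2 (Nat.even_iff.1 he)
            have := ringChar.Nat.cast_ringChar (R := F)
            rw [h2'] at this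
            exact_mod_cast this
          · exact Nat.odd_iff.1 ho
        have : 1 < Fintype.card F := Fintype.one_lt_card
        omega
  obtain ⟨τ, -, hτ⟩ := Finset.exists_mem_notMem_of_card_lt_card (s := A ∪ B ∪ C) (t := Finset.univ)
    (by rwa [Finset.card_univ])
  simp only [hA, hB, hC, Finset.mem_union, Finset.mem_filter, Finset.mem_univ, true_and, not_or] at hτ
  obtain ⟨⟨hA', hB'⟩, hC'⟩ := hτ
  set d := w + τ • a with hd
  have hQd : Q d ≠ 0 := fun h => hA' (by
    rw [hd, Q_add, Q_smul, pl_smul_right, pl_comm Q w a] at h; linear_combination h)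
  have hfd : polar ⇑Q d a ≠ 0 := fun h => hB' (by
    rw [hd, pl_add_left, pl_smul_left, pl_self, pl_comm Q w a] at h; linear_combination h)
  have hdW : d ∈ W := W.add_mem hw (W.smul_mem _ ha)
  refine ⟨ap (refl Q d) a, refl_ap_mem hdW ha, Q_ap _ _, fun h => hC' ?_, fun h => ?_⟩
  · rw [refl_ap, pl_sub_right, pl_smul_right, pl_self, pl_comm Q a d] at h
    field_simp at h
    rw [hd, Q_add, Q_smul, pl_smul_right, pl_add_left, pl_smul_left, pl_self, pl_comm Q w a, ← hφ] at h
    linear_combination h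
  · rw [refl_ap] at h
    have h1 := (Submodule.sub_mem_iff_right _ (Submodule.mem_span_singleton_self a)).1 h
    have h2 : d ∈ F ∙ a := (Submodule.smul_mem_iff _ (mul_ne_zero (inv_ne_zero hQd) hfd)).1 h1
    rw [hd] at h2
    exact hwa ((Submodule.add_mem_iff_left _ (Submodule.smul_mem _ _ (Submodule.mem_span_singleton_self a))).1 h2)

/-- A linear similitude of the plane mapping one anisotropic vector to a given vector. -/
theorem NPlane.exists_similitude (hQ : Q.polarBilin.Nondegenerate) (hP : NPlane Q W) {u w : ι → F}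
    (hu : u ∈ W) (hQu : Q u ≠ 0) (hw : w ∈ W) :
    ∃ T : (ι → F) →ₗ[F] (ι → F), T u = w ∧ ∀ x ∈ W, T x ∈ W ∧ Q (T x) = Q w / Q u * Q x := by
  have hu0 : u ≠ 0 := fun h => hQu (by rw [h, QuadraticMap.map_zero])
  obtain ⟨z, hz, hzu⟩ := hP.exists_notMem u
  have huz : u ∉ F ∙ z := fun h => by
    obtain ⟨r, hr⟩ := Submodule.mem_span_singleton.1 h
    refine hzu (Submodule.mem_span_singleton.2 ⟨r⁻¹, ?_⟩)
    rw [← hr, inv_smul_smul₀ (fun h0 : r = 0 => hu0 (by rw [← hr, h0, zero_smul]))]
  obtain ⟨us, hus, husz, husu⟩ := exists_dual_in hQ hP.nd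
    ((Submodule.span_singleton_le_iff_mem _ _).2 hz) hu huz
  obtain ⟨zs, hzs, hzsu, hzsz⟩ := exists_dual_in hQ hP.nd
    ((Submodule.span_singleton_le_iff_mem _ _).2 hu) hz hzu
  obtain ⟨γ, δ, rfl⟩ := hP.coords hu hu0 hz hzu hw
  set s := Q u with hs
  set m := Q z
  set p := polar ⇑Q u z
  set w' := (-(δ * m / s)) • u + (γ + δ * p / s) • z
  set T : (ι → F) →ₗ[F] (ι → F) := (Q.polarBilin us).smulRight (γ • u + δ • z) + (Q.polarBilin zs).smulRight w'
  have hT : ∀ x, T x = polar ⇑Q us x • (γ • u + δ • z) + polar ⇑Q zs x • w' := fun x => rfl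
  have e1 : polar ⇑Q us z = 0 := husz z (Submodule.mem_span_singleton_self z)
  have e2 : polar ⇑Q zs u = 0 := hzsu u (Submodule.mem_span_singleton_self u)
  refine ⟨T, by rw [hT, husu, e2, one_smul, zero_smul, add_zero], fun x hx => ?_⟩
  refine ⟨by
    rw [hT]
    exact W.add_mem (W.smul_mem _ hw) (W.smul_mem _ (W.add_mem (W.smul_mem _ hu) (W.smul_mem _ hz))), ?_⟩
  obtain ⟨α, β, rfl⟩ := hP.coords hu hu0 hz hzu hx
  rw [hT, pl_add_right, pl_smul_right, pl_smul_right, husu, e1, pl_add_right, pl_smul_right,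
    pl_smul_right, e2, hzsz]
  simp only [w', Q_add, Q_smul, pl_smul_left, pl_smul_right, pl_add_left, pl_add_right, pl_self,
    pl_comm Q z u]
  field_simp
  ring

theorem similitude_polar {T : (ι → F) →ₗ[F] (ι → F)} {r : F} (h : ∀ x ∈ W, Q (T x) = r * Q x) {x y : ι → F}
    (hx : x ∈ W) (hy : y ∈ W) : polar ⇑Q (T x) (T y) = r * polar ⇑Q x y := by
  simp only [polar, ← map_add, h x hx, h y hy, h _ (W.add_mem hx hy)]; ring

open Classical in
/-- The vectors of norm `s` in `W`. -/
noncomputable def sphere (Q : QuadraticForm F (ι → F)) (W : Submodule F (ι → F)) (s : F) : Finset (ι → F) :=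
  Finset.univ.filter fun x => x ∈ W ∧ Q x = s

theorem mem_sphere {s : F} {x : ι → F} : x ∈ sphere Q W s ↔ x ∈ W ∧ Q x = s := by
  classical
  simp [sphere]

/-- The norms of the differences of `u` with the vectors of norm `s'` in `W`. -/
noncomputable def dists (Q : QuadraticForm F (ι → F)) (W : Submodule F (ι → F)) (u : ι → F) (s' : F) : Finset F :=
  haveI := Classical.decEq F
  (sphere Q W s').image fun u' => Q (u - u')

theorem mem_dists {u : ι → F} {s' a : F} :
    a ∈ dists Q W u s' ↔ ∃ u' ∈ W, Q u' = s' ∧ Q (u - u') = a := by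
  simp [dists, mem_sphere, and_assoc]

theorem zero_mem_dists {u : ι → F} (hu : u ∈ W) : (0 : F) ∈ dists Q W u (Q u) :=
  mem_dists.2 ⟨u, hu, rfl, by rw [sub_self, QuadraticMap.map_zero]⟩

theorem NPlane.card_sphere (hQ : Q.polarBilin.Nondegenerate) (hP : NPlane Q W) {s : F} (hs : s ≠ 0) :
    Fintype.card F - 1 ≤ (sphere Q W s).card ∧
      ((∀ x ∈ W, Q x = 0 → x = 0) → Fintype.card F + 1 ≤ (sphere Q W s).card) := by
  classical
  by_cases han : ∀ x ∈ W, Q x = 0 → x = 0
  · suffices h : Fintype.card F + 1 ≤ (sphere Q W s).card from ⟨by omega, fun _ => h⟩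
    set V := (Finset.univ.filter fun x : ι → F => x ∈ W).erase 0
    have hV : V.card = Fintype.card F ^ 2 - 1 := by
      rw [Finset.card_erase_of_mem (by simp), ← Fintype.card_subtype,
        Module.card_eq_pow_finrank (K := F) (V := W), hP.rk]
    have hmaps : ∀ x ∈ V, Q x ∈ Finset.univ.erase (0 : F) := fun x hx => by
      simp only [V, Finset.mem_erase, Finset.mem_filter, Finset.mem_univ, true_and] at hx ⊢
      exact ⟨fun h => hx.1 (han x hx.2 h), trivial⟩
    have hfib := Finset.card_eq_sum_card_fiberwise hmaps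
    have heq : ∀ r ∈ Finset.univ.erase (0 : F), (V.filter fun x => Q x = r).card ≤ (sphere Q W s).card := by
      intro r hr
      have hr0 : r ≠ 0 := (Finset.mem_erase.1 hr).1
      obtain ⟨u, hu, hQu⟩ := exists_Q_eq_in (Q := Q) W hP.nd (by rw [hP.rk]) r
      obtain ⟨w, hw, hQw⟩ := exists_Q_eq_in (Q := Q) W hP.nd (by rw [hP.rk]) s
      obtain ⟨T, -, hT⟩ := hP.exists_similitude hQ hu (by rw [hQu]; exact hr0) hw
      rw [hQu, hQw] at hT
      refine Finset.card_le_card_of_injOn T (fun x hx => ?_) fun x hx y hy hxy => ?_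
      · simp only [V, Finset.coe_filter, Finset.mem_erase, Finset.mem_filter, Finset.mem_univ, true_and,
          Set.mem_ofPred_eq] at hx
        refine mem_sphere.2 ⟨(hT x hx.1.2).1, ?_⟩
        rw [(hT x hx.1.2).2, hx.2, div_mul_cancel₀ _ hr0]
      · simp only [V, Finset.coe_filter, Finset.mem_erase, Finset.mem_filter, Finset.mem_univ, true_and,
          Set.mem_ofPred_eq] at hx hy
        have h := (hT _ (W.sub_mem hx.1.2 hy.1.2)).2
        rw [map_sub, hxy, sub_self, QuadraticMap.map_zero] at h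
        exact sub_eq_zero.1 (han _ (W.sub_mem hx.1.2 hy.1.2)
          ((mul_eq_zero.1 h.symm).resolve_left (div_ne_zero hs hr0)))
    have hle := hfib.le.trans (Finset.sum_le_card_nsmul _ _ _ heq)
    rw [hV, Finset.card_erase_of_mem (Finset.mem_univ _), Finset.card_univ, smul_eq_mul] at hle
    have h1 : 1 < Fintype.card F := Fintype.one_lt_card
    obtain ⟨q, hq⟩ : ∃ q, Fintype.card F = q + 2 := ⟨Fintype.card F - 2, by omega⟩
    rw [hq] at hle ⊢
    have e : (q + 2) ^ 2 - 1 = (q + 1) * (q + 3) := by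
      have : (q + 2) ^ 2 = (q + 1) * (q + 3) + 1 := by ring
      omega
    rw [e, show q + 2 - 1 = q + 1 by omega] at hle
    exact Nat.le_of_mul_le_mul_left hle (by omega)
  · refine ⟨?_, fun h => absurd h han⟩
    push Not at han
    obtain ⟨e, he, hQe, he0⟩ := han
    obtain ⟨f, hf, hQf, hef⟩ := exists_hpair_in hQ hP.nd he he0 hQe
    rw [← Finset.card_univ, ← Finset.card_erase_of_mem (Finset.mem_univ (0 : F))]
    refine Finset.card_le_card_of_injOn (fun τ => τ • e + (s / τ) • f) (fun τ hτ => ?_) fun x hx y hy hxy => ?_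
    · simp only [Finset.coe_erase, Set.mem_sdiff, Set.mem_singleton_iff] at hτ
      refine mem_sphere.2 ⟨W.add_mem (W.smul_mem _ he) (W.smul_mem _ hf), ?_⟩
      rw [Q_add, Q_smul, Q_smul, hQe, hQf, pl_smul_left, pl_smul_right, hef]
      have := hτ.2
      field_simp
      ring
    · have h := congrArg (fun v => polar ⇑Q v f) hxy
      simpa [pl_add_left, pl_smul_left, hef, pl_self, hQf] using h

theorem NPlane.card_fibre_le (hQ : Q.polarBilin.Nondegenerate) (hP : NPlane Q W) {u : ι → F} (hu : u ∈ W)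
    (hQu : Q u ≠ 0) (s' φ : F) [DecidableEq F] :
    ((sphere Q W s').filter fun x => polar ⇑Q u x = φ).card ≤ 2 := by
  classical
  rcases ((sphere Q W s').filter fun x => polar ⇑Q u x = φ).eq_empty_or_nonempty with h | ⟨x0, hx0⟩
  · rw [h, Finset.card_empty]; omega
  simp only [Finset.mem_filter, mem_sphere] at hx0
  obtain ⟨b, hb, hQb, hbu, hline, -⟩ := hP.perp_line hQ hu hQu
  refine le_trans (Finset.card_le_card fun x hx => ?_) (le_trans (Finset.card_image_le (f := fun τ : F => x0 + τ • b))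
    (card_roots_le_two (Q b) (polar ⇑Q x0 b) 0 fun h => hQb h.1))
  simp only [Finset.mem_filter, mem_sphere] at hx
  obtain ⟨τ, hτ⟩ := Submodule.mem_span_singleton.1 (hline (x - x0) (W.sub_mem hx.1.1 hx0.1.1)
    (by rw [pl_comm, pl_sub_right, hx.2, hx0.2, sub_self]))
  refine Finset.mem_image.2 ⟨τ, ?_, by rw [hτ]; abel⟩
  simp only [Finset.mem_filter, Finset.mem_univ, true_and]
  have h1 : Q (x0 + τ • b) = s' := by rw [hτ, add_sub_cancel, hx.1.2]
  rw [Q_add, Q_smul, pl_smul_right, hx0.1.2] at h1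
  linear_combination h1

theorem NPlane.card_image_dist (hQ : Q.polarBilin.Nondegenerate) (hP : NPlane Q W) {u : ι → F} (hu : u ∈ W)
    (hQu : Q u ≠ 0) (s' : F) [DecidableEq F] (T : Finset (ι → F)) (hT : T ⊆ sphere Q W s') :
    T.card ≤ 2 * (T.image fun u' => Q (u - u')).card := by
  refine Finset.card_le_mul_card_image _ _ fun a _ => ?_
  refine le_trans (Finset.card_le_card ?_) (hP.card_fibre_le hQ hu hQu s' (Q u + s' - a))
  intro x hx
  simp only [Finset.mem_filter] at hx ⊢
  refine ⟨hT hx.1, ?_⟩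
  have h := hx.2
  rw [Q_sub, (mem_sphere.1 (hT hx.1)).2] at h
  linear_combination -h

/-- Bounds for the sets of distances. -/
theorem NPlane.card_dists (hQ : Q.polarBilin.Nondegenerate) (hP : NPlane Q W) {u : ι → F} (hu : u ∈ W)
    (hQu : Q u ≠ 0) {s' : F} (hs' : s' ≠ 0) :
    Fintype.card F ≤ 2 * (dists Q W u s').card + 1 ∧
      ((∀ x ∈ W, Q x = 0 → x = 0) → Fintype.card F + 1 ≤ 2 * (dists Q W u s').card) := by
  classical
  have h := hP.card_image_dist hQ hu hQu s' (sphere Q W s') (Finset.Subset.refl _)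
  have hc := hP.card_sphere hQ hs'
  have e : (sphere Q W s').image (fun u' => Q (u - u')) = dists Q W u s' := by
    ext a; simp [mem_dists, mem_sphere, and_assoc]
  rw [e] at h
  exact ⟨by omega, fun han => by have := hc.2 han; omega⟩

/-- Better bounds for the distances on one level, in odd characteristic. -/
theorem NPlane.card_dists_self (hQ : Q.polarBilin.Nondegenerate) (hP : NPlane Q W) (h2 : (2 : F) ≠ 0)
    {u : ι → F} (hu : u ∈ W) (hQu : Q u ≠ 0) :
    Fintype.card F + 1 ≤ 2 * (dists Q W u (Q u)).card ∧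
      ((∀ x ∈ W, Q x = 0 → x = 0) → Fintype.card F + 3 ≤ 2 * (dists Q W u (Q u)).card) := by
  classical
  have hu0 : u ≠ 0 := fun h => hQu (by rw [h, QuadraticMap.map_zero])
  set T := ((sphere Q W (Q u)).erase u).erase (-u) with hTdef
  have hneg : -u ≠ u := fun h => hu0 (by
    have h' : (2 : F) • u = 0 := by rw [two_smul]; nth_rewrite 1 [← h]; exact neg_add_cancel u
    exact (smul_eq_zero.1 h').resolve_left h2)
  have hT : T.card + 2 = (sphere Q W (Q u)).card := by
    have hm1 : u ∈ sphere Q W (Q u) := mem_sphere.2 ⟨hu, rfl⟩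
    have hm2 : -u ∈ (sphere Q W (Q u)).erase u :=
      Finset.mem_erase.2 ⟨hneg, mem_sphere.2 ⟨W.neg_mem hu, QuadraticMap.map_neg Q u⟩⟩
    have h1 := Finset.card_erase_add_one hm1
    have h3 := Finset.card_erase_add_one hm2
    rw [hTdef]
    omega
  have hTs : T ⊆ sphere Q W (Q u) := fun x hx => Finset.mem_of_mem_erase (Finset.mem_of_mem_erase hx)
  have h := hP.card_image_dist hQ hu hQu (Q u) T hTs
  set I := T.image fun u' => Q (u - u')
  have h4 : Q (u - -u) = 4 * Q u := by rw [sub_neg_eq_add, Q_add, pl_self]; ring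
  have hI : ∀ a ∈ I, a ≠ 0 ∧ a ≠ 4 * Q u := by
    intro a ha
    obtain ⟨x, hx, rfl⟩ := Finset.mem_image.1 ha
    have hxs := mem_sphere.1 (hTs hx)
    have hxu : x ≠ u := (Finset.mem_erase.1 (Finset.mem_of_mem_erase hx)).1
    refine ⟨hP.sub_aniso hu hxs.1 hQu hxs.2 hxu, fun h' => (Finset.mem_erase.1 hx).1 ?_⟩
    have hf : polar ⇑Q (x + u) u = 0 := by
      rw [Q_sub, hxs.2] at h'; rw [pl_add_left, pl_self, pl_comm]; linear_combination -h'
    have hQ0 : Q (x + u) = 0 := by
      rw [pl_add_left, pl_self] at hf; rw [Q_add, hxs.2]; linear_combination hf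
    exact eq_neg_of_add_eq_zero_left (hP.eq_zero_of_singular_perp hu hQu (W.add_mem hxs.1 hu) hQ0 hf)
  have h40 : (4 : F) * Q u ≠ 0 := by
    rw [show (4 : F) = 2 * 2 by norm_num]; exact mul_ne_zero (mul_ne_zero h2 h2) hQu
  have hsub : insert 0 (insert (4 * Q u) I) ⊆ dists Q W u (Q u) := by
    intro a ha
    simp only [Finset.mem_insert] at ha
    rcases ha with rfl | rfl | ha
    · exact zero_mem_dists hu
    · exact mem_dists.2 ⟨-u, W.neg_mem hu, QuadraticMap.map_neg Q u, h4⟩
    · obtain ⟨x, hx, rfl⟩ := Finset.mem_image.1 ha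
      exact mem_dists.2 ⟨x, (mem_sphere.1 (hTs hx)).1, (mem_sphere.1 (hTs hx)).2, rfl⟩
  have hc := Finset.card_le_card hsub
  rw [Finset.card_insert_of_notMem (by
      rw [Finset.mem_insert, not_or]; exact ⟨h40.symm, fun h' => (hI 0 h').1 rfl⟩),
    Finset.card_insert_of_notMem (fun h' => (hI _ h').2 rfl)] at hc
  have hs := hP.card_sphere hQ hQu
  exact ⟨by omega, fun han => by have := hs.2 han; omega⟩

/-- The values `τ + τ⁻¹` of a field with more than four elements in characteristic two. -/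
theorem card_add_inv_sums [DecidableEq F] (h2 : (2 : F) = 0) (hq : 4 < Fintype.card F) {s s' : F}
    (hs : s ≠ 0) (hs' : s' ≠ 0) :
    Fintype.card F < 2 * ((Finset.univ : Finset (F × F)).image
      fun p => s * (p.1 + p.1⁻¹) + s' * (p.2 + p.2⁻¹)).card := by
  set w : F → F := fun τ => τ + τ⁻¹ with hw
  set A := (Finset.univ : Finset F).image w
  set T := (Finset.univ : Finset (F × F)).image fun p => s * (p.1 + p.1⁻¹) + s' * (p.2 + p.2⁻¹)
  have hA : Fintype.card F ≤ 2 * A.card := by
    rw [← Finset.card_univ]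
    refine Finset.card_le_mul_card_image _ _ fun a _ => ?_
    by_cases ha : a = 0
    · subst ha
      refine le_trans (Finset.card_le_card (t := {0, 1}) fun x hx => ?_) Finset.card_le_two
      simp only [Finset.mem_filter, Finset.mem_univ, true_and, hw] at hx
      simp only [Finset.mem_insert, Finset.mem_singleton]
      by_cases hx0 : x = 0
      · exact .inl hx0
      · refine .inr (mul_self_eq_one_iff.1 ?_ |>.elim id fun h => h.trans (by linear_combination -h2))
        have : x * (x + x⁻¹) = 0 := by rw [hx, mul_zero]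
        rw [mul_add, mul_inv_cancel₀ hx0] at this
        linear_combination this - h2
    · refine le_trans (Finset.card_le_card fun x hx => ?_) (card_roots_le_two 1 (-a) 1 fun h => one_ne_zero h.1)
      simp only [Finset.mem_filter, Finset.mem_univ, true_and, hw] at hx ⊢
      have hx0 : x ≠ 0 := fun h => ha (by simp [← hx, h])
      rw [← hx]; field_simp; ring
  by_contra hle
  have hsA : A.image (fun a => s * a) ⊆ T := by
    intro x hx
    obtain ⟨a, ha, rfl⟩ := Finset.mem_image.1 hx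
    obtain ⟨τ, -, rfl⟩ := Finset.mem_image.1 ha
    exact Finset.mem_image.2 ⟨(τ, 0), Finset.mem_univ _, by simp [hw]⟩
  have hs'A : A.image (fun a => s' * a) ⊆ T := by
    intro x hx
    obtain ⟨a, ha, rfl⟩ := Finset.mem_image.1 hx
    obtain ⟨τ, -, rfl⟩ := Finset.mem_image.1 ha
    exact Finset.mem_image.2 ⟨(0, τ), Finset.mem_univ _, by simp [hw]⟩
  have hcs : (A.image fun a => s * a).card = A.card :=
    Finset.card_image_of_injective _ (mul_right_injective₀ hs)
  have hcs' : (A.image fun a => s' * a).card = A.card :=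
    Finset.card_image_of_injective _ (mul_right_injective₀ hs')
  have e1 : A.image (fun a => s * a) = T := Finset.eq_of_subset_of_card_le hsA (by omega)
  have e2 : A.image (fun a => s' * a) = T := Finset.eq_of_subset_of_card_le hs'A (by omega)
  have hadd : ∀ a ∈ A, ∀ b ∈ A, a + b ∈ A := by
    intro a ha b hb
    have hb' : s * b ∈ A.image (fun a => s' * a) := e2 ▸ hsA (Finset.mem_image_of_mem _ hb)
    obtain ⟨b', hb', hbb⟩ := Finset.mem_image.1 hb'
    obtain ⟨τ, -, rfl⟩ := Finset.mem_image.1 ha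
    obtain ⟨ρ, -, rfl⟩ := Finset.mem_image.1 hb'
    have : s * (w τ + b) ∈ A.image (fun a => s * a) := by
      rw [e1]
      refine Finset.mem_image.2 ⟨(τ, ρ), Finset.mem_univ _, ?_⟩
      show s * w τ + s' * w ρ = _
      rw [mul_add s (w τ) b]; exact congrArg (s * w τ + ·) hbb
    obtain ⟨r, hr, hr'⟩ := Finset.mem_image.1 this
    rwa [mul_right_injective₀ hs hr'] at hr
  have hmul : ∀ a ∈ A, ∀ b ∈ A, a * b ∈ A := by
    intro a ha b hb
    obtain ⟨τ, -, rfl⟩ := Finset.mem_image.1 ha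
    obtain ⟨ρ, -, rfl⟩ := Finset.mem_image.1 hb
    have e : w τ * w ρ = w (τ * ρ) + w (τ * ρ⁻¹) := by
      simp only [hw, _root_.mul_inv_rev, inv_inv]; ring
    rw [e]
    exact hadd _ (Finset.mem_image_of_mem _ (Finset.mem_univ _)) _ (Finset.mem_image_of_mem _ (Finset.mem_univ _))
  have hA0 : (0 : F) ∈ A := Finset.mem_image.2 ⟨0, Finset.mem_univ _, by simp [hw]⟩
  have hpow : ∀ a ∈ A, ∀ n : ℕ, a ^ (n + 1) ∈ A := by
    intro a ha n
    induction n with
    | zero => simpa using ha
    | succ n ih => rw [pow_succ]; exact hmul _ ih _ ha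
  have hinv : ∀ a ∈ A, a⁻¹ ∈ A := by
    intro a ha
    by_cases h0 : a = 0
    · rw [h0, _root_.inv_zero]; exact hA0
    have : a⁻¹ = a ^ (Fintype.card F - 3 + 1) := inv_eq_of_mul_eq_one_right (by
      rw [← pow_succ', show Fintype.card F - 3 + 1 + 1 = Fintype.card F - 1 by omega]
      exact FiniteField.pow_card_sub_one_eq_one a h0)
    rw [this]; exact hpow a ha _
  have hsub : ∀ a ∈ A, ∀ b ∈ A, a - b ∈ A := fun a ha b hb => by
    rw [show a - b = a + b by linear_combination -b * h2]; exact hadd a ha b hb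
  obtain ⟨θ, -, hθ⟩ := Finset.exists_mem_notMem_of_card_lt_card (s := A) (t := Finset.univ) (by
    have := congrArg Finset.card e1
    rw [Finset.card_univ]; omega)
  have hinj : (A ×ˢ A).card ≤ (Finset.univ : Finset F).card := by
    refine Finset.card_le_card_of_injOn (fun p => p.1 + p.2 * θ) (fun _ _ => Finset.mem_univ _) ?_
    rintro ⟨a, b⟩ hab ⟨a', b'⟩ hab' h
    simp only [Finset.coe_product, Set.mem_prod, Finset.mem_coe] at hab hab'
    simp only at h
    by_cases hb : b = b'
    · subst hb; rw [add_right_cancel h]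
    · refine absurd ?_ hθ
      have : θ = (a' - a) * (b - b')⁻¹ := by
        rw [eq_mul_inv_iff_mul_eq₀ (sub_ne_zero.2 hb)]; linear_combination h
      rw [this]
      exact hmul _ (hsub _ hab'.1 _ hab.1) _ (hinv _ (hsub _ hab.2 _ hab'.2))
  rw [Finset.card_product, Finset.card_univ] at hinj
  nlinarith

theorem ap_refl_pair_perp {a b z : ι → F} (ha : polar ⇑Q a z = 0) (hb : polar ⇑Q b z = 0) :
    ap (refl Q a * refl Q b) z = z := by
  rw [ap_mul, refl_ap_of_orth Q hb, refl_ap_of_orth Q ha]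

theorem polar_eq_zero_of_fixed {a b z : ι → F} (hQa : Q a ≠ 0) (hQb : Q b ≠ 0) (hind : b ∉ F ∙ a)
    (h : ap (refl Q a * refl Q b) z = z) : polar ⇑Q a z = 0 ∧ polar ⇑Q b z = 0 := by
  have h1 : ap (refl Q b) z = ap (refl Q a) z := by
    conv_rhs => rw [← h, ap_mul, refl_ap_ap]
  rw [refl_ap, refl_ap, sub_right_inj] at h1
  have hb : polar ⇑Q b z = 0 := by
    by_contra hne
    exact hind ((Submodule.smul_mem_iff _ (mul_ne_zero (inv_ne_zero hQb) hne)).1
      (h1 ▸ Submodule.smul_mem _ _ (Submodule.mem_span_singleton_self a)))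
  rw [hb, mul_zero, zero_smul, eq_comm, smul_eq_zero] at h1
  refine ⟨?_, hb⟩
  rcases h1 with h1 | h1
  · exact (mul_eq_zero.1 h1).resolve_left (inv_ne_zero hQa)
  · rw [h1, pl_zero_left]

end Cfsg.Agent.Orth
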