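import Cfsg.Agent.Lib.Orth.DecompTwoEich
import Cfsg.Agent.Lib.Orth.Derange

/-!
# Stabilisers of decompositions into planes: moves inside the class of an anchor

* `move_mem`, `free_move`, `replace_mem`, `swap_replace` : moves
* `omega_le_of_singular_comp`, `omega_le_of_two` : entries to the Eichler criteria
* `exists_short`, `grow`, `exists_four`, `omega_le_of_outside` : from an outside vector to `Ω ≤ N`
-/

set_option autoImplicit false
set_option linter.unusedSectionVars false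

namespace Cfsg.Agent.Orth

open Cfsg Matrix Module
open QuadraticMap (polar)

variable {ι : Type} [Fintype ι] [DecidableEq ι] {F : Type*} [Field F] [Fintype F]
variable {Q : QuadraticForm F (ι → F)} {t : ℕ} {D : Fin t → Submodule F (ι → F)}
variable {N : Subgroup (IsoGrp Q)} {c : F} {S : Set (ι → F)}

/-- The data of the second stage. -/
structure TwoCtx (Q : QuadraticForm F (ι → F)) (D : Fin t → Submodule F (ι → F))
    (N : Subgroup (IsoGrp Q)) (c : F) (S : Set (ι → F)) : Prop where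
  good : Good Q
  dec : Geo.IsOrthogonalMDecomposition ⇑Q 2 D
  five : 5 ≤ t
  plane : ∀ l, PlaneOK Q (D l)
  stab : ∀ h : IsoGrp Q, h ∈ Omega F ⇑Q → (h : GL ι F) ∈ Geo.decompositionStabilizer D → h ∈ N
  cls : PairClass Q N c S
  member : ∀ i, ∀ x ∈ D i, Q x = c → x ∈ S
  ne : c ≠ 0

namespace TwoCtx

variable (C : TwoCtx Q D N c S)
include C

theorem np (l : Fin t) : NPlane Q (D l) := ⟨member_nondeg C.dec l, C.dec.decomp.decomp.finrank_eq l⟩

theorem nd : Q.polarBilin.Nondegenerate := C.good.nd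

theorem aniso_of_small (hq : Fintype.card F < 7) (l : Fin t) : ∀ x ∈ D l, Q x = 0 → x = 0 :=
  ((C.plane l).resolve_left (not_le.2 hq)).1

theorem q_ne_three : Fintype.card F ≠ 3 := by
  rcases C.plane ⟨0, by have := C.five; omega⟩ with h | h
  · omega
  · exact h.2

theorem move_mem {h : IsoGrp Q} (hh : h ∈ Omega F ⇑Q)
    (hd : (h : GL ι F) ∈ Geo.decompositionStabilizer D) {y : ι → F} (hy : y ∈ S) : ap h y ∈ S := by
  obtain ⟨a, ha, hQa⟩ := exists_Q_eq_in (Q := Q) (D ⟨0, by have := C.five; omega⟩) (member_nondeg C.dec _)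
    (by rw [C.dec.decomp.decomp.finrank_eq]) c
  obtain ⟨σ, hσ, -⟩ := ap_mem_member hd
  exact C.cls.move h (C.stab h hh hd) a (C.member _ a ha hQa)
    (C.member _ _ (hσ _ a ha) (by rw [Q_ap, hQa])) y hy

omit C in
/-- A vector whose stabiliser in the monomial group meets every coset of `Ω`. -/
def Free (hQ : Q.polarBilin.Nondegenerate) (hD : Geo.IsOrthogonalMDecomposition ⇑Q 2 D) (y : ι → F) : Prop :=
  (∃ l, cmp hQ hD l y = 0) ∨ (2 : F) = 0

theorem free_move {y : ι → F} (hy : y ∈ S) (hf : Free C.nd C.dec y) {h : IsoGrp Q}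
    (hd : (h : GL ι F) ∈ Geo.decompositionStabilizer D) : ap h y ∈ S := by
  classical
  suffices hr : ∃ r : IsoGrp Q, h * r ∈ Omega F ⇑Q ∧ (r : GL ι F) ∈ Geo.decompositionStabilizer D ∧
      ap r y = y by
    obtain ⟨r, hr1, hr2, hr3⟩ := hr
    have := C.move_mem hr1 ((Geo.decompositionStabilizer D).mul_mem hd hr2) hy
    rwa [ap_mul, hr3] at this
  rcases hf with ⟨l, hl⟩ | h2
  · obtain ⟨r, hr1, hr2, hr3, -⟩ := exists_sign_fix C.good C.dec le_rfl l h
    exact ⟨r, hr1, hr2, hr3 y fun z hz => by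
      rw [pl_comm, ← polar_cmp C.nd C.dec hz, hl, pl_zero_left]⟩
  · rcases dick_eq_or h with hk | hk
    · exact ⟨1, (mem_omega_iff C.good _).2 ⟨by rw [mul_one]; exact hk, spin_eq_one_of_two C.good h2 _⟩,
        (Geo.decompositionStabilizer D).one_mem, ap_one y⟩
    · obtain ⟨m, hm⟩ : ∃ m, Q (cmp C.nd C.dec m y) ≠ 0 := by
        by_contra! h0
        exact C.ne (by rw [← C.cls.norm y hy, Q_eq_sum_cmp C.nd C.dec y, Finset.sum_eq_zero fun i _ => h0 i])
      refine ⟨refl Q (cmp C.nd C.dec m y), (mem_omega_iff C.good _).2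
        ⟨?_, spin_eq_one_of_two C.good h2 _⟩, refl_mem_decomp C.dec (by omega) (cmp_mem _ _ m y), ?_⟩
      · rw [dick_mul C.good, hk, dick_refl C.nd hm]; norm_num
      · refine refl_ap_of_orth Q ?_
        rw [pl_comm, ← polar_cmp C.nd C.dec (cmp_mem _ _ m y), pl_self, h2, zero_mul]

theorem comp_move {y : ι → F} (hy : y ∈ S) (hf : Free C.nd C.dec y) {l : Fin t} {u' : ι → F}
    (hu' : u' ∈ D l) (hne : Q (cmp C.nd C.dec l y) ≠ 0) (he : Q u' = Q (cmp C.nd C.dec l y)) :
    y - cmp C.nd C.dec l y + u' ∈ S := by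
  by_cases heq : u' = cmp C.nd C.dec l y
  · rw [heq, sub_add_cancel]; exact hy
  have hd := (C.np l).sub_aniso (cmp_mem C.nd C.dec l y) hu' hne he heq
  have hdD : cmp C.nd C.dec l y - u' ∈ D l := (D l).sub_mem (cmp_mem _ _ l y) hu'
  have h := C.free_move hy hf (refl_mem_decomp C.dec (by omega) hdD)
  have e : ap (refl Q (cmp C.nd C.dec l y - u')) y = y - cmp C.nd C.dec l y + u' := by
    have e1 : polar ⇑Q (cmp C.nd C.dec l y - u') y = Q (cmp C.nd C.dec l y - u') := by
      rw [pl_comm, ← polar_cmp C.nd C.dec hdD, pl_sub_right, pl_self, Q_sub, he]; ring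
    rw [refl_ap, e1, inv_mul_cancel₀ hd, one_smul]; abel
  rwa [e] at h

omit C in
theorem cmp_replace (hQ : Q.polarBilin.Nondegenerate) (hD : Geo.IsOrthogonalMDecomposition ⇑Q 2 D)
    {y u' : ι → F} {l : Fin t} (hu' : u' ∈ D l) (m : Fin t) :
    cmp hQ hD m (y - cmp hQ hD l y + u') = if m = l then u' else cmp hQ hD m y := by
  split_ifs with h
  · subst h
    rw [map_add, map_sub, cmp_of_mem hQ hD (cmp_mem hQ hD m y), cmp_of_mem hQ hD hu', sub_self, zero_add]
  · rw [map_add, map_sub, cmp_of_mem_ne hQ hD h (cmp_mem hQ hD l y), cmp_of_mem_ne hQ hD h hu', sub_zero,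
      add_zero]

/-- Replacing the anisotropic components in a set of members. -/
theorem replace_mem (s : Finset (Fin t)) (f : Fin t → ι → F) : ∀ y ∈ S, Free C.nd C.dec y →
    (∀ l ∈ s, f l ∈ D l ∧ Q (cmp C.nd C.dec l y) ≠ 0 ∧ Q (f l) = Q (cmp C.nd C.dec l y)) →
    y - ∑ l ∈ s, (cmp C.nd C.dec l y - f l) ∈ S ∧
      Free C.nd C.dec (y - ∑ l ∈ s, (cmp C.nd C.dec l y - f l)) ∧
      ∀ m, cmp C.nd C.dec m (y - ∑ l ∈ s, (cmp C.nd C.dec l y - f l)) =
        if m ∈ s then f m else cmp C.nd C.dec m y := by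
  classical
  induction s using Finset.induction_on with
  | empty => intro y hy hf _; simp [hy, hf]
  | insert a s ha ih =>
    intro y hy hf hs
    obtain ⟨ha1, ha2, ha3⟩ := hs a (Finset.mem_insert_self a s)
    set y1 := y - cmp C.nd C.dec a y + f a with hy1
    have hy1S : y1 ∈ S := C.comp_move hy hf ha1 ha2 ha3
    have hc1 : ∀ m, cmp C.nd C.dec m y1 = if m = a then f a else cmp C.nd C.dec m y :=
      cmp_replace C.nd C.dec ha1
    have hne : ∀ l ∈ s, cmp C.nd C.dec l y1 = cmp C.nd C.dec l y := fun l hl => by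
      rw [hc1, if_neg (fun e : l = a => ha (e ▸ hl))]
    have hf1 : Free C.nd C.dec y1 := by
      rcases hf with ⟨l, hl⟩ | h2
      · refine .inl ⟨l, ?_⟩
        rw [hc1]
        split_ifs with e
        · exact absurd (by rw [← e, hl, QuadraticMap.map_zero]) ha2
        · exact hl
      · exact .inr h2
    obtain ⟨i1, i2, i3⟩ := ih y1 hy1S hf1 fun l hl => by
      rw [hne l hl]; exact hs l (Finset.mem_insert_of_mem hl)
    have e : y - ∑ l ∈ insert a s, (cmp C.nd C.dec l y - f l) =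
        y1 - ∑ l ∈ s, (cmp C.nd C.dec l y1 - f l) := by
      rw [Finset.sum_insert ha]
      conv_rhs => rw [Finset.sum_congr rfl fun l hl => show cmp C.nd C.dec l y1 - f l = cmp C.nd C.dec l y - f l by rw [hne l hl]]
      rw [hy1]; abel
    rw [e]
    refine ⟨i1, i2, fun m => ?_⟩
    rw [i3, hc1]
    by_cases e1 : m = a
    · subst e1; simp [ha]
    · simp [e1]

theorem diff_mem {y y' : ι → F} (hy : y ∈ S) (hy' : y' ∈ S) (h : Q (y - y') = c) : y - y' ∈ S := by
  have := C.cls.refl_mem y hy y' hy'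
  rw [refl_ap, C.cls.norm y' hy', show polar ⇑Q y' y = c by
    rw [Q_sub, C.cls.norm y hy, C.cls.norm y' hy', pl_comm Q y y'] at h; linear_combination -h,
    inv_mul_cancel₀ C.ne, one_smul] at this
  exact this

theorem refl_diff {y y' : ι → F} (hy : y ∈ S) (hy' : y' ∈ S) :
    y' - (c⁻¹ * polar ⇑Q y y') • y ∈ S := by
  have := C.cls.refl_mem y' hy' y hy
  rwa [refl_ap, C.cls.norm y hy] at this

omit C in
theorem Q_cmp_sum (_hQ : Q.polarBilin.Nondegenerate) (hD : Geo.IsOrthogonalMDecomposition ⇑Q 2 D)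
    (s : Finset (Fin t)) {d : Fin t → ι → F} (hd : ∀ l ∈ s, d l ∈ D l) :
    Q (∑ l ∈ s, d l) = ∑ l ∈ s, Q (d l) :=
  Q_sum_orth _ _ fun i hi j hj hij => member_orth hD hij (hd i hi) (hd j hj)

omit C in
/-- The isometry exchanging two members by a given map, fixing the others. -/
theorem exists_transposition (hQ : Q.polarBilin.Nondegenerate) (hD : Geo.IsOrthogonalMDecomposition ⇑Q 2 D)
    {i j : Fin t} (hij : i ≠ j) :
    ∃ g : IsoGrp Q, (g : GL ι F) ∈ Geo.decompositionStabilizer D ∧ (∀ x ∈ D i, ap g x ∈ D j) ∧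
      (∀ x ∈ D j, ap g x ∈ D i) ∧ ∀ l, l ≠ i → l ≠ j → ∀ x ∈ D l, ap g x = x := by
  classical
  obtain ⟨e, he, hef⟩ := exists_transport hD i j
  let πi : (ι → F) →ₗ[F] D i := (cmp hQ hD i).codRestrict (D i) (cmp_mem hQ hD i)
  let πj : (ι → F) →ₗ[F] D j := (cmp hQ hD j).codRestrict (D j) (cmp_mem hQ hD j)
  let s : (ι → F) →ₗ[F] (ι → F) := LinearMap.id
    + ((D j).subtype ∘ₗ e.toLinearMap ∘ₗ πi - (D i).subtype ∘ₗ πi)
    + ((D i).subtype ∘ₗ e.symm.toLinearMap ∘ₗ πj - (D j).subtype ∘ₗ πj)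
  have hs : ∀ x, s x = x + (((e (πi x) : D j) : ι → F) - cmp hQ hD i x)
      + (((e.symm (πj x) : D i) : ι → F) - cmp hQ hD j x) := fun x => rfl
  have si : ∀ x (hx : x ∈ D i), s x = ((e ⟨x, hx⟩ : D j) : ι → F) := fun x hx => by
    have h1 : πi x = ⟨x, hx⟩ := Subtype.ext (cmp_of_mem _ hD hx)
    have h2' : πj x = 0 := Subtype.ext (cmp_of_mem_ne _ hD hij.symm hx)
    rw [hs, h1, h2', map_zero, cmp_of_mem _ hD hx, cmp_of_mem_ne _ hD hij.symm hx]
    simp
  have sj : ∀ x (hx : x ∈ D j), s x = ((e.symm ⟨x, hx⟩ : D i) : ι → F) := fun x hx => by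
    have h1 : πj x = ⟨x, hx⟩ := Subtype.ext (cmp_of_mem _ hD hx)
    have h2' : πi x = 0 := Subtype.ext (cmp_of_mem_ne _ hD hij hx)
    rw [hs, h1, h2', map_zero, cmp_of_mem _ hD hx, cmp_of_mem_ne _ hD hij hx]
    simp
  have sl : ∀ l, l ≠ i → l ≠ j → ∀ x ∈ D l, s x = x := fun l h1 h2' x hx => by
    have e1 : πi x = 0 := Subtype.ext (cmp_of_mem_ne _ hD h1.symm hx)
    have e2 : πj x = 0 := Subtype.ext (cmp_of_mem_ne _ hD h2'.symm hx)
    rw [hs, e1, e2, map_zero, map_zero, cmp_of_mem_ne _ hD h1.symm hx, cmp_of_mem_ne _ hD h2'.symm hx]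
    simp
  let σ : Equiv.Perm (Fin t) := Equiv.swap i j
  have hsmem : ∀ l, ∀ x ∈ D l, s x ∈ D (σ l) ∧ Q (s x) = Q x := by
    intro l x hx
    by_cases h1 : l = i
    · subst h1
      rw [si x hx, Equiv.swap_apply_left]
      exact ⟨(e ⟨x, hx⟩).2, he _⟩
    by_cases h2' : l = j
    · subst h2'
      rw [sj x hx, Equiv.swap_apply_right]
      refine ⟨(e.symm ⟨x, hx⟩).2, ?_⟩
      rw [← he (e.symm ⟨x, hx⟩), LinearEquiv.apply_symm_apply]
    rw [sl l h1 h2' x hx, Equiv.swap_apply_of_ne_of_ne h1 h2']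
    exact ⟨hx, rfl⟩
  have hQs : ∀ x, Q (s x) = Q x := by
    intro x
    conv_lhs => rw [← sum_cmp hQ hD x, map_sum]
    rw [Q_sum_orth _ _ fun a _ b _ hab => member_orth hD (σ.injective.ne hab)
      (hsmem a _ (cmp_mem _ hD a x)).1 (hsmem b _ (cmp_mem _ hD b x)).1, Q_eq_sum_cmp hQ hD x]
    exact Finset.sum_congr rfl fun a _ => (hsmem a _ (cmp_mem _ hD a x)).2
  obtain ⟨g, hg⟩ := exists_isoGrp_of_preserve hQ s hQs
  refine ⟨g, mem_decomp_of_maps_members hD (by omega) fun l => ⟨σ l, fun x hx => ?_⟩, fun x hx => ?_,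
    fun x hx => ?_, fun l h1 h2' x hx => ?_⟩
  · rw [hg]; exact (hsmem l x hx).1
  · rw [hg, si x hx]; exact (e _).2
  · rw [hg, sj x hx]; exact (e.symm _).2
  · rw [hg, sl l h1 h2' x hx]

/-- Exchanging two components. -/
theorem swap_replace {y : ι → F} (hy : y ∈ S) (hf : Free C.nd C.dec y) {l m : Fin t} (hlm : l ≠ m)
    {u v : ι → F} (hu : u ∈ D l) (hv : v ∈ D m) (hl : Q (cmp C.nd C.dec l y) ≠ 0)
    (hQv : Q v = Q (cmp C.nd C.dec l y))
    (hm : (Q (cmp C.nd C.dec m y) ≠ 0 ∧ Q u = Q (cmp C.nd C.dec m y)) ∨ (cmp C.nd C.dec m y = 0 ∧ u = 0)) :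
    y - (cmp C.nd C.dec l y - u) - (cmp C.nd C.dec m y - v) ∈ S := by
  classical
  have hQ := C.nd
  obtain ⟨g, hg, hg1, hg2, hg3⟩ := exists_transposition C.nd C.dec hlm
  set yl := cmp C.nd C.dec l y
  set ym := cmp C.nd C.dec m y
  set R := y - yl - ym
  have hR : ∀ n, cmp C.nd C.dec n R = if n = l ∨ n = m then 0 else cmp C.nd C.dec n y := by
    intro n
    split_ifs with h
    · rcases h with rfl | rfl
      · rw [map_sub, map_sub, cmp_of_mem C.nd C.dec (cmp_mem C.nd C.dec n y),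
          cmp_of_mem_ne C.nd C.dec hlm (cmp_mem C.nd C.dec m y), sub_self, sub_zero]
      · rw [map_sub, map_sub, cmp_of_mem C.nd C.dec (cmp_mem C.nd C.dec n y),
          cmp_of_mem_ne C.nd C.dec hlm.symm (cmp_mem C.nd C.dec l y), sub_zero, sub_self]
    · push Not at h
      rw [map_sub, map_sub, cmp_of_mem_ne C.nd C.dec h.1 (cmp_mem C.nd C.dec l y),
        cmp_of_mem_ne C.nd C.dec h.2 (cmp_mem C.nd C.dec m y), sub_zero, sub_zero]
  have hgR : ap g R = R := by
    conv_lhs => rw [← sum_cmp C.nd C.dec R, map_sum]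
    conv_rhs => rw [← sum_cmp C.nd C.dec R]
    refine Finset.sum_congr rfl fun n _ => ?_
    by_cases h : n = l ∨ n = m
    · rw [hR, if_pos h, map_zero]
    · push Not at h; exact hg3 n h.1 h.2 _ (cmp_mem C.nd C.dec n R)
  have hgy : ap g y = ap g ym + ap g yl + R := by
    conv_lhs => rw [show y = ym + yl + R by simp only [R]; abel]
    rw [map_add, map_add, hgR]
  have hl' : ap g ym ∈ D l := hg2 ym (cmp_mem C.nd C.dec m y)
  have hm' : ap g yl ∈ D m := hg1 yl (cmp_mem C.nd C.dec l y)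
  have hcl : cmp C.nd C.dec l (ap g y) = ap g ym := by
    rw [hgy, map_add, map_add, cmp_of_mem C.nd C.dec hl', cmp_of_mem_ne C.nd C.dec hlm hm', hR,
      if_pos (Or.inl rfl), add_zero, add_zero]
  have hcm : cmp C.nd C.dec m (ap g y) = ap g yl := by
    rw [hgy, map_add, map_add, cmp_of_mem C.nd C.dec hm', cmp_of_mem_ne C.nd C.dec hlm.symm hl', hR,
      if_pos (Or.inr rfl), zero_add, add_zero]
  have hcn : ∀ n, n ≠ l → n ≠ m → cmp C.nd C.dec n (ap g y) = cmp C.nd C.dec n y := fun n h1 h3 => by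
    rw [hgy, map_add, map_add, cmp_of_mem_ne C.nd C.dec h1 hl', cmp_of_mem_ne C.nd C.dec h3 hm', hR,
      if_neg (by tauto), zero_add, zero_add]
  have hgS : ap g y ∈ S := C.free_move hy hf hg
  have hgf : Free C.nd C.dec (ap g y) := by
    rcases hf with ⟨n, hn⟩ | h2
    · by_cases h1 : n = l
      · subst h1; exact absurd (show Q (cmp C.nd C.dec n y) = 0 by rw [hn, QuadraticMap.map_zero]) hl
      by_cases h3 : n = m
      · subst h3; exact .inl ⟨l, by rw [hcl, show ym = 0 from hn, map_zero]⟩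
      · exact .inl ⟨n, by rw [hcn n h1 h3, hn]⟩
    · exact .inr h2
  rcases hm with ⟨hm1, hm2⟩ | ⟨hm1, hm2⟩
  · let f : Fin t → ι → F := fun n => if n = l then u else v
    have hfl : f l = u := if_pos rfl
    have hfm : f m = v := if_neg hlm.symm
    obtain ⟨h, -, -⟩ := C.replace_mem {l, m} f (ap g y) hgS hgf (by
      intro n hn
      simp only [Finset.mem_insert, Finset.mem_singleton] at hn
      rcases hn with rfl | rfl
      · rw [hfl, hcl, Q_ap]; exact ⟨hu, hm1, hm2⟩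
      · rw [hfm, hcm, Q_ap]; exact ⟨hv, hl, hQv⟩)
    rw [Finset.sum_pair hlm, hfl, hfm, hcl, hcm, hgy] at h
    convert h using 1
    simp only [R]; abel
  · have h := C.comp_move hgS hgf hv (by rw [hcm, Q_ap]; exact hl) (by rw [hcm, Q_ap, hQv])
    rw [hcm, hgy] at h
    convert h using 1
    simp only [R]; rw [hm2, hm1, map_zero]; abel

/-- A singular component finishes. -/
theorem omega_le_of_singular_comp {y : ι → F} (hy : y ∈ S) {i : Fin t}
    (h0 : cmp C.nd C.dec i y ≠ 0) (hs : Q (cmp C.nd C.dec i y) = 0) : Omega F ⇑Q ≤ N := by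
  have hq : 7 ≤ Fintype.card F := by
    by_contra hq
    exact h0 (C.aniso_of_small (not_le.1 hq) i _ (cmp_mem C.nd C.dec i y) hs)
  set e := cmp C.nd C.dec i y with he
  set v := y - e with hv
  have heD : e ∈ D i := cmp_mem C.nd C.dec i y
  have hvo : ∀ z ∈ D i, polar ⇑Q z v = 0 := mem_perpSub.1 (cmp_self_sub C.nd C.dec i y)
  have hev : polar ⇑Q e v = 0 := hvo e heD
  have hye : y = v + e := by rw [hv]; abel
  have hQv : Q v = c := by
    have h := C.cls.norm y hy
    rw [hye, Q_add, hs, pl_comm, hev] at h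
    linear_combination h
  have hv0 : v ≠ 0 := fun h => C.ne (by rw [← hQv, h, QuadraticMap.map_zero])
  obtain ⟨f, hf, hQf, hef⟩ := exists_hpair_in C.nd (member_nondeg C.dec i) heD h0 hs
  obtain ⟨ρ, hρ0, hρ1⟩ := exists_sq_ne_one (F := F) (by omega)
  obtain ⟨h, -, hΩ, hst, hhe, hfix⟩ := exists_scaling C.good C.dec C.stab heD hf hs hQf hef hρ0
  set r := ρ * ρ
  have hhy : ap h y = v + r • e := by rw [hye, map_add, hfix v hvo, hhe]
  have hN := C.cls.pair y hy _ (C.move_mem hΩ hst hy)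
  have hE : ∀ s : F, eich Q e ((s / c) • v) = refl Q v * refl Q (v + s • e) := fun s => by
    rw [← eich_smul_left, eich_eq_refl_pair (by rw [Q_smul, hs, mul_zero])
      (by rw [pl_smul_left, hev, mul_zero]) (by rw [hQv]; exact C.ne), hQv, smul_smul, mul_div_cancel₀ _ C.ne]
  have hJ : eich Q e (((r - 1) / c) • v) ∈ N := by
    have e1 : refl Q y * refl Q (ap h y) = (eich Q e ((1 / c) • v))⁻¹ * eich Q e ((r / c) • v) := by
      rw [hE, hE, hhy, one_smul, ← hye, _root_.mul_inv_rev, refl_inv, refl_inv, mul_assoc,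
        ← mul_assoc (refl Q v), refl_mul_self, one_mul]
    rw [e1, eich_inv, eich_add hs (by rw [pl_neg_right, pl_smul_right, hev, mul_zero, neg_zero])
      (by rw [pl_smul_right, hev, mul_zero]), ← neg_smul, ← add_smul] at hN
    rwa [sub_div, sub_eq_neg_add]
  exact omega_le_of_singular_member C.good C.dec (by have := C.five; omega) hq C.stab heD h0 hs
    (fun z hz => by rw [pl_smul_right, hvo z hz, mul_zero])
    (smul_ne_zero (div_ne_zero (sub_ne_zero.2 hρ1) C.ne) hv0) hJ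

/-- Two components of opposite norms, the rest in the class. -/
theorem omega_le_of_two (han : ∀ l, ∀ x ∈ D l, Q x = 0 → x = 0) {l m : Fin t} (hlm : l ≠ m)
    {dl dm v : ι → F} (hdl : dl ∈ D l) (hdm : dm ∈ D m) (hQl : Q dl ≠ 0) (hsum : Q dl + Q dm = 0)
    (hvl : ∀ z ∈ D l, polar ⇑Q z v = 0) (hvm : ∀ z ∈ D m, polar ⇑Q z v = 0) (hv : v ∈ S)
    (hd : v + (dl + dm) ∈ S) : Omega F ⇑Q ≤ N := by
  have he : Q (dl + dm) = 0 := by rw [Q_add, member_orth C.dec hlm hdl hdm, hsum, add_zero]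
  have hev : polar ⇑Q (dl + dm) v = 0 := by rw [pl_add_left, hvl dl hdl, hvm dm hdm, add_zero]
  have hQv : Q v = c := C.cls.norm v hv
  have hN := C.cls.pair v hv _ hd
  have hE : eich Q (dl + dm) ((1 / c) • v) = refl Q v * refl Q (v + (dl + dm)) := by
    rw [← eich_smul_left, eich_eq_refl_pair (by rw [Q_smul, he, mul_zero])
      (by rw [pl_smul_left, hev, mul_zero]) (by rw [hQv]; exact C.ne), hQv, smul_smul, mul_div_cancel₀ _ C.ne,
      one_smul]
  refine omega_le_of_anisotropic_pair C.good C.dec (by have := C.five; omega) han C.q_ne_three C.stab hlm hdl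
    hdm hQl hsum (fun z hz => by rw [pl_smul_right, hvl z hz, mul_zero])
    (fun z hz => by rw [pl_smul_right, hvm z hz, mul_zero])
    (smul_ne_zero (one_div_ne_zero C.ne) fun h => C.ne (by rw [← hQv, h, QuadraticMap.map_zero])) ?_
  rw [hE]; exact hN

omit C in
open Classical in
/-- The members with non-zero component. -/
noncomputable def supp (hQ : Q.polarBilin.Nondegenerate) (hD : Geo.IsOrthogonalMDecomposition ⇑Q 2 D)
    (y : ι → F) : Finset (Fin t) := Finset.univ.filter fun l => cmp hQ hD l y ≠ 0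

theorem mem_supp {y : ι → F} {l : Fin t} : l ∈ supp C.nd C.dec y ↔ cmp C.nd C.dec l y ≠ 0 := by
  classical
  simp [supp]

theorem card_pos_aniso {y : ι → F} (hy : y ∈ S) : ∃ l ∈ supp C.nd C.dec y, Q (cmp C.nd C.dec l y) ≠ 0 := by
  by_contra! h
  refine C.ne ?_
  rw [← C.cls.norm y hy, Q_eq_sum_cmp C.nd C.dec y]
  refine Finset.sum_eq_zero fun l _ => ?_
  by_cases hl : l ∈ supp C.nd C.dec y
  · exact h l hl
  · rw [C.mem_supp, not_not] at hl; rw [hl, QuadraticMap.map_zero]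

/-- Either finished, or all non-zero components are anisotropic. -/
theorem aniso_or_done {y : ι → F} (hy : y ∈ S) :
    Omega F ⇑Q ≤ N ∨ ∀ l ∈ supp C.nd C.dec y, Q (cmp C.nd C.dec l y) ≠ 0 := by
  by_cases h : ∀ l ∈ supp C.nd C.dec y, Q (cmp C.nd C.dec l y) ≠ 0
  · exact .inr h
  push Not at h
  obtain ⟨l, hl, hl0⟩ := h
  exact .inl (C.omega_le_of_singular_comp hy (C.mem_supp.1 hl) hl0)

/-- Distances, large enough to avoid three values. -/
theorem exists_dist_avoid (hq : Fintype.card F ≠ 2) {l : Fin t} {u : ι → F} (hu : u ∈ D l) (hQu : Q u ≠ 0)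
    (a b d : F) (hd : (2 : F) = 0 → d = b) :
    ∃ u' ∈ D l, Q u' = Q u ∧ Q (u - u') ≠ a ∧ Q (u - u') ≠ b ∧ Q (u - u') ≠ d := by
  classical
  suffices h : (({a, b, d} : Finset F)).card < (dists Q (D l) u (Q u)).card by
    obtain ⟨x, hx, hx'⟩ := Finset.exists_mem_notMem_of_card_lt_card h
    obtain ⟨u', hu', hQu', rfl⟩ := mem_dists.1 hx
    simp only [Finset.mem_insert, Finset.mem_singleton, not_or] at hx'
    exact ⟨u', hu', hQu', hx'.1, hx'.2.1, hx'.2.2⟩
  have hq3 := C.q_ne_three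
  have h1 := (C.np l).card_dists C.nd hu hQu hQu
  have hq1 : 1 < Fintype.card F := Fintype.one_lt_card
  by_cases h2 : (2 : F) = 0
  · rw [hd h2]
    have e : ({a, b, b} : Finset F) = {a, b} := by simp
    rw [e]
    refine lt_of_le_of_lt Finset.card_le_two ?_
    by_cases h7 : 7 ≤ Fintype.card F
    · omega
    · have h3 := h1.2 (C.aniso_of_small (not_le.1 h7) l)
      have heven : Fintype.card F % 2 = 0 := (FiniteField.even_card_iff_char_two (F := F)).1
        (CharP.ringChar_of_prime_eq_zero Nat.prime_two (by exact_mod_cast h2))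
      omega
  · have h3 := (C.np l).card_dists_self C.nd h2 hu hQu
    refine lt_of_le_of_lt Finset.card_le_three ?_
    by_cases h7 : 7 ≤ Fintype.card F
    · omega
    · have h4 := h3.2 (C.aniso_of_small (not_le.1 h7) l)
      have hodd : Fintype.card F % 2 = 1 := by
        rcases Nat.mod_two_eq_zero_or_one (Fintype.card F) with he | ho
        · refine absurd ?_ h2
          have h2' := (FiniteField.even_card_iff_char_two (F := F)).2 he
          have := ringChar.Nat.cast_ringChar (R := F)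
          rw [h2'] at this
          exact_mod_cast this
        · exact ho
      omega

theorem two_dists_eq (h2 : (2 : F) ≠ 0) {l m : Fin t} {u v : ι → F} (hu : u ∈ D l) (hQu : Q u ≠ 0)
    (hv : v ∈ D m) (hQv : Q v ≠ 0) (M : F) :
    ∃ u' ∈ D l, ∃ v' ∈ D m, Q u' = Q u ∧ Q v' = Q v ∧ Q (u - u') + Q (v - v') = M := by
  classical
  have h1 := ((C.np l).card_dists_self C.nd h2 hu hQu).1
  have h3 := ((C.np m).card_dists_self C.nd h2 hv hQv).1
  obtain ⟨a, ha, b, hb, hab⟩ := exists_add_eq_of_card (A := dists Q (D l) u (Q u))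
    (B := dists Q (D m) v (Q v)) (by omega) M
  obtain ⟨u', hu', hQu', rfl⟩ := mem_dists.1 ha
  obtain ⟨v', hv', hQv', rfl⟩ := mem_dists.1 hb
  exact ⟨u', hu', v', hv', hQu', hQv', hab⟩

/-- A rotation of one member moving a component to a given vector of the same norm. -/
theorem exists_rot {l : Fin t} {u u' : ι → F} (hu : u ∈ D l) (hu' : u' ∈ D l) (hQu : Q u ≠ 0)
    (he : Q u' = Q u) : ∃ r : IsoGrp Q, (r : GL ι F) ∈ Geo.decompositionStabilizer D ∧ dick r = 1 ∧
      ap r u = u' ∧ ∀ x, (∀ z ∈ D l, polar ⇑Q z x = 0) → ap r x = x := by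
  by_cases hne : u' = u
  · exact ⟨1, (Geo.decompositionStabilizer D).one_mem, dick_one, by rw [ap_one, hne], fun x _ => ap_one x⟩
  have hd := (C.np l).sub_aniso hu hu' hQu he hne
  obtain ⟨b, hb, hQb, hbu, -, -⟩ := (C.np l).perp_line C.nd hu hQu
  have hdD := (D l).sub_mem hu hu'
  refine ⟨refl Q (u - u') * refl Q b, mem_decomp_pair C.good C.dec ⟨l, hdD⟩ ⟨l, hb⟩,
    by rw [dick_refl_mul C.nd _ hd, dick_refl C.nd hQb]; norm_num, ?_,
    fun x hx => ap_refl_pair_perp (hx _ hdD) (hx _ hb)⟩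
  rw [ap_mul, refl_ap_of_orth Q hbu, refl_sub_ap he hd]

omit C in
theorem cmp_three (hQ : Q.polarBilin.Nondegenerate) (hD : Geo.IsOrthogonalMDecomposition ⇑Q 2 D) {a b : Fin t}
    {p q : ι → F} (hp : p ∈ D a) (hq : q ∈ D b) (hab : a ≠ b) :
    cmp hQ hD a (p + q) = p ∧ cmp hQ hD b (p + q) = q ∧
      ∀ n, n ≠ a → n ≠ b → cmp hQ hD n (p + q) = 0 :=
  ⟨by rw [map_add, cmp_of_mem hQ hD hp, cmp_of_mem_ne hQ hD hab hq, add_zero],
    by rw [map_add, cmp_of_mem hQ hD hq, cmp_of_mem_ne hQ hD hab.symm hp, zero_add],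
    fun n h1 h2 => by rw [map_add, cmp_of_mem_ne hQ hD h1 hp, cmp_of_mem_ne hQ hD h2 hq, add_zero]⟩

/-- A rotation in two members realising a given difference. -/
theorem exists_pair_rot (h2 : (2 : F) ≠ 0) {y : ι → F} {a b : Fin t} (hab : a ≠ b)
    (ha : Q (cmp C.nd C.dec a y) ≠ 0) (hb : Q (cmp C.nd C.dec b y) ≠ 0) (M : F) :
    ∃ h : IsoGrp Q, ∃ p ∈ D a, ∃ q ∈ D b, (h : GL ι F) ∈ Geo.decompositionStabilizer D ∧ dick h = 1 ∧
      ap h y = y - (p + q) ∧ Q p + Q q = M ∧
      ∀ x, (∀ z ∈ D a, polar ⇑Q z x = 0) → (∀ z ∈ D b, polar ⇑Q z x = 0) → ap h x = x := by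
  set u := cmp C.nd C.dec a y
  set v := cmp C.nd C.dec b y
  have hu : u ∈ D a := cmp_mem _ _ a y
  have hv : v ∈ D b := cmp_mem _ _ b y
  obtain ⟨u', hu', v', hv', hQu', hQv', hM⟩ := C.two_dists_eq h2 hu ha hv hb M
  obtain ⟨r, hr, hrd, hru, hrf⟩ := C.exists_rot hu hu' ha hQu'
  obtain ⟨s, hs, hsd, hsv, hsf⟩ := C.exists_rot hv hv' hb hQv'
  refine ⟨r * s, u - u', (D a).sub_mem hu hu', v - v', (D b).sub_mem hv hv',
    (Geo.decompositionStabilizer D).mul_mem hr hs, by rw [dick_mul C.good, hrd, hsd, mul_one], ?_, hM,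
    fun x hxa hxb => by rw [ap_mul, hsf x hxb, hrf x hxa]⟩
  set R := y - u - v
  have hRa : ∀ z ∈ D a, polar ⇑Q z R = 0 := fun z hz => by
    rw [pl_sub_right, mem_perpSub.1 (cmp_self_sub C.nd C.dec a y) z hz, member_orth C.dec hab hz hv, sub_zero]
  have hRb : ∀ z ∈ D b, polar ⇑Q z R = 0 := fun z hz => by
    rw [show R = y - v - u by simp only [R]; abel, pl_sub_right,
      mem_perpSub.1 (cmp_self_sub C.nd C.dec b y) z hz, member_orth C.dec hab.symm hz hu, sub_zero]
  rw [ap_mul]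
  have e1 : ap r (ap s u) = u' := by rw [hsf u (fun z hz => member_orth C.dec hab.symm hz hu), hru]
  have e2 : ap r (ap s v) = v' := by rw [hsv, hrf v' (fun z hz => member_orth C.dec hab hz hv')]
  have e3 : ap r (ap s R) = R := by rw [hsf R hRb, hrf R hRa]
  conv_lhs => rw [show y = u + v + R by simp only [R]; abel]
  simp only [map_add, e1, e2, e3]
  simp only [R]; abel

set_option maxHeartbeats 800000 in
/-- Odd characteristic: a vector of the class supported in two to four members. -/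
theorem exists_short (h2 : (2 : F) ≠ 0) {y : ι → F} (hy : y ∈ S) (f : Fin 5 → Fin t) (hf : Function.Injective f)
    (hfy : ∀ n, Q (cmp C.nd C.dec (f n) y) ≠ 0) :
    Omega F ⇑Q ≤ N ∨ ∃ y' ∈ S, (∀ l ∈ supp C.nd C.dec y', Q (cmp C.nd C.dec l y') ≠ 0) ∧
      2 ≤ (supp C.nd C.dec y').card ∧ (supp C.nd C.dec y').card ≤ 4 := by
  classical
  have hc2 : c / 2 ≠ 0 := div_ne_zero C.ne h2
  have hff : ∀ {i j : Fin 5}, i ≠ j → f i ≠ f j := fun h => hf.ne h
  -- five rotations, each pair disjoint from the next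
  obtain ⟨h0, p0, hp0, q0, hq0, hs0, hd0, hy0, hQ0, hf0⟩ :=
    C.exists_pair_rot h2 (hff (show (0 : Fin 5) ≠ 1 by decide)) (hfy 0) (hfy 1) (c / 2)
  obtain ⟨h1, p1, hp1, q1, hq1, hs1, hd1, hy1, hQ1, hf1⟩ :=
    C.exists_pair_rot h2 (hff (show (2 : Fin 5) ≠ 3 by decide)) (hfy 2) (hfy 3) (c / 2)
  obtain ⟨h2', p2, hp2, q2, hq2, hs2, hd2, hy2, hQ2, hf2⟩ :=
    C.exists_pair_rot h2 (hff (show (4 : Fin 5) ≠ 0 by decide)) (hfy 4) (hfy 0) (c / 2)
  obtain ⟨h3, p3, hp3, q3, hq3, hs3, hd3, hy3, hQ3, hf3⟩ :=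
    C.exists_pair_rot h2 (hff (show (1 : Fin 5) ≠ 2 by decide)) (hfy 1) (hfy 2) (c / 2)
  obtain ⟨h4, p4, hp4, q4, hq4, hs4, hd4, hy4, hQ4, hf4⟩ :=
    C.exists_pair_rot h2 (hff (show (3 : Fin 5) ≠ 4 by decide)) (hfy 3) (hfy 4) (c / 2)
  have key : ∀ (g g' : IsoGrp Q) (a b a' b' : Fin t), a ≠ b → a' ≠ b' → a ≠ a' → a ≠ b' → b ≠ a' → b ≠ b' →
      ∀ (p q p' q' : ι → F), p ∈ D a → q ∈ D b → p' ∈ D a' → q' ∈ D b' →
      (g : GL ι F) ∈ Geo.decompositionStabilizer D → (g' : GL ι F) ∈ Geo.decompositionStabilizer D →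
      dick g = 1 → dick g' = 1 → spin g = spin g' → ap g' y = y - (p' + q') →
      (∀ x, (∀ z ∈ D a, polar ⇑Q z x = 0) → (∀ z ∈ D b, polar ⇑Q z x = 0) → ap g x = x) →
      ap g y = y - (p + q) → Q p + Q q = c / 2 → Q p' + Q q' = c / 2 →
      Omega F ⇑Q ≤ N ∨ ∃ y' ∈ S, (∀ l ∈ supp C.nd C.dec y', Q (cmp C.nd C.dec l y') ≠ 0) ∧
        2 ≤ (supp C.nd C.dec y').card ∧ (supp C.nd C.dec y').card ≤ 4 := by
    intro g g' a b a' b' hab hab' haa hab2 hba hbb p q p' q' hp hq hp' hq' hg hg' hdg hdg' hsp hgy' hfix hgy hQ hQ'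
    have hΩ : g * g' ∈ Omega F ⇑Q := (mem_omega_iff C.good _).2
      ⟨by rw [dick_mul C.good, hdg, hdg', mul_one], by
        rw [spin_mul C.good, hsp]
        rcases spin_eq_or C.good g' with e | e <;> rw [e] <;> norm_num⟩
    have hy' := C.move_mem hΩ ((Geo.decompositionStabilizer D).mul_mem hg hg') hy
    have hgd : ap g (p' + q') = p' + q' := hfix _
      (fun z hz => by rw [pl_add_right, member_orth C.dec haa hz hp', member_orth C.dec hab2 hz hq', add_zero])
      (fun z hz => by rw [pl_add_right, member_orth C.dec hba hz hp', member_orth C.dec hbb hz hq', add_zero])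
    rw [ap_mul, hgy', map_sub, hgy, hgd, sub_sub] at hy'
    have hperp : polar ⇑Q (p + q) (p' + q') = 0 := by
      rw [pl_add_left, pl_add_right, pl_add_right, member_orth C.dec haa hp hp', member_orth C.dec hab2 hp hq',
        member_orth C.dec hba hq hp', member_orth C.dec hbb hq hq']; ring
    set d := p + q + (p' + q') with hd
    have hQd : Q (y - (y - d)) = c := by
      rw [sub_sub_cancel, hd, Q_add, hperp, Q_add, member_orth C.dec hab hp hq, Q_add,
        member_orth C.dec hab' hp' hq', add_zero, add_zero, add_zero, hQ, hQ']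
      field_simp
      ring
    have hdS := C.diff_mem hy hy' hQd
    rw [sub_sub_cancel] at hdS
    rcases C.aniso_or_done hdS with hdone | han
    · exact .inl hdone
    refine .inr ⟨d, hdS, han, ?_, ?_⟩
    · have hne : ∀ {a b : Fin t} {p q : ι → F}, Q p + Q q = c / 2 → p ≠ 0 ∨ q ≠ 0 := fun {a b p q} h => by
        by_contra! h'
        exact hc2 (by rw [← h, h'.1, h'.2, QuadraticMap.map_zero, add_zero])
      have hcd : cmp C.nd C.dec a d = p ∧ cmp C.nd C.dec b d = q ∧ cmp C.nd C.dec a' d = p' ∧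
          cmp C.nd C.dec b' d = q' := by
        obtain ⟨e1, e2, e3⟩ := cmp_three C.nd C.dec hp hq hab
        obtain ⟨e4, e5, e6⟩ := cmp_three C.nd C.dec hp' hq' hab'
        exact ⟨by rw [hd, map_add, e1, e6 a haa hab2, add_zero], by rw [hd, map_add, e2, e6 b hba hbb, add_zero],
          by rw [hd, map_add, e4, e3 a' haa.symm hba.symm, zero_add],
          by rw [hd, map_add, e5, e3 b' hab2.symm hbb.symm, zero_add]⟩
      obtain ⟨n, hn, hn'⟩ : ∃ n, (n = a ∨ n = b) ∧ n ∈ supp C.nd C.dec d := by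
        rcases hne (a := a) (b := b) hQ with h | h
        · exact ⟨a, .inl rfl, C.mem_supp.2 (by rw [hcd.1]; exact h)⟩
        · exact ⟨b, .inr rfl, C.mem_supp.2 (by rw [hcd.2.1]; exact h)⟩
      obtain ⟨n', hm, hm'⟩ : ∃ n, (n = a' ∨ n = b') ∧ n ∈ supp C.nd C.dec d := by
        rcases hne (a := a') (b := b') hQ' with h | h
        · exact ⟨a', .inl rfl, C.mem_supp.2 (by rw [hcd.2.2.1]; exact h)⟩
        · exact ⟨b', .inr rfl, C.mem_supp.2 (by rw [hcd.2.2.2]; exact h)⟩
      refine Finset.one_lt_card.2 ⟨n, hn', n', hm', ?_⟩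
      rcases hn with rfl | rfl <;> rcases hm with rfl | rfl <;> assumption
    · refine le_trans (Finset.card_le_card (t := ({a, b, a', b'} : Finset (Fin t))) fun n hn => ?_) Finset.card_le_four
      by_contra hn'
      simp only [Finset.mem_insert, Finset.mem_singleton, not_or] at hn'
      exact C.mem_supp.1 hn (by rw [hd, map_add, (cmp_three C.nd C.dec hp hq hab).2.2 n hn'.1 hn'.2.1,
        (cmp_three C.nd C.dec hp' hq' hab').2.2 n hn'.2.2.1 hn'.2.2.2, add_zero])
  by_cases e01 : spin h0 = spin h1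
  · exact key h0 h1 _ _ _ _ (hff (by decide)) (hff (by decide)) (hff (by decide)) (hff (by decide))
      (hff (by decide)) (hff (by decide)) p0 q0 p1 q1 hp0 hq0 hp1 hq1 hs0 hs1 hd0 hd1 e01 hy1 hf0 hy0 hQ0 hQ1
  by_cases e12 : spin h1 = spin h2'
  · exact key h1 h2' _ _ _ _ (hff (by decide)) (hff (by decide)) (hff (by decide)) (hff (by decide))
      (hff (by decide)) (hff (by decide)) p1 q1 p2 q2 hp1 hq1 hp2 hq2 hs1 hs2 hd1 hd2 e12 hy2 hf1 hy1 hQ1 hQ2
  by_cases e23 : spin h2' = spin h3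
  · exact key h2' h3 _ _ _ _ (hff (by decide)) (hff (by decide)) (hff (by decide)) (hff (by decide))
      (hff (by decide)) (hff (by decide)) p2 q2 p3 q3 hp2 hq2 hp3 hq3 hs2 hs3 hd2 hd3 e23 hy3 hf2 hy2 hQ2 hQ3
  by_cases e34 : spin h3 = spin h4
  · exact key h3 h4 _ _ _ _ (hff (by decide)) (hff (by decide)) (hff (by decide)) (hff (by decide))
      (hff (by decide)) (hff (by decide)) p3 q3 p4 q4 hp3 hq3 hp4 hq4 hs3 hs4 hd3 hd4 e34 hy4 hf3 hy3 hQ3 hQ4
  have e40 : spin h4 = spin h0 := by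
    have := spin_eq_or C.good h0
    have := spin_eq_or C.good h1
    have := spin_eq_or C.good h2'
    have := spin_eq_or C.good h3
    have := spin_eq_or C.good h4
    omega
  exact key h4 h0 _ _ _ _ (hff (by decide)) (hff (by decide)) (hff (by decide)) (hff (by decide))
      (hff (by decide)) (hff (by decide)) p4 q4 p0 q0 hp4 hq4 hp0 hq0 hs4 hs0 hd4 hd0 e40 hy0 hf4 hy4 hQ4 hQ0

/-- A free vector with three anisotropic components: one of the class in two or three members. -/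
theorem exists_short_free (hq : Fintype.card F ≠ 2) (h2 : (2 : F) ≠ 0) {y : ι → F} (hy : y ∈ S)
    (hfr : Free C.nd C.dec y) {a b e : Fin t} (hab : a ≠ b) (hae : a ≠ e) (hbe : b ≠ e)
    (ha : Q (cmp C.nd C.dec a y) ≠ 0) (hb : Q (cmp C.nd C.dec b y) ≠ 0)
    (he : Q (cmp C.nd C.dec e y) ≠ 0) :
    Omega F ⇑Q ≤ N ∨ ∃ y' ∈ S, (∀ l ∈ supp C.nd C.dec y', Q (cmp C.nd C.dec l y') ≠ 0) ∧
      2 ≤ (supp C.nd C.dec y').card ∧ (supp C.nd C.dec y').card ≤ 3 := by
  classical
  obtain ⟨w', hw', hQw', hw0, hwc, -⟩ := C.exists_dist_avoid hq (cmp_mem C.nd C.dec e y) he 0 c c (fun _ => rfl)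
  obtain ⟨ua, hua, ub, hub, hQua, hQub, hsum⟩ := C.two_dists_eq h2 (cmp_mem C.nd C.dec a y) ha
    (cmp_mem C.nd C.dec b y) hb (c - Q (cmp C.nd C.dec e y - w'))
  let f : Fin t → ι → F := fun n => if n = a then ua else if n = b then ub else w'
  have hfa : f a = ua := if_pos rfl
  have hfb : f b = ub := by simp [f, hab.symm]
  have hfe : f e = w' := by simp [f, hae.symm, hbe.symm]
  obtain ⟨h1, -, -⟩ := C.replace_mem {a, b, e} f y hy hfr (by
    intro n hn
    simp only [Finset.mem_insert, Finset.mem_singleton] at hn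
    rcases hn with rfl | rfl | rfl
    · rw [hfa]; exact ⟨hua, ha, hQua⟩
    · rw [hfb]; exact ⟨hub, hb, hQub⟩
    · rw [hfe]; exact ⟨hw', he, hQw'⟩)
  rw [Finset.sum_insert (by simp [hab, hae]), Finset.sum_pair hbe, hfa, hfb, hfe] at h1
  have hp := (D a).sub_mem (cmp_mem C.nd C.dec a y) hua
  have hq' := (D b).sub_mem (cmp_mem C.nd C.dec b y) hub
  have hw := (D e).sub_mem (cmp_mem C.nd C.dec e y) hw'
  set p := cmp C.nd C.dec a y - ua
  set q := cmp C.nd C.dec b y - ub
  set w := cmp C.nd C.dec e y - w'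
  have hQd : Q (p + (q + w)) = c := by
    rw [Q_add, pl_add_right, member_orth C.dec hab hp hq', member_orth C.dec hae hp hw, Q_add,
      member_orth C.dec hbe hq' hw]
    linear_combination hsum
  have hdS : p + (q + w) ∈ S := by
    have := C.diff_mem hy h1 (by rw [sub_sub_cancel]; exact hQd)
    rwa [sub_sub_cancel] at this
  rcases C.aniso_or_done hdS with hdone | han
  · exact .inl hdone
  have hne : p ≠ 0 ∨ q ≠ 0 := by
    by_contra! h
    refine hwc ?_
    rw [h.1, h.2, QuadraticMap.map_zero, add_zero] at hsum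
    linear_combination hsum
  obtain ⟨e1, e2, e3⟩ := cmp_three C.nd C.dec hq' hw hbe
  have ca : cmp C.nd C.dec a (p + (q + w)) = p := by
    rw [map_add, e3 a hab hae, cmp_of_mem C.nd C.dec hp, add_zero]
  have cb : cmp C.nd C.dec b (p + (q + w)) = q := by
    rw [map_add, cmp_of_mem_ne C.nd C.dec hab.symm hp, e1, zero_add]
  have ce : cmp C.nd C.dec e (p + (q + w)) = w := by
    rw [map_add, cmp_of_mem_ne C.nd C.dec hae.symm hp, e2, zero_add]
  refine .inr ⟨_, hdS, han, ?_, ?_⟩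
  · have hwm : e ∈ supp C.nd C.dec (p + (q + w)) := C.mem_supp.2 (by
      rw [ce]; exact fun h => hw0 (by rw [h, QuadraticMap.map_zero]))
    rcases hne with h | h
    · exact Finset.one_lt_card.2 ⟨a, C.mem_supp.2 (by rw [ca]; exact h), e, hwm, hae⟩
    · exact Finset.one_lt_card.2 ⟨b, C.mem_supp.2 (by rw [cb]; exact h), e, hwm, hbe⟩
  · refine le_trans (Finset.card_le_card (t := ({a, b, e} : Finset (Fin t))) fun n hn => ?_) Finset.card_le_three
    by_contra hn'
    simp only [Finset.mem_insert, Finset.mem_singleton, not_or] at hn'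
    exact C.mem_supp.1 hn (by
      rw [map_add, cmp_of_mem_ne C.nd C.dec hn'.1 hp, e3 n hn'.2.1 hn'.2.2, add_zero])

/-- One more component, and two components with distinct norms. -/
theorem grow (hq : Fintype.card F ≠ 2) {y : ι → F} (hy : y ∈ S)
    (han : ∀ l ∈ supp C.nd C.dec y, Q (cmp C.nd C.dec l y) ≠ 0) (h2 : 2 ≤ (supp C.nd C.dec y).card)
    (hz : (supp C.nd C.dec y).card < t) :
    Omega F ⇑Q ≤ N ∨ ∃ y' ∈ S, (∀ l ∈ supp C.nd C.dec y', Q (cmp C.nd C.dec l y') ≠ 0) ∧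
      (supp C.nd C.dec y').card = (supp C.nd C.dec y).card + 1 ∧
      ∃ l ∈ supp C.nd C.dec y', ∃ m ∈ supp C.nd C.dec y',
        Q (cmp C.nd C.dec l y') ≠ Q (cmp C.nd C.dec m y') := by
  classical
  obtain ⟨z, -, hz'⟩ := Finset.exists_mem_notMem_of_card_lt_card (s := supp C.nd C.dec y) (t := Finset.univ)
    (by rwa [Finset.card_univ, Fintype.card_fin])
  rw [C.mem_supp, not_not] at hz'
  obtain ⟨l, hl, m, hm, hlm⟩ := Finset.one_lt_card.1 h2
  have hzl : z ≠ l := fun e => C.mem_supp.1 hl (e ▸ hz')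
  have hzm : z ≠ m := fun e => C.mem_supp.1 hm (e ▸ hz')
  set yl := cmp C.nd C.dec l y with hyl
  set ym := cmp C.nd C.dec m y with hym
  have hym' : ym ∈ D m := cmp_mem _ _ m y
  set sl := Q yl with hsl
  obtain ⟨u', hu', hQu', ha1, ha2, ha3⟩ := C.exists_dist_avoid hq hym' (han m hm)
    (2 * c - 2 * sl) (c - 2 * sl) (3 * c - 2 * sl) (fun e => by linear_combination c * e)
  obtain ⟨v, hv, hQv⟩ := exists_Q_eq_in (Q := Q) (D z) (member_nondeg C.dec z)
    (by rw [C.dec.decomp.decomp.finrank_eq]) sl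
  -- move
  set y1 := y - ym + u' with hy1
  have hy1S : y1 ∈ S := C.comp_move hy (.inl ⟨z, hz'⟩) hu' (han m hm) hQu'
  have hc1 : ∀ n, cmp C.nd C.dec n y1 = if n = m then u' else cmp C.nd C.dec n y :=
    cmp_replace C.nd C.dec hu'
  have hy1l : cmp C.nd C.dec l y1 = yl := by rw [hc1, if_neg hlm]
  have hy1z : cmp C.nd C.dec z y1 = 0 := by rw [hc1, if_neg hzm, hz']
  have hy2S : y1 - (yl - 0) - (0 - v) ∈ S := by
    have := C.swap_replace hy1S (.inl ⟨z, hy1z⟩) hzl.symm (D l).zero_mem hv (by rw [hy1l]; exact han l hl)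
      (by rw [hy1l, hQv]) (.inr ⟨hy1z, rfl⟩)
    rwa [hy1l, hy1z] at this
  set y2 := y1 - (yl - 0) - (0 - v) with hy2
  have hc2 : ∀ n, cmp C.nd C.dec n y2 =
      if n = l then 0 else if n = z then v else if n = m then u' else cmp C.nd C.dec n y := by
    intro n
    rw [hy2, sub_zero, zero_sub, sub_neg_eq_add]
    by_cases e1 : n = l
    · subst e1
      rw [if_pos rfl, map_add, map_sub, hy1l, cmp_of_mem C.nd C.dec (cmp_mem C.nd C.dec n y),
        cmp_of_mem_ne C.nd C.dec hzl.symm hv]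
      abel
    rw [if_neg e1, map_add, map_sub, cmp_of_mem_ne C.nd C.dec e1 (cmp_mem C.nd C.dec l y), sub_zero]
    by_cases e2 : n = z
    · subst e2; rw [if_pos rfl, hy1z, cmp_of_mem C.nd C.dec hv, zero_add]
    rw [if_neg e2, hc1, cmp_of_mem_ne C.nd C.dec e2 hv, add_zero]
  set μ := c⁻¹ * polar ⇑Q y y2
  have hf : polar ⇑Q y y2 = 2 * c - 2 * sl - Q (ym - u') := by
    have e : Q (y - y2) = sl + Q (ym - u') + sl := by
      have e0 : y - y2 = yl + (ym - u') + -v := by rw [hy2, hy1]; abel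
      rw [e0, Q_add, Q_add, QuadraticMap.map_neg, hQv, member_orth C.dec hlm (cmp_mem _ _ l y)
          ((D m).sub_mem hym' hu'), pl_add_left, pl_neg_right, pl_neg_right,
        member_orth C.dec hzl.symm (cmp_mem _ _ l y) hv, member_orth C.dec hzm.symm ((D m).sub_mem hym' hu') hv]
      ring
    rw [Q_sub, C.cls.norm y hy, C.cls.norm y2 hy2S] at e
    linear_combination -e
  have hμc : μ * c = 2 * c - 2 * sl - Q (ym - u') := by
    rw [← hf, mul_comm, ← mul_assoc, mul_inv_cancel₀ C.ne, one_mul]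
  have hμ0 : μ ≠ 0 := fun h => ha1 (by rw [h, zero_mul] at hμc; linear_combination hμc)
  have hμ1 : μ ≠ 1 := fun h => ha2 (by rw [h, one_mul] at hμc; linear_combination hμc)
  have hμn : μ * μ ≠ 1 := fun h => by
    rcases mul_self_eq_one_iff.1 h with h' | h'
    · exact hμ1 h'
    · exact ha3 (by rw [h'] at hμc; linear_combination hμc)
  have hS' : y2 - μ • y ∈ S := C.refl_diff hy hy2S
  rcases C.aniso_or_done hS' with hdone | han'
  · exact .inl hdone
  have hc3 : ∀ n, cmp C.nd C.dec n (y2 - μ • y) = cmp C.nd C.dec n y2 - μ • cmp C.nd C.dec n y := fun n => by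
    rw [map_sub, map_smul]
  have hQl : Q (cmp C.nd C.dec l (y2 - μ • y)) = μ * μ * sl := by
    rw [hc3, hc2, if_pos rfl, zero_sub, QuadraticMap.map_neg, Q_smul]
  have hQz : Q (cmp C.nd C.dec z (y2 - μ • y)) = sl := by
    rw [hc3, hc2, if_neg hzl, if_pos rfl, hz', smul_zero, sub_zero, hQv]
  have hsupp : supp C.nd C.dec (y2 - μ • y) = insert z (supp C.nd C.dec y) := by
    ext n
    rw [C.mem_supp, Finset.mem_insert, C.mem_supp, hc3, hc2]
    by_cases e1 : n = l
    · subst e1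
      rw [if_pos rfl, zero_sub, neg_ne_zero, smul_ne_zero_iff]
      simp [hμ0, hzl.symm]
    rw [if_neg e1]
    by_cases e2 : n = z
    · subst e2
      rw [if_pos rfl, hz', smul_zero, sub_zero]
      simp only [true_or, iff_true]
      exact fun h => han l hl (by rw [← hyl, ← hsl, ← hQv, h, QuadraticMap.map_zero])
    rw [if_neg e2]
    by_cases e3 : n = m
    · subst e3
      rw [if_pos rfl]
      simp only [e2, false_or]
      refine iff_of_true (fun h => ?_) (C.mem_supp.1 hm)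
      rw [sub_eq_zero] at h
      rw [h, Q_smul] at hQu'
      exact hμn (mul_right_cancel₀ (han n hm) (by rw [one_mul]; exact hQu'))
    rw [if_neg e3]
    nth_rewrite 1 [← one_smul F (cmp C.nd C.dec n y)]
    rw [← sub_smul, smul_ne_zero_iff]
    simp [sub_ne_zero.2 hμ1.symm, e2]
  refine .inr ⟨_, hS', han', ?_, l, ?_, z, ?_, ?_⟩
  · rw [hsupp, Finset.card_insert_of_notMem (fun h => C.mem_supp.1 h hz')]
  · rw [hsupp]; exact Finset.mem_insert_of_mem hl
  · rw [hsupp]; exact Finset.mem_insert_self _ _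
  · rw [hQl, hQz]
    exact fun h => hμn (mul_right_cancel₀ (han l hl) (by rw [one_mul]; exact h))

/-- Characteristic two: distinct norms without changing the support. -/
theorem unequal_of_two (h2 : (2 : F) = 0) (hq : Fintype.card F ≠ 2) {y : ι → F} (hy : y ∈ S)
    (han : ∀ l ∈ supp C.nd C.dec y, Q (cmp C.nd C.dec l y) ≠ 0) (hcard : 2 ≤ (supp C.nd C.dec y).card) :
    Omega F ⇑Q ≤ N ∨ ∃ y' ∈ S, (∀ l ∈ supp C.nd C.dec y', Q (cmp C.nd C.dec l y') ≠ 0) ∧
      (supp C.nd C.dec y').card = (supp C.nd C.dec y).card ∧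
      ∃ l ∈ supp C.nd C.dec y', ∃ m ∈ supp C.nd C.dec y',
        Q (cmp C.nd C.dec l y') ≠ Q (cmp C.nd C.dec m y') := by
  classical
  by_cases hne : ∃ l ∈ supp C.nd C.dec y, ∃ m ∈ supp C.nd C.dec y,
      Q (cmp C.nd C.dec l y) ≠ Q (cmp C.nd C.dec m y)
  · exact .inr ⟨y, hy, han, rfl, hne⟩
  push Not at hne
  obtain ⟨m, hm, r, hr, hmr⟩ := Finset.one_lt_card.1 hcard
  set ym := cmp C.nd C.dec m y with hym
  set s := Q ym
  obtain ⟨u', hu', hQu', ha1, ha2, -⟩ := C.exists_dist_avoid hq (cmp_mem C.nd C.dec m y) (han m hm) 0 c c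
    (fun _ => rfl)
  set a := Q (ym - u')
  set y1 := y - ym + u' with hy1
  have hy1S : y1 ∈ S := C.comp_move hy (.inr h2) hu' (han m hm) hQu'
  have hc1 : ∀ n, cmp C.nd C.dec n y1 = if n = m then u' else cmp C.nd C.dec n y :=
    cmp_replace C.nd C.dec hu'
  set μ := c⁻¹ * polar ⇑Q y y1
  have hf : polar ⇑Q y y1 = 2 * c - a := by
    have e : Q (y - y1) = a := by rw [hy1, show y - (y - ym + u') = ym - u' by abel]
    rw [Q_sub, C.cls.norm y hy, C.cls.norm y1 hy1S] at e
    linear_combination -e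
  have hμc : μ * c = a := by
    rw [mul_comm, ← mul_assoc, mul_inv_cancel₀ C.ne, one_mul, hf]; linear_combination (c - a) * h2
  have hμ0 : μ ≠ 0 := fun h => ha1 (by rw [h, zero_mul] at hμc; exact hμc.symm)
  have hμ1 : μ ≠ 1 := fun h => ha2 (by rw [h, one_mul] at hμc; exact hμc.symm)
  have hS' : y1 - μ • y ∈ S := C.refl_diff hy hy1S
  rcases C.aniso_or_done hS' with hdone | han'
  · exact .inl hdone
  have hc3 : ∀ n, cmp C.nd C.dec n (y1 - μ • y) = cmp C.nd C.dec n y1 - μ • cmp C.nd C.dec n y := fun n => by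
    rw [map_sub, map_smul]
  have hsupp : supp C.nd C.dec (y1 - μ • y) = supp C.nd C.dec y := by
    ext n
    rw [C.mem_supp, C.mem_supp, hc3, hc1]
    by_cases e3 : n = m
    · subst e3
      rw [if_pos rfl]
      refine iff_of_true (fun h => hμ1 ?_) (C.mem_supp.1 hm)
      rw [sub_eq_zero] at h
      rw [h, Q_smul] at hQu'
      have := mul_right_cancel₀ (han n hm) (hQu'.trans (one_mul _).symm)
      exact eq_one_of_mul_self h2 this
    rw [if_neg e3]
    nth_rewrite 1 [← one_smul F (cmp C.nd C.dec n y)]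
    rw [← sub_smul, smul_ne_zero_iff]
    simp [sub_ne_zero.2 hμ1.symm]
  refine .inr ⟨_, hS', han', by rw [hsupp], m, ?_, r, ?_, ?_⟩
  · rw [hsupp]; exact hm
  · rw [hsupp]; exact hr
  intro heq
  have hQr : ∀ n ∈ supp C.nd C.dec y, n ≠ m → Q (cmp C.nd C.dec n (y1 - μ • y)) = (1 - μ) * (1 - μ) * s := by
    intro n hn hnm
    rw [hc3, hc1, if_neg hnm]
    nth_rewrite 1 [← one_smul F (cmp C.nd C.dec n y)]
    rw [← sub_smul, Q_smul, hne n hn m hm]
  have hrest : ∑ n ∈ (supp C.nd C.dec y).erase m, Q (cmp C.nd C.dec n y) = c - s := by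
    have hall : ∑ n ∈ supp C.nd C.dec y, Q (cmp C.nd C.dec n y) = c := by
      refine Eq.trans ?_ ((Q_eq_sum_cmp C.nd C.dec y).symm.trans (C.cls.norm y hy))
      refine Finset.sum_subset (Finset.subset_univ _) fun n _ hn => ?_
      rw [C.mem_supp, not_not] at hn
      rw [hn, QuadraticMap.map_zero]
    rw [← Finset.add_sum_erase _ _ hm] at hall
    linear_combination hall
  have htot : Q (cmp C.nd C.dec m (y1 - μ • y)) + (1 - μ) * (1 - μ) * (c - s) = c := by
    have hall : ∑ n ∈ supp C.nd C.dec y, Q (cmp C.nd C.dec n (y1 - μ • y)) = c := by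
      refine Eq.trans ?_ ((Q_eq_sum_cmp C.nd C.dec (y1 - μ • y)).symm.trans (C.cls.norm _ hS'))
      refine Finset.sum_subset (Finset.subset_univ _) fun n _ hn => ?_
      rw [← hsupp, C.mem_supp, not_not] at hn
      rw [hn, QuadraticMap.map_zero]
    rw [← Finset.add_sum_erase _ _ hm, Finset.sum_congr rfl fun n hn => ?_, ← Finset.mul_sum, hrest] at hall
    · exact hall
    · rw [hQr n (Finset.mem_of_mem_erase hn) (Finset.ne_of_mem_erase hn), hne n (Finset.mem_of_mem_erase hn) m hm]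
  rw [heq, hQr r hr hmr.symm] at htot
  have h1 : c * ((1 - μ) * (1 - μ) - 1) = 0 := by linear_combination htot
  have := eq_one_of_mul_self h2 (sub_eq_zero.1 ((mul_eq_zero.1 h1).resolve_left C.ne))
  exact hμ0 (by linear_combination -this)

/-- Four anisotropic components, not all of one norm. -/
theorem exists_four (hq : Fintype.card F ≠ 2) {y : ι → F} (hy : y ∈ S) (hout : ∀ l, y ∉ D l) :
    Omega F ⇑Q ≤ N ∨ ∃ y' ∈ S, Free C.nd C.dec y' ∧ 4 ≤ (supp C.nd C.dec y').card ∧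
      (∀ l ∈ supp C.nd C.dec y', Q (cmp C.nd C.dec l y') ≠ 0) ∧
      ∃ l ∈ supp C.nd C.dec y', ∃ m ∈ supp C.nd C.dec y',
        Q (cmp C.nd C.dec l y') ≠ Q (cmp C.nd C.dec m y') := by
  classical
  have ht := C.five
  have hfree : ∀ {x : ι → F}, (supp C.nd C.dec x).card < t → Free C.nd C.dec x := fun {x} h => by
    obtain ⟨z, -, hz⟩ := Finset.exists_mem_notMem_of_card_lt_card (s := supp C.nd C.dec x) (t := Finset.univ)
      (by rwa [Finset.card_univ, Fintype.card_fin])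
    rw [C.mem_supp, not_not] at hz
    exact .inl ⟨z, hz⟩
  have h2le : 2 ≤ (supp C.nd C.dec y).card := by
    obtain ⟨l, hl, -⟩ := C.card_pos_aniso hy
    refine Finset.one_lt_card.2 ⟨l, hl, ?_⟩
    by_contra! h
    refine hout l ?_
    rw [← sum_cmp C.nd C.dec y, Finset.sum_eq_single l (fun n _ hn => by
      by_contra h0
      exact hn (h n (C.mem_supp.2 h0)).symm) (fun h' => absurd (Finset.mem_univ l) h')]
    exact cmp_mem C.nd C.dec l y
  rcases C.aniso_or_done hy with hdone | han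
  · exact .inl hdone
  have climb : ∀ x ∈ S, (∀ l ∈ supp C.nd C.dec x, Q (cmp C.nd C.dec l x) ≠ 0) →
      2 ≤ (supp C.nd C.dec x).card → (supp C.nd C.dec x).card ≤ 3 →
      Omega F ⇑Q ≤ N ∨ ∃ y' ∈ S, Free C.nd C.dec y' ∧ 4 ≤ (supp C.nd C.dec y').card ∧
        (∀ l ∈ supp C.nd C.dec y', Q (cmp C.nd C.dec l y') ≠ 0) ∧
        ∃ l ∈ supp C.nd C.dec y', ∃ m ∈ supp C.nd C.dec y',
          Q (cmp C.nd C.dec l y') ≠ Q (cmp C.nd C.dec m y') := by
    intro x hx hxa hx2 hx3
    rcases C.grow hq hx hxa hx2 (by omega) with h | ⟨x1, hx1, hx1a, hx1c, hx1u⟩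
    · exact .inl h
    by_cases h4 : 4 ≤ (supp C.nd C.dec x1).card
    · exact .inr ⟨x1, hx1, hfree (by omega), h4, hx1a, hx1u⟩
    rcases C.grow hq hx1 hx1a (by omega) (by omega) with h | ⟨x2, hx2', hx2a, hx2c, hx2u⟩
    · exact .inl h
    exact .inr ⟨x2, hx2', hfree (by omega), by omega, hx2a, hx2u⟩
  by_cases h2 : (2 : F) = 0
  · by_cases h3 : (supp C.nd C.dec y).card ≤ 3
    · exact climb y hy han h2le h3
    rcases C.unequal_of_two h2 hq hy han h2le with h | ⟨y', hy', hya, hyc, hyu⟩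
    · exact .inl h
    · exact .inr ⟨y', hy', .inr h2, by omega, hya, hyu⟩
  have low : ∀ x ∈ S, (∀ l ∈ supp C.nd C.dec x, Q (cmp C.nd C.dec l x) ≠ 0) →
      2 ≤ (supp C.nd C.dec x).card → (supp C.nd C.dec x).card ≤ 4 →
      Omega F ⇑Q ≤ N ∨ ∃ y' ∈ S, Free C.nd C.dec y' ∧ 4 ≤ (supp C.nd C.dec y').card ∧
        (∀ l ∈ supp C.nd C.dec y', Q (cmp C.nd C.dec l y') ≠ 0) ∧
        ∃ l ∈ supp C.nd C.dec y', ∃ m ∈ supp C.nd C.dec y',
          Q (cmp C.nd C.dec l y') ≠ Q (cmp C.nd C.dec m y') := by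
    intro x hx hxa hx2 hx4
    by_cases h3 : (supp C.nd C.dec x).card ≤ 3
    · exact climb x hx hxa hx2 h3
    obtain ⟨a, b, e, ha, hb, he, hab, hae, hbe⟩ := Finset.two_lt_card_iff.1
      (show 2 < (supp C.nd C.dec x).card by omega)
    rcases C.exists_short_free hq h2 hx (hfree (by omega)) hab hae hbe (hxa a ha) (hxa b hb) (hxa e he) with
      h | ⟨y', hy', hya, hy2, hy3⟩
    · exact .inl h
    exact climb y' hy' hya hy2 hy3
  by_cases h4 : (supp C.nd C.dec y).card ≤ 4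
  · exact low y hy han h2le h4
  obtain ⟨T, hT, hTc⟩ := Finset.exists_subset_card_eq (show 5 ≤ (supp C.nd C.dec y).card by omega)
  let f : Fin 5 → Fin t := fun n => (T.equivFinOfCardEq hTc).symm n
  have hf : Function.Injective f := fun a b h => (T.equivFinOfCardEq hTc).symm.injective (Subtype.ext h)
  rcases C.exists_short h2 hy f hf (fun n => han _ (hT ((T.equivFinOfCardEq hTc).symm n).2)) with
    h | ⟨y', hy', hya, hy2, hy4⟩
  · exact .inl h
  exact low y' hy' hya hy2 hy4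

/-- A plus plane has the vectors needed to create a singular component. -/
theorem exists_shift {l : Fin t} {u : ι → F} (hu : u ∈ D l) (hQu : Q u ≠ 0) {s : F} (hs : s ≠ Q u)
    {e : ι → F} (he : e ∈ D l) (he0 : e ≠ 0) (hQe : Q e = 0) :
    ∃ u' ∈ D l, Q u' = s ∧ Q (u - u') = 0 ∧ u - u' ≠ 0 := by
  obtain ⟨f, hf, hQf, hef⟩ := exists_hpair_in C.nd (member_nondeg C.dec l) he he0 hQe
  obtain ⟨h1, h3⟩ := coords_two (C.dec.decomp.decomp.finrank_eq l) he hf hQe hQf hef hu
  set α := polar ⇑Q u f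
  set β := polar ⇑Q u e
  have hα : α ≠ 0 := fun h => hQu (by rw [h3, h, zero_mul])
  have hβ : β ≠ 0 := fun h => hQu (by rw [h3, h, mul_zero])
  refine ⟨(s / β) • e + β • f, (D l).add_mem ((D l).smul_mem _ he) ((D l).smul_mem _ hf), ?_, ?_, fun h => hs ?_⟩
  · rw [Q_add, Q_smul, Q_smul, hQe, hQf, pl_smul_left, pl_smul_right, hef]; field_simp; ring
  · rw [h1, show α • e + β • f - ((s / β) • e + β • f) = (α - s / β) • e by module, Q_smul, hQe, mul_zero]
  · have h' := congrArg (fun v => polar ⇑Q v f) h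
    simp only [pl_sub_left, pl_add_left, pl_smul_left, pl_zero_left, hef, pl_self, hQf, mul_zero, add_zero, mul_one] at h'
    have hαe : α = s / β := sub_eq_zero.1 h'
    rw [h3, hαe, div_mul_cancel₀ _ hβ]

set_option maxHeartbeats 800000 in
/-- Plus members: an outside vector gives `Ω`. -/
theorem omega_le_of_outside_plus (hq : 7 ≤ Fintype.card F) {y : ι → F} (hy : y ∈ S) (hout : ∀ l, y ∉ D l)
    (hpl : ∀ l, ∃ e ∈ D l, e ≠ 0 ∧ Q e = 0) : Omega F ⇑Q ≤ N := by
  classical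
  rcases C.exists_four (by omega) hy hout with h | ⟨y, hy, hfree, h4, han, l, hl, m, hm, hne⟩
  · exact h
  have hlm : l ≠ m := fun e => hne (by rw [e])
  obtain ⟨r, x, hr, hx, hrl, hrm, hxl, hxm, hrx⟩ : ∃ r x, r ∈ supp C.nd C.dec y ∧ x ∈ supp C.nd C.dec y ∧
      r ≠ l ∧ r ≠ m ∧ x ≠ l ∧ x ≠ m ∧ r ≠ x := by
    have hc : 1 < ((supp C.nd C.dec y).erase l |>.erase m).card := by
      have h1 := Finset.card_erase_add_one hl
      have h3 := Finset.card_erase_add_one (show m ∈ (supp C.nd C.dec y).erase l from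
        Finset.mem_erase.2 ⟨hlm.symm, hm⟩)
      omega
    obtain ⟨r, hr, x, hx, hrx⟩ := Finset.one_lt_card.1 hc
    simp only [Finset.mem_erase] at hr hx
    exact ⟨r, x, hr.2.2, hx.2.2, hr.2.1, hr.1, hx.2.1, hx.1, hrx⟩
  set yl := cmp C.nd C.dec l y with hyl
  set ym := cmp C.nd C.dec m y with hym
  set yr := cmp C.nd C.dec r y with hyr
  set yx := cmp C.nd C.dec x y with hyx
  obtain ⟨e, he, he0, hQe⟩ := hpl l
  obtain ⟨u, hu, hQu, hQdl, hdl0⟩ := C.exists_shift (cmp_mem C.nd C.dec l y) (han l hl) (s := Q ym) (Ne.symm hne) he he0 hQe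
  -- targets in the other three members
  obtain ⟨v, hv, hQv, u1, hu1, hQu1, u2, hu2, hQu2, hsum⟩ : ∃ v ∈ D m, Q v = Q yl ∧
      ∃ u1 ∈ D r, Q u1 = Q yr ∧ ∃ u2 ∈ D x, Q u2 = Q yx ∧ Q (ym - v) + Q (yr - u1) + Q (yx - u2) = c := by
    by_cases h2 : (2 : F) = 0
    swap
    · obtain ⟨v, hv, hQv⟩ := exists_Q_eq_in (Q := Q) (D m) (member_nondeg C.dec m)
        (by rw [C.dec.decomp.decomp.finrank_eq]) (Q yl)
      obtain ⟨u1, hu1, u2, hu2, h1, h3, hM⟩ := C.two_dists_eq h2 (cmp_mem C.nd C.dec r y) (han r hr)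
        (cmp_mem C.nd C.dec x y) (han x hx) (c - Q (ym - v))
      exact ⟨v, hv, hQv, u1, hu1, h1, u2, hu2, h3, by linear_combination hM⟩
    have hA : ∀ n ∈ supp C.nd C.dec y, ∀ τ : F, Q (cmp C.nd C.dec n y) * (τ + τ⁻¹) ∈
        dists Q (D n) (cmp C.nd C.dec n y) (Q (cmp C.nd C.dec n y)) := by
      intro n hn τ
      set w := cmp C.nd C.dec n y with hw
      have hwD : w ∈ D n := cmp_mem C.nd C.dec n y
      by_cases hτ : τ = 0
      · rw [hτ, _root_.inv_zero, add_zero, mul_zero]; exact zero_mem_dists hwD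
      obtain ⟨e, he, he0, hQe⟩ := hpl n
      obtain ⟨f, hf, hQf, hef⟩ := exists_hpair_in C.nd (member_nondeg C.dec n) he he0 hQe
      obtain ⟨h1, h3⟩ := coords_two (C.dec.decomp.decomp.finrank_eq n) he hf hQe hQf hef hwD
      set α := polar ⇑Q w f
      set β := polar ⇑Q w e
      refine mem_dists.2 ⟨(τ * α) • e + (τ⁻¹ * β) • f,
        (D n).add_mem ((D n).smul_mem _ he) ((D n).smul_mem _ hf), ?_, ?_⟩
      · rw [Q_add, Q_smul, Q_smul, hQe, hQf, pl_smul_left, pl_smul_right, hef, h3]; field_simp; ring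
      · conv_lhs => rw [h1]
        rw [show α • e + β • f - ((τ * α) • e + (τ⁻¹ * β) • f) = (α - τ * α) • e + (β - τ⁻¹ * β) • f by module,
          Q_add, Q_smul, Q_smul, hQe, hQf, pl_smul_left, pl_smul_right, hef, h3]
        field_simp
        linear_combination (α * β * (-τ + τ ^ 2 - τ ^ 3)) * h2
    set T := (Finset.univ : Finset (F × F)).image fun p => Q yr * (p.1 + p.1⁻¹) + Q yx * (p.2 + p.2⁻¹) with hT
    have hTc := card_add_inv_sums h2 (by omega) (han r hr) (han x hx)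
    rw [← hT] at hTc
    have hX := ((C.np m).card_dists C.nd (cmp_mem C.nd C.dec m y) (han m hm) (han l hl)).1
    have heven : Fintype.card F % 2 = 0 := (FiniteField.even_card_iff_char_two (F := F)).1
      (CharP.ringChar_of_prime_eq_zero Nat.prime_two (by exact_mod_cast h2))
    rw [← hyl, ← hym] at hX
    obtain ⟨a, ha, b, hb, hab⟩ := exists_add_eq_of_card (A := dists Q (D m) ym (Q yl)) (B := T) (by omega) c
    obtain ⟨v, hv, hQv, rfl⟩ := mem_dists.1 ha
    obtain ⟨⟨τ, ρ⟩, -, rfl⟩ := Finset.mem_image.1 hb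
    obtain ⟨u1, hu1, hQu1, he1⟩ := mem_dists.1 (hA r hr τ)
    obtain ⟨u2, hu2, hQu2, he2⟩ := mem_dists.1 (hA x hx ρ)
    exact ⟨v, hv, hQv, u1, hu1, hQu1, u2, hu2, hQu2, by rw [he1, he2, add_assoc]; exact hab⟩
  let f : Fin t → ι → F := fun n => if n = r then u1 else u2
  have hfr : f r = u1 := if_pos rfl
  have hfx : f x = u2 := if_neg hrx.symm
  obtain ⟨hy1, hf1, hc1⟩ := C.replace_mem {r, x} f y hy hfree (by
    intro n hn
    simp only [Finset.mem_insert, Finset.mem_singleton] at hn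
    rcases hn with rfl | rfl
    · rw [hfr]; exact ⟨hu1, han n hr, hQu1⟩
    · rw [hfx]; exact ⟨hu2, han n hx, hQu2⟩)
  rw [Finset.sum_pair hrx, hfr, hfx, ← hyr, ← hyx] at hy1 hf1 hc1
  set y1 := y - (yr - u1 + (yx - u2)) with hy1'
  have hl1 : cmp C.nd C.dec l y1 = yl := by rw [hc1, if_neg (by simp [hrl.symm, hxl.symm])]
  have hm1 : cmp C.nd C.dec m y1 = ym := by rw [hc1, if_neg (by simp [hrm.symm, hxm.symm])]
  have hy2 := C.swap_replace hy1 hf1 hlm hu hv (by rw [hl1]; exact han l hl) (by rw [hl1, hQv])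
    (.inl ⟨by rw [hm1]; exact han m hm, by rw [hm1, hQu]⟩)
  rw [hl1, hm1] at hy2
  have e0 : y - (y1 - (yl - u) - (ym - v)) = (yl - u) + (ym - v) + ((yr - u1) + (yx - u2)) := by
    rw [hy1']; abel
  have hml := (D l).sub_mem (cmp_mem C.nd C.dec l y) hu
  have hmm := (D m).sub_mem (cmp_mem C.nd C.dec m y) hv
  have hmr := (D r).sub_mem (cmp_mem C.nd C.dec r y) hu1
  have hmx := (D x).sub_mem (cmp_mem C.nd C.dec x y) hu2
  have hQd : Q (y - (y1 - (yl - u) - (ym - v))) = c := by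
    rw [e0, Q_add, Q_add, Q_add, hQdl, member_orth C.dec hlm hml hmm, member_orth C.dec hrx hmr hmx,
      pl_add_left, pl_add_right, pl_add_right, member_orth C.dec hrl.symm hml hmr, member_orth C.dec hxl.symm hml hmx,
      member_orth C.dec hrm.symm hmm hmr, member_orth C.dec hxm.symm hmm hmx]
    linear_combination hsum
  have hd := C.diff_mem hy hy2 hQd
  have ec : cmp C.nd C.dec l (y - (y1 - (yl - u) - (ym - v))) = yl - u := by
    rw [e0, map_add, map_add, map_add, cmp_of_mem C.nd C.dec hml, cmp_of_mem_ne C.nd C.dec hlm hmm,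
      cmp_of_mem_ne C.nd C.dec hrl.symm hmr, cmp_of_mem_ne C.nd C.dec hxl.symm hmx, add_zero, add_zero, add_zero]
  exact C.omega_le_of_singular_comp hd (i := l) (by rw [ec]; exact hdl0) (by rw [ec]; exact hQdl)

/-- Anisotropic members, more than two elements: an outside vector gives `Ω`. -/
theorem omega_le_of_outside_minus (hq : Fintype.card F ≠ 2) {y : ι → F} (hy : y ∈ S) (hout : ∀ l, y ∉ D l)
    (hmin : ∀ l, ∀ x ∈ D l, Q x = 0 → x = 0) : Omega F ⇑Q ≤ N := by
  classical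
  rcases C.exists_four hq hy hout with h | ⟨y, hy, hfree, h4, han, -⟩
  · exact h
  obtain ⟨T, hT, hTc⟩ := Finset.exists_subset_card_eq h4
  let p : Fin 4 → Fin t := fun n => (T.equivFinOfCardEq hTc).symm n
  have hp : Function.Injective p := fun a b h => (T.equivFinOfCardEq hTc).symm.injective (Subtype.ext h)
  have hps : ∀ n, p n ∈ supp C.nd C.dec y := fun n => hT ((T.equivFinOfCardEq hTc).symm n).2
  set l := p 0
  set m := p 1
  set r := p 2
  set x := p 3
  have hlm : l ≠ m := hp.ne (by decide)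
  have hlr : l ≠ r := hp.ne (by decide)
  have hlx : l ≠ x := hp.ne (by decide)
  have hmr : m ≠ r := hp.ne (by decide)
  have hmx : m ≠ x := hp.ne (by decide)
  have hrx : r ≠ x := hp.ne (by decide)
  have hq1 : 1 < Fintype.card F := Fintype.one_lt_card
  set yl := cmp C.nd C.dec l y with hyl
  set ym := cmp C.nd C.dec m y with hym
  set yr := cmp C.nd C.dec r y with hyr
  set yx := cmp C.nd C.dec x y with hyx
  have hb : ∀ n : Fin t, n ∈ supp C.nd C.dec y → Fintype.card F + 2 ≤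
      2 * (dists Q (D n) (cmp C.nd C.dec n y) (Q (cmp C.nd C.dec n y))).card := by
    intro n hn
    have h1 := ((C.np n).card_dists C.nd (cmp_mem C.nd C.dec n y) (han n hn) (han n hn)).2 (hmin n)
    by_cases h2 : (2 : F) = 0
    · have heven : Fintype.card F % 2 = 0 := (FiniteField.even_card_iff_char_two (F := F)).1
        (CharP.ringChar_of_prime_eq_zero Nat.prime_two (by exact_mod_cast h2))
      omega
    · have h3 := ((C.np n).card_dists_self C.nd h2 (cmp_mem C.nd C.dec n y) (han n hn)).2 (hmin n)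
      omega
  obtain ⟨ul, hul, hQul, um, hum, hQum, hne, hsum⟩ : ∃ ul ∈ D l, Q ul = Q yl ∧ ∃ um ∈ D m, Q um = Q ym ∧
      Q (yl - ul) ≠ 0 ∧ Q (yl - ul) + Q (ym - um) = 0 := by
    have h1 := hb l (hps 0)
    have h3 := hb m (hps 1)
    rw [← hyl] at h1
    rw [← hym] at h3
    have he := Finset.card_erase_add_one (zero_mem_dists (Q := Q) (cmp_mem C.nd C.dec l y))
    rw [← hyl] at he
    obtain ⟨a, ha, b, hb', hab⟩ := exists_add_eq_of_card (A := (dists Q (D l) yl (Q yl)).erase 0)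
      (B := dists Q (D m) ym (Q ym)) (by omega) 0
    obtain ⟨ha0, ha⟩ := Finset.mem_erase.1 ha
    obtain ⟨ul, hul, hQul, rfl⟩ := mem_dists.1 ha
    obtain ⟨um, hum, hQum, rfl⟩ := mem_dists.1 hb'
    exact ⟨ul, hul, hQul, um, hum, hQum, ha0, hab⟩
  obtain ⟨ur, hur, hQur, ux, hux, hQux, hv⟩ : ∃ ur ∈ D r, Q ur = Q yr ∧ ∃ ux ∈ D x, Q ux = Q yx ∧
      Q (yr - ur) + Q (yx - ux) = c := by
    have h1 := hb r (hps 2)
    have h3 := hb x (hps 3)
    obtain ⟨a, ha, b, hb', hab⟩ := exists_add_eq_of_card (A := dists Q (D r) yr (Q yr))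
      (B := dists Q (D x) yx (Q yx)) (by rw [← hyr] at h1; rw [← hyx] at h3; omega) c
    obtain ⟨ur, hur, hQur, rfl⟩ := mem_dists.1 ha
    obtain ⟨ux, hux, hQux, rfl⟩ := mem_dists.1 hb'
    exact ⟨ur, hur, hQur, ux, hux, hQux, hab⟩
  let f : Fin t → ι → F := fun n => if n = l then ul else if n = m then um else if n = r then ur else ux
  have hfl : f l = ul := if_pos rfl
  have hfm : f m = um := by simp [f, hlm.symm]
  have hfr : f r = ur := by simp [f, hlr.symm, hmr.symm]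
  have hfx : f x = ux := by simp [f, hlx.symm, hmx.symm, hrx.symm]
  have hok : ∀ n, n = l ∨ n = m ∨ n = r ∨ n = x → f n ∈ D n ∧ Q (cmp C.nd C.dec n y) ≠ 0 ∧
      Q (f n) = Q (cmp C.nd C.dec n y) := by
    rintro n (rfl | rfl | rfl | rfl)
    · rw [hfl]; exact ⟨hul, han _ (hps 0), hQul⟩
    · rw [hfm]; exact ⟨hum, han _ (hps 1), hQum⟩
    · rw [hfr]; exact ⟨hur, han _ (hps 2), hQur⟩
    · rw [hfx]; exact ⟨hux, han _ (hps 3), hQux⟩
  obtain ⟨h4', -, -⟩ := C.replace_mem {l, m, r, x} f y hy hfree fun n hn => hok n (by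
    simpa only [Finset.mem_insert, Finset.mem_singleton] using hn)
  obtain ⟨h2', -, -⟩ := C.replace_mem {r, x} f y hy hfree fun n hn => hok n (by
    simp only [Finset.mem_insert, Finset.mem_singleton] at hn; exact .inr (.inr hn))
  rw [Finset.sum_insert (by simp [hlm, hlr, hlx]), Finset.sum_insert (by simp [hmr, hmx]), Finset.sum_pair hrx,
    hfl, hfm, hfr, hfx, ← hyl, ← hym, ← hyr, ← hyx] at h4'
  rw [Finset.sum_pair hrx, hfr, hfx, ← hyr, ← hyx] at h2'
  have hml := (D l).sub_mem (cmp_mem C.nd C.dec l y) hul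
  have hmm := (D m).sub_mem (cmp_mem C.nd C.dec m y) hum
  have hmr' := (D r).sub_mem (cmp_mem C.nd C.dec r y) hur
  have hmx' := (D x).sub_mem (cmp_mem C.nd C.dec x y) hux
  set dl := yl - ul
  set dm := ym - um
  set v := (yr - ur) + (yx - ux) with hv'
  have hQv : Q v = c := by rw [hv', Q_add, member_orth C.dec hrx hmr' hmx', add_zero, hv]
  have hvS : v ∈ S := by
    have := C.diff_mem hy h2' (by rw [sub_sub_cancel]; exact hQv)
    rwa [sub_sub_cancel] at this
  have hvl : ∀ z ∈ D l, polar ⇑Q z v = 0 := fun z hz => by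
    rw [hv', pl_add_right, member_orth C.dec hlr hz hmr', member_orth C.dec hlx hz hmx', add_zero]
  have hvm : ∀ z ∈ D m, polar ⇑Q z v = 0 := fun z hz => by
    rw [hv', pl_add_right, member_orth C.dec hmr hz hmr', member_orth C.dec hmx hz hmx', add_zero]
  have e0 : dl + (dm + v) = v + (dl + dm) := by abel
  have hd : v + (dl + dm) ∈ S := by
    have := C.diff_mem hy h4' (by
      rw [sub_sub_cancel, e0, Q_add, hQv, Q_add, member_orth C.dec hlm hml hmm, pl_comm Q v, pl_add_left,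
        hvl dl hml, hvm dm hmm]
      linear_combination hsum)
    rwa [sub_sub_cancel, e0] at this
  exact C.omega_le_of_two hmin hlm hml hmm hne hsum hvl hvm hvS hd

/-- Two elements: an outside vector gives `Ω`. -/
theorem omega_le_of_outside_two (hq : Fintype.card F = 2) {y : ι → F} (hy : y ∈ S) (hout : ∀ l, y ∉ D l) :
    Omega F ⇑Q ≤ N := by
  classical
  have h2 : (2 : F) = 0 := by
    have := FiniteField.cast_card_eq_zero F
    rw [hq] at this; exact_mod_cast this
  have hmin := C.aniso_of_small (by omega)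
  have h01 : ∀ a : F, a ≠ 0 → a = 1 := fun a ha => by
    by_contra h
    have := Finset.card_le_univ ({0, 1, a} : Finset F)
    rw [Finset.card_eq_three.2 ⟨0, 1, a, zero_ne_one, Ne.symm ha, Ne.symm h, rfl⟩, hq] at this
    omega
  have hc : c = 1 := h01 c C.ne
  have hone : ∀ n, ∀ u ∈ D n, u ≠ 0 → Q u = 1 := fun n u hu h0 => h01 _ fun h => h0 (hmin n u hu h)
  have h3 : 3 ≤ (supp C.nd C.dec y).card := by
    have hsum : ∑ n ∈ supp C.nd C.dec y, Q (cmp C.nd C.dec n y) = 1 := by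
      refine Eq.trans ?_ ((Q_eq_sum_cmp C.nd C.dec y).symm.trans ((C.cls.norm y hy).trans hc))
      refine Finset.sum_subset (Finset.subset_univ _) fun n _ hn => ?_
      rw [C.mem_supp, not_not] at hn
      rw [hn, QuadraticMap.map_zero]
    rw [Finset.sum_congr rfl fun n hn => hone n _ (cmp_mem C.nd C.dec n y) (C.mem_supp.1 hn),
      Finset.sum_const, nsmul_eq_mul, mul_one] at hsum
    by_contra h
    obtain h' | h' | h' : (supp C.nd C.dec y).card = 0 ∨ (supp C.nd C.dec y).card = 1 ∨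
      (supp C.nd C.dec y).card = 2 := by omega
    · rw [h', Nat.cast_zero] at hsum; exact zero_ne_one hsum
    · obtain ⟨l, hl⟩ := Finset.card_eq_one.1 h'
      refine hout l ?_
      rw [← sum_cmp C.nd C.dec y, Finset.sum_eq_single l (fun n _ hn => by
        by_contra h0
        exact hn (Finset.mem_singleton.1 (hl ▸ C.mem_supp.2 h0))) (fun h' => absurd (Finset.mem_univ l) h')]
      exact cmp_mem C.nd C.dec l y
    · rw [h', Nat.cast_ofNat, h2] at hsum; exact zero_ne_one hsum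
  obtain ⟨l, m, r, hl, hm, hr, hlm, hlr, hmr⟩ := Finset.two_lt_card_iff.1 h3
  rw [C.mem_supp] at hl hm hr
  have hrot : ∀ n, cmp C.nd C.dec n y ≠ 0 → ∃ u ∈ D n, Q u = 1 ∧ cmp C.nd C.dec n y - u ≠ 0 := by
    intro n hn
    have h1 := hone n _ (cmp_mem C.nd C.dec n y) hn
    obtain ⟨b, hb, hQb, -, hba⟩ := (C.np n).exists_partner (C.plane n) (cmp_mem C.nd C.dec n y)
      (by rw [h1]; exact one_ne_zero)
    exact ⟨b, hb, hQb.trans h1, sub_ne_zero.2 fun h => hba (by
      nth_rewrite 1 [← h]; exact Submodule.mem_span_singleton_self _)⟩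
  obtain ⟨ul, hul, hQul, hdl⟩ := hrot l hl
  obtain ⟨um, hum, hQum, hdm⟩ := hrot m hm
  obtain ⟨ur, hur, hQur, hdr⟩ := hrot r hr
  let f : Fin t → ι → F := fun n => if n = l then ul else if n = m then um else ur
  have hfl : f l = ul := if_pos rfl
  have hfm : f m = um := by simp [f, hlm.symm]
  have hfr : f r = ur := by simp [f, hlr.symm, hmr.symm]
  have hok : ∀ n, n = l ∨ n = m ∨ n = r → f n ∈ D n ∧ Q (cmp C.nd C.dec n y) ≠ 0 ∧
      Q (f n) = Q (cmp C.nd C.dec n y) := by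
    rintro n (rfl | rfl | rfl)
    · rw [hfl, hone _ _ (cmp_mem _ _ _ y) hl]; exact ⟨hul, one_ne_zero, hQul⟩
    · rw [hfm, hone _ _ (cmp_mem _ _ _ y) hm]; exact ⟨hum, one_ne_zero, hQum⟩
    · rw [hfr, hone _ _ (cmp_mem _ _ _ y) hr]; exact ⟨hur, one_ne_zero, hQur⟩
  obtain ⟨h3', -, -⟩ := C.replace_mem {l, m, r} f y hy (.inr h2) fun n hn => hok n (by
    simpa only [Finset.mem_insert, Finset.mem_singleton] using hn)
  obtain ⟨h1', -, -⟩ := C.replace_mem {r} f y hy (.inr h2) fun n hn => hok n (by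
    rw [Finset.mem_singleton] at hn; exact .inr (.inr hn))
  rw [Finset.sum_insert (by simp [hlm, hlr]), Finset.sum_pair hmr, hfl, hfm, hfr] at h3'
  rw [Finset.sum_singleton, hfr] at h1'
  have hml := (D l).sub_mem (cmp_mem C.nd C.dec l y) hul
  have hmm := (D m).sub_mem (cmp_mem C.nd C.dec m y) hum
  have hmr' := (D r).sub_mem (cmp_mem C.nd C.dec r y) hur
  set dl := cmp C.nd C.dec l y - ul
  set dm := cmp C.nd C.dec m y - um
  set v := cmp C.nd C.dec r y - ur
  have hQv : Q v = c := by rw [hone r v hmr' hdr, hc]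
  have hsum : Q dl + Q dm = 0 := by
    rw [hone l dl hml hdl, hone m dm hmm hdm]; linear_combination h2
  have hvS : v ∈ S := by
    have := C.diff_mem hy h1' (by rw [sub_sub_cancel]; exact hQv)
    rwa [sub_sub_cancel] at this
  have hvl : ∀ z ∈ D l, polar ⇑Q z v = 0 := fun z hz => member_orth C.dec hlr hz hmr'
  have hvm : ∀ z ∈ D m, polar ⇑Q z v = 0 := fun z hz => member_orth C.dec hmr hz hmr'
  have e0 : dl + (dm + v) = v + (dl + dm) := by abel
  have hd : v + (dl + dm) ∈ S := by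
    have := C.diff_mem hy h3' (by
      rw [sub_sub_cancel, e0, Q_add, hQv, Q_add, member_orth C.dec hlm hml hmm, pl_comm Q v, pl_add_left,
        hvl dl hml, hvm dm hmm]
      linear_combination hsum)
    rwa [sub_sub_cancel, e0] at this
  exact C.omega_le_of_two hmin hlm hml hmm (by rw [hone l dl hml hdl]; exact one_ne_zero) hsum hvl hvm hvS hd

/-- An outside vector of the class gives `Ω`. -/
theorem omega_le_of_outside {y : ι → F} (hy : y ∈ S) (hout : ∀ l, y ∉ D l) : Omega F ⇑Q ≤ N := by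
  by_cases hq : Fintype.card F = 2
  · exact C.omega_le_of_outside_two hq hy hout
  by_cases hmin : ∀ l, ∀ x ∈ D l, Q x = 0 → x = 0
  · exact C.omega_le_of_outside_minus hq hy hout hmin
  push Not at hmin
  obtain ⟨l, x, hx, hQx, hx0⟩ := hmin
  have h7 : 7 ≤ Fintype.card F := by
    by_contra h
    exact hx0 (C.aniso_of_small (not_le.1 h) l x hx hQx)
  refine C.omega_le_of_outside_plus h7 hy hout fun n => ?_
  obtain ⟨e, he, -⟩ := exists_transport C.dec l n
  refine ⟨((e ⟨x, hx⟩ : D n) : ι → F), (e _).2, fun h => hx0 ?_, (he _).trans hQx⟩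
  have : e ⟨x, hx⟩ = 0 := Subtype.ext h
  exact congrArg Subtype.val (e.map_eq_zero_iff.1 this)

end TwoCtx

end Cfsg.Agent.Orth
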