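import Cfsg.Agent.Lib.Orth.DecompPlane
import Cfsg.Agent.Lib.Orth.Halves

/-!
# Decompositions into planes: one Eichler transformation generates `Ω` with the stabiliser

* `exists_sign_fix` : correcting an isometry into `Ω` inside one member
* `omega_le_of_singular_member` : `eich e w ∈ N`, `e` singular in a member
* `omega_le_of_anisotropic_pair` : `eich (a + b) w ∈ N`, anisotropic planes, `a`, `b` of opposite norms
-/

set_option autoImplicit false
set_option linter.unusedSectionVars false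

namespace Cfsg.Agent.Orth

open Cfsg Matrix Module
open QuadraticMap (polar)

variable {ι : Type} [Fintype ι] [DecidableEq ι] {F : Type*} [Field F] [Fintype F]
variable {Q : QuadraticForm F (ι → F)} {t k : ℕ} {D : Fin t → Submodule F (ι → F)}
variable {N : Subgroup (IsoGrp Q)}

theorem refl_fix_member (hD : Geo.IsOrthogonalMDecomposition ⇑Q k D) {v : ι → F} {l m : Fin t}
    (hv : v ∈ D l) (hm : l ≠ m) {x : ι → F} (hx : x ∈ D m) : ap (refl Q v) x = x :=
  refl_ap_of_orth Q (member_orth hD hm hv hx)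

theorem refl_mem_member (hD : Geo.IsOrthogonalMDecomposition ⇑Q k D) {v : ι → F} {l : Fin t}
    (hv : v ∈ D l) (m : Fin t) {x : ι → F} (hx : x ∈ D m) : ap (refl Q v) x ∈ D m := by
  by_cases hm : l = m
  · subst hm; exact refl_ap_mem hv hx
  · rw [refl_fix_member hD hv hm hx]; exact hx

theorem refl_mem_decomp (hD : Geo.IsOrthogonalMDecomposition ⇑Q k D) (hk : 1 ≤ k) {v : ι → F} {l : Fin t}
    (hv : v ∈ D l) : ((refl Q v : IsoGrp Q) : GL ι F) ∈ Geo.decompositionStabilizer D :=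
  mem_decomp_of_maps_members hD hk fun m => ⟨m, fun _ hx => refl_mem_member hD hv m hx⟩

theorem two_ne_of_quadraticChar (h2 : (2 : F) ≠ 0) : ringChar F ≠ 2 := fun h => h2 (by
  have := ringChar.Nat.cast_ringChar (R := F)
  rw [h] at this
  exact_mod_cast this)

/-- Correcting an isometry into `Ω` by reflections in one member. -/
theorem exists_sign_fix (hG : Good Q) (hD : Geo.IsOrthogonalMDecomposition ⇑Q k D) (hk : 2 ≤ k)
    (l : Fin t) (g : IsoGrp Q) :
    ∃ r : IsoGrp Q, g * r ∈ Omega F ⇑Q ∧ (r : GL ι F) ∈ Geo.decompositionStabilizer D ∧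
      (∀ x, (∀ z ∈ D l, polar ⇑Q z x = 0) → ap r x = x) ∧ ∀ x ∈ D l, ap r x ∈ D l := by
  classical
  have hnd := member_nondeg hD l
  have hr := hD.decomp.decomp.finrank_eq l
  have hst : ∀ {v : ι → F}, v ∈ D l →
      ((refl Q v : IsoGrp Q) : GL ι F) ∈ Geo.decompositionStabilizer D :=
    fun hv => refl_mem_decomp hD (by omega) hv
  have hfx : ∀ {v : ι → F}, v ∈ D l → ∀ x, (∀ z ∈ D l, polar ⇑Q z x = 0) → ap (refl Q v) x = x :=
    fun hv x hx => refl_ap_of_orth Q (hx _ hv)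
  by_cases h2 : (2 : F) = 0
  · rcases dick_eq_or g with hd | hd
    · exact ⟨1, (mem_omega_iff hG _).2 ⟨by rw [mul_one]; exact hd, spin_eq_one_of_two hG h2 _⟩,
        (Geo.decompositionStabilizer D).one_mem, fun x _ => ap_one x, fun x hx => by rwa [ap_one]⟩
    · obtain ⟨v, hv, hQv⟩ := exists_Q_eq_in (Q := Q) (D l) hnd (by omega) 1
      refine ⟨refl Q v, (mem_omega_iff hG _).2 ⟨?_, spin_eq_one_of_two hG h2 _⟩, hst hv, hfx hv,
        fun x hx => refl_ap_mem hv hx⟩
      rw [dick_mul hG, hd, dick_refl hG.nd (by rw [hQv]; exact one_ne_zero)]; norm_num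
  · obtain ⟨ν, hν⟩ := quadraticChar_exists_neg_one' (F := F) (two_ne_of_quadraticChar h2)
    obtain ⟨a, ha, hQa⟩ := exists_Q_eq_in (Q := Q) (D l) hnd (by omega) 1
    obtain ⟨b, hb, hQb⟩ := exists_Q_eq_in (Q := Q) (D l) hnd (by omega) (ν : F)
    have ha1 : spin (refl Q a) = 1 := by
      rw [spin_refl hG.nd (by rw [hQa]; exact one_ne_zero), hQa, map_one]
    have hb1 : spin (refl Q b) = -1 := by
      rw [spin_refl hG.nd (by rw [hQb]; exact Units.ne_zero ν), hQb, hν]
    have hda : dick (refl Q a) = -1 := dick_refl hG.nd (by rw [hQa]; exact one_ne_zero)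
    have hdb : dick (refl Q b) = -1 := dick_refl hG.nd (by rw [hQb]; exact Units.ne_zero ν)
    rcases dick_eq_or g with hd | hd <;> rcases spin_eq_or hG g with hsp | hsp
    · exact ⟨1, (mem_omega_iff hG _).2 ⟨by rw [mul_one]; exact hd, by rw [mul_one]; exact hsp⟩,
        (Geo.decompositionStabilizer D).one_mem, fun x _ => ap_one x, fun x hx => by rwa [ap_one]⟩
    · exact ⟨refl Q a * refl Q b, (mem_omega_iff hG _).2
        ⟨by rw [dick_mul hG, dick_mul hG, hd, hda, hdb]; norm_num,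
          by rw [spin_mul hG, spin_mul hG, hsp, ha1, hb1]; norm_num⟩,
        (Geo.decompositionStabilizer D).mul_mem (hst ha) (hst hb),
        fun x hx => by rw [ap_mul, hfx hb x hx, hfx ha x hx],
        fun x hx => by rw [ap_mul]; exact refl_ap_mem ha (refl_ap_mem hb hx)⟩
    · exact ⟨refl Q a, (mem_omega_iff hG _).2 ⟨by rw [dick_mul hG, hd, hda]; norm_num,
        by rw [spin_mul hG, hsp, ha1]; norm_num⟩, hst ha, hfx ha, fun x hx => refl_ap_mem ha hx⟩
    · exact ⟨refl Q b, (mem_omega_iff hG _).2 ⟨by rw [dick_mul hG, hd, hdb]; norm_num,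
        by rw [spin_mul hG, hsp, hb1]; norm_num⟩, hst hb, hfx hb, fun x hx => refl_ap_mem hb hx⟩

theorem member_pair_mem (hG : Good Q) (hD : Geo.IsOrthogonalMDecomposition ⇑Q k D)
    (hH : ∀ h : IsoGrp Q, h ∈ Omega F ⇑Q → (h : GL ι F) ∈ Geo.decompositionStabilizer D → h ∈ N)
    {a b : ι → F} {i j : Fin t} (ha : a ∈ D i) (hb : b ∈ D j) (hQa : Q a ≠ 0) (hQb : Q b = Q a) :
    refl Q a * refl Q b ∈ N :=
  hH _ (refl_pair_mem_omega hG hQa hQb) (mem_decomp_pair hG hD ⟨i, ha⟩ ⟨j, hb⟩)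

/-- The vectors `w ⊥ e` with `eich e w ∈ N`. -/
def eichSub (N : Subgroup (IsoGrp Q)) (e : ι → F) (he : Q e = 0) : AddSubgroup (ι → F) where
  carrier := {w | polar ⇑Q e w = 0 ∧ eich Q e w ∈ N}
  zero_mem' := ⟨pl_zero_right Q e, by rw [eich_zero]; exact one_mem _⟩
  add_mem' {a b} ha hb := ⟨by rw [pl_add_right, ha.1, hb.1, add_zero],
    by rw [← eich_add he ha.1 hb.1]; exact mul_mem ha.2 hb.2⟩
  neg_mem' {a} ha := ⟨by rw [pl_neg_right, ha.1, neg_zero], by rw [← eich_inv]; exact inv_mem ha.2⟩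

theorem mem_eichSub {e w : ι → F} {he : Q e = 0} :
    w ∈ eichSub N e he ↔ polar ⇑Q e w = 0 ∧ eich Q e w ∈ N := Iff.rfl

theorem eichSub_map {e w : ι → F} {he : Q e = 0} (hw : w ∈ eichSub N e he) {h : IsoGrp Q} (hh : h ∈ N) :
    polar ⇑Q (ap h e) (ap h w) = 0 ∧ eich Q (ap h e) (ap h w) ∈ N :=
  ⟨by rw [polar_ap]; exact hw.1, by rw [← conj_eich]; exact mul_mem (mul_mem hh hw.2) (inv_mem hh)⟩

/-- Third and fourth indices. -/
theorem exists_fin_ne3 (ht : 4 ≤ t) (a b c : Fin t) : ∃ l : Fin t, l ≠ a ∧ l ≠ b ∧ l ≠ c := by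
  classical
  obtain ⟨l, -, hl⟩ := Finset.exists_mem_notMem_of_card_lt_card (s := ({a, b, c} : Finset (Fin t)))
    (t := Finset.univ) (by
      have := Finset.card_le_three (a := a) (b := b) (c := c)
      rw [Finset.card_univ, Fintype.card_fin]; omega)
  simp only [Finset.mem_insert, Finset.mem_singleton, not_or] at hl
  exact ⟨l, hl.1, hl.2.1, hl.2.2⟩

/-- A rotation of the member `j` moving a given vector with non-zero component there. -/
theorem exists_rotation_diff (hG : Good Q) (hD : Geo.IsOrthogonalMDecomposition ⇑Q 2 D)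
    (hP : ∀ l, PlaneOK Q (D l))
    (hH : ∀ h : IsoGrp Q, h ∈ Omega F ⇑Q → (h : GL ι F) ∈ Geo.decompositionStabilizer D → h ∈ N)
    {e w : ι → F} {he : Q e = 0} (hw : w ∈ eichSub N e he) {j : Fin t} (hwj : cmp hG.nd hD j w ≠ 0)
    (hej : ∀ z ∈ D j, polar ⇑Q z e = 0) : ∃ z ∈ D j, z ≠ 0 ∧ z ∈ eichSub N e he := by
  have hP2 : NPlane Q (D j) := ⟨member_nondeg hD j, hD.decomp.decomp.finrank_eq j⟩
  obtain ⟨a, ha, hQa⟩ := exists_Q_eq_in (Q := Q) (D j) hP2.nd (by rw [hP2.rk]) 1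
  have hQa0 : Q a ≠ 0 := by rw [hQa]; exact one_ne_zero
  obtain ⟨b, hb, hQb, hab, hba⟩ := hP2.exists_partner (hP j) ha hQa0
  set h := refl Q a * refl Q b with hh
  have hN : h ∈ N := member_pair_mem hG hD hH ha hb hQa0 hQb
  have hhe : ap h e = e := ap_refl_pair_perp (hej a ha) (hej b hb)
  obtain ⟨h1, h3⟩ := eichSub_map hw hN
  rw [hhe] at h1 h3
  have hmem : ap h w - w ∈ eichSub N e he := (eichSub N e he).sub_mem (mem_eichSub.2 ⟨h1, h3⟩) hw
  refine ⟨ap h w - w, ?_, fun h0 => hwj ?_, hmem⟩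
  · have e : ∀ p q : ι → F, w - q - p - w = -(p + q) := fun p q => by abel
    rw [hh, ap_mul, refl_ap Q b w, refl_ap, e]
    exact (D j).neg_mem ((D j).add_mem ((D j).smul_mem _ ha) ((D j).smul_mem _ hb))
  · obtain ⟨e1, e2⟩ := polar_eq_zero_of_fixed hQa0 (by rw [hQb]; exact hQa0) hba (sub_eq_zero.1 h0)
    by_contra hne
    obtain ⟨y, hy, hwy⟩ := hP2.nd _ (cmp_mem hG.nd hD j w) hne
    obtain ⟨α, β, rfl⟩ := hP2.coords ha (fun h => hQa0 (by rw [h, QuadraticMap.map_zero])) hb hba hy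
    refine hwy ?_
    rw [pl_add_right, pl_smul_right, pl_smul_right, polar_cmp hG.nd hD ha, polar_cmp hG.nd hD hb,
      pl_comm Q w a, e1, pl_comm Q w b, e2]
    ring

theorem mem_isSquare_of_two (h2 : (2 : F) = 0) (s : F) : IsSquare s := by
  refine FiniteField.isSquare_of_char_two ?_ s
  have h := (FiniteField.even_card_iff_char_two (F := F))
  exact CharP.ringChar_of_prime_eq_zero Nat.prime_two (by exact_mod_cast h2)

/-- An element of the stabiliser scaling a singular vector of a member by a square. -/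
theorem exists_scaling (hG : Good Q) (hD : Geo.IsOrthogonalMDecomposition ⇑Q k D)
    (hH : ∀ h : IsoGrp Q, h ∈ Omega F ⇑Q → (h : GL ι F) ∈ Geo.decompositionStabilizer D → h ∈ N)
    {i : Fin t} {e f : ι → F} (he : e ∈ D i) (hf : f ∈ D i) (hQe : Q e = 0) (hQf : Q f = 0)
    (hef : polar ⇑Q e f = 1) {ρ : F} (hρ : ρ ≠ 0) :
    ∃ h : IsoGrp Q, h ∈ N ∧ h ∈ Omega F ⇑Q ∧ (h : GL ι F) ∈ Geo.decompositionStabilizer D ∧
      ap h e = (ρ * ρ) • e ∧ ∀ x, (∀ z ∈ D i, polar ⇑Q z x = 0) → ap h x = x := by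
  have ha : e + f ∈ D i := (D i).add_mem he hf
  have hQa : Q (e + f) = 1 := by rw [Q_add, hQe, hQf, hef]; ring
  set b := ρ⁻¹ • e + ρ • f with hb
  have hbD : b ∈ D i := (D i).add_mem ((D i).smul_mem _ he) ((D i).smul_mem _ hf)
  have hQb : Q b = 1 := by
    rw [hb, Q_add, Q_smul, Q_smul, hQe, hQf, pl_smul_left, pl_smul_right, hef]; field_simp; ring
  have hQa0 : Q (e + f) ≠ 0 := by rw [hQa]; exact one_ne_zero
  have hbe : polar ⇑Q b e = ρ := by
    rw [hb, pl_add_left, pl_smul_left, pl_smul_left, pl_self, hQe, pl_comm Q f e, hef]; ring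
  refine ⟨refl Q (e + f) * refl Q b, member_pair_mem hG hD hH ha hbD hQa0 (by rw [hQb, hQa]),
    refl_pair_mem_omega hG hQa0 (by rw [hQb, hQa]), mem_decomp_pair hG hD ⟨i, ha⟩ ⟨i, hbD⟩, ?_,
    fun x hx => ap_refl_pair_perp (hx _ ha) (hx _ hbD)⟩
  rw [ap_mul, refl_ap Q b e, hQb, hbe, inv_one, one_mul, hb, refl_ap, hQa, inv_one, one_mul]
  simp only [pl_sub_right, pl_add_left, pl_add_right, pl_smul_right, pl_self, hQe, hQf, pl_comm Q f e, hef]
  match_scalars <;> field_simp <;> ring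

set_option maxHeartbeats 800000 in
/-- One Eichler transformation at a singular vector of a member. -/
theorem omega_le_of_singular_member (hG : Good Q) (hD : Geo.IsOrthogonalMDecomposition ⇑Q 2 D)
    (ht : 4 ≤ t) (hq : 7 ≤ Fintype.card F)
    (hH : ∀ h : IsoGrp Q, h ∈ Omega F ⇑Q → (h : GL ι F) ∈ Geo.decompositionStabilizer D → h ∈ N)
    {i : Fin t} {e w : ι → F} (he : e ∈ D i) (he0 : e ≠ 0) (hQe : Q e = 0)
    (hwo : ∀ z ∈ D i, polar ⇑Q z w = 0) (hw0 : w ≠ 0) (hwN : eich Q e w ∈ N) : Omega F ⇑Q ≤ N := by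
  classical
  have hQ := hG.nd
  have hnd := member_nondeg hD
  have hr := hD.decomp.decomp.finrank_eq
  have hpl : ∀ l, NPlane Q (D l) := fun l => ⟨hnd l, hr l⟩
  have hP : ∀ l, PlaneOK Q (D l) := fun l => .inl hq
  obtain ⟨f, hf, hQf, hef⟩ := exists_hpair_in hQ (hnd i) he he0 hQe
  -- scaling by squares
  have hscale : ∀ u : ι → F, (∀ z ∈ D i, polar ⇑Q z u = 0) → eich Q e u ∈ N → ∀ s : F, eich Q e (s • u) ∈ N := by
    intro u hu huN
    have hsq : ∀ ρ : F, eich Q e ((ρ * ρ) • u) ∈ N := by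
      intro ρ
      by_cases hρ : ρ = 0
      · rw [hρ, mul_zero, zero_smul, eich_zero]; exact one_mem _
      obtain ⟨h, hN, -, -, hhe, hfix⟩ := exists_scaling hG hD hH he hf hQe hQf hef hρ
      have hhu : ap h u = u := hfix u hu
      have hue : polar ⇑Q e u = 0 := hu e he
      have h3 := (eichSub_map (he := hQe) (mem_eichSub.2 ⟨hue, huN⟩) hN).2
      rwa [hhe, hhu, eich_smul_left] at h3
    intro s
    obtain ⟨r, hr'⟩ : ∃ r : F, s = r * r ∨ ∃ p : F, s + p * p = r * r + 0 ∧ True := by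
      by_cases h2 : (2 : F) = 0
      · obtain ⟨r, hr⟩ := mem_isSquare_of_two h2 s
        exact ⟨r, .inl hr⟩
      · exact ⟨s / 2 / 2 + 1, .inr ⟨s / 2 / 2 - 1, by
          have h4 : (4 : F) ≠ 0 := by rw [show (4 : F) = 2 * 2 by norm_num]; exact mul_ne_zero h2 h2
          rw [add_zero]; field_simp; ring, trivial⟩⟩
    rcases hr' with rfl | ⟨p, hp, -⟩
    · exact hsq r
    · rw [show s = r * r - p * p by linear_combination hp, sub_smul, sub_eq_add_neg,
        ← eich_add hQe (by rw [pl_smul_right, hu e he, mul_zero])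
          (by rw [pl_neg_right, pl_smul_right, hu e he, mul_zero, neg_zero]), ← eich_inv]
      exact mul_mem (hsq r) (inv_mem (hsq p))
  -- one member
  obtain ⟨j, hwj⟩ : ∃ j, cmp hQ hD j w ≠ 0 := by
    by_contra! h
    exact hw0 (by rw [← sum_cmp hQ hD w, Finset.sum_eq_zero fun l _ => h l])
  have hji : j ≠ i := by
    rintro rfl
    obtain ⟨y, hy, hy'⟩ := hnd j _ (cmp_mem hQ hD j w) hwj
    rw [polar_cmp hQ hD hy, pl_comm] at hy'
    exact hy' (hwo y hy)
  obtain ⟨z, hz, hz0, hzN⟩ := exists_rotation_diff hG hD hP hH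
    (mem_eichSub.2 ⟨hwo e he, hwN⟩ : w ∈ eichSub N e hQe) hwj (fun z hz => member_orth hD hji hz he)
  have hoi : ∀ l, l ≠ i → ∀ u ∈ D l, ∀ z ∈ D i, polar ⇑Q z u = 0 :=
    fun l hl u hu z hz => member_orth hD hl.symm hz hu
  have hDj : ∀ u ∈ D j, eich Q e u ∈ N := by
    obtain ⟨l, hli, hlj, -⟩ := exists_fin_ne3 ht i j i
    have hr' : ∀ a ∈ D j, Q a ≠ 0 → eich Q e (ap (refl Q a) z) ∈ N := by
      intro a ha hQa
      obtain ⟨b, hb, hQb⟩ := exists_Q_eq_in (Q := Q) (D l) (hnd l) (by rw [hr]) (Q a)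
      have hN := member_pair_mem hG hD hH ha hb hQa hQb
      have h3 := (eichSub_map hzN hN).2
      rw [ap_refl_pair_perp (member_orth hD hji ha he) (member_orth hD hli hb he), ap_mul,
        refl_fix_member hD hb hlj hz] at h3
      exact h3
    obtain ⟨z', hz', hz'z, hz'N⟩ : ∃ z' ∈ D j, z' ∉ F ∙ z ∧ eich Q e z' ∈ N := by
      by_cases hQz : Q z = 0
      · obtain ⟨g, hg, hQg, hzg⟩ := exists_hpair_in hQ (hnd j) hz hz0 hQz
        have hQa : Q (z + g) = 1 := by rw [Q_add, hQz, hQg, hzg]; ring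
        have hR : ap (refl Q (z + g)) z = -g := by
          rw [refl_ap, hQa, pl_add_left, pl_self, hQz, pl_comm Q g z, hzg, mul_zero, zero_add, inv_one,
            one_mul, one_smul]
          abel
        refine ⟨-g, (D j).neg_mem hg, fun h => ?_, hR ▸ hr' _ ((D j).add_mem hz hg) (by rw [hQa]; exact one_ne_zero)⟩
        obtain ⟨r, hr⟩ := Submodule.mem_span_singleton.1 h
        have := congrArg (fun v => polar ⇑Q z v) hr
        rw [pl_smul_right, pl_neg_right, pl_self, hQz, hzg] at this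
        simp at this
      · obtain ⟨b, hb, hQb, hzb, hbz⟩ := (hpl j).exists_partner (hP j) hz hQz
        refine ⟨ap (refl Q b) z, refl_ap_mem hb hz, fun h => hbz ?_, hr' b hb (by rw [hQb]; exact hQz)⟩
        rw [refl_ap] at h
        exact (Submodule.smul_mem_iff _ (mul_ne_zero (inv_ne_zero (by rw [hQb]; exact hQz))
          (by rw [pl_comm]; exact hzb))).1
          ((Submodule.sub_mem_iff_right _ (Submodule.mem_span_singleton_self z)).1 h)
    intro u hu
    obtain ⟨α, β, rfl⟩ := (hpl j).coords hz hz0 hz' hz'z hu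
    rw [← eich_add hQe (by rw [pl_smul_right, hoi j hji z hz e he, mul_zero])
      (by rw [pl_smul_right, hoi j hji z' hz' e he, mul_zero])]
    exact mul_mem (hscale z (hoi j hji z hz) hzN.2 α) (hscale z' (hoi j hji z' hz') hz'N β)
  -- all singular vectors of the member
  have hline : ∀ e' ∈ D i, Q e' = 0 → ∃ r : F, e' = r • e ∨ e' = r • f := by
    intro e' he' hQe'
    obtain ⟨h1, h3⟩ := coords_two (hr i) he hf hQe hQf hef he'
    rw [hQe'] at h3
    rcases mul_eq_zero.1 h3.symm with h | h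
    · exact ⟨polar ⇑Q e' e, .inr (by rw [h, zero_smul, zero_add] at h1; exact h1)⟩
    · exact ⟨polar ⇑Q e' f, .inl (by rw [h, zero_smul, add_zero] at h1; exact h1)⟩
  have hall : ∀ e' ∈ D i, Q e' = 0 → ∀ u ∈ D j, eich Q e' u ∈ N := by
    intro e' he' hQe' u hu
    obtain ⟨r, rfl | rfl⟩ := hline e' he' hQe'
    · rw [eich_smul_left]; exact hDj _ ((D j).smul_mem _ hu)
    rw [eich_smul_left]
    have ha : e + f ∈ D i := (D i).add_mem he hf
    have hQa : Q (e + f) = 1 := by rw [Q_add, hQe, hQf, hef]; ring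
    obtain ⟨b, hb, hQb⟩ := exists_Q_eq_in (Q := Q) (D j) (hnd j) (by rw [hr]) 1
    have hN := member_pair_mem hG hD hH ha hb (by rw [hQa]; exact one_ne_zero) (by rw [hQb, hQa])
    set h := refl Q (e + f) * refl Q b with hh
    have hhe : ap h e = -f := by
      rw [hh, ap_mul, refl_fix_member hD hb hji he, refl_ap, hQa, pl_add_left, pl_self, hQe,
        pl_comm Q f e, hef, mul_zero, zero_add, inv_one, one_mul, one_smul]
      abel
    set v := ap h⁻¹ (-(r • u)) with hv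
    have hvD : v ∈ D j := by
      rw [hv, hh, _root_.mul_inv_rev, refl_inv, refl_inv, ap_mul]
      exact refl_ap_mem hb (refl_mem_member hD ha j ((D j).neg_mem ((D j).smul_mem _ hu)))
    have h3 := (eichSub_map (he := hQe) (mem_eichSub.2 ⟨hoi j hji v hvD e he, hDj v hvD⟩) hN).2
    rw [hhe, hv, ap_ap_inv] at h3
    rwa [show -f = (-1 : F) • f by rw [neg_one_smul], eich_smul_left, neg_one_smul, neg_neg] at h3
  -- all members
  have hmem : ∀ l, l ≠ i → ∀ e' ∈ D i, Q e' = 0 → ∀ u ∈ D l, eich Q e' u ∈ N := by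
    intro l hli e' he' hQe' u hu
    by_cases hlj : l = j
    · exact hall e' he' hQe' u (hlj ▸ hu)
    obtain ⟨g, hg, hg1, hg2, hg3⟩ := exists_swap_members hG hD le_rfl (Ne.symm hlj)
    have hgD : (g : GL ι F) ∈ Geo.decompositionStabilizer D :=
      mem_decomp_of_maps_members hD (by omega) fun m => by
        by_cases e1 : m = j
        · exact ⟨l, fun x hx => hg1 x (e1 ▸ hx)⟩
        by_cases e2 : m = l
        · exact ⟨j, fun x hx => hg2 x (e2 ▸ hx)⟩
        exact ⟨m, fun x hx => hg3 m e1 e2 x hx⟩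
    have hi' : ∀ x ∈ D i, ap g x ∈ D i := hg3 i (Ne.symm hji) (Ne.symm hli)
    have hinv := inv_maps_of_maps hi' (by rw [hr])
    have hu' : ap g⁻¹ u ∈ D j := inv_maps_of_maps hg1 (by rw [hr, hr]) u hu
    have h3 := (eichSub_map (he := (by rw [Q_ap, hQe'] : Q (ap g⁻¹ e') = 0))
      (mem_eichSub.2 ⟨hoi j hji _ hu' _ (hinv e' he'), hall _ (hinv e' he') (by rw [Q_ap, hQe']) _ hu'⟩)
      (hH g hg hgD)).2
    rwa [ap_ap_inv, ap_ap_inv] at h3
  -- generation
  have hpair : HPair Q e f := ⟨hQe, hQf, hef⟩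
  have hn : 5 ≤ Fintype.card ι := by rw [card_eq_mul hQ hD]; omega
  rw [omega_eq_eichPair hG (by omega) (.inr hn) hpair, eichPair, Subgroup.closure_le]
  have key : ∀ e' ∈ D i, Q e' = 0 → ∀ u : ι → F, cmp hQ hD i u = 0 → eich Q e' u ∈ N := by
    intro e' he' hQe' u hu
    suffices h : ∑ l, cmp hQ hD l u ∈ eichSub N e' hQe' by rw [sum_cmp hQ hD u] at h; exact h.2
    refine (eichSub N e' hQe').sum_mem fun l _ => ?_
    by_cases hl : l = i
    · rw [hl, hu]; exact (eichSub N e' hQe').zero_mem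
    · exact mem_eichSub.2 ⟨hoi l hl _ (cmp_mem hQ hD l u) _ he', hmem l hl e' he' hQe' _ (cmp_mem hQ hD l u)⟩
  rintro _ ⟨u, hu, hge⟩
  have hu' : cmp hQ hD i u = 0 := by
    obtain ⟨h1, -⟩ := coords_two (hr i) he hf hQe hQf hef (cmp_mem hQ hD i u)
    rw [polar_cmp hQ hD hf, polar_cmp hQ hD he, pl_comm Q u f, pl_comm Q u e, (mem_perp.1 hu).1,
      (mem_perp.1 hu).2, zero_smul, zero_smul, add_zero] at h1
    exact h1
  rcases hge with rfl | rfl
  · exact key e he hQe u hu'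
  · exact key f hf hQf u hu'

set_option maxHeartbeats 1600000 in
/-- One Eichler transformation at the sum of two anisotropic vectors of opposite norms. -/
theorem omega_le_of_anisotropic_pair (hG : Good Q) (hD : Geo.IsOrthogonalMDecomposition ⇑Q 2 D)
    (ht : 4 ≤ t) (han : ∀ l, ∀ x ∈ D l, Q x = 0 → x = 0) (hq3 : Fintype.card F ≠ 3)
    (hH : ∀ h : IsoGrp Q, h ∈ Omega F ⇑Q → (h : GL ι F) ∈ Geo.decompositionStabilizer D → h ∈ N)
    {i j : Fin t} (hij : i ≠ j) {di dj w : ι → F} (hdi : di ∈ D i) (hdj : dj ∈ D j) (hQdi : Q di ≠ 0)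
    (hsum : Q di + Q dj = 0)
    (hwi : ∀ z ∈ D i, polar ⇑Q z w = 0) (hwj : ∀ z ∈ D j, polar ⇑Q z w = 0) (hw0 : w ≠ 0)
    (hwN : eich Q (di + dj) w ∈ N) : Omega F ⇑Q ≤ N := by
  classical
  have hQ := hG.nd
  have hnd := member_nondeg hD
  have hr := hD.decomp.decomp.finrank_eq
  have hpl : ∀ l, NPlane Q (D l) := fun l => ⟨hnd l, hr l⟩
  have hP : ∀ l, PlaneOK Q (D l) := fun l => .inr ⟨han l, hq3⟩
  set a := Q di with ha
  have hQdj : Q dj = -a := by linear_combination hsum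
  -- the orbit of `di + dj`
  have hO : ∀ {u v : ι → F}, u ∈ D i → v ∈ D j → Q u = a → Q v = -a → Q (u + v) = 0 := fun hu hv hQu hQv => by
    rw [Q_add, member_orth hD hij hu hv, hQu, hQv]; ring
  have he : Q (di + dj) = 0 := hO hdi hdj rfl hQdj
  have horth : ∀ {u v : ι → F}, u ∈ D i → v ∈ D j → ∀ {l : Fin t}, l ≠ i → l ≠ j → ∀ x ∈ D l,
      polar ⇑Q x (u + v) = 0 := fun hu hv l hli hlj x hx => by
    rw [pl_add_right, member_orth hD hli hx hu, member_orth hD hlj hx hv, add_zero]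
  -- one member
  obtain ⟨r, hwr⟩ : ∃ r, cmp hQ hD r w ≠ 0 := by
    by_contra! h
    exact hw0 (by rw [← sum_cmp hQ hD w, Finset.sum_eq_zero fun l _ => h l])
  have hnij : ∀ {l : Fin t}, (∀ z ∈ D l, polar ⇑Q z w = 0) → l ≠ r := by
    rintro l hl rfl
    obtain ⟨y, hy, hy'⟩ := hnd l _ (cmp_mem hQ hD l w) hwr
    rw [polar_cmp hQ hD hy, pl_comm] at hy'
    exact hy' (hl y hy)
  have hri : r ≠ i := (hnij hwi).symm
  have hrj : r ≠ j := (hnij hwj).symm
  obtain ⟨z, hz, hz0, hzN⟩ := exists_rotation_diff hG hD hP hH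
    (mem_eichSub.2 ⟨by rw [pl_add_left, hwi di hdi, hwj dj hdj, add_zero], hwN⟩ : w ∈ eichSub N (di + dj) he)
    hwr (horth hdi hdj hri hrj)
  have hQz : Q z ≠ 0 := fun h => hz0 (han r z hz h)
  have hsph : ∀ z' ∈ D r, Q z' = Q z → eich Q (di + dj) z' ∈ N := by
    intro z' hz' hQz'
    by_cases hne : z' = z
    · rw [hne]; exact hzN.2
    have hd := (hpl r).sub_aniso hz hz' hQz hQz' hne
    obtain ⟨l, hli, hlj, hlr⟩ := exists_fin_ne3 ht i j r
    obtain ⟨b, hb, hQb⟩ := exists_Q_eq_in (Q := Q) (D l) (hnd l) (by rw [hr]) (Q (z - z'))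
    have hN := member_pair_mem hG hD hH ((D r).sub_mem hz hz') hb hd hQb
    have h3 := (eichSub_map hzN hN).2
    rw [ap_refl_pair_perp (horth hdi hdj hri hrj _ ((D r).sub_mem hz hz')) (horth hdi hdj hli hlj b hb),
      ap_mul, refl_fix_member hD hb hlr hz, refl_sub_ap hQz' hd] at h3
    exact h3
  have hDr : ∀ u ∈ D r, eich Q (di + dj) u ∈ N := by
    let H : AddSubgroup (D r) := (eichSub N (di + dj) he).comap (D r).subtype.toAddMonoidHom
    have hmemH : ∀ z' : D r, Q (z' : ι → F) = Q z → z' ∈ H := fun z' h =>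
      (show (z' : ι → F) ∈ eichSub N (di + dj) he from
        mem_eichSub.2 ⟨by rw [pl_comm]; exact horth hdi hdj hri hrj _ z'.2, hsph _ z'.2 h⟩)
    suffices hH' : H = ⊤ by
      intro u hu
      have h : (⟨u, hu⟩ : D r) ∈ H := hH' ▸ AddSubgroup.mem_top _
      exact h.2
    by_contra hne
    set S := sphere Q (D r) (Q z)
    have hS := ((hpl r).card_sphere hQ hQz).2 (han r)
    have hcard : Nat.card (D r) = Fintype.card F ^ 2 := by
      rw [Nat.card_eq_fintype_card, Module.card_eq_pow_finrank (K := F) (V := D r), hr r]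
    set I := (S ×ˢ S).filter fun p => p.1 ≠ p.2
    have hI : (Fintype.card F + 1) * Fintype.card F ≤ I.card := by
      have e : I = S.offDiag := by ext p; simp [I, and_assoc]
      rw [e, Finset.offDiag_card, ← Nat.mul_sub_one]
      exact Nat.mul_le_mul hS (Nat.le_sub_one_of_lt hS)
    set J := I.image fun p => p.1 - p.2
    have hIJ : I.card ≤ 2 * J.card := by
      refine Finset.card_le_mul_card_image _ _ fun d hd => ?_
      obtain ⟨⟨x, y⟩, hxy, rfl⟩ := Finset.mem_image.1 hd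
      simp only [I, S, Finset.mem_filter, Finset.mem_product, mem_sphere] at hxy
      set d := x - y with hd'
      have hdD : d ∈ D r := (D r).sub_mem hxy.1.1.1 hxy.1.2.1
      have hQd : Q d ≠ 0 := fun h => hxy.2 (sub_eq_zero.1 (han r d hdD h))
      refine le_trans (Finset.card_le_card_of_injOn Prod.fst (fun p hp => ?_) fun p hp p' hp' h => ?_)
        ((hpl r).card_fibre_le hQ hdD hQd (Q z) (Q d))
      · simp only [I, S, Finset.coe_filter, Finset.mem_filter, Finset.mem_product, mem_sphere,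
          Set.mem_ofPred_eq] at hp ⊢
        refine ⟨hp.1.1.1, ?_⟩
        have h1 : Q (p.1 - d) = Q z := by rw [← hp.2, sub_sub_cancel, hp.1.1.2.2]
        rw [Q_sub, hp.1.1.1.2, pl_comm Q p.1 d] at h1
        linear_combination -h1
      · simp only [Finset.coe_filter, Set.mem_ofPred_eq] at hp hp'
        refine Prod.ext h ?_
        have := hp.2.trans hp'.2.symm
        rw [h] at this
        exact sub_right_injective this
    have hle : J.card + 1 ≤ Nat.card H := by
      let emb : H → (ι → F) := fun x => ((x : D r) : ι → F)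
      have hsub : insert 0 J ⊆ (Finset.univ : Finset H).image emb := by
        intro x hx
        rcases Finset.mem_insert.1 hx with rfl | hx
        · exact Finset.mem_image.2 ⟨0, Finset.mem_univ _, rfl⟩
        obtain ⟨⟨x, y⟩, hxy, rfl⟩ := Finset.mem_image.1 hx
        simp only [I, S, Finset.mem_filter, Finset.mem_product, mem_sphere] at hxy
        exact Finset.mem_image.2 ⟨⟨⟨x, hxy.1.1.1⟩, hmemH _ hxy.1.1.2⟩ - ⟨⟨y, hxy.1.2.1⟩, hmemH _ hxy.1.2.2⟩,
          Finset.mem_univ _, rfl⟩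
      have h0 : (0 : ι → F) ∉ J := fun h => by
        obtain ⟨p, hp, h'⟩ := Finset.mem_image.1 h
        exact (Finset.mem_filter.1 hp).2 (sub_eq_zero.1 h')
      have := (Finset.card_le_card hsub).trans Finset.card_image_le
      rw [Finset.card_insert_of_notMem h0, Finset.card_univ, ← Nat.card_eq_fintype_card] at this
      exact this
    have hdvd := AddSubgroup.card_addSubgroup_dvd_card H
    rw [hcard] at hdvd
    obtain ⟨d, hd⟩ := hdvd
    have hd1 : d ≠ 1 := fun h => hne (AddSubgroup.eq_top_of_card_eq H (by rw [hcard, hd, h, mul_one]))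
    have hd0 : d ≠ 0 := fun h => by rw [h, mul_zero] at hd; exact pow_ne_zero 2 Fintype.card_ne_zero hd
    have h2 : Nat.card H * 2 ≤ Fintype.card F ^ 2 := hd ▸ Nat.mul_le_mul_left _ (by omega)
    rw [pow_two] at h2
    rw [add_mul, one_mul] at hI
    omega
  -- moving inside the orbit
  have hP1 : ∀ {u v : ι → F}, u ∈ D i → v ∈ D j → Q u = a → Q v = -a → ∀ x ∈ D r, eich Q (u + v) x ∈ N := by
    intro u v hu hv hQu hQv
    have step : ∀ {l : Fin t} {p p' : ι → F}, p ∈ D l → p' ∈ D l → l ≠ r → Q p ≠ 0 → Q p' = Q p →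
        ∃ h : IsoGrp Q, h ∈ N ∧ ap h p = p' ∧ (∀ m, m ≠ l → m ≠ r → ∀ x ∈ D m, ap h x = x) ∧
          ∀ x ∈ D r, ap h x ∈ D r := by
      intro l p p' hp hp' hlr hQp hQp'
      by_cases hne : p' = p
      · exact ⟨1, one_mem _, by rw [ap_one, hne], fun m _ _ x _ => ap_one x, fun x hx => by rwa [ap_one]⟩
      have hd := (hpl l).sub_aniso hp hp' hQp hQp' hne
      obtain ⟨b, hb, hQb⟩ := exists_Q_eq_in (Q := Q) (D r) (hnd r) (by rw [hr]) (Q (p - p'))
      refine ⟨_, member_pair_mem hG hD hH ((D l).sub_mem hp hp') hb hd hQb, ?_, fun m hml hmr x hx => ?_,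
        fun x hx => ?_⟩
      · rw [ap_mul, refl_fix_member hD hb hlr.symm hp, refl_sub_ap hQp' hd]
      · rw [ap_mul, refl_fix_member hD hb hmr.symm hx, refl_fix_member hD ((D l).sub_mem hp hp') hml.symm hx]
      · rw [ap_mul]; exact refl_mem_member hD ((D l).sub_mem hp hp') r (refl_ap_mem hb hx)
    obtain ⟨h1, h1N, h1p, h1f, h1r⟩ := step hdi hu hri.symm hQdi hQu
    obtain ⟨h2, h2N, h2p, h2f, h2r⟩ := step hdj hv hrj.symm
      (by rw [hQdj]; exact neg_ne_zero.2 hQdi) (by rw [hQv, hQdj])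
    intro x hx
    have hh : ∀ x ∈ D r, ap (h2 * h1) x ∈ D r := fun x hx => by rw [ap_mul]; exact h2r _ (h1r x hx)
    have hx' := inv_maps_of_maps hh rfl x hx
    have h3 := (eichSub_map (he := he) (mem_eichSub.2 ⟨by rw [pl_comm]; exact horth hdi hdj hri hrj _ hx',
      hDr _ hx'⟩) (mul_mem h2N h1N)).2
    rwa [ap_ap_inv, map_add, ap_mul, ap_mul, h1p, h1f j hij.symm hrj.symm dj hdj, h2p,
      h2f i hij hri.symm u hu] at h3
  have hP2 : ∀ {u v : ι → F}, u ∈ D i → v ∈ D j → Q u = a → Q v = -a →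
      ∀ l, l ≠ i → l ≠ j → ∀ x ∈ D l, eich Q (u + v) x ∈ N := by
    intro u v hu hv hQu hQv l hli hlj x hx
    by_cases hlr : l = r
    · exact hP1 hu hv hQu hQv x (hlr ▸ hx)
    obtain ⟨g, hg, hg1, hg2, hg3⟩ := exists_swap_members hG hD le_rfl (Ne.symm hlr)
    have hgD : (g : GL ι F) ∈ Geo.decompositionStabilizer D :=
      mem_decomp_of_maps_members hD (by omega) fun m => by
        by_cases e1 : m = r
        · exact ⟨l, fun x hx => hg1 x (e1 ▸ hx)⟩
        by_cases e2 : m = l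
        · exact ⟨r, fun x hx => hg2 x (e2 ▸ hx)⟩
        exact ⟨m, fun x hx => hg3 m e1 e2 x hx⟩
    have hu' := inv_maps_of_maps (hg3 i hri.symm (Ne.symm hli)) (by rw [hr]) u hu
    have hv' := inv_maps_of_maps (hg3 j hrj.symm (Ne.symm hlj)) (by rw [hr]) v hv
    have hx' := inv_maps_of_maps hg1 (by rw [hr, hr]) x hx
    have hQu' : Q (ap g⁻¹ u) = a := by rw [Q_ap, hQu]
    have hQv' : Q (ap g⁻¹ v) = -a := by rw [Q_ap, hQv]
    have h3 := (eichSub_map (he := hO hu' hv' hQu' hQv')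
      (mem_eichSub.2 ⟨by rw [pl_comm]; exact horth hu' hv' hri hrj _ hx', hP1 hu' hv' hQu' hQv' _ hx'⟩)
      (hH g hg hgD)).2
    rwa [map_add, ap_ap_inv, ap_ap_inv, ap_ap_inv] at h3
  -- commutators
  have hcomm : ∀ {u v u' v' : ι → F}, u ∈ D i → v ∈ D j → Q u = a → Q v = -a → u' ∈ D i → v' ∈ D j →
      Q u' = a → Q v' = -a → polar ⇑Q (u + v) (u' + v') = 0 → ∀ μ : F, eich Q (u + v) (μ • (u' + v')) ∈ N := by
    intro u v u' v' hu hv hQu hQv hu' hv' hQu' hQv' hperp μ
    obtain ⟨x, hx, hx0⟩ := Submodule.exists_mem_ne_zero_of_ne_bot (p := D r)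
      (fun h => by have := hr r; rw [h, finrank_bot] at this; omega)
    obtain ⟨y, hy, hyx⟩ := exists_dual_scaled hQ (hnd r) hx hx0 μ
    set e1 := u + v
    set e2 := u' + v'
    have he1 : Q e1 = 0 := hO hu hv hQu hQv
    have he2 : Q e2 = 0 := hO hu' hv' hQu' hQv'
    have o1x : polar ⇑Q e1 x = 0 := by rw [pl_comm]; exact horth hu hv hri hrj x hx
    have o1y : polar ⇑Q e1 y = 0 := by rw [pl_comm]; exact horth hu hv hri hrj y hy
    have o2x : polar ⇑Q e2 x = 0 := by rw [pl_comm]; exact horth hu' hv' hri hrj x hx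
    have o2y : polar ⇑Q e2 y = 0 := by rw [pl_comm]; exact horth hu' hv' hri hrj y hy
    set E1 := eich Q e1 x
    set E2 := eich Q e2 y
    have h1 : E1 ∈ N := hP1 hu hv hQu hQv x hx
    have h2 : E2 ∈ N := hP1 hu' hv' hQu' hQv' y hy
    have g1 : ap E2 e1 = e1 := by
      rw [eich_ap he2 o2y, pl_comm Q e2 e1, hperp, pl_comm Q y e1, o1y, mul_zero, add_zero, zero_smul,
        zero_smul, add_zero, sub_zero]
    have g2 : ap E2 (-x) = -x + μ • e2 := by
      rw [eich_ap he2 o2y, pl_neg_right, pl_neg_right, o2x, hyx, neg_zero, mul_zero, add_zero, zero_smul,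
        add_zero, neg_smul, sub_neg_eq_add]
    have e : eich Q e1 (μ • e2) = E1 * (E2 * E1⁻¹ * E2⁻¹) := by
      rw [show E1⁻¹ = eich Q e1 (-x) from eich_inv _ _, conj_eich, g1, g2,
        eich_add he1 o1x (by rw [pl_add_right, pl_neg_right, o1x, pl_smul_right, hperp]; ring),
        add_neg_cancel_left]
    rw [e]
    exact mul_mem h1 (mul_mem (mul_mem h2 (inv_mem h1)) (inv_mem h2))
  -- all vectors orthogonal to a vector of the orbit
  have key : ∀ {u v : ι → F}, u ∈ D i → v ∈ D j → Q u = a → Q v = -a →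
      ∀ x, polar ⇑Q (u + v) x = 0 → eich Q (u + v) x ∈ N := by
    intro u v hu hv hQu hQv x hx
    have heu : Q (u + v) = 0 := hO hu hv hQu hQv
    have hu0 : u ≠ 0 := fun h => hQdi (by rw [h, QuadraticMap.map_zero] at hQu; exact hQu.symm)
    have hQv0 : Q v ≠ 0 := by rw [hQv]; exact neg_ne_zero.2 hQdi
    set G := eichSub N (u + v) heu
    -- a similitude of ratio `-1`
    obtain ⟨τ, hτ, -⟩ := exists_transport hD i j
    set w0 := ((τ.symm ⟨v, hv⟩ : D i) : ι → F) with hw0'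
    have hQw0 : Q w0 = -a := by rw [hw0', ← hτ, LinearEquiv.apply_symm_apply]; exact hQv
    obtain ⟨T, hTu, hT⟩ := (hpl i).exists_similitude hQ hu (by rw [hQu]; exact hQdi) (w := w0) (τ.symm ⟨v, hv⟩).2
    obtain ⟨u2, hu2, hQu2, huu2, hu2u⟩ := (hpl i).exists_partner (hP i) hu (by rw [hQu]; exact hQdi)
    set v2 := ((τ ⟨T u2, (hT u2 hu2).1⟩ : D j) : ι → F) with hv2'
    have hv2 : v2 ∈ D j := (τ _).2
    have hQT : ∀ y ∈ D i, Q (T y) = -1 * Q y := fun y hy => by
      rw [(hT y hy).2, hQw0, hQu, neg_div, div_self hQdi]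
    have hQv2 : Q v2 = -a := by rw [hv2', hτ, hQT u2 hu2, hQu2, hQu]; ring
    have hfv : polar ⇑Q v v2 = -polar ⇑Q u u2 := by
      have e0 : ((τ ⟨w0, (τ.symm ⟨v, hv⟩).2⟩ : D j) : ι → F) = v := by
        exact congrArg Subtype.val (τ.apply_symm_apply ⟨v, hv⟩)
      have e3 : ∀ y z : D i, polar ⇑Q ((τ y : D j) : ι → F) ((τ z : D j) : ι → F) = polar ⇑Q (y : ι → F) (z : ι → F) := by
        intro y z
        simp only [polar, ← Submodule.coe_add, ← map_add, hτ]
      conv_lhs => rw [← e0, hv2']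
      rw [e3]
      show polar ⇑Q w0 (T u2) = _
      rw [← hTu, similitude_polar hQT hu hu2]; ring
    obtain ⟨b, hb, hQb, hbv, hline, hline'⟩ := (hpl j).perp_line hQ hv hQv0
    have hbv2 : polar ⇑Q b v2 ≠ 0 := fun h => by
      obtain ⟨s, hs⟩ := Submodule.mem_span_singleton.1 (hline' v2 hv2 (by rw [pl_comm]; exact h))
      have h1 : τ ⟨T u2, (hT u2 hu2).1⟩ = s • ⟨v, hv⟩ := Subtype.ext (by rw [Submodule.coe_smul, hs, hv2'])
      have h2 := congrArg (fun y => ((τ.symm y : D i) : ι → F)) h1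
      simp only [LinearEquiv.symm_apply_apply] at h2
      rw [map_smul, Submodule.coe_smul, ← hw0'] at h2
      have h3 : T (u2 - s • u) = 0 := by rw [map_sub, map_smul, hTu, h2, sub_self]
      have h4 := (hT _ ((D i).sub_mem hu2 ((D i).smul_mem s hu))).2
      rw [h3, QuadraticMap.map_zero] at h4
      have h5 := han i _ ((D i).sub_mem hu2 ((D i).smul_mem s hu)) ((mul_eq_zero.1 h4.symm).resolve_left
        (div_ne_zero (by rw [hQw0]; exact neg_ne_zero.2 hQdi) (by rw [hQu]; exact hQdi)))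
      exact hu2u (Submodule.mem_span_singleton.2 ⟨s, (sub_eq_zero.1 h5).symm⟩)
    set v3 := ap (refl Q b) v2 with hv3'
    have hv3 : v3 ∈ D j := refl_ap_mem hb hv2
    have hQv3 : Q v3 = -a := by rw [hv3', Q_ap, hQv2]
    have hperp : ∀ {v' : ι → F}, v' ∈ D j → polar ⇑Q v v' = -polar ⇑Q u u2 → polar ⇑Q (u + v) (u2 + v') = 0 := by
      intro v' hv' h
      rw [pl_add_left, pl_add_right, pl_add_right, member_orth hD hij hu hv', member_orth hD hij.symm hv hu2, h]
      ring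
    have hfv3 : polar ⇑Q v v3 = -polar ⇑Q u u2 := by
      rw [hv3', refl_ap, pl_sub_right, pl_smul_right, pl_comm Q v b, hbv, mul_zero, sub_zero, hfv]
    have hu2' : Q u2 = a := hQu2.trans hQu
    have G2 : ∀ μ : F, μ • (u2 + v2) ∈ G := fun μ => mem_eichSub.2
      ⟨by rw [pl_smul_right, hperp hv2 hfv, mul_zero], hcomm hu hv hQu hQv hu2 hv2 hu2' hQv2 (hperp hv2 hfv) μ⟩
    have G3 : ∀ μ : F, μ • (u2 + v3) ∈ G := fun μ => mem_eichSub.2
      ⟨by rw [pl_smul_right, hperp hv3 hfv3, mul_zero], hcomm hu hv hQu hQv hu2 hv3 hu2' hQv3 (hperp hv3 hfv3) μ⟩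
    have Gb : ∀ μ : F, μ • b ∈ G := by
      intro μ
      set γ := (Q b)⁻¹ * polar ⇑Q b v2 with hγ
      have hγ0 : γ ≠ 0 := mul_ne_zero (inv_ne_zero hQb) hbv2
      have e : μ • b = (μ / γ) • (u2 + v2) - (μ / γ) • (u2 + v3) := by
        rw [hv3', refl_ap, ← hγ]; match_scalars <;> field_simp <;> ring
      rw [e]; exact G.sub_mem (G2 _) (G3 _)
    have Ge : ∀ μ : F, μ • (u + v) ∈ G := fun μ => mem_eichSub.2
      ⟨by rw [pl_smul_right, pl_self, heu]; ring, by
        have := eich_add_smul_self (w := (0 : ι → F)) heu (pl_zero_right Q _) μ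
        rw [zero_add, eich_zero] at this
        rw [this]; exact one_mem _⟩
    suffices h : ∑ l, cmp hQ hD l x ∈ G by rw [sum_cmp hQ hD x] at h; exact h.2
    have hfin : cmp hQ hD i x + cmp hQ hD j x ∈ G := by
      obtain ⟨α, β, hαβ⟩ := (hpl i).coords hu hu0 hu2 hu2u (cmp_mem hQ hD i x)
      set x' := cmp hQ hD j x - α • v - β • v2 with hx''
      have hx'D : x' ∈ D j := (D j).sub_mem ((D j).sub_mem (cmp_mem hQ hD j x) ((D j).smul_mem _ hv)) ((D j).smul_mem _ hv2)
      have hvx : polar ⇑Q x' v = 0 := by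
        rw [hx'', pl_sub_left, pl_sub_left, polar_cmp hQ hD hv, pl_smul_left, pl_smul_left, pl_comm Q v2 v,
          hfv, pl_self, hQv]
        have e := polar_cmp hQ hD hu x
        rw [hαβ, pl_add_left, pl_smul_left, pl_smul_left, pl_self, hQu, pl_comm Q u2 u] at e
        rw [pl_add_left, pl_comm Q u x, pl_comm Q v x] at hx
        linear_combination hx + e
      obtain ⟨δ, hδ⟩ := Submodule.mem_span_singleton.1 (hline x' hx'D hvx)
      have e : cmp hQ hD i x + cmp hQ hD j x = α • (u + v) + β • (u2 + v2) + δ • b := by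
        rw [hδ, hx'', hαβ]; module
      rw [e]; exact G.add_mem (G.add_mem (Ge α) (G2 β)) (Gb δ)
    rw [← Finset.sum_sdiff (Finset.subset_univ ({i, j} : Finset (Fin t))), Finset.sum_pair hij]
    refine G.add_mem (G.sum_mem fun l hl => ?_) hfin
    simp only [Finset.mem_sdiff, Finset.mem_univ, true_and, Finset.mem_insert, Finset.mem_singleton,
      not_or] at hl
    exact mem_eichSub.2 ⟨by rw [pl_comm]; exact horth hu hv hl.1 hl.2 _ (cmp_mem hQ hD l x),
      hP2 hu hv hQu hQv l hl.1 hl.2 _ (cmp_mem hQ hD l x)⟩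
  -- a hyperbolic pair
  obtain ⟨u2, hu2, hQu2, -, hu2u⟩ := (hpl i).exists_partner (hP i) hdi hQdi
  have hne : u2 ≠ di := fun h => hu2u (h ▸ Submodule.mem_span_singleton_self _)
  set φ := polar ⇑Q (di + dj) (u2 + dj) with hφ'
  have hφ : φ ≠ 0 := by
    have h := (hpl i).sub_aniso hdi hu2 hQdi hQu2 hne
    rw [Q_sub, hQu2] at h
    rw [hφ', pl_add_left, pl_add_right, pl_add_right, member_orth hD hij hdi hdj,
      member_orth hD hij.symm hdj hu2, pl_self, hQdj]
    intro h'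
    exact h (by rw [← ha]; linear_combination -h')
  set f := φ⁻¹ • (u2 + dj) with hf
  have hQ2 : Q (u2 + dj) = 0 := hO hu2 hdj hQu2 hQdj
  have hpair : HPair Q (di + dj) f := ⟨he, by rw [hf, Q_smul, hQ2, mul_zero],
    by rw [hf, pl_smul_right, ← hφ', inv_mul_cancel₀ hφ]⟩
  have hn : 5 ≤ Fintype.card ι := by rw [card_eq_mul hQ hD]; omega
  rw [omega_eq_eichPair hG (by omega) (.inr hn) hpair, eichPair, Subgroup.closure_le]
  rintro _ ⟨x, hx, rfl | rfl⟩
  · exact key hdi hdj rfl hQdj x (mem_perp.1 hx).1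
  · rw [hf, eich_smul_left]
    refine key hu2 hdj hQu2 hQdj _ ?_
    have h := (mem_perp.1 hx).2
    rw [hf, pl_smul_left] at h
    rw [pl_smul_right]
    exact h

end Cfsg.Agent.Orth
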