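import Cfsg.Agent.Lib.Orth.Spinor

/-!
# Isomorphisms `G / Z(G) ≅ PΩ(Q)` from a homomorphism and an order count

* `units_hom_eq_one_of_perfect` : homomorphisms from perfect groups to `ℤˣ` are trivial
* `quotient_center_equiv` : a surjection with central kernel of order at most two induces `G/Z(G) ≅ H/Z(H)`
* `range_le_omega` : a group without non-trivial `ℤˣ`-character maps into `Ω`
* `pomega_equiv_of_card` : `PΩ(Q) ≅ G/Z(G)` from `φ : G →* O(Q)` and `|G| [O:Ω] = |ker φ| |O|`
-/

set_option autoImplicit false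
set_option linter.unusedSectionVars false

namespace Cfsg.Agent.Orth

open Cfsg
open scoped commutatorElement

theorem units_hom_eq_one_of_perfect {G : Type*} [Group G] (h : commutator G = ⊤) (χ : G →* ℤˣ) :
    χ = 1 := by
  ext g : 1
  have hle : commutator G ≤ χ.ker := Abelianization.commutator_subset_ker χ
  exact hle (h ▸ Subgroup.mem_top g)

theorem units_hom_eq_one_of_closure {G : Type*} [Group G] (S : Set G)
    (hS : Subgroup.closure S = ⊤) (h : ∀ s ∈ S, ∃ t, t * t = s) (χ : G →* ℤˣ) : χ = 1 := by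
  refine MonoidHom.eq_of_eqOn_top (fun g _ => ?_)
  have hle : Subgroup.closure S ≤ χ.ker := (Subgroup.closure_le _).2 fun s hs => by
    obtain ⟨t, rfl⟩ := h s hs
    rw [SetLike.mem_coe, MonoidHom.mem_ker, map_mul, Int.units_mul_self]
  exact hle (hS ▸ Subgroup.mem_top g)

theorem mul_eq_one_of_card_le_two {K : Type*} [Group K] [Finite K] (hk : Nat.card K ≤ 2) {a b : K}
    (ha : a ≠ 1) (hb : b ≠ 1) : a * b = 1 := by
  classical
  have := Fintype.ofFinite K
  rw [Nat.card_eq_fintype_card] at hk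
  have hab : ∀ x y : K, x ≠ 1 → y ≠ 1 → x = y := fun x y hx hy => by
    by_contra hxy
    have h3 : ({1, x, y} : Finset K).card = 3 := by simp [Ne.symm hx, Ne.symm hy, hxy]
    have := Finset.card_le_univ ({1, x, y} : Finset K)
    omega
  rw [hab a b ha hb]
  by_contra hne
  exact hb (mul_eq_left.1 (hab _ b hne hb))

variable {G H : Type*} [Group G] [Group H]

theorem mem_center_iff_map_mem (φ : G →* H) (hχ : ∀ χ : G →* ℤˣ, χ = 1)
    (hker : φ.ker ≤ Subgroup.center G) [Finite φ.ker] (hk : Nat.card φ.ker ≤ 2)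
    (hsurj : Function.Surjective φ) (g : G) :
    φ g ∈ Subgroup.center H ↔ g ∈ Subgroup.center G := by
  classical
  constructor
  · intro hg
    have hmem : ∀ h, ⁅g, h⁆ ∈ φ.ker := fun h => by
      rw [MonoidHom.mem_ker, map_commutatorElement, commutatorElement_eq_one_iff_mul_comm]
      exact (Subgroup.mem_center_iff.1 hg (φ h)).symm
    let c : G → φ.ker := fun h => ⟨⁅g, h⁆, hmem h⟩
    have hc : ∀ a b, c (a * b) = c a * c b := fun a b => by
      refine Subtype.ext ?_
      show ⁅g, a * b⁆ = ⁅g, a⁆ * ⁅g, b⁆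
      rw [show ⁅g, a * b⁆ = ⁅g, a⁆ * (a * ⁅g, b⁆ * a⁻¹) by simp [commutatorElement_def, mul_assoc],
        Subgroup.mem_center_iff.1 (hker (hmem b)) a, mul_inv_cancel_right]
    let χ : G →* ℤˣ := MonoidHom.mk' (fun h => if c h = 1 then 1 else -1) (fun a b => by
      simp only [hc]
      by_cases ha : c a = 1
      · simp [ha]
      · by_cases hb : c b = 1
        · simp [ha, hb]
        · simp [ha, hb, mul_eq_one_of_card_le_two hk ha hb])
    refine Subgroup.mem_center_iff.2 fun h => ?_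
    have h1 : χ h = 1 := by rw [hχ χ]; rfl
    have h2 : c h = 1 := by
      by_contra h2
      simp [χ, h2] at h1
    exact (commutatorElement_eq_one_iff_mul_comm.1 (congrArg Subtype.val h2)).symm
  · intro hg
    refine Subgroup.mem_center_iff.2 fun y => ?_
    obtain ⟨x, rfl⟩ := hsurj y
    rw [← map_mul, ← map_mul, Subgroup.mem_center_iff.1 hg x]

theorem quotient_center_equiv (φ : G →* H) (hχ : ∀ χ : G →* ℤˣ, χ = 1)
    (hker : φ.ker ≤ Subgroup.center G) [Finite φ.ker] (hk : Nat.card φ.ker ≤ 2)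
    (hsurj : Function.Surjective φ) :
    Nonempty (G ⧸ Subgroup.center G ≃* H ⧸ Subgroup.center H) := by
  let ψ := (QuotientGroup.mk' (Subgroup.center H)).comp φ
  have hψ : ψ.ker = Subgroup.center G := by
    ext g
    rw [MonoidHom.mem_ker, MonoidHom.comp_apply, QuotientGroup.mk'_apply, QuotientGroup.eq_one_iff,
      mem_center_iff_map_mem φ hχ hker hk hsurj g]
  exact ⟨(QuotientGroup.quotientMulEquivOfEq hψ.symm).trans
    (QuotientGroup.quotientKerEquivOfSurjective ψ
      ((QuotientGroup.mk'_surjective _).comp hsurj))⟩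

variable {ι : Type} [Fintype ι] [DecidableEq ι] {F : Type*} [Field F] [Fintype F]
variable {Q : QuadraticForm F (ι → F)}

theorem range_le_omega (hG : Good Q) (φ : G →* IsoGrp Q) (hχ : ∀ χ : G →* ℤˣ, χ = 1) :
    φ.range ≤ Omega F ⇑Q := by
  rintro _ ⟨g, rfl⟩
  rw [omega_eq_ker hG, MonoidHom.mem_ker]
  have h1 := congrArg (fun χ => χ g) (hχ ((MonoidHom.fst ℤˣ ℤˣ).comp ((signHom hG).comp φ)))
  have h2 := congrArg (fun χ => χ g) (hχ ((MonoidHom.snd ℤˣ ℤˣ).comp ((signHom hG).comp φ)))
  exact Prod.ext h1 h2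

theorem range_le_omega_of_perfect {Q : (ι → F) → F} (φ : G →* ↥(isometryGroup F Q))
    (h : commutator G = ⊤) : φ.range ≤ Omega F Q := by
  rintro _ ⟨g, rfl⟩
  have : φ g ∈ (commutator G).map φ := ⟨g, h ▸ Subgroup.mem_top g, rfl⟩
  rw [map_commutator_eq] at this
  exact Subgroup.commutator_mono le_top le_top this

/-- `PΩ(Q) ≅ G / Z(G)` from a homomorphism with small central kernel and an order count. -/
theorem pomega_equiv_of_card [Finite G] {Q : (ι → F) → F} (φ : G →* ↥(isometryGroup F Q))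
    (hle : φ.range ≤ Omega F Q) (hχ : ∀ χ : G →* ℤˣ, χ = 1) (hker : φ.ker ≤ Subgroup.center G)
    (hk : Nat.card φ.ker ≤ 2)
    (hcard : Nat.card G * (Omega F Q).index = Nat.card φ.ker * Nat.card ↥(isometryGroup F Q)) :
    Nonempty (POmega F Q ≃* G ⧸ Subgroup.center G) := by
  have : Finite ↥(isometryGroup F Q) := by
    refine Finite.of_injective (fun g => ((g : GL ι F) : Matrix ι ι F)) fun g h hgh => ?_
    exact Subtype.ext (Units.ext hgh)
  have h1 : Nat.card φ.ker * Nat.card φ.range = Nat.card G := by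
    rw [← Subgroup.index_ker, Subgroup.card_mul_index]
  have heq : φ.range = Omega F Q := by
    refine Subgroup.eq_of_le_of_card_ge hle (le_of_eq ?_)
    have h2 := (Omega F Q).card_mul_index
    rw [← h1, mul_assoc, ← h2] at hcard
    exact (Nat.eq_of_mul_eq_mul_right (Nat.pos_of_ne_zero Subgroup.index_ne_zero_of_finite)
      (Nat.eq_of_mul_eq_mul_left Nat.card_pos hcard)).symm
  let φ' : G →* ↥(Omega F Q) := φ.codRestrict _ fun g => hle ⟨g, rfl⟩
  have hk' : φ'.ker = φ.ker := MonoidHom.ker_codRestrict φ _ _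
  have hs : Function.Surjective φ' := fun y => by
    obtain ⟨g, hg⟩ : (y : ↥(isometryGroup F Q)) ∈ φ.range := by rw [heq]; exact y.2
    exact ⟨g, Subtype.ext hg⟩
  obtain ⟨e⟩ := quotient_center_equiv φ' hχ (hk' ▸ hker) (hk' ▸ hk) hs
  exact ⟨e.symm⟩

end Cfsg.Agent.Orth
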