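import Cfsg.Agent.Lib.Orth.Halves
import Cfsg.Agent.Lib.Orth.DecompMain
import Cfsg.Agent.Lib.Orth.Parabolic
import Cfsg.Agent.Lib.Orth.Nonsingular
import Cfsg.Agent.Lib.Orth.Frame.Main
import Cfsg.Agent.Lib.Orth.Models
import Cfsg.Agent.Lib.FieldExtMax.OrMatrix
import Cfsg.Agent.Lib.C5.OrthMax

/-!
# Geometric maximal subgroups in low even dimension

Wrappers in the form used by the lists of geometric types.
* `singular_row`, `nondeg_row`, `nonsingular_row`, `halves_row`, `field_two_row`
* `plus_top_of_members` : an orthogonal sum of plus-type members has plus type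
-/

set_option autoImplicit false

namespace Cfsg.Agent.Orth

open Cfsg Matrix Module
open QuadraticMap (polar)

variable {F : Type*} [Field F] [Fintype F] {n : ℕ} {Q : (Fin n → F) → F}

theorem plus_top_of_members (hQ : Geo.IsNondegenerateQuadraticForm Q) {t k : ℕ}
    {D : Fin t → Submodule F (Fin n → F)} (hD : Geo.IsOrthogonalMDecomposition Q k D)
    (hp : ∀ i, Geo.IsPlusTypeOn Q (D i)) : Geo.IsPlusTypeOn Q ⊤ := by
  classical
  choose U hUD hU hUd using hp
  have hD' : Geo.IsOrthogonalMDecomposition ⇑(ofND hQ) k D := hD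
  have hnd := ofND_nondeg hQ
  have hs : ∀ s : Finset (Fin t), ∀ u ∈ s.sup U, ofND hQ u = 0 := by
    intro s
    induction s using Finset.induction_on with
    | empty => intro u hu; simp at hu; simp [hu]
    | insert a s ha ih =>
      intro u hu
      rw [Finset.sup_insert] at hu
      obtain ⟨x, hx, y, hy, rfl⟩ := Submodule.mem_sup.1 hu
      have hle : s.sup U ≤ perpSub (ofND hQ) (D a) := Finset.sup_le fun j hj y hy =>
        mem_perpSub.2 fun z hz => member_orth hD' (fun e : a = j => ha (e ▸ hj)) hz (hUD j hy)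
      rw [Q_add, ih y hy, mem_perpSub.1 (hle hy) x (hUD a hx)]
      simp only [add_zero, coe_ofND]
      exact hU a x hx
  have hd : ∀ s : Finset (Fin t), s.card * k ≤ 2 * finrank F (s.sup U : Submodule F (Fin n → F)) := by
    intro s
    induction s using Finset.induction_on with
    | empty => simp
    | insert a s ha ih =>
      have hdis : U a ⊓ s.sup U = ⊥ := by
        rw [eq_bot_iff]
        rintro x ⟨h1, h2⟩
        have hle : s.sup U ≤ perpSub (ofND hQ) (D a) := Finset.sup_le fun j hj y hy =>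
          mem_perpSub.2 fun z hz => member_orth hD' (fun e : a = j => ha (e ▸ hj)) hz (hUD j hy)
        exact disjoint_perpSub (member_nondeg hD' a) (hUD a h1) (hle h2)
      have := Submodule.finrank_sup_add_finrank_inf_eq (U a) (s.sup U)
      rw [hdis, finrank_bot] at this
      have h2 := hUd a
      rw [hD.decomp.decomp.finrank_eq] at h2
      rw [Finset.sup_insert, Finset.card_insert_of_notMem ha, add_mul, one_mul]
      omega
  refine ⟨Finset.univ.sup U, le_top, fun u hu => hs _ u hu, le_antisymm ?_ ?_⟩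
  · rw [finrank_top, finrank_space]
    exact two_mul_finrank_le_of_isotropic hnd _ fun a ha b hb =>
      OrthAct.polar_eq_zero_of_singular (hs _) ha hb
  · have h1 := hd Finset.univ
    rw [Finset.card_univ, Fintype.card_fin, ← card_eq_mul hnd hD'] at h1
    rwa [finrank_top, finrank_space]

theorem singular_row (hQ : Geo.IsNondegenerateQuadraticForm Q) (hn : 5 ≤ n) (heven : Even n)
    {W : Submodule F (Fin n → F)} (hW0 : W ≠ ⊥) (hW : Geo.IsTotallySingularQuad Q W)
    (hdim : 2 * (finrank F W + 1) ≠ n ∨ ¬ Geo.IsPlusTypeOn Q ⊤) :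
    Geo.IsMaximalIn (Geo.omegaGL Q) (Geo.subspaceStabilizer W ⊓ Geo.omegaGL Q) := by
  refine singular_stabilizer_maximal (Q := ofND hQ) (good_ofND hQ (by simp; omega))
    (by simp; omega) hW0 hW ?_
  by_cases hk : 2 * finrank F W + 3 ≤ n
  · exact .inl (by simpa using hk)
  · refine .inr fun U hU => ?_
    have h := two_mul_finrank_le_of_isotropic (ofND_nondeg hQ) U fun a ha b hb =>
      OrthAct.polar_eq_zero_of_singular hU ha hb
    simp at h
    obtain ⟨r, rfl⟩ := heven
    by_contra hlt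
    rcases hdim with hd | hd
    · omega
    · exact hd ⟨U, le_top, hU, by rw [finrank_top, Module.finrank_fin_fun]; omega⟩

theorem nondeg_row (hQ : Geo.IsNondegenerateQuadraticForm Q) (hn : 9 ≤ n)
    {W : Submodule F (Fin n → F)} (hW : Geo.IsNondegenerateOn (polar Q) W) (hW0 : W ≠ ⊥) (hW1 : W ≠ ⊤)
    (hdim : 2 * finrank F W ≠ n) (hco : finrank F W + 2 ≠ n)
    (hex : finrank F W = 2 → 4 ≤ Fintype.card F ∨ ¬ Geo.IsPlusTypeOn Q W) :
    Geo.IsMaximalIn (Geo.omegaGL Q) (Geo.subspaceStabilizer W ⊓ Geo.omegaGL Q) := by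
  classical
  have hnd := ofND_nondeg hQ
  have hW' := nondegOn_of_geo (Q := ofND hQ) hW
  have hd := finrank_perpSub hnd W
  have hle := Submodule.finrank_le W
  simp at hd hle
  exact nondeg_stabilizer_maximal (Q := ofND hQ) (good_ofND hQ (by simp; omega)) hW' (by simp; omega)
    hW0 hW1 (fun ⟨h1, h2, h3⟩ => (hex h2).elim (fun h => by omega) (fun h => h h3))
    (fun ⟨_, h2, _⟩ => by omega) (fun heq => by omega)

theorem nonsingular_row (hQ : Geo.IsNondegenerateQuadraticForm Q) (hn : 8 ≤ n)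
    (hchar : ¬ Odd (Fintype.card F)) {v : Fin n → F} (hv : Q v ≠ 0) :
    Geo.IsMaximalIn (Geo.omegaGL Q) (Geo.subspaceStabilizer (Submodule.span F {v}) ⊓ Geo.omegaGL Q) := by
  classical
  have h2 : (2 : F) = 0 := by
    have hc : ringChar F = 2 :=
      (FiniteField.even_card_iff_char_two).2 (Nat.even_iff.1 (Nat.not_odd_iff_even.1 hchar))
    have := CharP.cast_eq_zero F (ringChar F)
    rw [hc] at this
    exact_mod_cast this
  obtain ⟨c, hc⟩ := FiniteField.isSquare_of_char_two
    (CharP.ringChar_of_prime_eq_zero Nat.prime_two (by exact_mod_cast h2)) (Q v)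
  have hc0 : c ≠ 0 := fun h => hv (by rw [hc, h, mul_zero])
  have hline : Submodule.span F {v} = Submodule.span F {c⁻¹ • v} :=
    (Submodule.span_singleton_smul_eq (IsUnit.mk0 _ (inv_ne_zero hc0)) v).symm
  rw [hline]
  refine nonsingular_stabilizer_maximal (Q := ofND hQ)
    (good_ofND hQ (by simp; omega)) (by simp; omega) h2 ?_
  rw [coe_ofND, hQ.smul, hc]
  field_simp

theorem halves_row (hQ : Geo.IsNondegenerateQuadraticForm Q) (hn : 9 ≤ n) {k : ℕ} (hk : 2 * k = n)
    {D : Fin 2 → Submodule F (Fin n → F)} (hD : Geo.IsNondegenerateMDecomposition (polar Q) k D)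
    (hni : ¬ Geo.AreIsometricFor Q (D 0) (D 1)) :
    Geo.IsMaximalIn (Geo.omegaGL Q) (Geo.decompositionStabilizer D ⊓ Geo.omegaGL Q) := by
  classical
  have hnd := ofND_nondeg hQ
  set R := ofND hQ with hR
  have hW' := nondegOn_of_geo (Q := R) (hD.nondegenerate 0)
  have h0 := hD.decomp.finrank_eq 0
  have h1 := hD.decomp.finrank_eq 1
  have hd := finrank_perpSub hnd (D 0)
  simp at hd
  have hperp : D 1 = perpSub R (D 0) := by
    refine Submodule.eq_of_le_of_finrank_eq (fun v hv => mem_perpSub.2 fun w hw =>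
      hD.orthogonal 0 1 (by decide) w hw v hv) ?_
    omega
  have hno : ∀ g : IsoGrp R,
      ¬ ∀ w ∈ D 0, ap g w ∈ D 1 := fun g hg =>
    hni (areIsometric_of_maps hg (h0.trans h1.symm))
  have hne : D 0 ≠ ⊥ := fun h => by rw [h, finrank_bot] at h0; omega
  have htop : D 0 ≠ ⊤ := fun h => by rw [h, finrank_top, Module.finrank_fin_fun] at h0; omega
  have hmax := nondeg_stabilizer_maximal (Q := R)
    (good_ofND hQ (by simp; omega)) hW' (by simp; omega) hne htop
    (fun h => by omega) (fun h => by omega) (fun _ g hg => hno g (fun w hw => hperp ▸ hg w hw))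
  have heq : Cfsg.Geo.decompositionStabilizer D ⊓ Cfsg.Geo.omegaGL Q =
      Cfsg.Geo.subspaceStabilizer (D 0) ⊓ Cfsg.Geo.omegaGL Q := by
    refine le_antisymm ?_ ?_
    · intro g hg
      obtain ⟨h, -, rfl⟩ := (mem_omegaGL_iff (Q := R)).1 hg.2
      obtain ⟨σ, hσ⟩ := hg.1
      have hmem : ∀ w ∈ D 0, ap h w ∈ D (σ 0) := fun w hw => by
        rw [← hσ 0]
        exact ⟨w, hw, by simp [ap_apply]⟩
      have hσ0 : σ 0 = 0 := by
        by_contra hne'
        rw [show σ 0 = 1 by omega] at hmem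
        exact hno h hmem
      rw [hσ0] at hmem
      exact ⟨coe_mem_stabilizer.2 hmem, hg.2⟩
    · intro g hg
      obtain ⟨h, -, rfl⟩ := (mem_omegaGL_iff (Q := R)).1 hg.2
      have h0' := coe_mem_stabilizer.1 hg.1
      have h1' := perp_map_of_map h0'
      rw [← hperp] at h1'
      refine ⟨⟨1, fun i => ?_⟩, hg.2⟩
      have hall : ∀ i, ∀ w ∈ D i, ap h w ∈ D i := fun i => by
        fin_cases i
        · exact h0'
        · exact h1'
      show (D i).map _ = D i
      refine Eq.trans ?_ (OrthAct.map_ap_eq_of_mapsTo (hall i))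
      ext x; simp [Submodule.mem_map, ap_apply]
  rw [heq]
  exact hmax

theorem half_row_minus (hQ : Geo.IsNondegenerateQuadraticForm Q) (hn : 9 ≤ n)
    (hminus : ¬ Geo.IsPlusTypeOn Q ⊤) {W : Submodule F (Fin n → F)}
    (hW : Geo.IsNondegenerateOn (polar Q) W) (hdim : 2 * finrank F W = n) (hev : Even (finrank F W)) :
    Geo.IsMaximalIn (Geo.omegaGL Q) (Geo.subspaceStabilizer W ⊓ Geo.omegaGL Q) := by
  classical
  have hnd := ofND_nondeg hQ
  have hW' := nondegOn_of_geo (Q := ofND hQ) hW
  have hd := finrank_perpSub hnd W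
  have hle := Submodule.finrank_le W
  simp at hd hle
  obtain ⟨r, hr⟩ := hev
  exact nondeg_stabilizer_maximal (Q := ofND hQ) (good_ofND hQ (by simp; omega)) hW' (by simp; omega)
    (fun h => by rw [h, finrank_bot] at hdim; omega)
    (fun h => by rw [h, finrank_top, Module.finrank_fin_fun] at hdim; omega)
    (fun ⟨_, h2, _⟩ => by omega) (fun ⟨_, h2, _⟩ => by omega)
    (fun _ g hg => hminus (isPlusType_of_maps (Q := ofND hQ) hW' hg (r := r) (by omega)
      (by simp; omega)))

theorem field_row (hQ : Geo.IsNondegenerateQuadraticForm Q) {r : ℕ} (hr : r.Prime) (h3r : 3 * r < n)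
    (h10 : 10 ≤ n) (hodd : Odd (Fintype.card F)) {K : Subalgebra F (Matrix (Fin n) (Fin n) F)}
    (hK : Geo.IsFieldSubalgebra r K) (hsa : Geo.IsSelfAdjointFor (polar Q) K) :
    Geo.IsMaximalIn (Geo.omegaGL Q) (Geo.subalgebraNormalizer K ⊓ Geo.omegaGL Q) := by
  classical
  obtain ⟨hM, g₀, hg₀, hg₀N⟩ := FieldExtMax.or_cases (Q := ofND hQ) hr
    (good_ofND hQ (by simp; omega)) (two_ne_zero_of_odd_card hodd) (by simp; omega)
    (by simp; omega) (fun _ => by simp; omega) hK (by rwa [coe_ofND])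
  rw [coe_ofND] at hM hg₀
  refine ⟨lt_of_le_of_ne inf_le_right fun h => hg₀N ((inf_eq_right.1 h) hg₀), fun M hM₁ hM₂ => ?_⟩
  rcases hM M hM₁ hM₂ with h | h
  · exact Or.inl (le_antisymm (le_inf h hM₂) hM₁)
  · exact Or.inr (le_antisymm hM₂ h)

end Cfsg.Agent.Orth
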