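import Cfsg.Agent.Lib.Orth.NondegTools

/-!
# Stabilisers of non-degenerate subspaces are maximal in `Ω`

* `omega_le_of_moved` : a subgroup containing the stabiliser of a big non-degenerate `W` and moving it is `Ω`
* `nondeg_stabilizer_maximal` : the statement for the geometric stabiliser
-/

set_option autoImplicit false

namespace Cfsg.Agent.Orth

open Cfsg Matrix Module
open QuadraticMap (polar)

variable {ι : Type} [Fintype ι] [DecidableEq ι] {F : Type*} [Field F] [Fintype F]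
variable {Q : QuadraticForm F (ι → F)}

omit [Fintype F] in
theorem eich_eq_refl_pair {u w : ι → F} (hu : Q u = 0) (huw : polar ⇑Q u w = 0) (hw : Q w ≠ 0) :
    eich Q u w = refl Q w * refl Q (w + Q w • u) := by
  refine ext_ap fun x => ?_
  have hwu : polar ⇑Q w u = 0 := by rw [pl_comm]; exact huw
  have hQy : Q (w + Q w • u) = Q w := by rw [Q_add, Q_smul, pl_smul_right, hu, hwu]; ring
  rw [eich_ap hu huw, ap_mul, refl_ap, refl_ap, hQy]
  simp only [pl_sub_right, pl_add_left, pl_add_right, pl_smul_left, pl_smul_right, hwu, pl_self,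
    mul_zero, add_zero]
  match_scalars <;> field_simp <;> ring

theorem omega_le_of_moved (hG : Good Q) {W : Submodule F (ι → F)}
    (hW : ∀ x ∈ W, x ≠ 0 → ∃ y ∈ W, polar ⇑Q x y ≠ 0) (hB : IsBig Q W) (hn6 : 6 ≤ Fintype.card ι)
    (hex : ¬ (Fintype.card F ≤ 3 ∧ finrank F (perpSub Q W) = 2 ∧ Geo.IsPlusTypeOn ⇑Q (perpSub Q W)))
    (hni : ∀ g : IsoGrp Q, ¬ ∀ w ∈ W, ap g w ∈ perpSub Q W)
    {N : Subgroup (IsoGrp Q)} (hN : ∀ g, g ∈ Omega F ⇑Q → (∀ w ∈ W, ap g w ∈ W) → g ∈ N)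
    {g : IsoGrp Q} (hg : g ∈ N) {w0 : ι → F} (hw0 : w0 ∈ W) (hgw0 : ap g w0 ∉ W) :
    Omega F ⇑Q ≤ N := by
  classical
  have hQ := hG.nd
  have hd := hB.1
  set X := perpSub Q W with hXdef
  have hX : ∀ x ∈ X, x ≠ 0 → ∃ y ∈ X, polar ⇑Q x y ≠ 0 := perpSub_nondeg hQ hW
  have hXW : ∀ a ∈ W, ∀ x ∈ X, polar ⇑Q a x = 0 := fun a ha x hx => mem_perpSub.1 hx a ha
  have hWN : ∀ a ∈ W, ∀ b ∈ W, Q a ≠ 0 → Q b = Q a → refl Q a * refl Q b ∈ N :=
    fun a ha b hb hQa hab => hN _ (refl_pair_mem_omega hG hQa hab) fun w hw => by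
      rw [ap_mul]; exact refl_ap_mem ha (refl_ap_mem hb hw)
  -- the class of the vectors of norm `c` of `W`
  set S : F → Set (ι → F) := fun c => {x | Q x = c ∧ ∀ a ∈ W, Q a = c → refl Q x * refl Q a ∈ N} with hSdef
  have hWS : ∀ c, c ≠ 0 → ∀ a ∈ W, Q a = c → a ∈ S c := fun c hc a ha hQa =>
    ⟨hQa, fun b hb hQb => hWN a ha b hb (hQa ▸ hc) (hQb.trans hQa.symm)⟩
  have hex0 : ∀ c : F, ∃ a ∈ W, a ≠ 0 ∧ Q a = c := fun c => exists_ne_zero_Q_eq hW (by omega) c
  have hpair : ∀ c, ∀ x ∈ S c, ∀ y ∈ S c, refl Q x * refl Q y ∈ N := by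
    intro c x hx y hy
    obtain ⟨a, ha, -, hQa⟩ := hex0 c
    have := mul_mem (hx.2 a ha hQa) (inv_mem (hy.2 a ha hQa))
    rwa [_root_.mul_inv_rev, refl_inv, refl_inv, mul_assoc, ← mul_assoc (refl Q a), refl_mul_self,
      one_mul] at this
  have hmem : ∀ c, ∀ x, Q x = c → ∀ y ∈ S c, refl Q x * refl Q y ∈ N → x ∈ S c := by
    intro c x hQx y hy hxy
    refine ⟨hQx, fun a ha hQa => ?_⟩
    have := mul_mem hxy (hy.2 a ha hQa)
    rwa [mul_assoc, ← mul_assoc (refl Q y), refl_mul_self, one_mul] at this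
  have hrefl : ∀ c, ∀ x ∈ S c, ∀ y ∈ S c, ap (refl Q y) x ∈ S c := by
    intro c x hx y hy
    refine hmem c _ (by rw [Q_ap, hx.1]) y hy ?_
    rw [← conj_refl, refl_inv, mul_assoc _ _ (refl Q y), refl_mul_self, mul_one]
    exact hpair c y hy x hx
  have hmove : ∀ c, ∀ k ∈ N, ∀ p ∈ S c, ap k p ∈ S c → ∀ x ∈ S c, ap k x ∈ S c := by
    intro c k hk p hp hkp x hx
    refine hmem c _ (by rw [Q_ap, hx.1]) _ hkp ?_
    rw [← conj_refl, ← conj_refl, show k * refl Q x * k⁻¹ * (k * refl Q p * k⁻¹) =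
      k * (refl Q x * refl Q p) * k⁻¹ by group]
    exact mul_mem (mul_mem hk (hpair c x hx p hp)) (inv_mem hk)
  have hH : ∀ c, c ≠ 0 → ∀ h : IsoGrp Q, h ∈ Omega F ⇑Q → (∀ w ∈ W, ap h w ∈ W) →
      ∀ x ∈ S c, ap h x ∈ S c := by
    intro c hc h hh hhW x hx
    obtain ⟨a, ha, -, hQa⟩ := hex0 c
    exact hmove c h (hN h hh hhW) a (hWS c hc a ha hQa)
      (hWS c hc _ (hhW a ha) (by rw [Q_ap, hQa])) x hx
  -- some class has a member outside `W ∪ X`
  obtain ⟨c, hc, x, hxS, hxW, hxX⟩ : ∃ c : F, c ≠ 0 ∧ ∃ x ∈ S c, x ∉ W ∧ x ∉ X := by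
    by_contra! hcon
    -- an element of `N` mapping a non-singular vector of `W` into `W` stabilises `W`
    have hkey : ∀ k ∈ N, ∀ p ∈ W, Q p ≠ 0 → ap k p ∈ W → ∀ w ∈ W, ap k w ∈ W := by
      intro k hk p hp hQp hkp
      have hkS := hmove (Q p) k hk p (hWS _ hQp p hp rfl) (hWS _ hQp _ hkp (Q_ap k p))
      intro w hw
      by_contra hwk
      obtain ⟨q, hq, hQq, hqA, hqB⟩ := exists_norm_avoid_small hQ hW hB (A := W.comap (ap k))
        (B := X.comap (ap k)) (fun h => hwk (h hw)) (fun h => hni k fun v hv => h hv) hQp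
      exact hqB (hcon _ hQp _ (hkS q (hWS _ hQp q hq hQq)) hqA)
    have hpairN : ∀ g' ∈ N, ∀ a ∈ W, ∀ b ∈ W, Q a ≠ 0 → Q b = Q a →
        refl Q (ap g' a) * refl Q (ap g' b) ∈ N := by
      intro g' hg' a ha b hb hQa hab
      rw [← conj_refl, ← conj_refl, show g' * refl Q a * g'⁻¹ * (g' * refl Q b * g'⁻¹) =
        g' * (refl Q a * refl Q b) * g'⁻¹ by group]
      exact mul_mem (mul_mem hg' (hWN a ha b hb hQa hab)) (inv_mem hg')
    -- a vector of `W` orthogonal to both projections is fixed by the pair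
    have hfixp : ∀ g' ∈ N, ∀ a ∈ W, ∀ b ∈ W, Q a ≠ 0 → Q b = Q a →
        ∀ pa ∈ W, ∀ ra ∈ X, pa + ra = ap g' a → ∀ pb ∈ W, ∀ rb ∈ X, pb + rb = ap g' b →
        (∃ p ∈ W, Q p ≠ 0 ∧ polar ⇑Q p pa = 0 ∧ polar ⇑Q p pb = 0) →
        ∀ w ∈ W, ap (refl Q (ap g' a) * refl Q (ap g' b)) w ∈ W := by
      rintro g' hg' a ha b hb hQa hab pa - ra hra hga pb - rb hrb hgb ⟨p, hp, hQp, hppa, hppb⟩
      refine hkey _ (hpairN g' hg' a ha b hb hQa hab) p hp hQp ?_
      have e : ∀ z r : ι → F, polar ⇑Q p z = 0 → r ∈ X → polar ⇑Q (z + r) p = 0 := fun z r hz hr => by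
        rw [pl_add_left, pl_comm Q z p, hz, pl_comm Q r p, hXW p hp r hr, add_zero]
      rwa [← hga, ← hgb, ap_mul, refl_ap_of_orth Q (e pb rb hppb hrb), refl_ap_of_orth Q (e pa ra hppa hra)]
    -- if the pairs of `a` stabilise `W` then the image of `a` has no component in `W`
    have hcore : ∀ g' ∈ N, (¬ ∀ w ∈ W, ap g' w ∈ W) → ∀ a ∈ W, Q a ≠ 0 →
        ∀ pa ∈ W, ∀ ra ∈ X, pa + ra = ap g' a → pa ≠ 0 →
        (∀ b ∈ W, Q b = Q a → ∀ w ∈ W, ap (refl Q (ap g' a) * refl Q (ap g' b)) w ∈ W) → False := by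
      intro g' hg' hgW a ha hQa pa hpa ra hra hga hpa0 hst
      obtain ⟨w, hw, hpw0⟩ := hW pa hpa hpa0
      have haw : polar ⇑Q (ap g' a) w ≠ 0 := by
        rwa [← hga, pl_add_left, pl_comm Q ra w, hXW w hw ra hra, add_zero]
      obtain ⟨pw, hpw, rw', hrw, hgw⟩ := exists_proj hQ hW (ap g'⁻¹ w)
      obtain ⟨b, hb, hQb, hbP⟩ := exists_quad_affine hQ hW (P := F ∙ pw)
        ((Submodule.span_singleton_le_iff_mem _ _).2 hpw) (by
          by_cases h0 : pw = 0
          · rw [h0, Submodule.span_zero_singleton, finrank_bot]; omega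
          · rw [finrank_span_singleton h0]; omega) W.zero_mem (Q a)
      have hbw : polar ⇑Q (ap g' b) w = 0 := by
        rw [← ap_ap_inv g' w, polar_ap, ← hgw, pl_add_right,
          hbP pw (Submodule.mem_span_singleton_self pw), pl_zero_left, hXW b hb rw' hrw, add_zero]
      have h1 := hst b hb hQb w hw
      rw [ap_mul, refl_ap_of_orth Q hbw, refl_ap, Q_ap, W.sub_mem_iff_right hw,
        W.smul_mem_iff (mul_ne_zero (inv_ne_zero hQa) haw)] at h1
      exact hgW (hkey g' hg' a ha hQa h1)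
    -- for every element moving `W` the projections of the images are singular
    have hsing : ∀ g' ∈ N, (¬ ∀ w ∈ W, ap g' w ∈ W) → ∀ a ∈ W, Q a ≠ 0 →
        ∀ pa ∈ W, ∀ ra ∈ X, pa + ra = ap g' a → Q pa = 0 := by
      intro g' hg' hgW a ha hQa pa hpa ra hra hga
      by_contra hne
      refine hcore g' hg' hgW a ha hQa pa hpa ra hra hga
        (fun h => hne (by rw [h, QuadraticMap.map_zero])) fun b hb hab => ?_
      obtain ⟨pb, hpb, rb, hrb, hgb⟩ := exists_proj hQ hW (ap g' b)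
      rcases exists_nonsing_orth hQ hW hd hpa hpb with h | ⟨-, h, -⟩
      · exact hfixp g' hg' a ha b hb hQa hab pa hpa ra hra hga pb hpb rb hrb hgb h
      · exact absurd h hne
    -- pairs of images stabilise `W`
    have hgW : ¬ ∀ w ∈ W, ap g w ∈ W := fun h => hgw0 (h w0 hw0)
    have hk : ∀ a ∈ W, ∀ b ∈ W, Q a ≠ 0 → Q b = Q a →
        ∀ w ∈ W, ap (refl Q (ap g a) * refl Q (ap g b)) w ∈ W := by
      intro a ha b hb hQa hab
      obtain ⟨pa, hpa, ra, hra, hga⟩ := exists_proj hQ hW (ap g a)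
      obtain ⟨pb, hpb, rb, hrb, hgb⟩ := exists_proj hQ hW (ap g b)
      rcases exists_nonsing_orth hQ hW hd hpa hpb with h | ⟨h4, hQpa, hQpb, hpab, hpa', hpb'⟩
      · exact hfixp g hg a ha b hb hQa hab pa hpa ra hra hga pb hpb rb hrb hgb h
      have hpa0 : pa ≠ 0 := fun h => hpa' (h ▸ Submodule.zero_mem _)
      have hq : Fintype.card F ≠ 2 := fun hq =>
        hpb' (hB.2 hq h4 pa hpa pb hpb hpa0 hQpa hQpb hpab)
      by_contra hkW
      obtain ⟨v1, hv1, hv1b, hv1a⟩ := exists_dual_in hQ hW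
        ((Submodule.span_singleton_le_iff_mem _ _).2 hpb) hpa hpa'
      obtain ⟨s, hs0, hs1⟩ := exists_nonzero_ne (Q a)⁻¹ hq
      set x := v1 + (s - Q v1) • pa with hx
      have hxW : x ∈ W := W.add_mem hv1 (W.smul_mem _ hpa)
      have hQx : Q x = s := by
        rw [hx, Q_add, Q_smul, hQpa, pl_smul_right, hv1a]; ring
      have hxa : polar ⇑Q x pa = 1 := by
        rw [hx, pl_add_left, pl_smul_left, pl_self, hQpa, hv1a]; ring
      have hxb : polar ⇑Q x pb = 0 := by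
        rw [hx, pl_add_left, pl_smul_left, hpab, hv1b pb (Submodule.mem_span_singleton_self pb)]; ring
      have hgax : polar ⇑Q (ap g a) x = 1 := by
        rw [← hga, pl_add_left, pl_comm Q pa x, hxa, pl_comm Q ra x, hXW x hxW ra hra, add_zero]
      have hgbx : polar ⇑Q (ap g b) x = 0 := by
        rw [← hgb, pl_add_left, pl_comm Q pb x, hxb, pl_comm Q rb x, hXW x hxW rb hrb, add_zero]
      have himg : x - (Q a)⁻¹ • pa + -((Q a)⁻¹ • ra) =
          ap (refl Q (ap g a) * refl Q (ap g b)) x := by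
        rw [ap_mul, refl_ap_of_orth Q hgbx, refl_ap, hgax, mul_one, Q_ap, ← hga]
        module
      have h := hsing _ (hpairN g hg a ha b hb hQa hab) hkW x hxW (hQx ▸ hs0) _
        (W.sub_mem hxW (W.smul_mem _ hpa)) _ (X.neg_mem (X.smul_mem _ hra)) himg
      rw [Q_sub, Q_smul, hQpa, hQx, pl_smul_right, hxa] at h
      exact hs1 (by linear_combination h)
    -- so every image lies in `X`
    have himgX : ∀ a ∈ W, Q a = 1 → ap g a ∈ X := by
      intro a ha hQa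
      obtain ⟨pa, hpa, ra, hra, hga⟩ := exists_proj hQ hW (ap g a)
      by_cases hpa0 : pa = 0
      · rw [← hga, hpa0, zero_add]; exact hra
      · exact (hcore g hg hgW a ha (by rw [hQa]; exact one_ne_zero) pa hpa ra hra hga hpa0
          fun b hb hab => hk a ha b hb (by rw [hQa]; exact one_ne_zero) hab).elim
    refine hni g fun w hw => ?_
    by_contra hwX
    obtain ⟨q, hq, hQq, hqA, -⟩ := exists_norm_avoid_small hQ hW hB (A := X.comap (ap g))
      (B := X.comap (ap g)) (fun h => hwX (h hw)) (fun h => hwX (h hw)) one_ne_zero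
    exact hqA (himgX q hq hQq)
  -- the components in `X` of members of `S c`
  set InU : (ι → F) → Prop := fun x' => x' ∈ X ∧ ∃ w ∈ W, w ≠ 0 ∧ w + x' ∈ S c with hInU
  have hnormW : ∀ w ∈ W, ∀ x' ∈ X, Q (w + x') = Q w + Q x' := fun w hw x' hx' => by
    rw [Q_add, hXW w hw x' hx', add_zero]
  have hall : ∀ x', InU x' → ∀ v ∈ W, v ≠ 0 → Q v + Q x' = c → v + x' ∈ S c := by
    rintro x' ⟨hx', w, hw, hw0', hS'⟩ v hv hv0 hQv
    have hQw : Q w + Q x' = c := by rw [← hnormW w hw x' hx']; exact hS'.1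
    obtain ⟨h, hh, hhW, hhX, hhw⟩ := exists_omega_transit_small hG hW hB hw hw0' hv hv0
      (by linear_combination hQv - hQw)
    have := hH c hc h hh hhW _ hS'
    rwa [map_add, hhw, hhX x' hx'] at this
  have hInUinv : ∀ h : IsoGrp Q, h ∈ Omega F ⇑Q → (∀ w ∈ W, ap h w ∈ W) → (∀ x' ∈ X, ap h x' ∈ X) →
      ∀ x', InU x' → InU (ap h x') := by
    rintro h hh hhW hhX x' ⟨hx', w, hw, hw0', hS'⟩
    refine ⟨hhX x' hx', ap h w, hhW w hw, fun e => hw0' (ap_inj h (by rw [e, map_zero])), ?_⟩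
    rw [← map_add]; exact hH c hc h hh hhW _ hS'
  have hInUrefl : ∀ z ∈ X, Q z ≠ 0 → ∀ u, InU u → InU (ap (refl Q z) u) := by
    intro z hz hQz u hu
    obtain ⟨d, hd', -, hQd⟩ := hex0 (Q z)
    have e : ∀ x' ∈ X, ap (refl Q d) x' = x' := fun x' hx' => refl_ap_of_orth Q (hXW d hd' x' hx')
    have := hInUinv (refl Q z * refl Q d) (refl_pair_mem_omega hG hQz hQd)
      (fun w hw => by
        rw [ap_mul, refl_ap_of_orth Q (v := z) (by rw [pl_comm]; exact hXW _ (refl_ap_mem hd' hw) z hz)]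
        exact refl_ap_mem hd' hw)
      (fun x' hx' => by rw [ap_mul, e x' hx']; exact refl_ap_mem hz hx') u hu
    rwa [ap_mul, e u hu.1] at this
  have hclose : ∀ x' v', InU x' → InU v' → ∀ μ : F, InU (x' + μ • v') := by
    intro x' v' hx hv μ
    by_cases hμ : μ = 0
    · rw [hμ, zero_smul, add_zero]; exact hx
    obtain ⟨hxX', w, hw, hwne, hwS⟩ := id hx
    set α := -(c * μ) - polar ⇑Q v' x' with hα
    by_cases hdeg : Q w ≠ 0 ∨ α ≠ 0 ∨ c - Q v' ≠ 0
    swap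
    · -- the reflection in `v'` does it
      push Not at hdeg
      obtain ⟨-, hα0, hv0⟩ := hdeg
      have hQv' : Q v' = c := (sub_eq_zero.1 hv0).symm
      have := hInUrefl v' hv.1 (hQv' ▸ hc) x' hx
      rw [refl_ap, hQv', show polar ⇑Q v' x' = -(c * μ) by linear_combination hα - hα0] at this
      rwa [mul_neg, inv_mul_cancel_left₀ hc, neg_smul, sub_neg_eq_add] at this
    obtain ⟨v, hv', hQv, e1, hvw⟩ := exists_off_line hQ hW hd hw hwne α (c - Q v') hdeg
    have hv0 : v ≠ 0 := fun h => hvw (h ▸ Submodule.zero_mem _)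
    have hyS := hall v' hv v hv' hv0 (by rw [hQv]; ring)
    have hnew := hrefl c _ hwS _ hyS
    refine ⟨X.add_mem hxX' (X.smul_mem _ hv.1), w + μ • v, W.add_mem hw (W.smul_mem _ hv'), fun h => ?_, ?_⟩
    · refine hvw (Submodule.mem_span_singleton.2 ⟨-μ⁻¹, ?_⟩)
      rw [eq_neg_of_add_eq_zero_left h, neg_smul, smul_neg, neg_neg, inv_smul_smul₀ hμ]
    · have e3 : polar ⇑Q (v + v') (w + x') = -(c * μ) := by
        rw [pl_add_left, pl_add_right, pl_add_right, e1, hXW v hv' x' hxX', pl_comm Q v' w,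
          hXW w hw v' hv.1, hα]
        ring
      rw [refl_ap, e3, hyS.1, mul_neg, inv_mul_cancel_left₀ hc] at hnew
      convert hnew using 1
      module
  obtain ⟨a0, ha0, ha00, hQa0⟩ := hex0 c
  have h0U : InU 0 := ⟨X.zero_mem, a0, ha0, ha00, by rw [add_zero]; exact hWS c hc a0 ha0 hQa0⟩
  let U : Submodule F (ι → F) :=
    { carrier := {x' | InU x'}
      zero_mem' := h0U
      add_mem' := fun {a b} ha hb => by
        have := hclose a b ha hb 1
        rwa [one_smul] at this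
      smul_mem' := fun t a ha => by
        have := hclose 0 a h0U ha t
        rwa [zero_add] at this }
  obtain ⟨xw, hxw, xx, hxx, hxe⟩ := exists_proj hQ hW x
  have hUX : U = X := by
    refine eq_of_invariant hQ hX hex (fun x' hx' => hx'.1) (fun h => ?_)
      (fun z hz hQz u hu => hInUrefl z hz hQz u hu) (fun e1 he1 e2 he2 hQ1 h12 hQ2 u hu => ?_)
    · have : xx ∈ U := ⟨hxx, xw, hxw, fun h0 => hxX (by rw [← hxe, h0, zero_add]; exact hxx),
        hxe ▸ hxS⟩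
      rw [h] at this
      exact hxW (by rw [← hxe, (Submodule.mem_bot F).1 this, add_zero]; exact hxw)
    · refine hInUinv (eich Q e1 e2) (eichGen_le_omega hQ (by omega) (.inr (by omega)) (eich_mem_eichGen _ _))
        (fun w hw => ?_) (fun x' hx' => ?_) u hu
      · rw [eich_ap hQ1 h12, hQ2, pl_comm Q e1 w, hXW w hw e1 he1, pl_comm Q e2 w, hXW w hw e2 he2]
        simpa using hw
      · rw [eich_ap hQ1 h12]
        exact X.sub_mem (X.add_mem hx' (X.smul_mem _ he2)) (X.smul_mem _ he1)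
  -- all vectors of norm `c`
  have hfull : ∀ z, Q z = c → z ∈ S c := by
    intro z hQz
    obtain ⟨zw, hzw, zx, hzx, rfl⟩ := exists_proj hQ hW z
    have key : ∀ zw ∈ W, zw ≠ 0 → ∀ zx ∈ X, Q (zw + zx) = c → zw + zx ∈ S c :=
      fun zw hzw h0 zx hzx hQ1 => by
      have hU : zx ∈ U := hUX.symm ▸ hzx
      exact hall zx hU zw hzw h0 (by rw [← hnormW zw hzw zx hzx]; exact hQ1)
    by_cases h0 : zw = 0
    swap; · exact key zw hzw h0 zx hzx hQz
    rw [h0, zero_add] at hQz ⊢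
    have hzx0 : zx ≠ 0 := fun h => by rw [h, QuadraticMap.map_zero] at hQz; exact hc hQz.symm
    obtain ⟨v', hv', hzv⟩ := hX zx hzx hzx0
    obtain ⟨v, hv, hv0, hQv⟩ := hex0 (c - Q v')
    have hyS : v + v' ∈ S c := key v hv hv0 v' hv' (by rw [hnormW v hv v' hv', hQv]; ring)
    set z' := ap (refl Q (v + v')) zx with hz'
    have e : z' = (-(c⁻¹ * polar ⇑Q v' zx)) • v + (zx - (c⁻¹ * polar ⇑Q v' zx) • v') := by
      rw [hz', refl_ap, hyS.1, pl_add_left, hXW v hv zx hzx]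
      simp only [zero_add]
      module
    have hz'S : z' ∈ S c := by
      rw [e]
      refine key _ (W.smul_mem _ hv) (smul_ne_zero (neg_ne_zero.2
        (mul_ne_zero (inv_ne_zero hc) (by rw [pl_comm]; exact hzv))) hv0) _
        (X.sub_mem hzx (X.smul_mem _ hv')) ?_
      rw [← e, hz', Q_ap, hQz]
    have := hrefl c z' hz'S _ hyS
    rwa [hz', ← ap_mul, refl_mul_self, ap_one] at this
  -- Eichler elements as products of pairs
  obtain ⟨e, f, hp⟩ := exists_hpair hQ (by omega)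
  rw [omega_eq_eichPair hG (by omega) (.inr (by omega)) hp, eichPair, Subgroup.closure_le]
  have key : ∀ a b : ι → F, HPair Q a b → ∀ w ∈ perp Q a b, eich Q a w ∈ N := by
    intro a b hab w hw
    have hone : ∀ z ∈ perp Q a b, Q z = c → eich Q a z ∈ N := fun z hz hQz => by
      rw [eich_eq_refl_pair hab.qe (mem_perp.1 hz).1 (hQz ▸ hc)]
      refine hpair c z (hfull z hQz) _ (hfull _ ?_)
      rw [Q_add, Q_smul, pl_smul_right, hab.qe, pl_comm Q z a, (mem_perp.1 hz).1, hQz]; ring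
    by_cases hw0' : w = 0
    · rw [hw0', eich_zero]; exact one_mem _
    obtain ⟨y, hy, hwy⟩ := hab.perp_nondeg hQ hw hw0'
    obtain ⟨w1, hw1, hQw1, hw1w⟩ := exists_quad_affine hQ (W := perp Q a b)
      (fun z hz hz0 => hab.perp_nondeg hQ hz hz0) (P := F ∙ w)
      ((Submodule.span_singleton_le_iff_mem _ _).2 hw)
      (by have := card_le_finrank_perp (Q := Q) a b; rw [finrank_span_singleton hw0']; omega)
      (Submodule.smul_mem _ (Q w / polar ⇑Q w y) hy) c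
    have h1 := hw1w w (Submodule.mem_span_singleton_self w)
    rw [pl_smul_left, pl_comm Q y w, div_mul_cancel₀ _ hwy] at h1
    have := mul_mem (hone _ ((perp Q a b).sub_mem hw hw1) (by rw [Q_sub, hQw1, pl_comm, h1]; ring))
      (hone w1 hw1 hQw1)
    rwa [eich_add hab.qe (mem_perp.1 ((perp Q a b).sub_mem hw hw1)).1 (mem_perp.1 hw1).1,
      sub_add_cancel] at this
  rintro _ ⟨w, hw, rfl | rfl⟩
  · exact key e f hp w hw
  · exact key f e hp.swap w (by rwa [perp_swap])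

omit [Fintype F] in
theorem perp_map_of_map {W : Submodule F (ι → F)} {g : IsoGrp Q} (h : ∀ w ∈ W, ap g w ∈ W) :
    ∀ x ∈ perpSub Q W, ap g x ∈ perpSub Q W := fun x hx => mem_perpSub.2 fun w hw => by
  have hmap := OrthAct.map_ap_eq_of_mapsTo h
  rw [← hmap] at hw
  obtain ⟨w', hw', rfl⟩ := hw
  rw [polar_ap]
  exact mem_perpSub.1 hx w' hw'

/-- Maximality for a non-degenerate `W` with one of `W`, `W^⊥` big and of the larger dimension. -/
theorem nondeg_stabilizer_maximal_big (hG : Good Q) {W : Submodule F (ι → F)}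
    (hW : ∀ x ∈ W, x ≠ 0 → ∃ y ∈ W, polar ⇑Q x y ≠ 0) (hn6 : 6 ≤ Fintype.card ι)
    (hn : (finrank F (perpSub Q W) ≤ finrank F W ∧ IsBig Q W) ∨
      (finrank F W ≤ finrank F (perpSub Q W) ∧ IsBig Q (perpSub Q W))) (hW0 : W ≠ ⊥)
    (hW1 : W ≠ ⊤)
    (hex : ¬ (Fintype.card F ≤ 3 ∧ finrank F W = 2 ∧ Geo.IsPlusTypeOn ⇑Q W))
    (hex' : ¬ (Fintype.card F ≤ 3 ∧ finrank F (perpSub Q W) = 2 ∧ Geo.IsPlusTypeOn ⇑Q (perpSub Q W)))
    (hni : finrank F W = finrank F (perpSub Q W) → ∀ g : IsoGrp Q, ¬ ∀ w ∈ W, ap g w ∈ perpSub Q W) :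
    Geo.IsMaximalIn (Geo.omegaGL ⇑Q) (Geo.subspaceStabilizer W ⊓ Geo.omegaGL ⇑Q) := by
  classical
  have hQ := hG.nd
  have hX := perpSub_nondeg hQ hW
  have hX0 : perpSub Q W ≠ ⊥ := fun h => hW1 (by
    rw [← perpSub_perpSub hQ W, h, eq_top_iff]
    exact fun x _ => mem_perpSub.2 fun y hy => by rw [(Submodule.mem_bot F).1 hy, pl_zero_left])
  have hdW := finrank_perpSub hQ W
  have hleW := Submodule.finrank_le W
  rw [finrank_space] at hleW
  refine ⟨lt_of_le_of_ne inf_le_right fun heq => ?_, fun M hHM hMK => ?_⟩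
  · -- the stabiliser is proper
    have key : ∀ Y : Submodule F (ι → F), (∀ x ∈ Y, x ≠ 0 → ∃ y ∈ Y, polar ⇑Q x y ≠ 0) → Y ≠ ⊥ →
        finrank F Y + 3 ≤ Fintype.card ι → ∃ g : IsoGrp Q, g ∈ Omega F ⇑Q ∧ ¬ ∀ y ∈ Y, ap g y ∈ Y := by
      intro Y hY hY0 hd
      obtain ⟨a, ha, ha0⟩ := Submodule.exists_mem_ne_zero_of_ne_bot hY0
      obtain ⟨g, hg, z, hz, hz0, hgx⟩ := exists_omega_move hG hY hd ha
      refine ⟨g, hg, fun h => ?_⟩
      obtain ⟨x, hx, hax⟩ := hY a ha ha0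
      have h1 := Y.sub_mem hx (h x hx)
      rw [hgx x hx, sub_sub_cancel, Y.smul_mem_iff hax, Y.add_mem_iff_right ha] at h1
      exact hz0 (disjoint_perpSub hY h1 hz)
    have hall : ∀ g : IsoGrp Q, g ∈ Omega F ⇑Q → ∀ w ∈ W, ap g w ∈ W := fun g hg => by
      have : (g : GL ι F) ∈ Geo.subspaceStabilizer W ⊓ Geo.omegaGL ⇑Q := by
        rw [heq]; exact coe_mem_omegaGL.2 hg
      exact coe_mem_stabilizer.1 this.1
    by_cases hsmall : finrank F W + 3 ≤ Fintype.card ι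
    · obtain ⟨g, hg, hne⟩ := key W hW hW0 hsmall
      exact hne (hall g hg)
    · obtain ⟨g, hg, hne⟩ := key _ hX hX0 (by omega)
      exact hne (perp_map_of_map (hall g hg))
  by_cases hM : ∀ g ∈ M, g ∈ Geo.subspaceStabilizer W
  · exact .inl (le_antisymm (le_inf hM hMK) hHM)
  refine .inr (le_antisymm hMK ?_)
  push Not at hM
  obtain ⟨g, hgM, hgW⟩ := hM
  obtain ⟨h, -, rfl⟩ := mem_omegaGL_iff.1 (hMK hgM)
  rw [coe_mem_stabilizer] at hgW
  set N : Subgroup (IsoGrp Q) := M.comap (isometryGroup F ⇑Q).subtype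
  suffices hle : Omega F ⇑Q ≤ N by
    intro y hy
    obtain ⟨k, hk, rfl⟩ := mem_omegaGL_iff.1 hy
    exact hle hk
  have hN : ∀ k : IsoGrp Q, k ∈ Omega F ⇑Q → (∀ w ∈ W, ap k w ∈ W) → k ∈ N := fun k hk hkW =>
    hHM ⟨coe_mem_stabilizer.2 hkW, coe_mem_omegaGL.2 hk⟩
  have hPP := perpSub_perpSub hQ W
  have hmaps : ∀ (A B : Submodule F (ι → F)) (k : IsoGrp Q), (∀ w ∈ A, ap k w ∈ B) →
      finrank F A ≤ finrank F B := fun A B k hk => by
    have := Submodule.finrank_mono (show A.map (ap k) ≤ B by rintro _ ⟨w, hw, rfl⟩; exact hk w hw)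
    rwa [(Submodule.equivMapOfInjective (ap k) (fun a b h => ap_inj k h) A).finrank_eq]
  rcases hn with ⟨hbig, hB⟩ | ⟨hbig, hB⟩
  · push Not at hgW
    obtain ⟨w, hw, hgw⟩ := hgW
    exact omega_le_of_moved hG hW hB hn6 hex'
      (fun k hk => hni (le_antisymm (hmaps _ _ k hk) hbig) k hk) hN (g := h) hgM hw hgw
  · have hgX : ¬ ∀ x ∈ perpSub Q W, ap h x ∈ perpSub Q W := fun hc => hgW (by
      have := perp_map_of_map hc
      rwa [hPP] at this)
    push Not at hgX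
    obtain ⟨w, hw, hgw⟩ := hgX
    refine omega_le_of_moved hG hX hB hn6 (by rw [hPP]; exact hex)
      (fun k hk => by
        rw [hPP] at hk
        have hle := hmaps _ _ k hk
        refine hni (le_antisymm hbig hle) k⁻¹ fun w hw => ?_
        have hmap : (perpSub Q W).map (ap k) = W := Submodule.eq_of_le_of_finrank_le
          (by rintro _ ⟨x, hx, rfl⟩; exact hk x hx) (by
            rw [← (Submodule.equivMapOfInjective (ap k) (fun a b h => ap_inj k h) (perpSub Q W)).finrank_eq]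
            exact hbig)
        rw [← hmap] at hw
        obtain ⟨x, hx, rfl⟩ := hw
        rwa [← ap_mul, inv_mul_cancel, ap_one]) (fun k hk hkX => hN k hk ?_) (g := h) hgM hw hgw
    have := perp_map_of_map hkX
    rwa [hPP] at this

/-- Maximality for a non-degenerate `W` with one of `W`, `W^⊥` of dimension at least five. -/
theorem nondeg_stabilizer_maximal' (hG : Good Q) {W : Submodule F (ι → F)}
    (hW : ∀ x ∈ W, x ≠ 0 → ∃ y ∈ W, polar ⇑Q x y ≠ 0)
    (hn : 5 ≤ finrank F W ∨ 5 ≤ finrank F (perpSub Q W)) (hW0 : W ≠ ⊥) (hW1 : W ≠ ⊤)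
    (hex : ¬ (Fintype.card F ≤ 3 ∧ finrank F W = 2 ∧ Geo.IsPlusTypeOn ⇑Q W))
    (hex' : ¬ (Fintype.card F ≤ 3 ∧ finrank F (perpSub Q W) = 2 ∧ Geo.IsPlusTypeOn ⇑Q (perpSub Q W)))
    (hni : finrank F W = finrank F (perpSub Q W) → ∀ g : IsoGrp Q, ¬ ∀ w ∈ W, ap g w ∈ perpSub Q W) :
    Geo.IsMaximalIn (Geo.omegaGL ⇑Q) (Geo.subspaceStabilizer W ⊓ Geo.omegaGL ⇑Q) := by
  have hd := finrank_perpSub hG.nd W
  have h0 : 1 ≤ finrank F W := Submodule.one_le_finrank_iff.2 hW0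
  have h1 := Submodule.finrank_lt hW1
  rw [finrank_space] at h1
  refine nondeg_stabilizer_maximal_big hG hW (by omega) ?_ hW0 hW1 hex hex' hni
  by_cases hbig : finrank F (perpSub Q W) ≤ finrank F W
  · exact .inl ⟨hbig, isBig_of_five (by omega)⟩
  · exact .inr ⟨by omega, isBig_of_five (by omega)⟩

/-- Maximality for a non-degenerate `W` in dimension at least nine. -/
theorem nondeg_stabilizer_maximal (hG : Good Q) {W : Submodule F (ι → F)}
    (hW : ∀ x ∈ W, x ≠ 0 → ∃ y ∈ W, polar ⇑Q x y ≠ 0) (hn : 9 ≤ Fintype.card ι) (hW0 : W ≠ ⊥)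
    (hW1 : W ≠ ⊤)
    (hex : ¬ (Fintype.card F ≤ 3 ∧ finrank F W = 2 ∧ Geo.IsPlusTypeOn ⇑Q W))
    (hex' : ¬ (Fintype.card F ≤ 3 ∧ finrank F (perpSub Q W) = 2 ∧ Geo.IsPlusTypeOn ⇑Q (perpSub Q W)))
    (hni : finrank F W = finrank F (perpSub Q W) → ∀ g : IsoGrp Q, ¬ ∀ w ∈ W, ap g w ∈ perpSub Q W) :
    Geo.IsMaximalIn (Geo.omegaGL ⇑Q) (Geo.subspaceStabilizer W ⊓ Geo.omegaGL ⇑Q) :=
  nondeg_stabilizer_maximal' hG hW (by
    have := finrank_perpSub hG.nd W
    omega) hW0 hW1 hex hex' hni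

end Cfsg.Agent.Orth
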