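import Cfsg.Agent.Lib.Orth.Parabolic
import Cfsg.Agent.Lib.Linear.AltObstruction

/-!
# Tools for non-degenerate subspaces

* `sup_perpSub`, `exists_proj`, `exists_dual_in`
* `exists_quad_affine` : a vector with prescribed norm and prescribed products with a small subspace
* `exists_norm_avoid` : prescribed norm outside two proper subspaces
* `refl_pair_mem_omega`, `exists_omega_transit` : transitivity on norms inside a subspace
* `mem_of_invariant` : invariant subspaces under the orthogonal group of a subspace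
-/

set_option autoImplicit false
set_option linter.unusedSectionVars false

namespace Cfsg.Agent.Orth

open Cfsg Matrix Module
open QuadraticMap (polar)

variable {ι : Type} [Fintype ι] [DecidableEq ι] {F : Type*} [Field F]
variable {Q : QuadraticForm F (ι → F)}

theorem sup_perpSub (hQ : Q.polarBilin.Nondegenerate) {W : Submodule F (ι → F)}
    (hW : ∀ x ∈ W, x ≠ 0 → ∃ y ∈ W, polar ⇑Q x y ≠ 0) : W ⊔ perpSub Q W = ⊤ := by
  refine Submodule.eq_top_of_finrank_eq ?_
  have h := Submodule.finrank_sup_add_finrank_inf_eq W (perpSub Q W)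
  have hb : W ⊓ perpSub Q W = ⊥ := by
    rw [eq_bot_iff]; rintro x ⟨h1, h2⟩; exact disjoint_perpSub hW h1 h2
  have := Submodule.finrank_le W
  rw [finrank_space] at this
  rw [hb, finrank_bot, finrank_perpSub hQ] at h
  rw [finrank_space]; omega

theorem exists_proj (hQ : Q.polarBilin.Nondegenerate) {W : Submodule F (ι → F)}
    (hW : ∀ x ∈ W, x ≠ 0 → ∃ y ∈ W, polar ⇑Q x y ≠ 0) (x : ι → F) :
    ∃ u ∈ W, ∃ r ∈ perpSub Q W, u + r = x :=
  Submodule.mem_sup.1 ((sup_perpSub hQ hW).symm ▸ Submodule.mem_top : x ∈ W ⊔ perpSub Q W)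

theorem exists_dual_in (hQ : Q.polarBilin.Nondegenerate) {W : Submodule F (ι → F)}
    (hW : ∀ x ∈ W, x ≠ 0 → ∃ y ∈ W, polar ⇑Q x y ≠ 0) {S : Submodule F (ι → F)} (hS : S ≤ W)
    {x : ι → F} (hx : x ∈ W) (hxS : x ∉ S) :
    ∃ v ∈ W, (∀ s ∈ S, polar ⇑Q v s = 0) ∧ polar ⇑Q v x = 1 := by
  obtain ⟨v, hv, hvx⟩ := Forms.exists_dual_vector Q.polarBilin hQ.2 S x hxS 1
  obtain ⟨u, hu, r, hr, rfl⟩ := exists_proj hQ hW v
  have key : ∀ z ∈ W, polar ⇑Q r z = 0 := fun z hz => by rw [pl_comm]; exact mem_perpSub.1 hr z hz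
  refine ⟨u, hu, fun s hs => ?_, ?_⟩
  · have := hv s hs
    simp only [QuadraticMap.polarBilin_apply_apply, pl_add_left, key s (hS hs), add_zero] at this
    exact this
  · simp only [QuadraticMap.polarBilin_apply_apply, pl_add_left, key x hx, add_zero] at hvx
    exact hvx

theorem finrank_le_perp_inf (hQ : Q.polarBilin.Nondegenerate) (W P : Submodule F (ι → F)) :
    finrank F W ≤ finrank F (W ⊓ perpSub Q P : Submodule F (ι → F)) + finrank F P := by
  have h1 := Submodule.finrank_sup_add_finrank_inf_eq W (perpSub Q P)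
  have h2 := Submodule.finrank_le (W ⊔ perpSub Q P)
  rw [finrank_perpSub hQ] at h1
  rw [finrank_space] at h2
  omega

variable [Fintype F]

/-- Prescribed norm and prescribed products with a subspace having a small radical. -/
theorem exists_quad_affine_rad (hQ : Q.polarBilin.Nondegenerate) {W : Submodule F (ι → F)}
    (hW : ∀ x ∈ W, x ≠ 0 → ∃ y ∈ W, polar ⇑Q x y ≠ 0) {P : Submodule F (ι → F)} (hP : P ≤ W)
    (hd : finrank F P + finrank F (P ⊓ perpSub Q P : Submodule F (ι → F)) + 2 ≤ finrank F W)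
    {v0 : ι → F} (hv0 : v0 ∈ W) (s : F) :
    ∃ v ∈ W, Q v = s ∧ ∀ p ∈ P, polar ⇑Q v p = polar ⇑Q v0 p := by
  set K := W ⊓ perpSub Q P with hK
  -- the radical of `K` lies in `P`
  have hR : K ⊓ perpSub Q K ≤ P := by
    intro x hx
    have hKe : K = perpSub Q (perpSub Q W ⊔ P) := by
      ext y
      simp only [hK, Submodule.mem_inf, mem_perpSub]
      constructor
      · rintro ⟨h1, h2⟩ z hz
        obtain ⟨r, hr, p, hp, rfl⟩ := Submodule.mem_sup.1 hz
        rw [pl_add_left, h2 p hp, pl_comm Q r y, mem_perpSub.1 hr y h1, add_zero]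
      · intro h
        refine ⟨?_, fun p hp => h p (Submodule.mem_sup_right hp)⟩
        rw [← perpSub_perpSub hQ W]
        exact mem_perpSub.2 fun r hr => h r (Submodule.mem_sup_left hr)
    have hx2 : x ∈ perpSub Q W ⊔ P := by
      have := hx.2
      rw [hKe, perpSub_perpSub hQ] at this
      exact this
    obtain ⟨r, hr, p, hp, hrp⟩ := Submodule.mem_sup.1 hx2
    have hrW : r ∈ W := by
      rw [show r = x - p by rw [← hrp]; abel]
      exact W.sub_mem hx.1.1 (hP hp)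
    rw [← hrp, disjoint_perpSub hW hrW hr, zero_add]
    exact hp
  -- a non-degenerate complement of the radical
  obtain ⟨C0, hC0⟩ := Submodule.exists_isCompl (K ⊓ perpSub Q K)
  set C := K ⊓ C0 with hC
  have hCn : ∀ x ∈ C, x ≠ 0 → ∃ y ∈ C, polar ⇑Q x y ≠ 0 := by
    intro x hx hx0
    by_contra! h
    refine hx0 (Submodule.disjoint_def.1 hC0.disjoint x ⟨hx.1, mem_perpSub.2 fun y hy => ?_⟩ hx.2)
    have hy' : y ∈ (K ⊓ perpSub Q K) ⊔ C0 := hC0.sup_eq_top ▸ Submodule.mem_top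
    obtain ⟨r, hr, c, hc, rfl⟩ := Submodule.mem_sup.1 hy'
    have hcK : c ∈ K := by
      have := K.sub_mem hy hr.1
      rwa [add_sub_cancel_left] at this
    rw [pl_add_left, pl_comm Q r x, mem_perpSub.1 hr.2 x hx.1, pl_comm Q c x, h c ⟨hcK, hc⟩, add_zero]
  have hdC : 2 ≤ finrank F C := by
    have h1 := finrank_le_perp_inf hQ W P
    have h2 := Submodule.finrank_mono (le_inf hR (inf_le_left.trans inf_le_right :
      K ⊓ perpSub Q K ≤ perpSub Q P))
    have h3 := Submodule.finrank_sup_add_finrank_inf_eq K C0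
    have h4 := Submodule.finrank_le (K ⊔ C0)
    have h5 := Submodule.finrank_sup_add_finrank_inf_eq (K ⊓ perpSub Q K) C0
    rw [hC0.sup_eq_top, hC0.inf_eq_bot, finrank_bot, finrank_top, finrank_space] at h5
    rw [finrank_space] at h4
    rw [← hK] at h1
    rw [← hC] at h3
    omega
  obtain ⟨k0, hk0, r0, hr0, hkr⟩ := exists_proj hQ hCn v0
  obtain ⟨y, hy, hQy⟩ := exists_Q_eq_in (Q := Q) C hCn hdC (s - Q r0)
  have hr0W : r0 ∈ W := by
    rw [show r0 = v0 - k0 by rw [← hkr]; abel]; exact W.sub_mem hv0 hk0.1.1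
  refine ⟨r0 + y, W.add_mem hr0W hy.1.1, ?_, fun p hp => ?_⟩
  · rw [Q_add, hQy, pl_comm, mem_perpSub.1 hr0 y hy]; ring
  · have e1 : ∀ z ∈ C, polar ⇑Q z p = 0 := fun z hz => by
      rw [pl_comm]; exact mem_perpSub.1 hz.1.2 p hp
    rw [← hkr, pl_add_left, pl_add_left, e1 y hy, e1 k0 hk0, add_zero, zero_add]

/-- Prescribed norm and prescribed products with a small subspace. -/
theorem exists_quad_affine (hQ : Q.polarBilin.Nondegenerate) {W : Submodule F (ι → F)}
    (hW : ∀ x ∈ W, x ≠ 0 → ∃ y ∈ W, polar ⇑Q x y ≠ 0) {P : Submodule F (ι → F)} (hP : P ≤ W)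
    (hd : 2 * finrank F P + 2 ≤ finrank F W) {v0 : ι → F} (hv0 : v0 ∈ W) (s : F) :
    ∃ v ∈ W, Q v = s ∧ ∀ p ∈ P, polar ⇑Q v p = polar ⇑Q v0 p :=
  exists_quad_affine_rad hQ hW hP (by
    have := Submodule.finrank_mono (inf_le_left : P ⊓ perpSub Q P ≤ P)
    omega) hv0 s

omit [Fintype F] in
theorem finrank_span_duo_le (x y : ι → F) : finrank F ((F ∙ x) ⊔ (F ∙ y) : Submodule F (ι → F)) ≤ 2 := by
  have h := Submodule.finrank_sup_add_finrank_inf_eq (F ∙ x) (F ∙ y)
  have h1 : ∀ v : ι → F, finrank F (F ∙ v) ≤ 1 := fun v => by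
    by_cases h0 : v = 0
    · rw [h0, Submodule.span_zero_singleton, finrank_bot]; omega
    · rw [finrank_span_singleton h0]
  have := h1 x
  have := h1 y
  omega

omit [Fintype F] in
theorem even_finrank_of_two_eq_zero (h2 : (2 : F) = 0) {W : Submodule F (ι → F)}
    (hW : ∀ x ∈ W, x ≠ 0 → ∃ y ∈ W, polar ⇑Q x y ≠ 0) : Even (finrank F W) :=
  Linear.even_finrank_of_alt_nondeg _ (Q.polarBilin.domRestrict₁₂ W W)
    (fun x => by
      show polar ⇑Q (x : ι → F) x = 0
      rw [pl_self, h2, zero_mul])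
    (fun x hx => by
      by_contra h0
      obtain ⟨y, hy, hxy⟩ := hW x x.2 (fun h => h0 (Subtype.ext h))
      exact hxy (hx ⟨y, hy⟩)) rfl

/-- Prescribed norm and products with two vectors, down to dimension five: either the two vectors do
not span a totally singular subspace, or one of the prescribed products is non-zero. -/
theorem exists_quad_affine_pair (hQ : Q.polarBilin.Nondegenerate) {W : Submodule F (ι → F)}
    (hW : ∀ x ∈ W, x ≠ 0 → ∃ y ∈ W, polar ⇑Q x y ≠ 0) (hd : 5 ≤ finrank F W) {x y v0 : ι → F}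
    (hx : x ∈ W) (hy : y ∈ W) (hv0 : v0 ∈ W) (s : F)
    (h : Q x ≠ 0 ∨ Q y ≠ 0 ∨ polar ⇑Q x y ≠ 0 ∨ polar ⇑Q v0 x ≠ 0 ∨ polar ⇑Q v0 y ≠ 0) :
    ∃ v ∈ W, Q v = s ∧ polar ⇑Q v x = polar ⇑Q v0 x ∧ polar ⇑Q v y = polar ⇑Q v0 y := by
  set P := (F ∙ x) ⊔ (F ∙ y) with hPdef
  have hxP : x ∈ P := Submodule.mem_sup_left (Submodule.mem_span_singleton_self x)
  have hyP : y ∈ P := Submodule.mem_sup_right (Submodule.mem_span_singleton_self y)
  have hP : P ≤ W := sup_le ((Submodule.span_singleton_le_iff_mem _ _).2 hx)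
    ((Submodule.span_singleton_le_iff_mem _ _).2 hy)
  have hPd : finrank F P ≤ 2 := finrank_span_duo_le x y
  by_cases hts : Q x = 0 ∧ Q y = 0 ∧ polar ⇑Q x y = 0
  · obtain ⟨hQx, hQy, hxy⟩ := hts
    -- move along the totally singular span, which does not change the products
    have shift : ∀ z ∈ W, Q z = 0 → polar ⇑Q z x = 0 → polar ⇑Q z y = 0 → polar ⇑Q v0 z ≠ 0 →
        ∃ v ∈ W, Q v = s ∧ polar ⇑Q v x = polar ⇑Q v0 x ∧ polar ⇑Q v y = polar ⇑Q v0 y := by
      intro z hz hQz hzx hzy hne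
      refine ⟨v0 + ((s - Q v0) / polar ⇑Q v0 z) • z, W.add_mem hv0 (W.smul_mem _ hz), ?_, ?_, ?_⟩
      · rw [Q_add, Q_smul, hQz, pl_smul_right, div_mul_cancel₀ _ hne]; ring
      · rw [pl_add_left, pl_smul_left, hzx, mul_zero, add_zero]
      · rw [pl_add_left, pl_smul_left, hzy, mul_zero, add_zero]
    rcases h with h | h | h | h | h
    · exact absurd hQx h
    · exact absurd hQy h
    · exact absurd hxy h
    · exact shift x hx hQx (by rw [pl_self, hQx, mul_zero]) hxy h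
    · exact shift y hy hQy (by rw [pl_comm, hxy]) (by rw [pl_self, hQy, mul_zero]) h
  · obtain ⟨v, hv, hQv, hvP⟩ := exists_quad_affine_rad hQ hW hP (by
      have hle : finrank F (P ⊓ perpSub Q P : Submodule F (ι → F)) ≤ finrank F P :=
        Submodule.finrank_mono inf_le_left
      by_cases h2 : (2 : F) = 0
      · obtain ⟨k, hk⟩ := even_finrank_of_two_eq_zero h2 hW
        omega
      by_contra hbig
      refine hts ?_
      have heq : P ⊓ perpSub Q P = P :=
        Submodule.eq_of_le_of_finrank_le inf_le_left (by omega)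
      have hperp : ∀ a ∈ P, ∀ b ∈ P, polar ⇑Q a b = 0 := fun a ha b hb =>
        mem_perpSub.1 (heq.symm ▸ hb : b ∈ P ⊓ perpSub Q P).2 a ha
      have hsing : ∀ a ∈ P, Q a = 0 := fun a ha => by
        have := hperp a ha a ha
        rw [pl_self] at this
        exact (mul_eq_zero.1 this).resolve_left h2
      exact ⟨hsing x hxP, hsing y hyP, hperp x hxP y hyP⟩) hv0 s
    exact ⟨v, hv, hQv, hvP x hxP, hvP y hyP⟩

theorem exists_common_dual (hQ : Q.polarBilin.Nondegenerate) {W : Submodule F (ι → F)}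
    (hW : ∀ x ∈ W, x ≠ 0 → ∃ y ∈ W, polar ⇑Q x y ≠ 0) {u u2 : ι → F} (hu : u ∈ W) (hu0 : u ≠ 0)
    (hu2 : u2 ∈ W) (hu20 : u2 ≠ 0) : ∃ v ∈ W, polar ⇑Q u v ≠ 0 ∧ polar ⇑Q u2 v ≠ 0 := by
  by_contra! h
  rcases OrthAct.mem_or_mem_of_subset_union (U := W) (V := LinearMap.ker (Q.polarBilin u))
    (W := LinearMap.ker (Q.polarBilin u2))
    (fun x hx => or_iff_not_imp_left.2 fun hne => h x hx hne) with hle | hle
  · obtain ⟨y, hy, hy'⟩ := hW u hu hu0
    exact hy' (hle hy)
  · obtain ⟨y, hy, hy'⟩ := hW u2 hu2 hu20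
    exact hy' (hle hy)

/-- Prescribed norm outside two proper subspaces. -/
theorem exists_norm_avoid (hQ : Q.polarBilin.Nondegenerate) {W : Submodule F (ι → F)}
    (hW : ∀ x ∈ W, x ≠ 0 → ∃ y ∈ W, polar ⇑Q x y ≠ 0) (hd : 5 ≤ finrank F W)
    {A B : Submodule F (ι → F)} (hA : ¬ W ≤ A) (hB : ¬ W ≤ B) (s : F) :
    ∃ q ∈ W, Q q = s ∧ q ∉ A ∧ q ∉ B := by
  obtain ⟨a, ha, ha'⟩ := SetLike.not_le_iff_exists.1 hA
  obtain ⟨b, hb, hb'⟩ := SetLike.not_le_iff_exists.1 hB
  obtain ⟨u, huW, hu, hua⟩ := exists_dual_in hQ hW (S := W ⊓ A) inf_le_left ha (fun h => ha' h.2)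
  obtain ⟨u2, hu2W, hu2, hu2b⟩ := exists_dual_in hQ hW (S := W ⊓ B) inf_le_left hb (fun h => hb' h.2)
  have hu0 : u ≠ 0 := fun h => by rw [h, pl_zero_left] at hua; exact zero_ne_one hua
  have hu20 : u2 ≠ 0 := fun h => by rw [h, pl_zero_left] at hu2b; exact zero_ne_one hu2b
  obtain ⟨v0, hv0, h1, h2⟩ := exists_common_dual hQ hW huW hu0 hu2W hu20
  obtain ⟨q, hq, hQq, hqu, hqu2⟩ := exists_quad_affine_pair hQ hW hd huW hu2W hv0 s
    (.inr (.inr (.inr (.inl (by rwa [pl_comm])))))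
  refine ⟨q, hq, hQq, fun hmem => h1 ?_, fun hmem => h2 ?_⟩
  · rw [pl_comm, ← hqu, pl_comm]
    exact hu q ⟨hq, hmem⟩
  · rw [pl_comm, ← hqu2, pl_comm]
    exact hu2 q ⟨hq, hmem⟩

theorem refl_pair_mem_omega (hG : Good Q) {a b : ι → F} (ha : Q a ≠ 0) (hab : Q b = Q a) :
    refl Q a * refl Q b ∈ Omega F ⇑Q := by
  classical
  refine (mem_omega_iff hG _).2 ⟨?_, ?_⟩
  · rw [dick_refl_mul hG.nd _ ha, dick_refl hG.nd (hab ▸ ha)]; norm_num
  · rw [spin_refl_mul hG.nd _ ha, spin_refl hG.nd (hab ▸ ha), hab, ← sq, quadraticChar_sq_one ha]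

theorem refl_ap_mem {W : Submodule F (ι → F)} {v x : ι → F} (hv : v ∈ W) (hx : x ∈ W) :
    ap (refl Q v) x ∈ W := by
  rw [refl_ap]; exact W.sub_mem hx (W.smul_mem _ hv)

/-- Transitivity on the vectors of a given norm in a big subspace. -/
theorem exists_omega_transit (hG : Good Q) {W : Submodule F (ι → F)}
    (hW : ∀ x ∈ W, x ≠ 0 → ∃ y ∈ W, polar ⇑Q x y ≠ 0) (hd : 5 ≤ finrank F W) {w w1 : ι → F}
    (hw : w ∈ W) (hw0 : w ≠ 0) (hw1 : w1 ∈ W) (hw10 : w1 ≠ 0) (hQw : Q w1 = Q w) :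
    ∃ h : IsoGrp Q, h ∈ Omega F ⇑Q ∧ (∀ x ∈ W, ap h x ∈ W) ∧ (∀ x ∈ perpSub Q W, ap h x = x) ∧
      ap h w = w1 := by
  have hfix : ∀ a ∈ W, ∀ x ∈ perpSub Q W, ap (refl Q a) x = x := fun a ha x hx =>
    refl_ap_of_orth Q (mem_perpSub.1 hx a ha)
  have step : ∀ a b : ι → F, a ∈ W → b ∈ W → b ≠ 0 → Q b = Q a → Q (a - b) ≠ 0 →
      ∃ h : IsoGrp Q, h ∈ Omega F ⇑Q ∧ (∀ x ∈ W, ap h x ∈ W) ∧
        (∀ x ∈ perpSub Q W, ap h x = x) ∧ ap h a = b := by
    intro a b ha hb hb0 hab hne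
    obtain ⟨c, hc, hQc, hcb⟩ := exists_quad_affine hG.nd hW (P := F ∙ b)
      ((Submodule.span_singleton_le_iff_mem _ _).2 hb) (by rw [finrank_span_singleton hb0]; omega)
      W.zero_mem (Q (a - b))
    have hcb' : polar ⇑Q c b = 0 := by
      rw [hcb b (Submodule.mem_span_singleton_self b), pl_zero_left]
    refine ⟨refl Q c * refl Q (a - b), refl_pair_mem_omega hG (by rw [hQc]; exact hne) hQc.symm,
      fun x hx => ?_, fun x hx => ?_, ?_⟩
    · rw [ap_mul]; exact refl_ap_mem hc (refl_ap_mem (W.sub_mem ha hb) hx)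
    · rw [ap_mul, hfix _ (W.sub_mem ha hb) x hx, hfix c hc x hx]
    · have e : polar ⇑Q (a - b) a = Q (a - b) := by
        rw [Q_sub, pl_sub_left, pl_self, hab, pl_comm Q b a]; ring
      rw [ap_mul, refl_ap Q (a - b) a, e, inv_mul_cancel₀ hne, one_smul, sub_sub_cancel, refl_ap_of_orth Q hcb']
  obtain ⟨v0, hv0, h1, h2⟩ : ∃ v0 ∈ W, polar ⇑Q v0 w ≠ 2 * Q w ∧ polar ⇑Q v0 w1 ≠ 2 * Q w := by
    by_cases h : 2 * Q w = 0
    · obtain ⟨v, hv, h1, h2⟩ := exists_common_dual hG.nd hW hw hw0 hw1 hw10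
      exact ⟨v, hv, by rw [h, pl_comm]; exact h1, by rw [h, pl_comm]; exact h2⟩
    · exact ⟨0, W.zero_mem, by rw [pl_zero_left]; exact Ne.symm h, by rw [pl_zero_left]; exact Ne.symm h⟩
  obtain ⟨v, hv, hQv, e1, e2⟩ := exists_quad_affine_pair hG.nd hW hd hw hw1 hv0 (Q w) (by
    by_cases hQ0 : Q w = 0
    · exact .inr (.inr (.inr (.inl fun h0 => h1 (by rw [h0, hQ0, mul_zero]))))
    · exact .inl hQ0)
  have hv00 : v ≠ 0 := fun h => by
    rw [h, pl_zero_left] at e1
    rw [h, QuadraticMap.map_zero] at hQv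
    exact h1 (by rw [← e1, ← hQv, mul_zero])
  obtain ⟨g1, hg1, hg1W, hg1f, hg1w⟩ := step w v hw hv hv00 hQv (by
    rw [Q_sub, hQv, pl_comm, e1, ← two_mul, sub_ne_zero]; exact Ne.symm h1)
  obtain ⟨g2, hg2, hg2W, hg2f, hg2w⟩ := step v w1 hv hw1 hw10 (hQw.trans hQv.symm) (by
    rw [Q_sub, hQv, hQw, e2, ← two_mul, sub_ne_zero]; exact Ne.symm h2)
  exact ⟨g2 * g1, mul_mem hg2 hg1, fun x hx => by rw [ap_mul]; exact hg2W _ (hg1W x hx),
    fun x hx => by rw [ap_mul, hg1f x hx, hg2f x hx], by rw [ap_mul, hg1w, hg2w]⟩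

/-- Big enough for the maximality argument: dimension at least four, and not the plus type four-space
over the field with two elements. -/
def IsBig (Q : QuadraticForm F (ι → F)) (W : Submodule F (ι → F)) : Prop :=
  4 ≤ finrank F W ∧ (Fintype.card F = 2 → finrank F W = 4 →
    ∀ x ∈ W, ∀ y ∈ W, x ≠ 0 → Q x = 0 → Q y = 0 → polar ⇑Q x y = 0 → y ∈ F ∙ x)

theorem isBig_of_five {W : Submodule F (ι → F)} (h : 5 ≤ finrank F W) : IsBig Q W :=
  ⟨by omega, fun _ h4 => by omega⟩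

theorem isBig_of_four {W : Submodule F (ι → F)} (h : 4 ≤ finrank F W) (hq : Fintype.card F ≠ 2) :
    IsBig Q W := ⟨h, fun h2 => absurd h2 hq⟩

/-- The radical of the orthogonal of `P` inside `W` lies in `P`. -/
theorem perp_inf_rad_le (hQ : Q.polarBilin.Nondegenerate) {W : Submodule F (ι → F)}
    (hW : ∀ x ∈ W, x ≠ 0 → ∃ y ∈ W, polar ⇑Q x y ≠ 0) {P : Submodule F (ι → F)} (hP : P ≤ W) :
    (W ⊓ perpSub Q P) ⊓ perpSub Q (W ⊓ perpSub Q P) ≤ P := by
  intro x hx
  have hKe : W ⊓ perpSub Q P = perpSub Q (perpSub Q W ⊔ P) := by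
    ext y
    simp only [Submodule.mem_inf, mem_perpSub]
    constructor
    · rintro ⟨h1, h2⟩ z hz
      obtain ⟨r, hr, p, hp, rfl⟩ := Submodule.mem_sup.1 hz
      rw [pl_add_left, h2 p hp, pl_comm Q r y, mem_perpSub.1 hr y h1, add_zero]
    · intro h
      refine ⟨?_, fun p hp => h p (Submodule.mem_sup_right hp)⟩
      rw [← perpSub_perpSub hQ W]
      exact mem_perpSub.2 fun r hr => h r (Submodule.mem_sup_left hr)
  have hx2 : x ∈ perpSub Q W ⊔ P := by
    have := hx.2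
    rw [hKe, perpSub_perpSub hQ] at this
    exact this
  obtain ⟨r, hr, p, hp, hrp⟩ := Submodule.mem_sup.1 hx2
  have hrW : r ∈ W := by
    rw [show r = x - p by rw [← hrp]; abel]
    exact W.sub_mem hx.1.1 (hP hp)
  rw [← hrp, disjoint_perpSub hW hrW hr, zero_add]
  exact hp

theorem exists_nonzero_ne (c : F)
    (hq : Fintype.card F ≠ 2) : ∃ a : F, a ≠ 0 ∧ a ≠ c := by
  classical
  by_contra hno
  push Not at hno
  have hsub : (Finset.univ : Finset F) ⊆ {0, c} := fun a _ => by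
    by_cases ha : a = 0
    · simp [ha]
    · simp [hno a ha]
  have h2 := (Finset.card_le_card hsub).trans Finset.card_le_two
  have := Fintype.one_lt_card (α := F)
  rw [Finset.card_univ] at h2
  omega

theorem eq_one_of_card_two (hq : Fintype.card F = 2) {a : F} (ha : a ≠ 0) : a = 1 := by
  classical
  by_contra h1
  have hsub : ({0, 1, a} : Finset F) ⊆ Finset.univ := Finset.subset_univ _
  have := Finset.card_le_card hsub
  rw [Finset.card_univ, hq, Finset.card_insert_of_notMem, Finset.card_insert_of_notMem,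
    Finset.card_singleton] at this
  · omega
  · simpa using fun h => h1 h.symm
  · simp [Ne.symm ha]

/-- A non-singular vector orthogonal to two given ones, unless they span a totally singular plane. -/
theorem exists_nonsing_orth (hQ : Q.polarBilin.Nondegenerate) {W : Submodule F (ι → F)}
    (hW : ∀ x ∈ W, x ≠ 0 → ∃ y ∈ W, polar ⇑Q x y ≠ 0) (hd : 4 ≤ finrank F W) {x y : ι → F}
    (hx : x ∈ W) (hy : y ∈ W) :
    (∃ p ∈ W, Q p ≠ 0 ∧ polar ⇑Q p x = 0 ∧ polar ⇑Q p y = 0) ∨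
      (finrank F W = 4 ∧ Q x = 0 ∧ Q y = 0 ∧ polar ⇑Q x y = 0 ∧ x ∉ F ∙ y ∧ y ∉ F ∙ x) := by
  set P := (F ∙ x) ⊔ (F ∙ y) with hPdef
  have hxP : x ∈ P := Submodule.mem_sup_left (Submodule.mem_span_singleton_self x)
  have hyP : y ∈ P := Submodule.mem_sup_right (Submodule.mem_span_singleton_self y)
  have hP : P ≤ W := sup_le ((Submodule.span_singleton_le_iff_mem _ _).2 hx)
    ((Submodule.span_singleton_le_iff_mem _ _).2 hy)
  have hPd : finrank F P ≤ 2 := finrank_span_duo_le x y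
  set K := W ⊓ perpSub Q P with hK
  by_cases hex : ∃ p ∈ K, Q p ≠ 0
  · obtain ⟨p, hp, hQp⟩ := hex
    exact .inl ⟨p, hp.1, hQp, by rw [pl_comm]; exact mem_perpSub.1 hp.2 x hxP,
      by rw [pl_comm]; exact mem_perpSub.1 hp.2 y hyP⟩
  push Not at hex
  have hKK : K ≤ K ⊓ perpSub Q K := fun z hz => ⟨hz, mem_perpSub.2 fun z' hz' =>
    OrthAct.polar_eq_zero_of_singular hex hz' hz⟩
  have hKP : K ≤ P := hKK.trans (perp_inf_rad_le hQ hW hP)
  have h1 := Submodule.finrank_mono hKP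
  have h2 := finrank_le_perp_inf hQ W P
  rw [← hK] at h2
  have heq : K = P := Submodule.eq_of_le_of_finrank_le hKP (by omega)
  have hline : ∀ a b : ι → F, (F ∙ a) ⊔ (F ∙ b) = P → a ∉ F ∙ b := fun a b e hab => by
    have hle : P ≤ F ∙ b := e ▸ sup_le ((Submodule.span_singleton_le_iff_mem _ _).2 hab) le_rfl
    have h := Submodule.finrank_mono hle
    by_cases h0 : b = 0
    · rw [h0, Submodule.span_zero_singleton, finrank_bot] at h; omega
    · rw [finrank_span_singleton h0] at h; omega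
  exact .inr ⟨by omega, hex x (heq ▸ hxP), hex y (heq ▸ hyP),
    OrthAct.polar_eq_zero_of_singular hex (heq ▸ hxP) (heq ▸ hyP), hline x y rfl,
    hline y x (by rw [hPdef, sup_comm])⟩

/-- Prescribed non-zero norm outside two proper subspaces, from dimension four on. -/
theorem exists_norm_avoid_small (hQ : Q.polarBilin.Nondegenerate) {W : Submodule F (ι → F)}
    (hW : ∀ x ∈ W, x ≠ 0 → ∃ y ∈ W, polar ⇑Q x y ≠ 0) (hB : IsBig Q W)
    {A B : Submodule F (ι → F)} (hA : ¬ W ≤ A) (hB' : ¬ W ≤ B) {c : F} (hc : c ≠ 0) :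
    ∃ q ∈ W, Q q = c ∧ q ∉ A ∧ q ∉ B := by
  by_cases h5 : 5 ≤ finrank F W
  · exact exists_norm_avoid hQ hW h5 hA hB' c
  have h4 : finrank F W = 4 := by have := hB.1; omega
  have one : ∀ C : Submodule F (ι → F), ¬ W ≤ C → ∃ q ∈ W, Q q = c ∧ q ∉ C := by
    intro C hC
    obtain ⟨a, ha, ha'⟩ := SetLike.not_le_iff_exists.1 hC
    obtain ⟨u, huW, hu, hua⟩ := exists_dual_in hQ hW (S := W ⊓ C) inf_le_left ha (fun h => ha' h.2)
    obtain ⟨q, hq, hQq, hqu⟩ := exists_quad_affine hQ hW (P := F ∙ u)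
      ((Submodule.span_singleton_le_iff_mem _ _).2 huW) (by
        by_cases h0 : u = 0
        · rw [h0, Submodule.span_zero_singleton, finrank_bot]; omega
        · rw [finrank_span_singleton h0]; omega) ha c
    refine ⟨q, hq, hQq, fun hmem => one_ne_zero (α := F) ?_⟩
    rw [← hua, pl_comm, ← hqu u (Submodule.mem_span_singleton_self u), pl_comm]
    exact hu q ⟨hq, hmem⟩
  by_contra! hcon
  have hB'' : ∀ q ∈ W, Q q = c → q ∉ A → q ∈ B := hcon
  have hA'' : ∀ q ∈ W, Q q = c → q ∉ B → q ∈ A := fun q hq hQq hqB =>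
    by_contra fun hqA => hqB (hcon q hq hQq hqA)
  obtain ⟨a, ha, hQa, haA⟩ := one A hA
  obtain ⟨b, hb, hQb, hbB⟩ := one B hB'
  have horth : ∀ a ∈ W, ∀ b ∈ W, Q a = c → Q b = c → a ∉ A → b ∉ B → polar ⇑Q a b = 0 := by
    intro a ha b hb hQa hQb haA hbB
    by_contra hne
    have haB := hB'' a ha hQa haA
    have hbA := hA'' b hb hQb hbB
    have ht : (Q a)⁻¹ * polar ⇑Q a b ≠ 0 := mul_ne_zero (inv_ne_zero (hQa ▸ hc)) hne
    have hm := hB'' (ap (refl Q a) b) (refl_ap_mem ha hb) (by rw [Q_ap, hQb]) fun h => haA (by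
      rw [refl_ap, A.sub_mem_iff_right hbA, A.smul_mem_iff ht] at h; exact h)
    rw [refl_ap] at hm
    exact hbB (by simpa using B.add_mem hm (B.smul_mem ((Q a)⁻¹ * polar ⇑Q a b) haB))
  have hab := horth a ha b hb hQa hQb haA hbB
  have hbA := hA'' b hb hQb hbB
  have hab' : a ∉ F ∙ b := fun h => haA ((Submodule.span_singleton_le_iff_mem _ _).2 hbA h)
  have hba' : b ∉ F ∙ a := fun h => hbB
    ((Submodule.span_singleton_le_iff_mem _ _).2 (hB'' a ha hQa haA) h)
  obtain ⟨v1, hv1, hv1b, hv1a⟩ := exists_dual_in hQ hW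
    ((Submodule.span_singleton_le_iff_mem _ _).2 hb) ha hab'
  obtain ⟨v2, hv2, hv2a, hv2b⟩ := exists_dual_in hQ hW
    ((Submodule.span_singleton_le_iff_mem _ _).2 ha) hb hba'
  have eval : ∀ s t : F, polar ⇑Q (s • v1 + t • v2) a = s ∧ polar ⇑Q (s • v1 + t • v2) b = t :=
    fun s t => by
      constructor
      · rw [pl_add_left, pl_smul_left, pl_smul_left, hv1a, hv2a a (Submodule.mem_span_singleton_self a)]
        ring
      · rw [pl_add_left, pl_smul_left, pl_smul_left, hv1b b (Submodule.mem_span_singleton_self b), hv2b]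
        ring
  obtain ⟨z, hz, hQz, hza, hzb⟩ : ∃ z ∈ W, Q z = c ∧ polar ⇑Q z a ≠ 0 ∧ polar ⇑Q z b ≠ 0 := by
    have hP : (F ∙ a) ⊔ (F ∙ b) ≤ W := sup_le ((Submodule.span_singleton_le_iff_mem _ _).2 ha)
      ((Submodule.span_singleton_le_iff_mem _ _).2 hb)
    have hpd := finrank_span_duo_le (F := F) a b
    by_cases h2 : (2 : F) = 0
    · have haa : polar ⇑Q a a = 0 := by rw [pl_self, h2, zero_mul]
      have hbb : polar ⇑Q b b = 0 := by rw [pl_self, h2, zero_mul]
      have hQr : Q (a + b) = 0 := by rw [Q_add, hQa, hQb, hab]; linear_combination c * h2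
      have hra : polar ⇑Q (a + b) a = 0 := by rw [pl_add_left, haa, pl_comm Q b a, hab, add_zero]
      have hrb : polar ⇑Q (a + b) b = 0 := by rw [pl_add_left, hbb, hab, add_zero]
      by_cases hq : Fintype.card F = 2
      · have hz0 : (1 : F) • v1 + (1 : F) • v2 ∈ W :=
          W.add_mem (W.smul_mem _ hv1) (W.smul_mem _ hv2)
        obtain ⟨ea, eb⟩ := eval 1 1
        refine ⟨_, hz0, ?_, by rw [ea]; exact one_ne_zero, by rw [eb]; exact one_ne_zero⟩
        rw [eq_one_of_card_two hq hc]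
        refine eq_one_of_card_two hq fun hQz => ?_
        have hr0 : a + b ≠ 0 := fun h => hab' (by
          rw [eq_neg_of_add_eq_zero_left h]
          exact Submodule.neg_mem _ (Submodule.mem_span_singleton_self b))
        have hmem := hB.2 hq h4 _ (W.add_mem ha hb) _ hz0 hr0 hQr hQz (by
          rw [pl_comm, pl_add_right, ea, eb]; linear_combination h2)
        obtain ⟨t, ht⟩ := Submodule.mem_span_singleton.1 hmem
        rw [← ht, pl_smul_left, hra, mul_zero] at ea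
        exact zero_ne_one ea
      · obtain ⟨t, ht0, ht1⟩ := exists_nonzero_ne (1 : F) hq
        set v0 := (1 : F) • v1 + t • v2 with hv0
        obtain ⟨ea, eb⟩ := eval 1 t
        have hne : polar ⇑Q v0 (a + b) ≠ 0 := by
          rw [pl_add_right, ea, eb]
          intro h0
          exact ht1 (by linear_combination h0 - h2)
        refine ⟨v0 + ((c - Q v0) / polar ⇑Q v0 (a + b)) • (a + b),
          W.add_mem (W.add_mem (W.smul_mem _ hv1) (W.smul_mem _ hv2)) (W.smul_mem _ (W.add_mem ha hb)),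
          ?_, ?_, ?_⟩
        · rw [Q_add, Q_smul, hQr, pl_smul_right, div_mul_cancel₀ _ hne]; ring
        · rw [pl_add_left, pl_smul_left, hra, mul_zero, add_zero, ea]; exact one_ne_zero
        · rw [pl_add_left, pl_smul_left, hrb, mul_zero, add_zero, eb]; exact ht0
    · obtain ⟨z, hz, hQz, hzP⟩ := exists_quad_affine_rad hQ hW (P := (F ∙ a) ⊔ (F ∙ b)) hP (by
        have hbot : ((F ∙ a) ⊔ (F ∙ b)) ⊓ perpSub Q ((F ∙ a) ⊔ (F ∙ b)) = ⊥ := by
          rw [eq_bot_iff]
          rintro x ⟨hxP, hxp⟩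
          obtain ⟨x1, hx1, x2, hx2, rfl⟩ := Submodule.mem_sup.1 hxP
          obtain ⟨s, rfl⟩ := Submodule.mem_span_singleton.1 hx1
          obtain ⟨t, rfl⟩ := Submodule.mem_span_singleton.1 hx2
          have e1 := mem_perpSub.1 hxp a (Submodule.mem_sup_left (Submodule.mem_span_singleton_self a))
          have e2 := mem_perpSub.1 hxp b (Submodule.mem_sup_right (Submodule.mem_span_singleton_self b))
          rw [pl_add_right, pl_smul_right, pl_smul_right, pl_self, hQa, hab, mul_zero, add_zero] at e1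
          rw [pl_add_right, pl_smul_right, pl_smul_right, pl_comm Q b a, hab, pl_self, hQb, mul_zero,
            zero_add] at e2
          rw [(mul_eq_zero.1 e1).resolve_right (mul_ne_zero h2 hc),
            (mul_eq_zero.1 e2).resolve_right (mul_ne_zero h2 hc)]
          simp
        rw [hbot, finrank_bot]
        omega) (W.add_mem (W.smul_mem (1 : F) hv1) (W.smul_mem (1 : F) hv2)) c
      obtain ⟨ea, eb⟩ := eval 1 1
      refine ⟨z, hz, hQz, ?_, ?_⟩
      · rw [hzP a (Submodule.mem_sup_left (Submodule.mem_span_singleton_self a)), ea]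
        exact one_ne_zero
      · rw [hzP b (Submodule.mem_sup_right (Submodule.mem_span_singleton_self b)), eb]
        exact one_ne_zero
  have side : ∀ (C D : Submodule F (ι → F)) (a b : ι → F), a ∈ W → Q a = c → b ∈ W → Q b = c →
      a ∉ C → z ∈ C → polar ⇑Q a b = 0 → polar ⇑Q z a ≠ 0 → polar ⇑Q z b ≠ 0 →
      (∀ a' ∈ W, Q a' = c → a' ∉ C → polar ⇑Q a' b = 0) → False := by
    intro C _ a b ha hQa hb hQb haC hzC hab hza hzb h
    have ht : (Q z)⁻¹ * polar ⇑Q z a ≠ 0 := mul_ne_zero (inv_ne_zero (hQz ▸ hc)) hza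
    have := h (ap (refl Q z) a) (refl_ap_mem hz ha) (by rw [Q_ap, hQa]) fun hm => haC (by
      rw [refl_ap] at hm
      simpa using C.add_mem hm (C.smul_mem ((Q z)⁻¹ * polar ⇑Q z a) hzC))
    rw [refl_ap, pl_sub_left, pl_smul_left, hab, zero_sub, neg_eq_zero] at this
    exact mul_ne_zero ht hzb this
  by_cases hzA : z ∈ A
  · exact side A B a b ha hQa hb hQb haA hzA hab hza hzb fun a' ha' hQ' hA' =>
      horth a' ha' b hb hQ' hQb hA' hbB
  · exact side B A b a hb hQb ha hQa hbB (hB'' z hz hQz hzA) (by rw [pl_comm]; exact hab) hzb hza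
      fun b' hb' hQ' hB2 => by rw [pl_comm]; exact horth a ha b' hb' hQa hQ' haA hB2

/-- Transitivity on the non-zero vectors of a given norm, from dimension four on. -/
theorem exists_omega_transit_small (hG : Good Q) {W : Submodule F (ι → F)}
    (hW : ∀ x ∈ W, x ≠ 0 → ∃ y ∈ W, polar ⇑Q x y ≠ 0) (hB : IsBig Q W) {w w1 : ι → F}
    (hw : w ∈ W) (hw0 : w ≠ 0) (hw1 : w1 ∈ W) (hw10 : w1 ≠ 0) (hQw : Q w1 = Q w) :
    ∃ h : IsoGrp Q, h ∈ Omega F ⇑Q ∧ (∀ x ∈ W, ap h x ∈ W) ∧ (∀ x ∈ perpSub Q W, ap h x = x) ∧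
      ap h w = w1 := by
  by_cases h5 : 5 ≤ finrank F W
  · exact exists_omega_transit hG hW h5 hw hw0 hw1 hw10 hQw
  have h4 : finrank F W = 4 := by have := hB.1; omega
  have hfix : ∀ a ∈ W, ∀ x ∈ perpSub Q W, ap (refl Q a) x = x := fun a ha x hx =>
    refl_ap_of_orth Q (mem_perpSub.1 hx a ha)
  have step : ∀ a b : ι → F, a ∈ W → b ∈ W → b ≠ 0 → Q b = Q a → Q (a - b) ≠ 0 →
      ∃ h : IsoGrp Q, h ∈ Omega F ⇑Q ∧ (∀ x ∈ W, ap h x ∈ W) ∧
        (∀ x ∈ perpSub Q W, ap h x = x) ∧ ap h a = b := by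
    intro a b ha hb hb0 hab hne
    obtain ⟨c, hc, hQc, hcb⟩ := exists_quad_affine hG.nd hW (P := F ∙ b)
      ((Submodule.span_singleton_le_iff_mem _ _).2 hb) (by rw [finrank_span_singleton hb0]; omega)
      W.zero_mem (Q (a - b))
    have hcb' : polar ⇑Q c b = 0 := by
      rw [hcb b (Submodule.mem_span_singleton_self b), pl_zero_left]
    refine ⟨refl Q c * refl Q (a - b), refl_pair_mem_omega hG (by rw [hQc]; exact hne) hQc.symm,
      fun x hx => ?_, fun x hx => ?_, ?_⟩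
    · rw [ap_mul]; exact refl_ap_mem hc (refl_ap_mem (W.sub_mem ha hb) hx)
    · rw [ap_mul, hfix _ (W.sub_mem ha hb) x hx, hfix c hc x hx]
    · have e : polar ⇑Q (a - b) a = Q (a - b) := by
        rw [Q_sub, pl_sub_left, pl_self, hab, pl_comm Q b a]; ring
      rw [ap_mul, refl_ap Q (a - b) a, e, inv_mul_cancel₀ hne, one_smul, sub_sub_cancel,
        refl_ap_of_orth Q hcb']
  by_cases hne : Q (w - w1) ≠ 0
  · exact step w w1 hw hw1 hw10 hQw hne
  push Not at hne
  by_cases heq : w1 = w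
  · exact ⟨1, one_mem _, fun x hx => by rw [ap_one]; exact hx, fun x _ => ap_one x,
      by rw [ap_one, heq]⟩
  have hww : polar ⇑Q w w1 = 2 * Q w := by
    rw [Q_sub, hQw] at hne
    linear_combination -hne
  set r := w - w1 with hr
  have hrw : polar ⇑Q r w = 0 := by rw [hr, pl_sub_left, pl_self, pl_comm Q w1 w, hww, sub_self]
  have hrw1 : polar ⇑Q r w1 = 0 := by rw [hr, pl_sub_left, pl_self, hww, hQw, sub_self]
  obtain ⟨v, hv, hQv, e1, e2⟩ : ∃ v ∈ W, Q v = Q w ∧ polar ⇑Q v w ≠ 2 * Q w ∧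
      polar ⇑Q v w1 ≠ 2 * Q w := by
    by_cases hN : Q w = 0
    · obtain ⟨v0, hv0, h1, h2⟩ := exists_common_dual hG.nd hW hw hw0 hw1 hw10
      rw [hN, mul_zero] at hww
      rw [hN, mul_zero]
      refine ⟨v0 + ((0 - Q v0) / polar ⇑Q v0 w) • w, W.add_mem hv0 (W.smul_mem _ hw), ?_, ?_, ?_⟩
      · rw [Q_add, Q_smul, hN, pl_smul_right, div_mul_cancel₀ _ (by rw [pl_comm]; exact h1)]; ring
      · rw [pl_add_left, pl_smul_left, pl_self, hN, mul_zero, mul_zero, add_zero, pl_comm]; exact h1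
      · rw [pl_add_left, pl_smul_left, hww, mul_zero, add_zero, pl_comm]; exact h2
    have hr0 : r ≠ 0 := sub_ne_zero.2 (Ne.symm heq)
    have hrw' : r ∉ F ∙ w := fun h => by
      obtain ⟨t, ht⟩ := Submodule.mem_span_singleton.1 h
      have ht0 : t ≠ 0 := fun h0 => hr0 (by rw [← ht, h0, zero_smul])
      rw [← ht, Q_smul] at hne
      exact hN ((mul_eq_zero.1 hne).resolve_left (mul_ne_zero ht0 ht0))
    have hwr : w ∉ F ∙ r := fun h => by
      obtain ⟨t, ht⟩ := Submodule.mem_span_singleton.1 h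
      rw [← ht, Q_smul, hne, mul_zero] at hN
      exact hN rfl
    obtain ⟨v1, hv1, hv1r, hv1w⟩ := exists_dual_in hG.nd hW
      ((Submodule.span_singleton_le_iff_mem _ _).2 (W.sub_mem hw hw1)) hw hwr
    obtain ⟨v2, hv2, hv2w, hv2r⟩ := exists_dual_in hG.nd hW
      ((Submodule.span_singleton_le_iff_mem _ _).2 hw) (W.sub_mem hw hw1) hrw'
    have hw1e : w1 = w - r := by rw [hr, sub_sub_cancel]
    by_cases hq : Fintype.card F = 2
    · have h2 : (2 : F) = 0 := by
        by_contra h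
        have := eq_one_of_card_two hq h
        exact one_ne_zero (α := F) (by linear_combination this)
      refine ⟨v1, hv1, ?_, ?_, ?_⟩
      · rw [eq_one_of_card_two hq hN]
        refine eq_one_of_card_two hq fun hQz => ?_
        obtain ⟨t, ht⟩ := Submodule.mem_span_singleton.1 (hB.2 hq h4 r (W.sub_mem hw hw1) v1 hv1 hr0
          hne hQz (by rw [pl_comm]; exact hv1r r (Submodule.mem_span_singleton_self r)))
        rw [← ht, pl_smul_left, hrw, mul_zero] at hv1w
        exact zero_ne_one hv1w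
      · rw [hv1w, h2, zero_mul]; exact one_ne_zero
      · rw [hw1e, pl_sub_right, hv1w, hv1r r (Submodule.mem_span_singleton_self r), sub_zero, h2,
          zero_mul]
        exact one_ne_zero
    obtain ⟨γ, hγ0, hγ1⟩ := exists_nonzero_ne (1 : F) hq
    set v0 := (2 * Q w + 1) • v1 + γ • v2 with hv0
    have a1 : polar ⇑Q v0 w = 2 * Q w + 1 := by
      rw [hv0, pl_add_left, pl_smul_left, pl_smul_left, hv1w,
        hv2w w (Submodule.mem_span_singleton_self w)]
      ring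
    have a2 : polar ⇑Q v0 r = γ := by
      rw [hv0, pl_add_left, pl_smul_left, pl_smul_left, hv2r,
        hv1r r (Submodule.mem_span_singleton_self r)]
      ring
    refine ⟨v0 + ((Q w - Q v0) / γ) • r,
      W.add_mem (W.add_mem (W.smul_mem _ hv1) (W.smul_mem _ hv2)) (W.smul_mem _ (W.sub_mem hw hw1)),
      ?_, ?_, ?_⟩
    · rw [Q_add, Q_smul, hne, pl_smul_right, a2, div_mul_cancel₀ _ hγ0]; ring
    · rw [pl_add_left, pl_smul_left, hrw, mul_zero, add_zero, a1]
      exact fun h => one_ne_zero (α := F) (by linear_combination h)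
    · rw [pl_add_left, pl_smul_left, hrw1, mul_zero, add_zero, hw1e, pl_sub_right, a1, a2]
      exact fun h => hγ1 (by linear_combination -h)
  have hv0 : v ≠ 0 := fun h => e1 (by
    rw [h, pl_zero_left]; rw [h, QuadraticMap.map_zero] at hQv; rw [← hQv, mul_zero])
  obtain ⟨g1, hg1, hg1W, hg1f, hg1w⟩ := step w v hw hv hv0 hQv (by
    rw [Q_sub, hQv, pl_comm, ← two_mul, sub_ne_zero]; exact Ne.symm e1)
  obtain ⟨g2, hg2, hg2W, hg2f, hg2w⟩ := step v w1 hv hw1 hw10 (hQw.trans hQv.symm) (by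
    rw [Q_sub, hQv, hQw, ← two_mul, sub_ne_zero]; exact Ne.symm e2)
  exact ⟨g2 * g1, mul_mem hg2 hg1, fun x hx => by rw [ap_mul]; exact hg2W _ (hg1W x hx),
    fun x hx => by rw [ap_mul, hg1f x hx, hg2f x hx], by rw [ap_mul, hg1w, hg2w]⟩

/-- Prescribed norm and product with `w`, off the line of `w`. -/
theorem exists_off_line (hQ : Q.polarBilin.Nondegenerate) {W : Submodule F (ι → F)}
    (hW : ∀ x ∈ W, x ≠ 0 → ∃ y ∈ W, polar ⇑Q x y ≠ 0) (hd : 4 ≤ finrank F W) {w : ι → F}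
    (hw : w ∈ W) (hw0 : w ≠ 0) (α s : F) (h : Q w ≠ 0 ∨ α ≠ 0 ∨ s ≠ 0) :
    ∃ v ∈ W, Q v = s ∧ polar ⇑Q v w = α ∧ v ∉ F ∙ w := by
  obtain ⟨v1, hv1, -, hv1w⟩ := exists_dual_in hQ hW (S := ⊥) bot_le hw
    (fun h => hw0 ((Submodule.mem_bot F).1 h))
  obtain ⟨v, hv, hQv, hvw⟩ := exists_quad_affine hQ hW (P := F ∙ w)
    ((Submodule.span_singleton_le_iff_mem _ _).2 hw) (by rw [finrank_span_singleton hw0]; omega)
    (W.smul_mem α hv1) s
  have e := hvw w (Submodule.mem_span_singleton_self w)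
  rw [pl_smul_left, hv1w, mul_one] at e
  by_cases hmem : v ∈ F ∙ w
  swap; · exact ⟨v, hv, hQv, e, hmem⟩
  obtain ⟨t, rfl⟩ := Submodule.mem_span_singleton.1 hmem
  have hQw : Q w ≠ 0 := fun h0 => by
    rw [pl_smul_left, pl_self, h0, mul_zero, mul_zero] at e
    rw [Q_smul, h0, mul_zero] at hQv
    rcases h with h | h | h
    · exact h h0
    · exact h e.symm
    · exact h hQv.symm
  have hK : 3 ≤ finrank F (W ⊓ perpSub Q (F ∙ w) : Submodule F (ι → F)) := by
    have := finrank_le_perp_inf hQ W (F ∙ w)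
    rw [finrank_span_singleton hw0] at this
    omega
  obtain ⟨⟨y, hyW, hyw⟩, hy0, hQy⟩ :=
    Forms.exists_singular_of_three_le (Q.comp (W ⊓ perpSub Q (F ∙ w)).subtype) hK
  change Q y = 0 at hQy
  have hwy : polar ⇑Q w y = 0 := mem_perpSub.1 hyw w (Submodule.mem_span_singleton_self w)
  refine ⟨t • w + y, W.add_mem hv hyW, ?_, ?_, fun hm => ?_⟩
  · rw [Q_add, hQy, pl_smul_left, hwy, hQv]; ring
  · rw [pl_add_left, pl_comm Q y w, hwy, add_zero, e]
  · rw [Submodule.add_mem_iff_right _ hmem] at hm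
    obtain ⟨u, hu⟩ := Submodule.mem_span_singleton.1 hm
    rw [← hu, Q_smul] at hQy
    rcases mul_eq_zero.1 hQy with h' | h'
    · exact hy0 (Subtype.ext (by
        show y = 0
        rw [← hu, mul_self_eq_zero.1 h', zero_smul]))
    · exact hQw h'

/-- An invariant subspace of a non-degenerate `W` is trivial, except for plus planes over `𝔽₂, 𝔽₃`. -/
theorem eq_of_invariant (hQ : Q.polarBilin.Nondegenerate) {W : Submodule F (ι → F)}
    (hW : ∀ x ∈ W, x ≠ 0 → ∃ y ∈ W, polar ⇑Q x y ≠ 0)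
    (hex : ¬ (Fintype.card F ≤ 3 ∧ finrank F W = 2 ∧ Geo.IsPlusTypeOn ⇑Q W))
    {U : Submodule F (ι → F)} (hUW : U ≤ W) (hU0 : U ≠ ⊥)
    (hr : ∀ z ∈ W, Q z ≠ 0 → ∀ u ∈ U, ap (refl Q z) u ∈ U)
    (he : ∀ u ∈ W, ∀ v ∈ W, Q u = 0 → polar ⇑Q u v = 0 → Q v = 0 → ∀ x ∈ U, ap (eich Q u v) x ∈ U) :
    U = W := by
  by_contra hne
  set U' := W ⊓ perpSub Q U with hU'
  have hud : finrank F U < finrank F W := Submodule.finrank_lt_finrank_of_lt (lt_of_le_of_ne hUW hne)
  have hU'0 : U' ≠ ⊥ := fun h => by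
    have := finrank_le_perp_inf hQ W U
    rw [← hU', h, finrank_bot] at this
    omega
  have hdich : ∀ z ∈ W, Q z ≠ 0 → z ∈ U ∨ z ∈ U' := by
    intro z hz hQz
    by_cases h : ∀ u ∈ U, polar ⇑Q u z = 0
    · exact .inr ⟨hz, h⟩
    · push Not at h
      obtain ⟨u, hu, huz⟩ := h
      left
      have h1 := U.sub_mem hu (hr z hz hQz u hu)
      rw [refl_ap, sub_sub_cancel, pl_comm] at h1
      exact (U.smul_mem_iff (mul_ne_zero (inv_ne_zero hQz) huz)).1 h1
  have hplane : ∀ y ∈ W, y ≠ 0 → Q y = 0 → Fintype.card F ≤ 3 → finrank F W = 2 → False :=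
    fun y hy hy0 hQy hq hd => hex ⟨hq, hd, F ∙ y, (Submodule.span_singleton_le_iff_mem _ _).2 hy,
      fun w hw => by
        obtain ⟨t, rfl⟩ := Submodule.mem_span_singleton.1 hw
        rw [Q_smul, hQy, mul_zero],
      by rw [finrank_span_singleton hy0, hd]⟩
  by_cases hR : ∃ r, r ∈ U ∧ r ∈ U' ∧ r ≠ 0
  · obtain ⟨r, hrU, hrU', hr0⟩ := hR
    obtain ⟨y, hy, hry⟩ := hW r (hUW hrU) hr0
    have hsing : ∀ z ∈ W, polar ⇑Q r z ≠ 0 → Q z = 0 := fun z hz hrz => by
      by_contra h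
      rcases hdich z hz h with hm | hm
      · exact hrz (by rw [pl_comm]; exact (mem_perpSub.1 hrU'.2) z hm)
      · exact hrz ((mem_perpSub.1 hm.2) r hrU)
    set K := W ⊓ LinearMap.ker (Q.polarBilin r)
    have hQy := hsing y hy hry
    have hK : ∀ z ∈ K, polar ⇑Q y z + Q z = 0 := fun z hz => by
      have := hsing (y + z) (W.add_mem hy hz.1) (by
        rw [pl_add_right, show polar ⇑Q r z = 0 from hz.2, add_zero]; exact hry)
      rw [Q_add, hQy] at this
      linear_combination this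
    have hKiso : ∀ z ∈ K, ∀ z' ∈ K, polar ⇑Q z z' = 0 := fun z hz z' hz' => by
      have := hK _ (K.add_mem hz hz')
      rw [pl_add_right, Q_add] at this
      linear_combination this - hK z hz - hK z' hz'
    have hrK : r ∈ K := ⟨hUW hrU, show polar ⇑Q r r = 0 from (mem_perpSub.1 hrU'.2) r hrU⟩
    have hdK : finrank F W ≤ finrank F K + 1 := by
      have h1 := Submodule.finrank_sup_add_finrank_inf_eq W (LinearMap.ker (Q.polarBilin r))
      have h2 := LinearMap.finrank_range_add_finrank_ker (Q.polarBilin r)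
      have h3 := Submodule.finrank_le (LinearMap.range (Q.polarBilin r))
      have h4 := Submodule.finrank_le (W ⊔ LinearMap.ker (Q.polarBilin r))
      rw [Module.finrank_self] at h3
      rw [finrank_space] at h2 h4
      show _ ≤ finrank F (W ⊓ LinearMap.ker (Q.polarBilin r) : Submodule F (ι → F)) + 1
      omega
    have hK2 : 2 * finrank F K ≤ finrank F W := by
      have hle : K ≤ perpSub Q (perpSub Q W ⊔ K) := fun z hz => mem_perpSub.2 fun t ht => by
        obtain ⟨a, ha, b, hb, rfl⟩ := Submodule.mem_sup.1 ht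
        rw [pl_add_left, pl_comm Q a z, mem_perpSub.1 ha z hz.1, hKiso b hb z hz, add_zero]
      have h1 := Submodule.finrank_mono hle
      have h2 := Submodule.finrank_sup_add_finrank_inf_eq (perpSub Q W) K
      have h3 : perpSub Q W ⊓ K = ⊥ := by
        rw [eq_bot_iff]; rintro x ⟨h1, h2⟩; exact disjoint_perpSub hW h2.1 h1
      have h5 := Submodule.finrank_le W
      rw [finrank_space] at h5
      rw [h3, finrank_bot, finrank_perpSub hQ] at h2
      rw [finrank_perpSub hQ] at h1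
      omega
    have hK1 : 1 ≤ finrank F K := Submodule.one_le_finrank_iff.2 fun h => by
      rw [h] at hrK; exact hr0 hrK
    have hy0 : y ≠ 0 := fun h => hry (by rw [h, pl_zero_right])
    refine hplane y hy hy0 hQy ?_ (by omega)
    by_contra hq
    obtain ⟨t, ht0, ht1⟩ := exists_scalar_of_card (F := F) (by omega)
    have e1 := hK r hrK
    have e2 := hK _ (K.smul_mem t hrK)
    rw [pl_smul_right, Q_smul] at e2
    have h3 : t * (t - 1) * Q r = 0 := by linear_combination e2 - t * e1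
    rw [mul_eq_zero, mul_eq_zero] at h3
    have hQr : Q r = 0 := (h3.resolve_left (by simp [ht0, sub_eq_zero, ht1]))
    rw [hQr, add_zero, pl_comm] at e1
    exact hry e1
  push Not at hR
  have hkey : ∀ a ∈ U, a ≠ 0 → ∀ b ∈ U', b ≠ 0 → Q a + Q b = 0 := by
    intro a ha ha0 b hb hb0
    by_contra h
    have hQ' : Q (a + b) ≠ 0 := by rw [Q_add, (mem_perpSub.1 hb.2) a ha, add_zero]; exact h
    rcases hdich _ (W.add_mem (hUW ha) hb.1) hQ' with hm | hm
    · exact hb0 (hR b ((U.add_mem_iff_right ha).1 hm) hb)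
    · exact ha0 (hR a ha ((U'.add_mem_iff_left hb).1 hm))
  obtain ⟨b, hb, hb0⟩ := Submodule.exists_mem_ne_zero_of_ne_bot hU'0
  obtain ⟨a, ha, ha0⟩ := Submodule.exists_mem_ne_zero_of_ne_bot hU0
  set s := Q a with hs
  have hbs : ∀ b ∈ U', b ≠ 0 → Q b = -s := fun b hb hb0 => by linear_combination hkey a ha ha0 b hb hb0
  have hconst : ∀ a' ∈ U, a' ≠ 0 → Q a' = s := fun a' ha' h0 => by
    linear_combination hkey a' ha' h0 b hb hb0 - hkey a ha ha0 b hb hb0
  have hs0 : s ≠ 0 := fun h => by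
    refine ha0 (hR a ha ⟨hUW ha, mem_perpSub.2 fun u hu => ?_⟩)
    have hall : ∀ u ∈ U, Q u = 0 := fun u hu => by
      by_cases h0 : u = 0
      · simp [h0]
      · rw [hconst u hu h0, h]
    exact OrthAct.polar_eq_zero_of_singular hall hu ha
  have hsq : ∀ t : F, t ≠ 0 → t * t = 1 := fun t ht => by
    have := hconst _ (U.smul_mem t ha) (smul_ne_zero ht ha0)
    rw [Q_smul, ← hs] at this
    exact mul_right_cancel₀ hs0 (by rw [this, one_mul])
  have hq : Fintype.card F ≤ 3 := by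
    classical
    have : (Finset.univ : Finset F) ⊆ {0, 1, -1} := fun t _ => by
      by_cases ht : t = 0
      · simp [ht]
      · rcases mul_self_eq_one_iff.1 (hsq t ht) with h | h <;> simp [h]
    exact (Finset.card_le_card this).trans Finset.card_le_three
  have hind : ∀ a a' s', a ≠ 0 → a' ∉ (F ∙ a) → Q a = s' → Q a' = s' → Q (a + a') = s' →
      Q (a - a') = s' → 2 * s' = 0 := fun a a' s' _ _ e1 e2 e3 e4 => by
    rw [Q_add, e1, e2] at e3
    rw [Q_sub, e1, e2] at e4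
    linear_combination e3 + e4
  have hsum : ∀ (X : Submodule F (ι → F)) (c : F), (∀ x ∈ X, x ≠ 0 → Q x = c) → ∀ a ∈ X, a ≠ 0 →
      (2 : F) * c ≠ 0 → X ≤ F ∙ a := fun X c hX a haX ha0 hc a' ha'X => by
    by_contra hne'
    have h0 : a' ≠ 0 := fun h => hne' (h ▸ Submodule.zero_mem _)
    refine hc (hind a a' c ha0 hne' (hX a haX ha0) (hX a' ha'X h0) (hX _ (X.add_mem haX ha'X) fun h => hne' ?_)
      (hX _ (X.sub_mem haX ha'X) fun h => hne' ?_))
    · rw [eq_neg_of_add_eq_zero_right h]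
      exact Submodule.neg_mem _ (Submodule.mem_span_singleton_self a)
    · rw [← sub_eq_zero.1 h]; exact Submodule.mem_span_singleton_self a
  by_cases h2 : (2 : F) = 0
  · -- the two anisotropic planes over the field with two elements
    have hone : ∀ t : F, t ≠ 0 → t = 1 := fun t ht => by
      rcases mul_self_eq_one_iff.1 (hsq t ht) with h | h
      · exact h
      · rw [h]; linear_combination -h2
    obtain ⟨a2, ha2, ha2'⟩ : ∃ a2 ∈ U, polar ⇑Q a2 a ≠ 0 := by
      by_contra! h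
      exact ha0 (hR a ha ⟨hUW ha, mem_perpSub.2 h⟩)
    obtain ⟨b2, hb2, hb2'⟩ : ∃ b2 ∈ U', polar ⇑Q b b2 ≠ 0 := by
      by_contra! h
      obtain ⟨y, hy, hby⟩ := hW b hb.1 hb0
      have hdec : W ≤ U ⊔ U' := by
        refine (Submodule.eq_of_le_of_finrank_le (sup_le hUW inf_le_left) ?_).ge
        have h1 := Submodule.finrank_sup_add_finrank_inf_eq U U'
        have h3 : U ⊓ U' = ⊥ := by rw [eq_bot_iff]; rintro x ⟨h1, h2⟩; exact hR x h1 h2
        have h4 := finrank_le_perp_inf hQ W U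
        rw [h3, finrank_bot] at h1
        rw [← hU'] at h4 ⊢
        omega
      obtain ⟨c, hc, d, hd, rfl⟩ := Submodule.mem_sup.1 (hdec hy)
      exact hby (by rw [pl_add_right, pl_comm, (mem_perpSub.1 hb.2) c hc, h d hd, add_zero])
    have ha20 : a2 ≠ 0 := fun h => ha2' (by rw [h, pl_zero_left])
    have hb20 : b2 ≠ 0 := fun h => hb2' (by rw [h, pl_zero_right])
    have haa : polar ⇑Q a a = 0 := by rw [pl_self, h2, zero_mul]
    have h1 : Q (a + b) = 0 := by
      rw [Q_add, (mem_perpSub.1 hb.2) a ha, add_zero]; exact hkey a ha ha0 b hb hb0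
    have h1' : Q (a2 + b2) = 0 := by
      rw [Q_add, (mem_perpSub.1 hb2.2) a2 ha2, add_zero]; exact hkey a2 ha2 ha20 b2 hb2 hb20
    have h12 : polar ⇑Q (a + b) (a2 + b2) = 0 := by
      rw [pl_add_left, pl_add_right, pl_add_right, (mem_perpSub.1 hb2.2) a ha, pl_comm Q b a2, (mem_perpSub.1 hb.2) a2 ha2,
        pl_comm Q a a2, hone _ ha2', hone _ hb2']
      linear_combination h2
    have hmem := he _ (W.add_mem (hUW ha) hb.1) _ (W.add_mem (hUW ha2) hb2.1) h1 h12 h1' a ha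
    rw [eich_ap h1 h12, h1', pl_add_left, pl_add_left, haa, pl_comm Q b a, (mem_perpSub.1 hb.2) a ha,
      pl_comm Q b2 a, (mem_perpSub.1 hb2.2) a ha, hone _ ha2'] at hmem
    simp only [zero_smul, add_zero, mul_zero, one_smul] at hmem
    have hbU : b ∈ U := by
      have := U.sub_mem (U.sub_mem ha hmem) ha
      rwa [sub_sub_cancel, add_sub_cancel_left] at this
    exact hb0 (hR b hbU hb)
  · have hU1 : U ≤ F ∙ a := hsum U s hconst a ha ha0 (mul_ne_zero h2 hs0)
    have hU'1 : U' ≤ F ∙ b := hsum U' (-s) hbs b hb hb0 (mul_ne_zero h2 (neg_ne_zero.2 hs0))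
    have h1 := Submodule.finrank_mono hU1
    have h1' := Submodule.finrank_mono hU'1
    rw [finrank_span_singleton ha0] at h1
    rw [finrank_span_singleton hb0] at h1'
    have h4 := finrank_le_perp_inf hQ W U
    rw [← hU'] at h4
    have hU1' : 1 ≤ finrank F U := Submodule.one_le_finrank_iff.2 hU0
    refine hplane (a + b) (W.add_mem (hUW ha) hb.1) (fun h => ha0 ?_) ?_ hq (by omega)
    · refine hR a ha ?_
      rw [eq_neg_of_add_eq_zero_left h]; exact U'.neg_mem hb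
    · rw [Q_add, (mem_perpSub.1 hb.2) a ha, add_zero]; exact hkey a ha ha0 b hb hb0

end Cfsg.Agent.Orth
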