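import Cfsg.Agent.Lib.Orth.Derange
import Cfsg.Agent.Lib.Orth.EvenSymp
import Cfsg.Agent.Lib.QuadClass.Odd
import Cfsg.Agent.Lib.Forms.Count
import Mathlib.Algebra.QuadraticAlgebra.Basic

/-!
# Self-adjoint roots of non-squares: the orthogonal groups over the quadratic extension

* `IsRoot Q ν J` : `J² = ν`, `J` self-adjoint for the polar form
* `phi` : the values of the extension form; `frame` : orthogonal `J`-planes of prescribed values
* `exists_conj_root` : two roots of the same non-square are conjugate in the isometry group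
* `exists_ext_form` : the order and type of the orthogonal group over the extension
-/

set_option autoImplicit false
set_option linter.unusedSectionVars false

namespace Cfsg.Agent.Orth

open Cfsg Matrix Module
open QuadraticMap (polar)

variable {ι : Type} [Fintype ι] [DecidableEq ι] {F : Type*} [Field F] [Fintype F]
variable {Q : QuadraticForm F (ι → F)} {ν : F} {J : Matrix ι ι F}

/-- A self-adjoint square root of `ν`. -/
structure IsRoot (Q : QuadraticForm F (ι → F)) (ν : F) (J : Matrix ι ι F) : Prop where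
  sq : ∀ v, J *ᵥ (J *ᵥ v) = ν • v
  adj : ∀ u v, polar ⇑Q (J *ᵥ u) v = polar ⇑Q u (J *ᵥ v)

/-- Non-degenerate on the subspace `W`. -/
def NdIn (Q : QuadraticForm F (ι → F)) (W : Submodule F (ι → F)) : Prop :=
  ∀ x ∈ W, x ≠ 0 → ∃ y ∈ W, polar ⇑Q x y ≠ 0

/-- The orthogonal complement inside `W` of a non-degenerate plane. -/
theorem split_plane {W : Submodule F (ι → F)} (hW : NdIn Q W) {u u' : ι → F} (hu : u ∈ W) (hu' : u' ∈ W)
    (hdet : polar ⇑Q u u * polar ⇑Q u' u' - polar ⇑Q u u' * polar ⇑Q u u' ≠ 0) :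
    NdIn Q (W ⊓ orthFam Q ![u, u']) ∧ finrank F ↥(W ⊓ orthFam Q ![u, u']) + 2 = finrank F W := by
  set A := polar ⇑Q u u with hA
  set B := polar ⇑Q u u' with hB
  set C := polar ⇑Q u' u' with hC
  set Δ := A * C - B * B with hΔ
  have hB' : polar ⇑Q u' u = B := pl_comm (Q := Q) u' u
  have hsolve : ∀ p q : F, ∃ c c' : F, polar ⇑Q u (c • u + c' • u') = p ∧ polar ⇑Q u' (c • u + c' • u') = q := by
    intro p q
    refine ⟨(p * C - q * B) / Δ, (q * A - p * B) / Δ, ?_, ?_⟩
    · rw [pl_add_right, pl_smul_right, pl_smul_right, ← hA, ← hB, div_mul_eq_mul_div, div_mul_eq_mul_div,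
        ← add_div, div_eq_iff hdet, hΔ]
      ring
    · rw [pl_add_right, pl_smul_right, pl_smul_right, hB', ← hC, div_mul_eq_mul_div, div_mul_eq_mul_div,
        ← add_div, div_eq_iff hdet, hΔ]
      ring
  have hmem : ∀ y, y ∈ orthFam Q ![u, u'] ↔ polar ⇑Q u y = 0 ∧ polar ⇑Q u' y = 0 := fun y => by
    rw [mem_orthFam, Fin.forall_fin_two]; rfl
  refine ⟨fun x hx hx0 => ?_, ?_⟩
  · obtain ⟨hxW, hxo⟩ := Submodule.mem_inf.1 hx
    obtain ⟨y, hy, hxy⟩ := hW x hxW hx0
    obtain ⟨c, c', h1, h2⟩ := hsolve (polar ⇑Q u y) (polar ⇑Q u' y)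
    refine ⟨y - (c • u + c' • u'), Submodule.mem_inf.2 ⟨W.sub_mem hy (W.add_mem (W.smul_mem _ hu)
      (W.smul_mem _ hu')), (hmem _).2 ⟨by rw [pl_sub_right, h1, sub_self], by rw [pl_sub_right, h2, sub_self]⟩⟩, ?_⟩
    rw [pl_sub_right, pl_add_right, pl_smul_right, pl_smul_right, pl_comm (Q := Q) x u, pl_comm (Q := Q) x u', ((hmem x).1 hxo).1,
      ((hmem x).1 hxo).2, mul_zero, mul_zero, add_zero, sub_zero]
    exact hxy
  · let f : W →ₗ[F] F × F := ((Q.polarBilin u).prod (Q.polarBilin u')).comp W.subtype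
    have hsurj : LinearMap.range f = ⊤ := by
      rw [LinearMap.range_eq_top]
      rintro ⟨p, q⟩
      obtain ⟨c, c', h1, h2⟩ := hsolve p q
      exact ⟨⟨c • u + c' • u', W.add_mem (W.smul_mem _ hu) (W.smul_mem _ hu')⟩, Prod.ext h1 h2⟩
    have hker : (LinearMap.ker f).map W.subtype = W ⊓ orthFam Q ![u, u'] := by
      ext y
      rw [Submodule.mem_map, Submodule.mem_inf, hmem]
      constructor
      · rintro ⟨z, hz, rfl⟩
        exact ⟨z.2, congrArg Prod.fst (LinearMap.mem_ker.1 hz), congrArg Prod.snd (LinearMap.mem_ker.1 hz)⟩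
      · rintro ⟨hy, h1, h2⟩
        exact ⟨⟨y, hy⟩, LinearMap.mem_ker.2 (Prod.ext h1 h2), rfl⟩
    have h := LinearMap.finrank_range_add_finrank_ker f
    rw [hsurj, finrank_top, Module.finrank_prod, Module.finrank_self] at h
    rw [← hker, Submodule.finrank_map_subtype_eq]
    omega

theorem exists_polar_self_ne (h2 : (2 : F) ≠ 0) {W : Submodule F (ι → F)} (hW : NdIn Q W)
    (h0 : 0 < finrank F W) : ∃ v ∈ W, polar ⇑Q v v ≠ 0 := by
  by_contra h
  push Not at h
  obtain ⟨x, hx, hx0⟩ := Submodule.exists_mem_ne_zero_of_ne_bot (p := W) (fun e => by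
    rw [e, finrank_bot] at h0; omega)
  obtain ⟨y, hy, hxy⟩ := hW x hx hx0
  have h' := h (x + y) (W.add_mem hx hy)
  rw [pl_add_left, pl_add_right, pl_add_right, h x hx, h y hy, pl_comm (Q := Q) y x] at h'
  exact hxy ((mul_eq_zero.1 (show (2 : F) * polar ⇑Q x y = 0 by linear_combination h')).resolve_left h2)

/-- The value of the extension form at `v`. -/
def phi (Q : QuadraticForm F (ι → F)) (ν : F) (J : Matrix ι ι F) (v : ι → F) : QuadraticAlgebra F ν 0 :=
  ⟨polar ⇑Q v (J *ᵥ v), polar ⇑Q v v⟩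

theorem fact_of_nonsquare (hν : ∀ c : F, c * c ≠ ν) : Fact (∀ t : F, t ^ 2 ≠ ν + 0 * t) :=
  ⟨fun t ht => hν t (by rw [← pow_two, ht]; ring)⟩

theorem gram_det_ne (hν : ∀ c : F, c * c ≠ ν) {a b : F} (h : ¬(a = 0 ∧ b = 0)) : ν * (a * a) - b * b ≠ 0 := by
  intro h0
  by_cases ha : a = 0
  · exact h ⟨ha, mul_self_eq_zero.1 (by rw [ha] at h0; linear_combination -h0)⟩
  · exact hν (b / a) (by field_simp; linear_combination -h0)

theorem IsRoot.inv_mem {W : Submodule F (ι → F)} (hJ : IsRoot Q ν J) (hW : ∀ x ∈ W, J *ᵥ x ∈ W) {u : ι → F} :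
    ∀ x ∈ W ⊓ orthFam Q ![u, J *ᵥ u], J *ᵥ x ∈ W ⊓ orthFam Q ![u, J *ᵥ u] := by
  intro x hx
  obtain ⟨hxW, hxo⟩ := Submodule.mem_inf.1 hx
  rw [mem_orthFam, Fin.forall_fin_two] at hxo
  refine Submodule.mem_inf.2 ⟨hW x hxW, mem_orthFam.2 (Fin.forall_fin_two.2 ⟨?_, ?_⟩)⟩
  · show polar ⇑Q u (J *ᵥ x) = 0
    rw [← hJ.adj]; exact hxo.2
  · show polar ⇑Q (J *ᵥ u) (J *ᵥ x) = 0
    rw [← hJ.adj, hJ.sq, pl_smul_left]
    have h : polar ⇑Q u x = 0 := hxo.1
    rw [h, mul_zero]

theorem IsRoot.plane_det (hJ : IsRoot Q ν J) (u : ι → F) :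
    polar ⇑Q u u * polar ⇑Q (J *ᵥ u) (J *ᵥ u) - polar ⇑Q u (J *ᵥ u) * polar ⇑Q u (J *ᵥ u) =
      ν * (polar ⇑Q u u * polar ⇑Q u u) - polar ⇑Q u (J *ᵥ u) * polar ⇑Q u (J *ᵥ u) := by
  rw [hJ.adj u (J *ᵥ u), hJ.sq, pl_smul_right]
  ring

theorem IsRoot.phi_comb (hJ : IsRoot Q ν J) (x y : F) (v : ι → F) :
    phi Q ν J (x • v + y • (J *ᵥ v)) = (⟨x, y⟩ : QuadraticAlgebra F ν 0) * ⟨x, y⟩ * phi Q ν J v := by
  have hJJ : polar ⇑Q (J *ᵥ v) (J *ᵥ v) = ν * polar ⇑Q v v := by rw [hJ.adj, hJ.sq, pl_smul_right]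
  have hc : polar ⇑Q (J *ᵥ v) v = polar ⇑Q v (J *ᵥ v) := pl_comm (Q := Q) _ _
  simp only [phi, Matrix.mulVec_add, Matrix.mulVec_smul, hJ.sq, pl_add_left, pl_add_right, pl_smul_left,
    pl_smul_right, hJJ, hc, QuadraticAlgebra.mk_mul_mk]
  ext <;> dsimp only <;> ring

theorem IsRoot.phi_add (hJ : IsRoot Q ν J) {u w : ι → F} (h1 : polar ⇑Q u w = 0) (h2 : polar ⇑Q u (J *ᵥ w) = 0) :
    phi Q ν J (u + w) = phi Q ν J u + phi Q ν J w := by
  have h3 : polar ⇑Q w (J *ᵥ u) = 0 := by rw [← hJ.adj, pl_comm (Q := Q), h2]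
  have h1' : polar ⇑Q w u = 0 := by rw [pl_comm (Q := Q), h1]
  ext <;> simp only [phi, QuadraticAlgebra.re_add, QuadraticAlgebra.im_add, Matrix.mulVec_add, pl_add_left,
    pl_add_right, h1, h1', h2, h3] <;> ring

theorem isSquare_of_norm (h2 : (2 : F) ≠ 0) (hν : ∀ c : F, c * c ≠ ν) (z : QuadraticAlgebra F ν 0)
    (hz : z ≠ 0) (h : IsSquare (z.re * z.re - ν * (z.im * z.im))) : IsSquare z := by
  haveI := fact_of_nonsquare hν
  haveI : Finite (QuadraticAlgebra F ν 0) := Module.finite_of_finite F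
  letI := Fintype.ofFinite (QuadraticAlgebra F ν 0)
  have hchar : ringChar F ≠ 2 := fun h => h2 (by
    have := ringChar.charP F
    have := CharP.cast_eq_zero F (ringChar F)
    rw [h] at this; exact_mod_cast this)
  have hν0 : ν ≠ 0 := fun e => hν 0 (by rw [e, mul_zero])
  have hνp : ν ^ (Fintype.card F / 2) = -1 := by
    rcases FiniteField.pow_dichotomy hchar hν0 with h' | h'
    · obtain ⟨c, hc⟩ := (FiniteField.isSquare_iff hchar hν0).2 h'
      exact absurd hc.symm (hν c)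
    · exact h'
  have hqodd : Fintype.card F % 2 = 1 := FiniteField.odd_card_of_char_ne_two hchar
  set q := Fintype.card F with hq
  let ω : QuadraticAlgebra F ν 0 := ⟨0, 1⟩
  have hωω : ω * ω = algebraMap F _ ν := by
    ext <;> simp [ω]
  have hωq : ω ^ q = -ω := by
    rw [show q = 2 * (q / 2) + 1 by omega, pow_succ, pow_mul, pow_two, hωω, ← map_pow, hνp, map_neg, map_one,
      neg_one_mul]
  have hdec : z = algebraMap F _ z.re + algebraMap F _ z.im * ω := by
    ext <;> simp [ω]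
  have hzq : z ^ q = algebraMap F _ z.re - algebraMap F _ z.im * ω := by
    have h' : z ^ q = FiniteField.frobeniusAlgHom F (QuadraticAlgebra F ν 0) z := by
      rw [FiniteField.coe_frobeniusAlgHom]
    rw [h']
    conv_lhs => rw [hdec]
    rw [map_add, map_mul, AlgHom.commutes, AlgHom.commutes, FiniteField.coe_frobeniusAlgHom]
    show _ + _ * ω ^ q = _
    rw [hωq]; ring
  have hcard : Fintype.card (QuadraticAlgebra F ν 0) = q * q := by
    rw [← Nat.card_eq_fintype_card, Module.natCard_eq_pow_finrank (K := F), QuadraticAlgebra.finrank_eq_two,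
      Nat.card_eq_fintype_card, pow_two]
  have hE2 : ringChar (QuadraticAlgebra F ν 0) ≠ 2 := by
    rw [← Algebra.ringChar_eq F]; exact hchar
  rw [FiniteField.isSquare_iff hE2 hz, hcard]
  have hexp : q * q / 2 = (q + 1) * (q / 2) := by
    obtain ⟨k, hk⟩ : ∃ k, q = 2 * k + 1 := ⟨q / 2, by omega⟩
    rw [hk, show (2 * k + 1) * (2 * k + 1) = 2 * ((2 * k + 1 + 1) * k) + 1 by ring,
      show (2 * k + 1) / 2 = k by omega]
    omega
  have hN0 : z.re * z.re - ν * (z.im * z.im) ≠ 0 := fun e => gram_det_ne hν (a := z.im) (b := z.re)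
    (fun ⟨e1, e2⟩ => hz (by ext <;> simp [e1, e2])) (by linear_combination -e)
  have hzN : z ^ (q + 1) = algebraMap F _ (z.re * z.re - ν * (z.im * z.im)) := by
    rw [pow_succ, hzq]
    nth_rw 3 [hdec]
    simp only [map_sub, map_mul, ← hωω]
    ring
  rw [hexp, pow_mul, hzN, ← map_pow, (FiniteField.isSquare_iff hchar hN0).1 h, map_one]

theorem card_ext (hν : ∀ c : F, c * c ≠ ν) : Nat.card (QuadraticAlgebra F ν 0) = Fintype.card F ^ 2 := by
  rw [Module.natCard_eq_pow_finrank (K := F), QuadraticAlgebra.finrank_eq_two, Nat.card_eq_fintype_card]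

/-- Orthogonal `J`-planes with values `1`, but for the last one. -/
theorem IsRoot.frame (hJ : IsRoot Q ν J) (h2 : (2 : F) ≠ 0) (hν : ∀ c : F, c * c ≠ ν) :
    ∀ (d : ℕ) (W : Submodule F (ι → F)), (∀ x ∈ W, J *ᵥ x ∈ W) → NdIn Q W → finrank F W = 2 * d →
      ∃ u : Fin d → ι → F, (∀ i, u i ∈ W) ∧
        (∀ i j, i ≠ j → polar ⇑Q (u i) (u j) = 0 ∧ polar ⇑Q (u i) (J *ᵥ u j) = 0) ∧
        (∀ i, phi Q ν J (u i) ≠ 0) ∧ ∀ i : Fin d, (i : ℕ) + 1 < d → phi Q ν J (u i) = 1 := by
  haveI := fact_of_nonsquare hν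
  haveI : Finite (QuadraticAlgebra F ν 0) := Module.finite_of_finite F
  letI := Fintype.ofFinite (QuadraticAlgebra F ν 0)
  intro d
  induction d with
  | zero =>
    exact fun _ _ _ _ => ⟨Fin.elim0, fun i => i.elim0, fun i => i.elim0, fun i => i.elim0, fun i => i.elim0⟩
  | succ d ih =>
    intro W hinv hW hd
    have hne : ∀ {W' : Submodule F (ι → F)}, NdIn Q W' → 0 < finrank F W' → ∃ v ∈ W', phi Q ν J v ≠ 0 := by
      intro W' hW' h0
      obtain ⟨v, hv, hvv⟩ := exists_polar_self_ne h2 hW' h0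
      exact ⟨v, hv, fun e => hvv (congrArg QuadraticAlgebra.im e)⟩
    have hsplit : ∀ {W' : Submodule F (ι → F)}, (∀ x ∈ W', J *ᵥ x ∈ W') → NdIn Q W' → ∀ {u : ι → F}, u ∈ W' →
        phi Q ν J u ≠ 0 → NdIn Q (W' ⊓ orthFam Q ![u, J *ᵥ u]) ∧
          finrank F ↥(W' ⊓ orthFam Q ![u, J *ᵥ u]) + 2 = finrank F W' := by
      intro W' hi hn u hu hu0
      refine split_plane hn hu (hi u hu) ?_
      rw [hJ.plane_det]
      exact gram_det_ne hν fun ⟨e1, e2⟩ => hu0 (QuadraticAlgebra.ext e2 e1)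
    obtain ⟨v, hv, hv0, hv1⟩ : ∃ v ∈ W, phi Q ν J v ≠ 0 ∧ (1 < d + 1 → phi Q ν J v = 1) := by
      obtain ⟨v₁, hv₁, h₁⟩ := hne hW (by omega)
      rcases Nat.eq_zero_or_pos d with rfl | hd0
      · exact ⟨v₁, hv₁, h₁, fun h => absurd h (by omega)⟩
      obtain ⟨hn', hd'⟩ := hsplit hinv hW hv₁ h₁
      obtain ⟨v₂, hv₂, h₂⟩ := hne hn' (by omega)
      obtain ⟨hv₂W, hv₂o⟩ := Submodule.mem_inf.1 hv₂
      rw [mem_orthFam, Fin.forall_fin_two] at hv₂o
      have ho1 : polar ⇑Q v₁ v₂ = 0 := hv₂o.1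
      have ho2 : polar ⇑Q v₁ (J *ᵥ v₂) = 0 := by rw [← hJ.adj]; exact hv₂o.2
      set a := phi Q ν J v₁
      set b := phi Q ν J v₂
      have hodd : Fintype.card (QuadraticAlgebra F ν 0) % 2 = 1 := by
        rw [← Nat.card_eq_fintype_card, card_ext hν]
        have := FiniteField.odd_card_of_char_ne_two (F := F) (fun h => h2 (by
          have := ringChar.charP F
          have := CharP.cast_eq_zero F (ringChar F)
          rw [h] at this; exact_mod_cast this))
        rw [Nat.pow_mod, this]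
      obtain ⟨μ, η, hμη⟩ := FiniteField.exists_root_sum_quadratic
        (f := Polynomial.C a * Polynomial.X ^ 2) (g := Polynomial.C b * Polynomial.X ^ 2 - Polynomial.C 1)
        (Polynomial.degree_C_mul_X_pow 2 h₁)
        (by rw [Polynomial.degree_sub_eq_left_of_degree_lt (by
              rw [Polynomial.degree_C_mul_X_pow 2 h₂, Polynomial.degree_C one_ne_zero]; norm_num),
              Polynomial.degree_C_mul_X_pow 2 h₂]; rfl) hodd
      simp only [Polynomial.eval_mul, Polynomial.eval_C, Polynomial.eval_pow, Polynomial.eval_X,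
        Polynomial.eval_sub] at hμη
      refine ⟨(μ.re • v₁ + μ.im • (J *ᵥ v₁)) + (η.re • v₂ + η.im • (J *ᵥ v₂)),
        W.add_mem (W.add_mem (W.smul_mem _ hv₁) (W.smul_mem _ (hinv _ hv₁)))
          (W.add_mem (W.smul_mem _ hv₂W) (W.smul_mem _ (hinv _ hv₂W))), ?_⟩
      have hval : phi Q ν J ((μ.re • v₁ + μ.im • (J *ᵥ v₁)) + (η.re • v₂ + η.im • (J *ᵥ v₂))) = 1 := by
        have hJ1 : polar ⇑Q (J *ᵥ v₁) (J *ᵥ v₂) = 0 := by rw [hJ.adj, hJ.sq, pl_smul_right, ho1, mul_zero]
        have hJ2 : polar ⇑Q (J *ᵥ v₁) v₂ = 0 := hv₂o.2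
        rw [hJ.phi_add, hJ.phi_comb, hJ.phi_comb]
        · show (μ * μ * a + η * η * b) = 1
          linear_combination hμη
        · simp only [pl_add_left, pl_add_right, pl_smul_left, pl_smul_right, ho1, ho2, hJ1, hJ2]
          ring
        · simp only [Matrix.mulVec_add, Matrix.mulVec_smul, hJ.sq, pl_add_left, pl_add_right, pl_smul_left,
            pl_smul_right, ho1, ho2, hJ1, hJ2]
          ring
      exact ⟨by rw [hval]; exact one_ne_zero, fun _ => hval⟩
    obtain ⟨hn', hd'⟩ := hsplit hinv hW hv hv0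
    obtain ⟨u, hu, huo, hu0, hu1⟩ := ih _ (hJ.inv_mem hinv) hn' (by omega)
    have hvu : ∀ i, polar ⇑Q v (u i) = 0 ∧ polar ⇑Q (J *ᵥ v) (u i) = 0 := fun i => by
      have h := (Submodule.mem_inf.1 (hu i)).2
      rw [mem_orthFam, Fin.forall_fin_two] at h
      exact h
    refine ⟨Fin.cons v u, Fin.cases hv fun i => (Submodule.mem_inf.1 (hu i)).1, ?_, Fin.cases hv0 hu0,
      Fin.cases (fun h => hv1 (by simpa using h)) fun i h => hu1 i (by simpa using h)⟩
    refine Fin.cases (Fin.cases (fun h => absurd rfl h) fun j _ => ?_) fun i => Fin.cases (fun _ => ?_) fun j h => ?_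
    · simp only [Fin.cons_zero, Fin.cons_succ]
      exact ⟨(hvu j).1, by rw [← hJ.adj]; exact (hvu j).2⟩
    · simp only [Fin.cons_zero, Fin.cons_succ]
      exact ⟨by rw [pl_comm (Q := Q)]; exact (hvu i).1, by rw [pl_comm (Q := Q)]; exact (hvu i).2⟩
    · simp only [Fin.cons_succ]
      exact huo i j fun e => h (congrArg Fin.succ e)

/-- The basis of a family of orthogonal `J`-planes, with its Gram determinant. -/
theorem IsRoot.frame_basis (hJ : IsRoot Q ν J) (hQ : Q.polarBilin.Nondegenerate) (hν : ∀ c : F, c * c ≠ ν)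
    {d : ℕ} (hn : Fintype.card ι = 2 * d) {u : Fin d → ι → F}
    (huo : ∀ i j, i ≠ j → polar ⇑Q (u i) (u j) = 0 ∧ polar ⇑Q (u i) (J *ᵥ u j) = 0)
    (hu0 : ∀ i, phi Q ν J (u i) ≠ 0) :
    (∃ b : Basis (Fin 2 × Fin d) F (ι → F), ∀ k, b k = if k.1 = 0 then u k.2 else J *ᵥ u k.2) ∧
      ∃ s : F, s ≠ 0 ∧ ∏ i, (ν * (polar ⇑Q (u i) (u i) * polar ⇑Q (u i) (u i)) -
          polar ⇑Q (u i) (J *ᵥ u i) * polar ⇑Q (u i) (J *ᵥ u i)) =
        s ^ 2 * (LinearMap.BilinForm.toMatrix' Q.polarBilin).det := by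
  classical
  let w : Fin 2 × Fin d → ι → F := fun k => if k.1 = 0 then u k.2 else J *ᵥ u k.2
  let e : Fin 2 × Fin d ≃ ι := Fintype.equivOfCardEq (by simp [hn])
  let P : Matrix ι ι F := Matrix.of fun r c => w (e.symm c) r
  let M : Fin d → Matrix (Fin 2) (Fin 2) F := fun i => !![polar ⇑Q (u i) (u i), polar ⇑Q (u i) (J *ᵥ u i);
    polar ⇑Q (u i) (J *ᵥ u i), ν * polar ⇑Q (u i) (u i)]
  set S := LinearMap.BilinForm.toMatrix' Q.polarBilin with hS
  have hPS : Pᵀ * S * P = Matrix.reindexAlgEquiv F F e (Matrix.blockDiagonal M) := by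
    ext c c'
    obtain ⟨⟨k, i⟩, rfl⟩ := e.surjective c
    obtain ⟨⟨l, j⟩, rfl⟩ := e.surjective c'
    have hl : (Pᵀ * S * P) (e (k, i)) (e (l, j)) = polar ⇑Q (w (k, i)) (w (l, j)) := by
      rw [← QuadraticMap.polarBilin_apply_apply, ← Matrix.toBilin'_toMatrix' Q.polarBilin, ← hS,
        Matrix.toBilin'_apply', Matrix.mul_assoc, Matrix.mul_apply_eq_vecMul, Matrix.dotProduct_mulVec]
      simp [P, Matrix.mul_apply, Matrix.vecMul, Matrix.mulVec, dotProduct, Finset.mul_sum, Finset.sum_mul,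
        mul_assoc]
      exact Finset.sum_comm
    rw [hl, Matrix.reindexAlgEquiv_apply, Matrix.reindex_apply, Matrix.submatrix_apply, Equiv.symm_apply_apply,
      Equiv.symm_apply_apply, Matrix.blockDiagonal_apply]
    by_cases hij : i = j
    · subst hij
      rw [if_pos rfl]
      fin_cases k <;> fin_cases l <;> simp [w, M, pl_comm (Q := Q) (J *ᵥ u i) (u i), hJ.adj, hJ.sq, pl_smul_right]
    · rw [if_neg hij]
      obtain ⟨h1, h2⟩ := huo i j hij
      fin_cases k <;> fin_cases l <;> simp [w, h1, h2, hJ.adj, hJ.sq, pl_smul_right]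
  have hM : ∀ i, (M i).det = ν * (polar ⇑Q (u i) (u i) * polar ⇑Q (u i) (u i)) -
      polar ⇑Q (u i) (J *ᵥ u i) * polar ⇑Q (u i) (J *ᵥ u i) := fun i => by
    simp [M, Matrix.det_fin_two]; ring
  have hdet : ∏ i, (M i).det = P.det ^ 2 * S.det := by
    have h := congrArg Matrix.det hPS
    rw [Matrix.det_mul, Matrix.det_mul, Matrix.det_transpose, Matrix.det_reindexAlgEquiv, Matrix.det_blockDiagonal] at h
    rw [← h]; ring
  have hne : ∏ i, (M i).det ≠ 0 := Finset.prod_ne_zero_iff.2 fun i _ => by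
    rw [hM]; exact gram_det_ne hν fun ⟨e1, e2⟩ => hu0 i (QuadraticAlgebra.ext e2 e1)
  have hP : P.det ≠ 0 := fun h => hne (by rw [hdet, h]; ring)
  have hind : LinearIndependent F w := by
    have h := Matrix.linearIndependent_cols_of_det_ne_zero hP
    have h' := h.comp e e.injective
    have hcol : P.col ∘ e = w := funext fun k => funext fun r => by simp [P]
    rwa [hcol] at h'
  refine ⟨⟨basisOfLinearIndependentOfCardEqFinrank' w hind (by rw [finrank_space, hn]; simp),
    fun k => by rw [coe_basisOfLinearIndependentOfCardEqFinrank']⟩, P.det, hP, ?_⟩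
  rw [← hdet]
  exact Finset.prod_congr rfl fun i _ => (hM i).symm

theorem ndIn_top (hQ : Q.polarBilin.Nondegenerate) : NdIn Q (⊤ : Submodule F (ι → F)) := fun x _ hx => by
  obtain ⟨y, hy⟩ := exists_polar_ne hQ hx
  exact ⟨y, Submodule.mem_top, hy⟩

/-- Two roots of the same non-square are conjugate. -/
theorem exists_conj_root (hQ : Q.polarBilin.Nondegenerate) (h2 : (2 : F) ≠ 0) (hν : ∀ c : F, c * c ≠ ν)
    {d : ℕ} (hn : Fintype.card ι = 2 * d) (hJ : IsRoot Q ν J) {J' : Matrix ι ι F} (hJ' : IsRoot Q ν J') :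
    ∃ g : IsoGrp Q, ∀ v, ap g (J *ᵥ v) = J' *ᵥ ap g v := by
  haveI := fact_of_nonsquare hν
  classical
  have hW : finrank F (⊤ : Submodule F (ι → F)) = 2 * d := by rw [finrank_top, finrank_space, hn]
  obtain ⟨u, -, huo, hu0, hu1⟩ := hJ.frame h2 hν d ⊤ (fun _ _ => Submodule.mem_top) (ndIn_top hQ) hW
  obtain ⟨u', -, huo', hu0', hu1'⟩ := hJ'.frame h2 hν d ⊤ (fun _ _ => Submodule.mem_top) (ndIn_top hQ) hW
  -- adjust the last vector
  obtain ⟨u'', huo'', hu0'', heq⟩ : ∃ u'' : Fin d → ι → F,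
      (∀ i j, i ≠ j → polar ⇑Q (u'' i) (u'' j) = 0 ∧ polar ⇑Q (u'' i) (J' *ᵥ u'' j) = 0) ∧
      (∀ i, phi Q ν J' (u'' i) ≠ 0) ∧ ∀ i, phi Q ν J' (u'' i) = phi Q ν J (u i) := by
    obtain ⟨-, s, hs, hp⟩ := hJ.frame_basis hQ hν hn huo hu0
    obtain ⟨-, s', hs', hp'⟩ := hJ'.frame_basis hQ hν hn huo' hu0'
    rcases Nat.eq_zero_or_pos d with rfl | hd
    · exact ⟨u', huo', hu0', fun i => i.elim0⟩
    obtain ⟨l, rfl⟩ : ∃ l, d = l + 1 := ⟨d - 1, by omega⟩
    have hN : ∀ v (M : Matrix ι ι F), ν * (polar ⇑Q v v * polar ⇑Q v v) - polar ⇑Q v (M *ᵥ v) * polar ⇑Q v (M *ᵥ v) =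
        -((phi Q ν M v).re * (phi Q ν M v).re - ν * ((phi Q ν M v).im * (phi Q ν M v).im)) := fun v M => by
      simp only [phi]; ring
    simp only [hN] at hp hp'
    rw [Fin.prod_univ_castSucc] at hp hp'
    have hone : ∀ i : Fin l, phi Q ν J (u i.castSucc) = 1 := fun i => hu1 _ (by simp)
    have hone' : ∀ i : Fin l, phi Q ν J' (u' i.castSucc) = 1 := fun i => hu1' _ (by simp)
    simp only [hone, hone', QuadraticAlgebra.re_one, QuadraticAlgebra.im_one, mul_one, mul_zero, sub_zero,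
      Finset.prod_const, Finset.card_univ, Fintype.card_fin] at hp hp'
    set z := phi Q ν J (u (Fin.last l)) with hz
    set z' := phi Q ν J' (u' (Fin.last l)) with hz'
    have hz0 : z' ≠ 0 := hu0' _
    obtain ⟨μ, hμ⟩ : IsSquare (z / z') := by
      have hNz : ∀ x y : QuadraticAlgebra F ν 0, (x * y).re * (x * y).re - ν * ((x * y).im * (x * y).im) =
          (x.re * x.re - ν * (x.im * x.im)) * (y.re * y.re - ν * (y.im * y.im)) := fun x y => by
        simp; ring
      refine isSquare_of_norm h2 hν _ (div_ne_zero (hu0 _) hz0) ?_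
      have hne : z'.re * z'.re - ν * (z'.im * z'.im) ≠ 0 := fun e => gram_det_ne hν (a := z'.im) (b := z'.re)
        (fun ⟨e1, e2⟩ => hz0 (by ext <;> simp [e1, e2])) (by linear_combination -e)
      have hmul := hNz (z / z') z'
      rw [div_mul_cancel₀ _ hz0] at hmul
      refine ⟨s / s', mul_right_cancel₀ hne ?_⟩
      rw [← hmul]
      have hpn : ((-1 : F)) ^ l ≠ 0 := pow_ne_zero _ (neg_ne_zero.2 one_ne_zero)
      field_simp
      refine mul_left_cancel₀ hpn ?_
      linear_combination -(s' ^ 2) * hp + (s ^ 2) * hp'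
    have hμ0 : μ ≠ 0 := fun e => div_ne_zero (hu0 _) hz0 (by rw [hμ, e, mul_zero])
    refine ⟨Function.update u' (Fin.last l) (μ.re • u' (Fin.last l) + μ.im • (J' *ᵥ u' (Fin.last l))),
      fun i j hij => ?_, fun i => ?_, fun i => ?_⟩
    · by_cases hi : i = Fin.last l
      · subst hi
        rw [Function.update_self, Function.update_of_ne (Ne.symm hij)]
        obtain ⟨e1, e2⟩ := huo' _ _ hij
        simp [pl_add_left, pl_smul_left, e1, e2, hJ'.adj, hJ'.sq, pl_smul_right]
      · rw [Function.update_of_ne hi]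
        by_cases hj : j = Fin.last l
        · subst hj
          rw [Function.update_self]
          obtain ⟨e1, e2⟩ := huo' _ _ hij
          simp [Matrix.mulVec_add, Matrix.mulVec_smul, pl_add_right, pl_smul_right, e1, e2, hJ'.sq]
        · rw [Function.update_of_ne hj]; exact huo' i j hij
    · by_cases hi : i = Fin.last l
      · subst hi
        rw [Function.update_self, hJ'.phi_comb]
        exact mul_ne_zero (mul_ne_zero hμ0 hμ0) (hu0' _)
      · rw [Function.update_of_ne hi]; exact hu0' i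
    · by_cases hi : i = Fin.last l
      · subst hi
        rw [Function.update_self, hJ'.phi_comb]
        show μ * μ * z' = z
        rw [← hμ, div_mul_cancel₀ _ hz0]
      · rw [Function.update_of_ne hi]
        obtain ⟨i, rfl⟩ := Fin.eq_castSucc_of_ne_last hi
        rw [hone, hone']
  obtain ⟨⟨b, hb⟩, -⟩ := hJ.frame_basis hQ hν hn huo hu0
  obtain ⟨⟨b', hb'⟩, -⟩ := hJ'.frame_basis hQ hν hn huo'' hu0''
  let g : (ι → F) ≃ₗ[F] (ι → F) := b.equiv b' (Equiv.refl _)
  have hg : ∀ k, g (b k) = b' k := fun k => by simp [g]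
  have hgJ : ∀ v, g (J *ᵥ v) = J' *ᵥ g v := fun v => by
    refine LinearMap.congr_fun (b.ext (f₁ := g.toLinearMap.comp (Matrix.toLin' J))
      (f₂ := (Matrix.toLin' J').comp g.toLinearMap) fun k => ?_) v
    show g (J *ᵥ b k) = J' *ᵥ g (b k)
    obtain ⟨k, i⟩ := k
    have hb0 : b (0, i) = u i := by rw [hb]; rfl
    have hb1 : b (1, i) = J *ᵥ u i := by rw [hb]; rfl
    have hb0' : b' (0, i) = u'' i := by rw [hb']; rfl
    have hb1' : b' (1, i) = J' *ᵥ u'' i := by rw [hb']; rfl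
    fin_cases k
    · show g (J *ᵥ b (0, i)) = J' *ᵥ g (b (0, i))
      rw [hg, hb0, hb0', ← hb1, hg, hb1']
    · show g (J *ᵥ b (1, i)) = J' *ᵥ g (b (1, i))
      rw [hg, hb1, hb1', hJ.sq, hJ'.sq, map_smul, ← hb0, hg, hb0']
  have hpol : ∀ x y, polar ⇑Q (g x) (g y) = polar ⇑Q x y := by
    have key : (Q.polarBilin).compl₁₂ g.toLinearMap g.toLinearMap = Q.polarBilin := by
      refine LinearMap.ext_basis b b fun k l => ?_
      show polar ⇑Q (g (b k)) (g (b l)) = polar ⇑Q (b k) (b l)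
      rw [hg, hg, hb, hb, hb', hb']
      obtain ⟨k, i⟩ := k
      obtain ⟨l, j⟩ := l
      by_cases hij : i = j
      · subst hij
        have ea : polar ⇑Q (u'' i) (u'' i) = polar ⇑Q (u i) (u i) := congrArg QuadraticAlgebra.im (heq i)
        have eb : polar ⇑Q (u'' i) (J' *ᵥ u'' i) = polar ⇑Q (u i) (J *ᵥ u i) := congrArg QuadraticAlgebra.re (heq i)
        fin_cases k <;> fin_cases l <;>
          simp [ea, eb, pl_comm (Q := Q) (J *ᵥ u i) (u i), pl_comm (Q := Q) (J' *ᵥ u'' i) (u'' i), hJ.adj, hJ'.adj, hJ.sq, hJ'.sq,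
            pl_smul_right]
      · obtain ⟨e1, e2⟩ := huo i j hij
        obtain ⟨e1', e2'⟩ := huo'' i j hij
        fin_cases k <;> fin_cases l <;> simp [e1, e2, e1', e2', hJ.adj, hJ'.adj, hJ.sq, hJ'.sq, pl_smul_right]
    exact fun x y => LinearMap.congr_fun₂ key x y
  obtain ⟨γ, hγ⟩ := exists_isoGrp_of_preserve hQ g.toLinearMap fun v => by
    have h := hpol v v
    rw [pl_self, pl_self] at h
    exact mul_left_cancel₀ h2 h
  exact ⟨γ, fun v => by rw [hγ]; exact hgJ v⟩

/-- The isometries commuting with `J`. -/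
def rootCent (Q : QuadraticForm F (ι → F)) (J : Matrix ι ι F) : Subgroup (IsoGrp Q) where
  carrier := {g | ∀ v, ap g (J *ᵥ v) = J *ᵥ ap g v}
  mul_mem' {a b} ha hb v := by rw [ap_mul, ap_mul, hb, ha]
  one_mem' v := by rw [ap_one, ap_one]
  inv_mem' {a} ha v := ap_inj a (by rw [ha, ← ap_mul, ← ap_mul, mul_inv_cancel, ap_one, ap_one])

open scoped Classical in
/-- The orthogonal group over the extension, and its type. -/
theorem exists_ext_form (hQ : Q.polarBilin.Nondegenerate) (h2 : (2 : F) ≠ 0) (hν : ∀ c : F, c * c ≠ ν)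
    {d : ℕ} (hn : Fintype.card ι = 2 * d) (hJ : IsRoot Q ν J) :
    haveI := fact_of_nonsquare hν
    ∃ P : QuadraticForm (QuadraticAlgebra F ν 0) (Fin d → QuadraticAlgebra F ν 0),
      P.polarBilin.Nondegenerate ∧
      Nat.card (Forms.preservingFun (F := QuadraticAlgebra F ν 0) ⇑P) ∣ Nat.card (rootCent Q J) ∧
      (IsPlusForm P → IsPlusForm Q) ∧
      (Even d → (∃ s : F, s ≠ 0 ∧ (LinearMap.BilinForm.toMatrix' Q.polarBilin).det = s ^ 2 * (-1) ^ d) →
        IsPlusForm P) := by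
  haveI := fact_of_nonsquare hν
  haveI : Finite (QuadraticAlgebra F ν 0) := Module.finite_of_finite F
  letI := Fintype.ofFinite (QuadraticAlgebra F ν 0)
  have h2E : (2 : QuadraticAlgebra F ν 0) ≠ 0 := by
    rw [show (2 : QuadraticAlgebra F ν 0) = algebraMap F _ 2 from (map_ofNat _ 2).symm]
    exact (map_ne_zero_iff _ (algebraMap F (QuadraticAlgebra F ν 0)).injective).2 h2
  obtain ⟨u, -, huo, hu0, -⟩ := hJ.frame h2 hν d ⊤ (fun _ _ => Submodule.mem_top) (ndIn_top hQ)
    (by rw [finrank_top, finrank_space, hn])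
  obtain ⟨⟨b, hb⟩, s, hs, hp⟩ := hJ.frame_basis hQ hν hn huo hu0
  set P := QuadClass.diagForm (fun i => phi Q ν J (u i)) with hP
  have hPnd : P.polarBilin.Nondegenerate := by
    refine (Forms.nondegenerate_polarBilin_iff _).2 fun x hx => funext fun i => ?_
    have h := hx (Pi.single i 1)
    rw [QuadraticMap.polar, hP, QuadClass.diagForm_apply, QuadClass.diagForm_apply, QuadClass.diagForm_apply,
      ← Finset.sum_sub_distrib, ← Finset.sum_sub_distrib, Finset.sum_eq_single i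
        (fun j _ hj => by simp [Pi.single_eq_of_ne hj]) (by simp)] at h
    simp only [Pi.add_apply, Pi.single_eq_same] at h
    have h' : (2 * phi Q ν J (u i)) * x i = 0 := by linear_combination h
    exact (mul_eq_zero.1 h').resolve_left (mul_ne_zero h2E (hu0 i))
  -- coordinates
  let σ₀ : (Fin d → QuadraticAlgebra F ν 0) →ₗ[F] (ι → F) :=
    { toFun := fun μ => ∑ i, ((μ i).re • u i + (μ i).im • (J *ᵥ u i))
      map_add' := fun μ η => by
        rw [← Finset.sum_add_distrib]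
        refine Finset.sum_congr rfl fun i _ => ?_
        simp only [Pi.add_apply, QuadraticAlgebra.re_add, QuadraticAlgebra.im_add, add_smul]; abel
      map_smul' := fun c μ => by
        rw [RingHom.id_apply, Finset.smul_sum]
        refine Finset.sum_congr rfl fun i _ => ?_
        simp only [Pi.smul_apply, QuadraticAlgebra.re_smul, QuadraticAlgebra.im_smul, smul_eq_mul, smul_add,
          smul_smul] }
  have hσb : ∀ μ, σ₀ μ = ∑ k : Fin 2 × Fin d, (if k.1 = 0 then (μ k.2).re else (μ k.2).im) • b k := fun μ => by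
    rw [Fintype.sum_prod_type, Fin.sum_univ_two, ← Finset.sum_add_distrib]
    show ∑ i, ((μ i).re • u i + (μ i).im • (J *ᵥ u i)) = _
    refine Finset.sum_congr rfl fun i _ => ?_
    simp [hb]
  have hσinj : Function.Injective σ₀ := by
    refine (injective_iff_map_eq_zero _).2 fun μ hμ => funext fun i => ?_
    rw [hσb] at hμ
    have h := Fintype.linearIndependent_iff.1 b.linearIndependent _ hμ
    exact QuadraticAlgebra.ext (h (0, i)) (h (1, i))
  let σ : (Fin d → QuadraticAlgebra F ν 0) ≃ₗ[F] (ι → F) :=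
    σ₀.linearEquivOfInjective hσinj (by
      rw [finrank_space, hn, Module.finrank_pi_fintype]
      simp [QuadraticAlgebra.finrank_eq_two, mul_comm])
  have hσ : ∀ μ, σ μ = ∑ i, ((μ i).re • u i + (μ i).im • (J *ᵥ u i)) := fun μ => rfl
  have hσJ : ∀ μ, σ ((⟨0, 1⟩ : QuadraticAlgebra F ν 0) • μ) = J *ᵥ σ μ := fun μ => by
    rw [hσ, hσ, Matrix.mulVec_sum]
    refine Finset.sum_congr rfl fun i _ => ?_
    rw [Pi.smul_apply, smul_eq_mul, Matrix.mulVec_add, Matrix.mulVec_smul, Matrix.mulVec_smul, hJ.sq, smul_smul]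
    simp only [QuadraticAlgebra.re_mul, QuadraticAlgebra.im_mul, zero_mul, mul_zero, zero_add, mul_one, one_mul,
      add_zero]
    rw [add_comm, mul_comm]
  have hσQ : ∀ μ, polar ⇑Q (σ μ) (σ μ) = (P μ).im := fun μ => by
    have hterm : ∀ i, polar ⇑Q ((μ i).re • u i + (μ i).im • (J *ᵥ u i)) ((μ i).re • u i + (μ i).im • (J *ᵥ u i)) =
        (phi Q ν J (u i) * (μ i * μ i)).im := fun i => by
      have h := congrArg QuadraticAlgebra.im (hJ.phi_comb (μ i).re (μ i).im (u i))
      rw [mul_comm (phi Q ν J (u i))]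
      exact h
    have him : ∀ f : Fin d → QuadraticAlgebra F ν 0, (∑ i, f i).im = ∑ i, (f i).im := fun f =>
      map_sum (⟨⟨QuadraticAlgebra.im, rfl⟩, fun _ _ => rfl⟩ : QuadraticAlgebra F ν 0 →+ F) f _
    rw [hσ, hP, QuadClass.diagForm_apply, him, ← QuadraticMap.polarBilin_apply_apply, map_sum]
    refine Finset.sum_congr rfl fun i _ => ?_
    rw [map_sum, LinearMap.sum_apply, Finset.sum_eq_single i (fun j _ hj => ?_) (by simp),
      QuadraticMap.polarBilin_apply_apply, hterm]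
    obtain ⟨e1, e2⟩ := huo j i hj
    simp [QuadraticMap.polarBilin_apply_apply, Matrix.mulVec_add, Matrix.mulVec_smul, pl_add_left, pl_add_right,
      pl_smul_left, pl_smul_right, e1, e2, hJ.adj, hJ.sq]
  refine ⟨P, hPnd, ?_, ?_, ?_⟩
  · let Φ : Forms.preservingFun (F := QuadraticAlgebra F ν 0) ⇑P → rootCent Q J := fun g => by
      let t : (ι → F) ≃ₗ[F] (ι → F) := σ.symm.trans ((g.1.restrictScalars F).trans σ)
      refine ⟨⟨Forms.glLinEquiv.symm t, (Forms.mem_isometryGroup _ _).2 fun v => ?_⟩, fun v => ?_⟩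
      · rw [← Forms.glLinEquiv_apply, MulEquiv.apply_symm_apply]
        refine mul_left_cancel₀ h2 ?_
        rw [← pl_self, ← pl_self]
        show polar ⇑Q (σ (g.1 (σ.symm v))) (σ (g.1 (σ.symm v))) = _
        conv_rhs => rw [← σ.apply_symm_apply v]
        rw [hσQ, hσQ, g.2]
      · show ((Forms.glLinEquiv.symm t : GL ι F) : Matrix ι ι F) *ᵥ _ = J *ᵥ (((Forms.glLinEquiv.symm t : GL ι F) : Matrix ι ι F) *ᵥ v)
        rw [← Forms.glLinEquiv_apply, ← Forms.glLinEquiv_apply, MulEquiv.apply_symm_apply]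
        show σ (g.1 (σ.symm (J *ᵥ v))) = J *ᵥ σ (g.1 (σ.symm v))
        rw [← hσJ, ← map_smul g.1]
        congr 2
        apply σ.injective
        rw [σ.apply_symm_apply, hσJ, σ.apply_symm_apply]
    have happ : ∀ g v, ap (Φ g : IsoGrp Q) v = σ (g.1 (σ.symm v)) := fun g v => by
      show ((Forms.glLinEquiv.symm _ : GL ι F) : Matrix ι ι F) *ᵥ v = _
      rw [← Forms.glLinEquiv_apply, MulEquiv.apply_symm_apply]
      rfl
    let Φh : Forms.preservingFun (F := QuadraticAlgebra F ν 0) ⇑P →* rootCent Q J :=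
      MonoidHom.mk' Φ fun g h => Subtype.ext (ext_ap fun v => by
        rw [Subgroup.coe_mul, ap_mul, happ, happ, happ, σ.symm_apply_apply]
        rfl)
    have hinj : Function.Injective Φh := fun g h e => Subtype.ext (LinearEquiv.ext fun x => by
      have h' := congrArg (fun z : rootCent Q J => ap (z : IsoGrp Q) (σ x)) e
      simp only [Φh, MonoidHom.mk'_apply, happ, σ.symm_apply_apply] at h'
      exact σ.injective h')
    rw [Nat.card_congr (MonoidHom.ofInjective hinj).toEquiv]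
    exact Subgroup.card_subgroup_dvd_card _
  · rintro ⟨U, hU, hUd⟩
    refine ⟨(U.restrictScalars F).map σ.toLinearMap, ?_, ?_⟩
    · rintro _ ⟨μ, hμ, rfl⟩
      refine (mul_eq_zero.1 ?_).resolve_left h2
      rw [← pl_self]
      show polar ⇑Q (σ μ) (σ μ) = 0
      rw [hσQ, hU μ hμ, QuadraticAlgebra.im_zero]
    · rw [LinearEquiv.finrank_map_eq, finrank_space, hn]
      rw [Module.finrank_fin_fun] at hUd
      have h := Module.finrank_mul_finrank F (QuadraticAlgebra F ν 0) U
      rw [QuadraticAlgebra.finrank_eq_two] at h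
      have h' : finrank F ↥(U.restrictScalars F) = finrank F U := rfl
      omega
  · rintro hd ⟨s', hs', hS⟩
    obtain ⟨m, rfl⟩ := hd
    set f : Fin (m + m) → QuadraticAlgebra F ν 0 := fun i => phi Q ν J (u i) with hf
    let N : QuadraticAlgebra F ν 0 →* F :=
      { toFun := fun z => z.re * z.re - ν * (z.im * z.im)
        map_one' := by show (1 : F) * 1 - ν * (0 * 0) = 1; ring
        map_mul' := fun x y => by simp; ring }
    have hNf : ∏ i, N (f i) = (s * s') ^ 2 := by
      have hfac : ∀ i, ν * (polar ⇑Q (u i) (u i) * polar ⇑Q (u i) (u i)) -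
          polar ⇑Q (u i) (J *ᵥ u i) * polar ⇑Q (u i) (J *ᵥ u i) = (-1) * N (f i) := fun i => by
        simp [N, f, phi]
      rw [Finset.prod_congr rfl (fun i _ => hfac i), Finset.prod_mul_distrib, Finset.prod_const, Finset.card_univ,
        Fintype.card_fin, hS, Even.neg_one_pow ⟨m, rfl⟩, one_mul, mul_one] at hp
      rw [hp]; ring
    have hsqE : IsSquare (∏ i, f i) := by
      refine isSquare_of_norm h2 hν _ (Finset.prod_ne_zero_iff.2 fun i _ => hu0 i) ⟨s * s', ?_⟩
      show N (∏ i, f i) = _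
      rw [map_prod, hNf]; ring
    have hm1 : IsSquare (-1 : QuadraticAlgebra F ν 0) :=
      isSquare_of_norm h2 hν _ (neg_ne_zero.2 one_ne_zero) ⟨1, by show (-1 : F) * (-1) - ν * ((-0) * (-0)) = 1 * 1; ring⟩
    let w : Fin (m + m) → QuadraticAlgebra F ν 0 := fun i => Sum.elim (fun _ : Fin m => 1) (fun _ : Fin m => -1)
      (finSumFinEquiv.symm i)
    have hwnd : (QuadClass.diagForm w).polarBilin.Nondegenerate := by
      refine (Forms.nondegenerate_polarBilin_iff _).2 fun x hx => funext fun i => ?_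
      have h := hx (Pi.single i 1)
      rw [QuadraticMap.polar, QuadClass.diagForm_apply, QuadClass.diagForm_apply, QuadClass.diagForm_apply,
        ← Finset.sum_sub_distrib, ← Finset.sum_sub_distrib, Finset.sum_eq_single i
          (fun j _ hj => by simp [Pi.single_eq_of_ne hj]) (by simp)] at h
      simp only [Pi.add_apply, Pi.single_eq_same] at h
      have h' : (2 * w i) * x i = 0 := by linear_combination h
      refine (mul_eq_zero.1 h').resolve_left (mul_ne_zero h2E ?_)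
      simp only [w]
      rcases finSumFinEquiv.symm i with j | j <;> simp
    have hsq : IsSquare (QuadClass.disc P * QuadClass.disc (QuadClass.diagForm w)) := by
      rw [hP, QuadClass.disc_diag, QuadClass.disc_diag]
      have hw : ∏ i, w i = (-1) ^ m := by
        rw [← finSumFinEquiv.prod_comp, Fintype.prod_sum_type]
        simp only [w, Equiv.symm_apply_apply, Sum.elim_inl, Sum.elim_inr]
        simp
      rw [hw, show ((2 : QuadraticAlgebra F ν 0) ^ (m + m) * ∏ i, f i) * (2 ^ (m + m) * (-1) ^ m) =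
        (∏ i, f i) * (-1) ^ m * (2 ^ (m + m)) ^ 2 by ring]
      exact (hsqE.mul (hm1.pow m)).mul (IsSquare.sq _)
    obtain ⟨e⟩ := (QuadClass.equivalent_iff_disc h2E P _ hPnd hwnd).2 hsq
    let ψ : (Fin m → QuadraticAlgebra F ν 0) →ₗ[QuadraticAlgebra F ν 0] (Fin (m + m) → QuadraticAlgebra F ν 0) :=
      e.toLinearEquiv.symm.toLinearMap.comp
        ({ toFun := fun t i => Sum.elim t t (finSumFinEquiv.symm i)
           map_add' := fun t t' => funext fun i => by
            simp only [Pi.add_apply]; rcases finSumFinEquiv.symm i with j | j <;> simp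
           map_smul' := fun c t => funext fun i => by
            simp only [Pi.smul_apply, RingHom.id_apply]; rcases finSumFinEquiv.symm i with j | j <;> rfl } :
          (Fin m → QuadraticAlgebra F ν 0) →ₗ[QuadraticAlgebra F ν 0] (Fin (m + m) → QuadraticAlgebra F ν 0))
    refine ⟨LinearMap.range ψ, ?_, ?_⟩
    · rintro _ ⟨t, rfl⟩
      have h := e.map_app (ψ t)
      rw [← h]
      show QuadClass.diagForm w (e.toLinearEquiv (e.toLinearEquiv.symm _)) = 0
      rw [LinearEquiv.apply_symm_apply, QuadClass.diagForm_apply, ← finSumFinEquiv.sum_comp, Fintype.sum_sum_type]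
      simp only [w, LinearMap.coe_mk, AddHom.coe_mk, Equiv.symm_apply_apply, Sum.elim_inl, Sum.elim_inr]
      simp
    · rw [Module.finrank_fin_fun, LinearMap.finrank_range_of_inj, Module.finrank_fin_fun]
      · omega
      · refine e.toLinearEquiv.symm.injective.comp fun t t' h => funext fun j => ?_
        simpa using congrFun h (finSumFinEquiv (.inl j))

end Cfsg.Agent.Orth
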