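import Cfsg.Agent.Lib.Orth.QuadExtWitness

/-!
# The criterion for subgroups over the quadratic extension, both types
-/

set_option autoImplicit false
set_option linter.unusedSectionVars false

namespace Cfsg.Agent.Orth

open Cfsg Matrix Module
open QuadraticMap (polar)

variable {F : Type*} [Field F] [Fintype F]

private theorem two_ne_zero_of_odd_card (h : Odd (Fintype.card F)) : (2 : F) ≠ 0 := fun h2 => by
  have hc : ringChar F = 2 := CharP.ringChar_of_prime_eq_zero Nat.prime_two (by exact_mod_cast h2)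
  have := (FiniteField.even_card_iff_char_two).1 hc
  rw [Nat.odd_iff] at h
  omega

theorem not_dvd_card {r : ℕ} (hrP : r.Prime) (hr : (r : F) ≠ 0) : ¬ r ∣ Fintype.card F := fun h => by
  obtain ⟨p, hp⟩ := CharP.exists F
  obtain ⟨n, hpp, hn⟩ := FiniteField.card F p
  rw [hn] at h
  exact hr (by rw [(Nat.prime_dvd_prime_iff_eq hrP hpp).1 (hrP.dvd_of_dvd_pow h), CharP.cast_eq_zero])

theorem quadExt_iff_plus (hodd : Odd (Fintype.card F)) (d : ℕ) (hd : 4 ≤ d)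
    (K : Subalgebra F (Matrix (Fin d ⊕ Fin d) (Fin d ⊕ Fin d) F)) (hK : Geo.IsFieldSubalgebra 2 K)
    (hKf : Geo.IsSelfAdjointFor (polar ⇑(quadPlus d F)) K) (r : ℕ) [Fact r.Prime]
    (hΩ : r ∣ (Geo.subalgebraNormalizer K).relIndex (Geo.omegaGL ⇑(quadPlus d F))) :
    (∀ x ∈ Geo.omegaGL ⇑(quadPlus d F), (∃ z : F, ((x ^ r : GL (Fin d ⊕ Fin d) F) : Matrix _ _ F) =
        z • (1 : Matrix (Fin d ⊕ Fin d) (Fin d ⊕ Fin d) F)) →
      (∀ z : F, (x : Matrix _ _ F) ≠ z • (1 : Matrix (Fin d ⊕ Fin d) (Fin d ⊕ Fin d) F)) →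
      ∃ g ∈ Geo.omegaGL ⇑(quadPlus d F), g⁻¹ * x * g ∈ Geo.subalgebraNormalizer K) ↔ r = 2 := by
  classical
  have h2 := two_ne_zero_of_odd_card hodd
  have hG : Good (quadPlus d F) := Good.of_two_ne_zero (quadPlus_nondeg d) h2
  have hn : Fintype.card (Fin d ⊕ Fin d) = 2 * d := by simp [two_mul]
  refine iff_two hG h2 hn (by omega) K hK hKf r fun hr2 ν J hJ hν hN => Bad.apply ?_ hJ
  by_cases hr : (r : F) = 0
  · exact bad_eich_plus hν (by omega) hr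
  refine bad_plus h2 hν hd hr hr2 ?_
  obtain ⟨m, rfl⟩ : ∃ m, d = m + 1 := ⟨d - 1, by omega⟩
  have hO : Nat.card (IsoGrp (quadPlus (m + 1) F)) = 2 * Fintype.card F ^ ((m + 1) * m) *
      ((Fintype.card F ^ (m + 1) - 1) * ∏ i ∈ Finset.range m, (Fintype.card F ^ (2 * (i + 1)) - 1)) := by
    rw [show Nat.card (IsoGrp (quadPlus (m + 1) F)) = _ from
      Nat.card_congr (Forms.isometryGroupEquiv (⇑(quadPlus (m + 1) F))).toEquiv,
      coe_quadPlus, ← Forms.qfPlus_eq, Forms.card_preservingFun_qfPlus, Nat.card_eq_fintype_card, mul_assoc]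
  have h := index_cases_ext hG h2 hν hJ hn (by omega) Fact.out hr2 (not_dvd_card Fact.out hr)
    (a := (m + 1) * m) (Z := Fintype.card F ^ (m + 1) - 1)
    (by rw [Nat.add_sub_cancel]; exact Nat.mul_le_mul_right _ (Nat.le_succ m))
    (by rw [Nat.add_sub_cancel]; exact hO)
    (fun _ => .inl ⟨isPlusForm_of_plus (LinearEquiv.refl F _) fun v => by
        rw [LinearEquiv.refl_apply, coe_quadPlus, Forms.qfPlus_apply],
      rfl, 1, one_ne_zero, by rw [toMatrix_eq_gram, coe_quadPlus, det_gram_quadPlus, one_pow, one_mul]⟩)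
    (by rw [Nat.add_sub_cancel]) (index_dvd hG hN hΩ)
  exact h

theorem quadExt_iff_minus (hodd : Odd (Fintype.card F)) (d : ℕ) (hd : 4 ≤ d) (a b : F)
    (hab : ∀ x y : F, x ^ 2 + a * x * y + b * y ^ 2 = 0 → x = 0 ∧ y = 0)
    (K : Subalgebra F (Matrix ((Fin (d - 1) ⊕ Fin (d - 1)) ⊕ Fin 2) ((Fin (d - 1) ⊕ Fin (d - 1)) ⊕ Fin 2) F))
    (hK : Geo.IsFieldSubalgebra 2 K) (hKf : Geo.IsSelfAdjointFor (polar ⇑(quadMinus (d - 1) F a b)) K)
    (r : ℕ) [Fact r.Prime]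
    (hΩ : r ∣ (Geo.subalgebraNormalizer K).relIndex (Geo.omegaGL ⇑(quadMinus (d - 1) F a b))) :
    (∀ x ∈ Geo.omegaGL ⇑(quadMinus (d - 1) F a b),
      (∃ z : F, ((x ^ r : GL ((Fin (d - 1) ⊕ Fin (d - 1)) ⊕ Fin 2) F) : Matrix _ _ F) =
        z • (1 : Matrix ((Fin (d - 1) ⊕ Fin (d - 1)) ⊕ Fin 2) ((Fin (d - 1) ⊕ Fin (d - 1)) ⊕ Fin 2) F)) →
      (∀ z : F, (x : Matrix _ _ F) ≠
        z • (1 : Matrix ((Fin (d - 1) ⊕ Fin (d - 1)) ⊕ Fin 2) ((Fin (d - 1) ⊕ Fin (d - 1)) ⊕ Fin 2) F)) →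
      ∃ g ∈ Geo.omegaGL ⇑(quadMinus (d - 1) F a b), g⁻¹ * x * g ∈ Geo.subalgebraNormalizer K) ↔ r = 2 := by
  classical
  have h2 := two_ne_zero_of_odd_card hodd
  have hG : Good (quadMinus (d - 1) F a b) := Good.of_two_ne_zero (quadMinus_nondeg (d - 1) hab) h2
  have hn : Fintype.card ((Fin (d - 1) ⊕ Fin (d - 1)) ⊕ Fin 2) = 2 * d := by simp; omega
  refine iff_two hG h2 hn (by omega) K hK hKf r fun hr2 ν J hJ hν hN => Bad.apply ?_ hJ
  by_cases hr : (r : F) = 0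
  · exact bad_eich_minus hν (by omega) a b hr
  refine bad_minus h2 hν hd hab hr hr2 ?_
  obtain ⟨m, rfl⟩ : ∃ m, d = m + 1 := ⟨d - 1, by omega⟩
  have hO : Nat.card (IsoGrp (quadMinus (m + 1 - 1) F a b)) = 2 * Fintype.card F ^ ((m + 1) * m) *
      ((Fintype.card F ^ (m + 1) + 1) * ∏ i ∈ Finset.range m, (Fintype.card F ^ (2 * (i + 1)) - 1)) := by
    rw [show Nat.card (IsoGrp (quadMinus (m + 1 - 1) F a b)) = _ from
      Nat.card_congr (Forms.isometryGroupEquiv (⇑(quadMinus (m + 1 - 1) F a b))).toEquiv,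
      coe_quadMinus, ← Forms.qfMinus_eq, Forms.card_preservingFun_qfMinus hab, Nat.card_eq_fintype_card, mul_assoc]
    rfl
  have h := index_cases_ext hG h2 hν hJ hn (by omega) Fact.out hr2 (not_dvd_card Fact.out hr)
    (a := (m + 1) * m) (Z := Fintype.card F ^ (m + 1) + 1)
    (by rw [Nat.add_sub_cancel]; exact Nat.mul_le_mul_right _ (Nat.le_succ m))
    hO
    (fun _ => .inr ⟨not_isPlusForm_of_minus hab (LinearEquiv.refl F _) fun v => by
        rw [LinearEquiv.refl_apply, coe_quadMinus, Forms.qfMinus_apply], rfl⟩)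
    (by rw [Nat.add_sub_cancel]) (index_dvd hG hN hΩ)
  exact h

end Cfsg.Agent.Orth
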