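import Cfsg.Agent.Lib.Orth.QuadExtField
import Cfsg.Agent.Lib.Orth.Models
import Cfsg.Agent.Lib.Orth.Geo
import Cfsg.Agent.Lib.Orth.Order

/-!
# Subgroups of orthogonal type over the quadratic extension

* `exists_root_of_field`, `mem_normalizer_iff` : the normaliser through a root
* `index_dvd`, `cases_plus`, `cases_minus` : the odd primes dividing the index
* `involution_conj` : every involution normalises a conjugate
* `iff_two` : the criterion, given a bad element for odd primes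
-/

set_option autoImplicit false
set_option linter.unusedSectionVars false

namespace Cfsg.Agent.Orth

open Cfsg Matrix Module
open QuadraticMap (polar)

variable {ι : Type} [Fintype ι] [DecidableEq ι] {F : Type*} [Field F] [Fintype F]
variable {Q : QuadraticForm F (ι → F)} {ν : F} {J : Matrix ι ι F}

/-! ### the field and its normaliser -/

theorem exists_root_of_field [Nonempty ι] (h2 : (2 : F) ≠ 0) {K : Subalgebra F (Matrix ι ι F)}
    (hK : Geo.IsFieldSubalgebra 2 K) (hKf : Geo.IsSelfAdjointFor (polar ⇑Q) K) :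
    ∃ (ν : F) (J : Matrix ι ι F), IsRoot Q ν J ∧ (∀ c : F, c * c ≠ ν) ∧ J ∈ K ∧ (∀ c : F, J ≠ c • 1) ∧
      J * J = ν • 1 ∧ ∀ k ∈ K, ∃ α β : F, k = α • 1 + β • J := by
  haveI : Module.Finite F K := Module.finite_of_finrank_pos (by rw [hK.finrank_eq]; norm_num)
  obtain ⟨k, hk, hks⟩ : ∃ k ∈ K, ∀ c : F, k ≠ c • 1 := by
    by_contra hcon
    push Not at hcon
    have hle : finrank F K ≤ 1 := finrank_le_one (1 : K) fun w => by
      obtain ⟨c, hc⟩ := hcon w w.2
      exact ⟨c, Subtype.ext (by rw [Subalgebra.coe_smul, Subalgebra.coe_one, hc])⟩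
    rw [hK.finrank_eq] at hle
    omega
  have hind : LinearIndependent F ![(1 : K), ⟨k, hk⟩] := by
    rw [LinearIndependent.pair_iff]
    intro s t h
    have h' : s • (1 : Matrix ι ι F) + t • k = 0 := congrArg Subtype.val h
    by_cases ht : t = 0
    · subst ht
      rw [zero_smul, add_zero, smul_eq_zero] at h'
      exact ⟨h'.resolve_right one_ne_zero, rfl⟩
    · refine absurd ?_ (hks (-(t⁻¹ * s)))
      calc k = t⁻¹ • (t • k) := by rw [smul_smul, inv_mul_cancel₀ ht, one_smul]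
        _ = _ := by rw [eq_neg_of_add_eq_zero_right h', smul_neg, smul_smul, neg_smul]
  have hspan := hind.span_eq_top_of_card_eq_finrank' (by rw [Fintype.card_fin, hK.finrank_eq])
  have hsp : ∀ m ∈ K, ∃ α β : F, m = α • (1 : Matrix ι ι F) + β • k := by
    intro m hm
    have : (⟨m, hm⟩ : K) ∈ Submodule.span F (Set.range ![(1 : K), ⟨k, hk⟩]) := hspan ▸ Submodule.mem_top
    rw [Matrix.range_cons, Matrix.range_cons, Matrix.range_empty, Set.union_empty,
      Set.singleton_union, Submodule.mem_span_pair] at this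
    obtain ⟨α, β, h⟩ := this
    exact ⟨α, β, (congrArg Subtype.val h).symm⟩
  obtain ⟨a, b, hab⟩ := hsp (k * k) (K.mul_mem hk hk)
  set J := k - (b / 2) • (1 : Matrix ι ι F) with hJ
  have hJK : J ∈ K := K.sub_mem hk (K.smul_mem K.one_mem _)
  have hJs : ∀ c : F, J ≠ c • 1 := fun c hc => hks (c + b / 2) (by rw [add_smul, ← hc, hJ, sub_add_cancel])
  have hsq : J * J = (a + b * b / 4) • (1 : Matrix ι ι F) := by
    have h4 : (4 : F) ≠ 0 := by rw [show (4 : F) = 2 * 2 by norm_num]; exact mul_ne_zero h2 h2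
    rw [hJ]
    simp only [mul_sub, sub_mul, Matrix.smul_mul, Matrix.mul_smul, one_mul, mul_one, hab]
    match_scalars <;> field_simp <;> ring
  set ν := a + b * b / 4
  refine ⟨ν, J, ⟨fun v => ?_, hKf J hJK⟩, fun c hc => ?_, hJK, hJs, hsq, fun m hm => ?_⟩
  · rw [Matrix.mulVec_mulVec, hsq, Matrix.smul_mulVec, Matrix.one_mulVec]
  · obtain ⟨y, -, hy⟩ := hK.inv _ (K.sub_mem hJK (K.smul_mem K.one_mem c)) (fun h => hJs c (sub_eq_zero.1 h))
    have hzero : (J + c • (1 : Matrix ι ι F)) * (J - c • 1) = 0 := by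
      simp only [mul_sub, add_mul, Matrix.smul_mul, Matrix.mul_smul, one_mul, mul_one, hsq, ← hc]
      module
    apply hJs (-c)
    have h4 := congrArg (· * y) hzero
    simp only [mul_assoc, hy, mul_one, zero_mul] at h4
    rw [neg_smul]
    exact eq_neg_of_add_eq_zero_left h4
  · obtain ⟨α, β, rfl⟩ := hsp m hm
    exact ⟨α + β * (b / 2), β, by rw [hJ]; module⟩

/-- Commuting or anticommuting with `J`. -/
def NormRoot (J : Matrix ι ι F) (g : Matrix ι ι F) : Prop := g * J = J * g ∨ g * J = -(J * g)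

theorem mem_normalizer_iff {K : Subalgebra F (Matrix ι ι F)} (h2 : (2 : F) ≠ 0) (hν : ∀ c : F, c * c ≠ ν)
    (hJK : J ∈ K) (hJs : ∀ c : F, J ≠ c • 1) (hsq : J * J = ν • 1)
    (hsp : ∀ k ∈ K, ∃ α β : F, k = α • 1 + β • J) (g : GL ι F) :
    g ∈ Geo.subalgebraNormalizer K ↔ NormRoot J (g : Matrix ι ι F) := by
  have hK : ∀ h : GL ι F, NormRoot J (h : Matrix ι ι F) → ∀ k ∈ K,
      (h : Matrix ι ι F) * k * ((h⁻¹ : GL ι F) : Matrix ι ι F) ∈ K := by
    intro h hh k hk
    obtain ⟨α, β, rfl⟩ := hsp k hk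
    simp only [mul_add, add_mul, Matrix.mul_smul, Matrix.smul_mul, mul_one, Units.mul_inv]
    refine K.add_mem (K.smul_mem K.one_mem α) (K.smul_mem ?_ β)
    rcases hh with e | e
    · rw [e, mul_assoc, Units.mul_inv, mul_one]; exact hJK
    · rw [e, neg_mul, mul_assoc, Units.mul_inv, mul_one]; exact K.neg_mem hJK
  have hinv : ∀ h : GL ι F, NormRoot J (h : Matrix ι ι F) → NormRoot J ((h⁻¹ : GL ι F) : Matrix ι ι F) := by
    intro h hh
    have key : ∀ X : Matrix ι ι F, ((h⁻¹ : GL ι F) : Matrix ι ι F) * (X * (h : Matrix ι ι F)) *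
        ((h⁻¹ : GL ι F) : Matrix ι ι F) = ((h⁻¹ : GL ι F) : Matrix ι ι F) * X := fun X => by
      rw [mul_assoc, mul_assoc X, Units.mul_inv, mul_one]
    rcases hh with e | e
    · exact .inl (by rw [← key J, ← e, ← mul_assoc, Units.inv_mul, one_mul])
    · refine .inr ?_
      rw [← key J, show J * (h : Matrix ι ι F) = -((h : Matrix ι ι F) * J) by rw [e, neg_neg], mul_neg, ← mul_assoc,
        Units.inv_mul, one_mul, neg_mul]
  refine ⟨fun hg => ?_, fun hg k => ⟨hK g hg k, fun hk => ?_⟩⟩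
  · obtain ⟨α, β, hab⟩ := hsp _ ((hg J).1 hJK)
    have h1 : ((g : Matrix ι ι F) * J * ((g⁻¹ : GL ι F) : Matrix ι ι F)) *
        ((g : Matrix ι ι F) * J * ((g⁻¹ : GL ι F) : Matrix ι ι F)) = ν • 1 := by
      rw [show ∀ A B C : Matrix ι ι F, A * B * C * (A * B * C) = A * B * (C * A) * B * C from fun A B C => by
        simp only [mul_assoc], Units.inv_mul, mul_one, mul_assoc _ J J, hsq, Matrix.mul_smul, Matrix.smul_mul, mul_one,
        Units.mul_inv]
    rw [hab] at h1
    simp only [mul_add, add_mul, Matrix.mul_smul, Matrix.smul_mul, mul_one, one_mul, hsq] at h1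
    have h3 : (α * α + β * β * ν - ν) • (1 : Matrix ι ι F) + (2 * α * β) • J = 0 := by
      rw [← sub_eq_zero] at h1
      rw [← h1]
      module
    have hαβ : α * β = 0 := by
      by_contra hne
      refine hJs (-((2 * α * β)⁻¹ * (α * α + β * β * ν - ν))) ?_
      have hne2 : 2 * α * β ≠ 0 := by rw [mul_assoc]; exact mul_ne_zero h2 hne
      calc J = (2 * α * β)⁻¹ • ((2 * α * β) • J) := by rw [smul_smul, inv_mul_cancel₀ hne2, one_smul]
        _ = _ := by rw [eq_neg_of_add_eq_zero_right h3, smul_neg, smul_smul, neg_smul]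
    rw [mul_assoc 2, hαβ, mul_zero, zero_smul, add_zero, smul_eq_zero] at h3
    have hne1 : (1 : Matrix ι ι F) ≠ 0 := fun h1 => hJs 0 (by rw [← mul_one J, h1, mul_zero, smul_zero])
    have h4 := h3.resolve_right hne1
    have hgJ : (g : Matrix ι ι F) * J = (α • 1 + β • J) * (g : Matrix ι ι F) := by
      rw [← hab, mul_assoc, Units.inv_mul, mul_one]
    rcases mul_eq_zero.1 hαβ with rfl | rfl
    · have hb : β * β = 1 := by
        refine mul_right_cancel₀ (fun e => hν 0 (by rw [e, mul_zero]) : ν ≠ 0) ?_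
        linear_combination h4
      rcases mul_self_eq_one_iff.1 hb with rfl | rfl
      · exact .inl (by rw [hgJ, zero_smul, zero_add, one_smul])
      · exact .inr (by rw [hgJ, zero_smul, zero_add, neg_smul, one_smul, neg_mul])
    · exact absurd (show α * α = ν by linear_combination h4) (hν α)
  · have h' := hK g⁻¹ (hinv g hg) _ hk
    rwa [inv_inv, mul_assoc, mul_assoc, Units.inv_mul, mul_one, ← mul_assoc, Units.inv_mul, one_mul] at h'

theorem normRoot_iff (g : IsoGrp Q) : NormRoot J ((g : GL ι F) : Matrix ι ι F) ↔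
    ∃ ε : F, (ε = 1 ∨ ε = -1) ∧ ∀ v, ap g (J *ᵥ v) = ε • (J *ᵥ ap g v) := by
  have key : ∀ (ε : F) (A : Matrix ι ι F), A * J = ε • (J * A) ↔ ∀ v, A *ᵥ (J *ᵥ v) = ε • (J *ᵥ (A *ᵥ v)) := by
    intro ε A
    refine ⟨fun h v => ?_, fun h => Matrix.toLin'.injective (LinearMap.ext fun v => ?_)⟩
    · rw [Matrix.mulVec_mulVec, h, Matrix.smul_mulVec, ← Matrix.mulVec_mulVec]
    · rw [Matrix.toLin'_apply, Matrix.toLin'_apply, ← Matrix.mulVec_mulVec, h, Matrix.smul_mulVec,
        ← Matrix.mulVec_mulVec]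
  constructor
  · rintro (h | h)
    · exact ⟨1, .inl rfl, (key 1 _).1 (by rw [one_smul, h])⟩
    · exact ⟨-1, .inr rfl, (key (-1) _).1 (by rw [neg_one_smul, h])⟩
  · rintro ⟨ε, rfl | rfl, h⟩
    · exact .inl (by rw [(key 1 _).2 h, one_smul])
    · exact .inr (by rw [(key (-1) _).2 h, neg_one_smul])

/-! ### the index -/

/-- An odd prime dividing the index of the normaliser. -/
theorem index_dvd (hG : Good Q) {K : Subalgebra F (Matrix ι ι F)}
    (hN : ∀ g : GL ι F, NormRoot J (g : Matrix ι ι F) → g ∈ Geo.subalgebraNormalizer K) {r : ℕ}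
    (hΩ : r ∣ (Geo.subalgebraNormalizer K).relIndex (Geo.omegaGL ⇑Q)) :
    r * Nat.card (rootCent Q J) ∣ 4 * Nat.card (IsoGrp Q) := by
  classical
  set G := Geo.omegaGL ⇑Q with hGdef
  set H := (Geo.subalgebraNormalizer K).subgroupOf G
  have hcardG : Nat.card G = Nat.card (Omega F ⇑Q) :=
    (Nat.card_congr ((Omega F ⇑Q).equivMapOfInjective _ (isometryGroup F ⇑Q).subtype_injective).toEquiv).symm
  have h1 : Nat.card (rootCent Q J ⊓ Omega F ⇑Q : Subgroup (IsoGrp Q)) ∣ Nat.card H := by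
    let f : (rootCent Q J ⊓ Omega F ⇑Q : Subgroup (IsoGrp Q)) →* H :=
      MonoidHom.mk' (fun c => ⟨⟨((c : IsoGrp Q) : GL ι F), coe_mem_omegaGL.2 c.2.2⟩,
        hN _ ((normRoot_iff (c : IsoGrp Q)).2 ⟨1, .inl rfl, fun v => by rw [one_smul]; exact c.2.1 v⟩)⟩)
        fun _ _ => rfl
    have hf : Function.Injective f := fun a b e =>
      Subtype.ext (Subtype.ext (congrArg (fun z : H => ((z : G) : GL ι F)) e))
    rw [Nat.card_congr (MonoidHom.ofInjective hf).toEquiv]
    exact Subgroup.card_subgroup_dvd_card _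
  have h2 : Nat.card (rootCent Q J) ∣ 4 * Nat.card (rootCent Q J ⊓ Omega F ⇑Q : Subgroup (IsoGrp Q)) := by
    let φ : rootCent Q J →* ℤˣ × ℤˣ := (signHom hG).comp (rootCent Q J).subtype
    have hker : Nat.card φ.ker = Nat.card (rootCent Q J ⊓ Omega F ⇑Q : Subgroup (IsoGrp Q)) := by
      have hmem : ∀ g : IsoGrp Q, signHom hG g = 1 ↔ g ∈ Omega F ⇑Q := fun g => by
        rw [omega_eq_ker hG, MonoidHom.mem_ker]
      exact Nat.card_congr
        { toFun := fun c => ⟨c.1.1, c.1.2, (hmem _).1 c.2⟩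
          invFun := fun c => ⟨⟨c.1, c.2.1⟩, (hmem _).2 c.2.2⟩
          left_inv := fun _ => rfl
          right_inv := fun _ => rfl }
    rw [← φ.ker.card_mul_index, Subgroup.index_ker, hker, mul_comm]
    refine Nat.mul_dvd_mul ((Subgroup.card_subgroup_dvd_card _).trans ?_) dvd_rfl
    rw [Nat.card_prod, Nat.card_eq_fintype_card, Fintype.card_units_int]
  have h3 := H.index_mul_card
  refine (Nat.mul_dvd_mul_left r (h2.trans (Nat.mul_dvd_mul_left 4 h1))).trans ?_
  rw [← mul_assoc, mul_comm r, mul_assoc]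
  refine Nat.mul_dvd_mul_left 4 ((Nat.mul_dvd_mul_right hΩ _).trans ?_)
  rw [show (Geo.subalgebraNormalizer K).relIndex G = H.index from rfl, h3, hcardG]
  exact Subgroup.card_subgroup_dvd_card _

theorem prod_split (q : ℕ) : ∀ m : ℕ, ∏ i ∈ Finset.range (2 * m), (q ^ (2 * (i + 1)) - 1) =
    (∏ i ∈ Finset.range m, (q ^ (4 * (i + 1)) - 1)) * ∏ i ∈ Finset.range m, (q ^ (2 * (2 * i + 1)) - 1)
  | 0 => by simp
  | m + 1 => by
    rw [show 2 * (m + 1) = 2 * m + 1 + 1 by omega, Finset.prod_range_succ, Finset.prod_range_succ, prod_split q m,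
      Finset.prod_range_succ, Finset.prod_range_succ, show 4 * (m + 1) = 2 * (2 * m + 1 + 1) by omega]
    ring

theorem cancel_index {r q a b X Y : ℕ} (hr : r.Prime) (hr2 : r ≠ 2) (hrq : ¬ r ∣ q) (hq : 0 < q) (hba : b ≤ a)
    (hX : 0 < X) (h : r * (2 * q ^ b * X) ∣ 4 * (2 * q ^ a * (X * Y))) : r ∣ Y := by
  rw [show 4 * (2 * q ^ a * (X * Y)) = (2 * q ^ b * X) * (2 ^ 2 * q ^ (a - b) * Y) by
    conv_lhs => rw [← Nat.sub_add_cancel hba, pow_add]
    ring, mul_comm r] at h
  have h' := Nat.dvd_of_mul_dvd_mul_left (Nat.mul_pos (Nat.mul_pos two_pos (pow_pos hq b)) hX) h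
  rcases (Nat.Prime.dvd_mul hr).1 h' with h'' | h''
  · rcases (Nat.Prime.dvd_mul hr).1 h'' with h3 | h3
    · exact absurd ((Nat.prime_dvd_prime_iff_eq hr Nat.prime_two).1 (hr.dvd_of_dvd_pow h3)) hr2
    · exact absurd (hr.dvd_of_dvd_pow h3) hrq
  · exact h''

/-- The conclusion on orders: an odd power, or the top factor in odd degree. -/
theorem index_cases_ext (hG : Good Q) (h2 : (2 : F) ≠ 0) (hν : ∀ c : F, c * c ≠ ν) (hJ : IsRoot Q ν J) {d : ℕ}
    (hn : Fintype.card ι = 2 * d) (hd : 2 ≤ d) {r : ℕ} (hr : r.Prime) (hr2 : r ≠ 2)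
    (hrq : ¬ r ∣ Fintype.card F) {a Z : ℕ} (ha : (d - 1) * (d - 1) ≤ a)
    (hO : Nat.card (IsoGrp Q) = 2 * Fintype.card F ^ a *
      (Z * ∏ i ∈ Finset.range (d - 1), (Fintype.card F ^ (2 * (i + 1)) - 1)))
    (htype : Even d → (IsPlusForm Q ∧ Z = Fintype.card F ^ d - 1 ∧
        ∃ s : F, s ≠ 0 ∧ (LinearMap.BilinForm.toMatrix' Q.polarBilin).det = s ^ 2 * (-1) ^ d) ∨
      (¬ IsPlusForm Q ∧ Z = Fintype.card F ^ d + 1))
    (ha' : d * (d - 1) ≤ a) (hΩ : r * Nat.card (rootCent Q J) ∣ 4 * Nat.card (IsoGrp Q)) :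
    (∃ j, Odd j ∧ j < d ∧ r ∣ Fintype.card F ^ (2 * j) - 1) ∨ (Odd d ∧ r ∣ Z) := by
  haveI := fact_of_nonsquare hν
  haveI : Finite (QuadraticAlgebra F ν 0) := Module.finite_of_finite F
  letI := Fintype.ofFinite (QuadraticAlgebra F ν 0)
  obtain ⟨P, hPnd, hPd, hPplus, hPplus'⟩ := exists_ext_form hG.nd h2 hν hn hJ
  set q := Fintype.card F with hq
  have hq2 : 2 ≤ q := Fintype.one_lt_card
  have hE : Nat.card (QuadraticAlgebra F ν 0) = q ^ 2 := card_ext hν
  have hΩ' := (Nat.mul_dvd_mul_left r hPd).trans hΩ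
  have hppos : ∀ m, 0 < ∏ i ∈ Finset.range m, ((q ^ 2) ^ (2 * (i + 1)) - 1) := fun m =>
    Finset.prod_pos fun i _ => by
      have : 1 < (q ^ 2) ^ (2 * (i + 1)) := Nat.one_lt_pow (by omega) (Nat.one_lt_pow two_ne_zero hq2)
      omega
  have hodd : ∀ {m : ℕ}, 2 * m ≤ d → r ∣ ∏ i ∈ Finset.range m, (q ^ (2 * (2 * i + 1)) - 1) →
      ∃ j, Odd j ∧ j < d ∧ r ∣ q ^ (2 * j) - 1 := fun hm h => by
    obtain ⟨i, hi, hdd⟩ := (Prime.dvd_finsetProd_iff hr.prime _).1 h
    rw [Finset.mem_range] at hi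
    exact ⟨2 * i + 1, ⟨i, rfl⟩, by omega, hdd⟩
  have hX : ∀ m, ∏ i ∈ Finset.range m, ((q ^ 2) ^ (2 * (i + 1)) - 1) = ∏ i ∈ Finset.range m, (q ^ (4 * (i + 1)) - 1) :=
    fun m => Finset.prod_congr rfl fun i _ => by rw [← pow_mul]; congr 2; omega
  rcases Nat.even_or_odd' d with ⟨m, rfl | rfl⟩
  · obtain ⟨l, rfl⟩ : ∃ l, m = l + 1 := ⟨m - 1, by omega⟩
    have hev : Even (2 * (l + 1)) := even_two_mul _
    obtain ⟨ζ, -, hζ⟩ := Forms.exists_no_root (F := QuadraticAlgebra F ν 0)
    have hdim : finrank (QuadraticAlgebra F ν 0) (Fin (2 * (l + 1)) → QuadraticAlgebra F ν 0) = 2 * (l + 1) :=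
      Module.finrank_fin_fun _
    have hprod : ∏ i ∈ Finset.range (2 * (l + 1) - 1), (q ^ (2 * (i + 1)) - 1) =
        (∏ i ∈ Finset.range l, (q ^ (4 * (i + 1)) - 1)) * ∏ i ∈ Finset.range (l + 1), (q ^ (2 * (2 * i + 1)) - 1) := by
      rw [show 2 * (l + 1) - 1 = 2 * l + 1 by omega, Finset.prod_range_succ, prod_split, Finset.prod_range_succ]
      ring
    have hfin : ∀ {Zp : ℕ}, 0 < Zp → Z = Zp →
        Nat.card (Forms.preservingFun (F := QuadraticAlgebra F ν 0) ⇑P) =
          2 * (q ^ 2) ^ ((l + 1) * l) * Zp * ∏ i ∈ Finset.range l, ((q ^ 2) ^ (2 * (i + 1)) - 1) →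
        (∃ j, Odd j ∧ j < 2 * (l + 1) ∧ r ∣ q ^ (2 * j) - 1) := by
      intro Zp hZp hZ hcard
      refine hodd le_rfl (cancel_index hr hr2 hrq (by omega) (b := 2 * ((l + 1) * l)) (a := a)
        (X := Zp * ∏ i ∈ Finset.range l, (q ^ (4 * (i + 1)) - 1)) ?_
        (Nat.mul_pos hZp (by rw [← hX]; exact hppos l)) ?_)
      · refine le_trans ?_ ha'
        rw [show 2 * (l + 1) - 1 = 2 * l + 1 by omega, mul_assoc]
        exact Nat.mul_le_mul_left _ (Nat.mul_le_mul_left _ (by omega))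
      · rw [hcard, hO, hZ, hprod, hX, ← pow_mul] at hΩ'
        convert hΩ' using 1 <;> first | rfl | ring
    rcases htype hev with ⟨hQp, hZ, hs⟩ | ⟨hQp, hZ⟩
    · rcases classify_type P hPnd hdim hζ with ⟨-, e, he⟩ | ⟨hn', -⟩
      swap; · exact absurd (hPplus' hev hs) hn'
      refine .inl (hfin (Zp := q ^ (2 * (l + 1)) - 1) ?_ hZ ?_)
      · have : 1 < q ^ (2 * (l + 1)) := Nat.one_lt_pow (by omega) hq2
        omega
      · rw [← Nat.card_congr (Forms.preservingFunCongr (⇑(Forms.qfPlus (l + 1) (QuadraticAlgebra F ν 0))) (⇑P) e 1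
          one_ne_zero (fun v => (he v).trans (one_mul _).symm)).toEquiv, Forms.card_preservingFun_qfPlus, hE,
          ← pow_mul q 2 (l + 1)]
    · rcases classify_type P hPnd hdim hζ with ⟨hp', -⟩ | ⟨-, e, he⟩
      · exact absurd (hPplus hp') hQp
      refine .inl (hfin (Zp := q ^ (2 * (l + 1)) + 1) (Nat.succ_pos _) hZ ?_)
      rw [← Nat.card_congr (Forms.preservingFunCongr (⇑(Forms.qfMinus l (QuadraticAlgebra F ν 0) 1 ζ)) (⇑P) e 1
          one_ne_zero (fun v => (he v).trans (one_mul _).symm)).toEquiv, Forms.card_preservingFun_qfMinus hζ, hE,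
        ← pow_mul q 2 (l + 1)]
  · obtain ⟨-, c, e, hc, he⟩ := Forms.classify_odd P hPnd (Module.finrank_fin_fun (QuadraticAlgebra F ν 0) (n := 2 * m + 1))
    have h2E : (2 : QuadraticAlgebra F ν 0) ≠ 0 := by
      rw [show (2 : QuadraticAlgebra F ν 0) = algebraMap F _ 2 from (map_ofNat _ 2).symm]
      exact (map_ne_zero_iff _ (algebraMap F (QuadraticAlgebra F ν 0)).injective).2 h2
    rw [← Nat.card_congr (Forms.preservingFunCongr (⇑(Forms.qfOdd m (QuadraticAlgebra F ν 0))) (⇑P) e c hc he).toEquiv,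
      Forms.card_preservingFun_qfOdd h2E, hE, hX, hO, Nat.add_sub_cancel, prod_split, ← pow_mul] at hΩ'
    have h' := cancel_index hr hr2 hrq (by omega) (b := 2 * m ^ 2) (a := a)
      (X := ∏ i ∈ Finset.range m, (q ^ (4 * (i + 1)) - 1))
      (Y := Z * ∏ i ∈ Finset.range m, (q ^ (2 * (2 * i + 1)) - 1))
      (le_trans (by rw [Nat.add_sub_cancel, sq, ← mul_assoc]; exact Nat.mul_le_mul_left _ (by omega)) ha)
      (by rw [← hX]; exact hppos m) (by convert hΩ' using 1 <;> first | rfl | ring)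
    rcases (Nat.Prime.dvd_mul hr).1 h' with h | h
    · exact .inr ⟨⟨m, rfl⟩, h⟩
    · exact .inl (hodd (by omega) h)

theorem toMatrix_eq_gram : LinearMap.BilinForm.toMatrix' Q.polarBilin = gram ⇑Q := by
  ext i j
  rw [LinearMap.BilinForm.toMatrix'_apply]
  rfl

/-! ### involutions -/

theorem polar_ap_invol {x : IsoGrp Q} {σ : F} (hx : ∀ v, ap x (ap x v) = σ • v) (u v : ι → F) :
    σ * polar ⇑Q u (ap x v) = polar ⇑Q (ap x u) v := by
  rw [← pl_smul_left, ← hx u, polar_ap]

/-- The endomorphism attached to a plane. -/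
noncomputable def planeMap (Q : QuadraticForm F (ι → F)) (e f : ι → F) (α β γ : F) : Module.End F (ι → F) :=
  (Q.polarBilin e).smulRight ((polar ⇑Q e e)⁻¹ • (α • e + γ • f)) +
    (Q.polarBilin f).smulRight ((polar ⇑Q f f)⁻¹ • (β • e - α • f))

theorem planeMap_apply (e f : ι → F) (α β γ : F) (v : ι → F) : planeMap Q e f α β γ v =
    (polar ⇑Q e v * (polar ⇑Q e e)⁻¹) • (α • e + γ • f) + (polar ⇑Q f v * (polar ⇑Q f f)⁻¹) • (β • e - α • f) := by
  simp only [planeMap, LinearMap.add_apply, LinearMap.smulRight_apply, QuadraticMap.polarBilin_apply_apply, smul_smul]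

theorem exists_plane_coeff (h2 : (2 : F) ≠ 0) (hν : ∀ c : F, c * c ≠ ν) {A B : F} (hA : A ≠ 0) (hB : B ≠ 0) :
    ∃ α β γ : F, α * α + β * γ = ν ∧ β * A = γ * B := by
  have hodd : Fintype.card F % 2 = 1 := FiniteField.odd_card_of_char_ne_two (fun h => h2 (by
    have := ringChar.charP F
    have := CharP.cast_eq_zero F (ringChar F)
    rw [h] at this; exact_mod_cast this))
  obtain ⟨α, γ, h⟩ := FiniteField.exists_root_sum_quadratic
    (f := Polynomial.C (1 : F) * Polynomial.X ^ 2) (g := Polynomial.C (B / A) * Polynomial.X ^ 2 - Polynomial.C ν)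
    (Polynomial.degree_C_mul_X_pow 2 one_ne_zero)
    (by rw [Polynomial.degree_sub_eq_left_of_degree_lt (by
          rw [Polynomial.degree_C_mul_X_pow 2 (div_ne_zero hB hA),
            Polynomial.degree_C (fun e => hν 0 (by rw [e, mul_zero]) : ν ≠ 0)]; norm_num),
          Polynomial.degree_C_mul_X_pow 2 (div_ne_zero hB hA)]; rfl) hodd
  simp only [Polynomial.eval_mul, Polynomial.eval_C, Polynomial.eval_pow, Polynomial.eval_X, Polynomial.eval_sub] at h
  refine ⟨α, γ * B / A, γ, ?_, by field_simp⟩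
  field_simp at h ⊢
  linear_combination h

/-- A partial root supported on `W`. -/
structure RootOn (Q : QuadraticForm F (ι → F)) (ν : F) (W : Submodule F (ι → F)) (T : Module.End F (ι → F)) : Prop where
  mem : ∀ v, T v ∈ W
  adj : ∀ u v, polar ⇑Q (T u) v = polar ⇑Q u (T v)
  sq : ∀ v ∈ W, T (T v) = ν • v

theorem RootOn.kill (hQ : Q.polarBilin.Nondegenerate) {W : Submodule F (ι → F)} {T : Module.End F (ι → F)}
    (hT : RootOn Q ν W T) {v : ι → F} (hv : ∀ w ∈ W, polar ⇑Q v w = 0) : T v = 0 := by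
  by_contra h
  obtain ⟨y, hy⟩ := exists_polar_ne hQ h
  exact hy (by rw [hT.adj]; exact hv _ (hT.mem y))

/-- A root on a plane and one on its complement give a root. -/
theorem RootOn.plane (hQ : Q.polarBilin.Nondegenerate) {W : Submodule F (ι → F)} {e f : ι → F} (he : e ∈ W)
    (hf : f ∈ W) (hee : polar ⇑Q e e ≠ 0) (hff : polar ⇑Q f f ≠ 0) (hef : polar ⇑Q e f = 0) {α β γ : F}
    (hc : α * α + β * γ = ν) (hb : β * polar ⇑Q e e = γ * polar ⇑Q f f) {T : Module.End F (ι → F)}
    (hT : RootOn Q ν (W ⊓ orthFam Q ![e, f]) T) : RootOn Q ν W (T + planeMap Q e f α β γ) := by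
  have hfe : polar ⇑Q f e = 0 := by rw [pl_comm (Q := Q), hef]
  have hperp : ∀ x ∈ W ⊓ orthFam Q ![e, f], polar ⇑Q e x = 0 ∧ polar ⇑Q f x = 0 := fun x hx => by
    have h := (Submodule.mem_inf.1 hx).2
    rw [mem_orthFam, Fin.forall_fin_two] at h
    exact h
  refine ⟨fun v => ?_, fun u v => ?_, fun v hv => ?_⟩
  · rw [LinearMap.add_apply, planeMap_apply]
    exact W.add_mem (Submodule.mem_inf.1 (hT.mem v)).1 (W.add_mem (W.smul_mem _ (W.add_mem (W.smul_mem _ he)
      (W.smul_mem _ hf))) (W.smul_mem _ (W.sub_mem (W.smul_mem _ he) (W.smul_mem _ hf))))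
  · rw [LinearMap.add_apply, LinearMap.add_apply, pl_add_left, pl_add_right, hT.adj, planeMap_apply, planeMap_apply]
    simp only [pl_add_left, pl_add_right, pl_sub_left, pl_sub_right, pl_smul_left, pl_smul_right,
      pl_comm (Q := Q) u e, pl_comm (Q := Q) u f]
    have hbr : (polar ⇑Q f f)⁻¹ * β = (polar ⇑Q e e)⁻¹ * γ := by field_simp; linear_combination hb
    linear_combination (polar ⇑Q e v * polar ⇑Q f u - polar ⇑Q f v * polar ⇑Q e u) * hbr
  · set p := (polar ⇑Q e v * (polar ⇑Q e e)⁻¹) • e + (polar ⇑Q f v * (polar ⇑Q f f)⁻¹) • f with hp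
    have hpW : p ∈ W := W.add_mem (W.smul_mem _ he) (W.smul_mem _ hf)
    have hv' : v - p ∈ W ⊓ orthFam Q ![e, f] := by
      refine Submodule.mem_inf.2 ⟨W.sub_mem hv hpW, mem_orthFam.2 (Fin.forall_fin_two.2 ⟨?_, ?_⟩)⟩
      · show polar ⇑Q e (v - p) = 0
        simp only [hp, pl_sub_right, pl_add_right, pl_smul_right, hef]
        field_simp
        ring
      · show polar ⇑Q f (v - p) = 0
        simp only [hp, pl_sub_right, pl_add_right, pl_smul_right, hfe]
        field_simp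
        ring
    have hTp : T p = 0 := hT.kill hQ fun w hw => by
      rw [hp, pl_add_left, pl_smul_left, pl_smul_left, (hperp w hw).1, (hperp w hw).2]; ring
    have hTv : T v = T (v - p) := by rw [map_sub, hTp, sub_zero]
    have hT0T : planeMap Q e f α β γ (T v) = 0 := by
      rw [planeMap_apply, (hperp _ (hT.mem v)).1, (hperp _ (hT.mem v)).2]; simp
    have hTT0 : T (planeMap Q e f α β γ v) = 0 := hT.kill hQ fun w hw => by
      rw [planeMap_apply]
      simp only [pl_add_left, pl_sub_left, pl_smul_left, (hperp w hw).1, (hperp w hw).2]; ring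
    have h00 : planeMap Q e f α β γ (planeMap Q e f α β γ v) = ν • p := by
      rw [planeMap_apply e f α β γ v, planeMap_apply]
      simp only [hp, pl_add_right, pl_sub_right, pl_smul_right, hef, hfe]
      have hb' : β = γ * polar ⇑Q f f / polar ⇑Q e e := by rw [eq_div_iff hee, hb]
      rw [← hc, hb']
      match_scalars <;> field_simp <;> ring
    rw [LinearMap.add_apply, LinearMap.add_apply, map_add, map_add, hT0T, hTT0, add_zero, zero_add, h00, hTv,
      hT.sq _ hv', ← smul_add, sub_add_cancel]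

/-- The plane family of a generic involutive isometry. -/
theorem exists_rootOn (hQ : Q.polarBilin.Nondegenerate) (h2 : (2 : F) ≠ 0) (hν : ∀ c : F, c * c ≠ ν) (x : IsoGrp Q)
    {σ : F} (hx2 : ∀ v, ap x (ap x v) = σ • v) :
    ∀ (d : ℕ) (W : Submodule F (ι → F)), NdIn Q W → finrank F W = 2 * d →
      ((σ = 1 ∧ ∃ τ : F, (τ = 1 ∨ τ = -1) ∧ ∀ v ∈ W, ap x v = τ • v) ∨ (σ = -1 ∧ ∀ v ∈ W, ap x v ∈ W)) →
      ∃ T : Module.End F (ι → F), RootOn Q ν W T ∧ ∀ v, T (ap x v) = σ • ap x (T v) := by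
  intro d
  induction d with
  | zero =>
    intro W _ hd _
    exact ⟨0, ⟨fun _ => W.zero_mem, fun _ _ => by simp, fun v hv => by
      rw [(Submodule.finrank_eq_zero.1 hd : W = ⊥), Submodule.mem_bot] at hv
      simp [hv]⟩, fun _ => by simp⟩
  | succ d ih =>
    intro W hW hd hcase
    obtain ⟨e, he, hee⟩ := exists_polar_self_ne h2 hW (by omega)
    obtain ⟨f, hf, hef, hff, hcase', hx0⟩ : ∃ f ∈ W, polar ⇑Q e f = 0 ∧ polar ⇑Q f f ≠ 0 ∧
        ((σ = 1 ∧ ∃ τ : F, (τ = 1 ∨ τ = -1) ∧ ∀ v ∈ W ⊓ orthFam Q ![e, f], ap x v = τ • v) ∨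
          (σ = -1 ∧ ∀ v ∈ W ⊓ orthFam Q ![e, f], ap x v ∈ W ⊓ orthFam Q ![e, f])) ∧
        ∀ α β γ : F, β * polar ⇑Q e e = γ * polar ⇑Q f f → ∀ v,
          planeMap Q e f α β γ (ap x v) = σ • ap x (planeMap Q e f α β γ v) := by
      rcases hcase with ⟨rfl, τ, hτ, hτW⟩ | ⟨rfl, hinv⟩
      · -- an orthogonal vector in the eigenspace
        set W₁ := W ⊓ LinearMap.ker (Q.polarBilin e) with hW₁
        have hmem : ∀ y, y ∈ W₁ ↔ y ∈ W ∧ polar ⇑Q e y = 0 := fun y => by
          rw [hW₁, Submodule.mem_inf, LinearMap.mem_ker, QuadraticMap.polarBilin_apply_apply]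
        have hproj : ∀ y ∈ W, y - (polar ⇑Q e y / polar ⇑Q e e) • e ∈ W₁ := fun y hy =>
          (hmem _).2 ⟨W.sub_mem hy (W.smul_mem _ he), by
            rw [pl_sub_right, pl_smul_right, div_mul_cancel₀ _ hee, sub_self]⟩
        have hnd : NdIn Q W₁ := fun z hz hz0 => by
          obtain ⟨hzW, hze⟩ := (hmem z).1 hz
          obtain ⟨y, hy, hzy⟩ := hW z hzW hz0
          refine ⟨_, hproj y hy, ?_⟩
          rw [pl_sub_right, pl_smul_right, pl_comm (Q := Q) z e, hze, mul_zero, sub_zero]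
          exact hzy
        have hpos : 0 < finrank F W₁ := by
          rw [pos_iff_ne_zero, Ne, Submodule.finrank_eq_zero]
          intro h0
          have hle : W ≤ F ∙ e := fun y hy => by
            have h := hproj y hy
            rw [h0, Submodule.mem_bot, sub_eq_zero] at h
            exact Submodule.mem_span_singleton.2 ⟨_, h.symm⟩
          have h1 := Submodule.finrank_mono hle
          have h1' := finrank_span_singleton (K := F) (fun e0 : e = 0 => hee (by rw [e0, pl_zero_left]))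
          omega
        obtain ⟨f, hf, hff⟩ := exists_polar_self_ne h2 hnd hpos
        obtain ⟨hfW, hef⟩ := (hmem f).1 hf
        refine ⟨f, hfW, hef, hff, .inl ⟨rfl, τ, hτ, fun v hv => hτW v (Submodule.mem_inf.1 hv).1⟩,
          fun α β γ _ v => ?_⟩
        have hττ : τ * τ = 1 := by rcases hτ with rfl | rfl <;> ring
        have hB : ∀ w ∈ W, ∀ y, polar ⇑Q w (ap x y) = τ * polar ⇑Q w y := fun w hw y => by
          have h := polar_ap_invol hx2 w y
          rwa [one_mul, hτW w hw, pl_smul_left] at h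
        rw [one_smul, planeMap_apply, planeMap_apply, hB e he, hB f hfW, map_add, map_smul, map_smul, map_add,
          map_sub, map_smul, map_smul, map_smul, map_smul, hτW e he, hτW f hfW]
        module
      · -- the image of `e`
        have hef : polar ⇑Q e (ap x e) = 0 := by
          have h := polar_ap_invol hx2 e e
          rw [pl_comm (Q := Q) (ap x e) e] at h
          exact (mul_eq_zero.1 (show (2 : F) * polar ⇑Q e (ap x e) = 0 by linear_combination -h)).resolve_left h2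
        refine ⟨ap x e, hinv e he, hef, by rwa [polar_ap], .inr ⟨rfl, fun v hv => ?_⟩, fun α β γ hb v => ?_⟩
        · obtain ⟨hvW, hvo⟩ := Submodule.mem_inf.1 hv
          rw [mem_orthFam, Fin.forall_fin_two] at hvo
          refine Submodule.mem_inf.2 ⟨hinv v hvW, mem_orthFam.2 (Fin.forall_fin_two.2 ⟨?_, ?_⟩)⟩
          · show polar ⇑Q e (ap x v) = 0
            have h := polar_ap_invol hx2 e v
            have h' : polar ⇑Q (ap x e) v = 0 := hvo.2
            linear_combination -h - h'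
          · show polar ⇑Q (ap x e) (ap x v) = 0
            rw [polar_ap]; exact hvo.1
        · have hbγ : β = γ := mul_right_cancel₀ hee (by rw [hb, polar_ap])
          subst hbγ
          have h1 : polar ⇑Q e (ap x v) = -polar ⇑Q (ap x e) v := by
            linear_combination -(polar_ap_invol hx2 e v)
          rw [planeMap_apply, planeMap_apply, polar_ap x e e, polar_ap x e v, h1]
          simp only [map_add, map_sub, map_smul, hx2]
          module
    obtain ⟨hnd', hd'⟩ := split_plane hW he hf (by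
      rw [hef, mul_zero, sub_zero]; exact mul_ne_zero hee hff)
    obtain ⟨T, hT, hTx⟩ := ih _ hnd' (by omega) hcase'
    obtain ⟨α, β, γ, hc, hb⟩ := exists_plane_coeff h2 hν hee hff
    refine ⟨_, hT.plane hQ he hf hee hff hef hc hb, fun v => ?_⟩
    rw [LinearMap.add_apply, LinearMap.add_apply, hTx, hx0 α β γ hb, map_add, smul_add]

/-- A matrix root from a root on everything. -/
theorem RootOn.isRoot {T : Module.End F (ι → F)} (hT : RootOn Q ν ⊤ T) : IsRoot Q ν (LinearMap.toMatrix' T) := by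
  constructor
  · intro v
    rw [LinearMap.toMatrix'_mulVec, LinearMap.toMatrix'_mulVec]
    exact hT.sq v Submodule.mem_top
  · intro u v
    rw [LinearMap.toMatrix'_mulVec, LinearMap.toMatrix'_mulVec]
    exact hT.adj u v

theorem IsRoot.conj (hJ : IsRoot Q ν J) {J'' : Matrix ι ι F} (h : IsoGrp Q)
    (hh : ∀ v, J'' *ᵥ ap h v = ap h (J *ᵥ v)) : IsRoot Q ν J'' := by
  have hsur : ∀ v, ap h (ap h⁻¹ v) = v := fun v => by rw [← ap_mul, mul_inv_cancel, ap_one]
  constructor
  · intro v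
    rw [← hsur v, hh, hh, hJ.sq, map_smul]
  · intro u v
    rw [← hsur u, ← hsur v, hh, hh, polar_ap, polar_ap, hJ.adj]

/-- The conjugate of a root by an isometry. -/
noncomputable def conjRoot (J : Matrix ι ι F) (h : IsoGrp Q) : Matrix ι ι F :=
  ((h : GL ι F) : Matrix ι ι F) * J * (((h⁻¹ : IsoGrp Q) : GL ι F) : Matrix ι ι F)

theorem conjRoot_ap (J : Matrix ι ι F) (h : IsoGrp Q) (v : ι → F) :
    conjRoot J h *ᵥ v = ap h (J *ᵥ ap h⁻¹ v) := by
  rw [conjRoot, ← Matrix.mulVec_mulVec, ← Matrix.mulVec_mulVec]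
  rfl

/-- Some root is normalised by the involution, together with its conjugates by enough reflections. -/
theorem exists_family (hG : Good Q) (h2 : (2 : F) ≠ 0) (hν : ∀ c : F, c * c ≠ ν) {d : ℕ}
    (hn : Fintype.card ι = 2 * d) (hd : 3 ≤ d) (x : IsoGrp Q) (hx : x ∈ Omega F ⇑Q) {σ : F} (hσ : σ = 1 ∨ σ = -1)
    (hx2 : ∀ v, ap x (ap x v) = σ • v) :
    ∃ (V0 : Submodule F (ι → F)) (Fam : Matrix ι ι F → Prop),
      (∀ c : F, ∃ v ∈ V0, Q v = c) ∧ (∃ J', Fam J') ∧
      (∀ J', Fam J' → IsRoot Q ν J' ∧ ∀ v, J' *ᵥ ap x v = σ • ap x (J' *ᵥ v)) ∧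
      ∀ J', Fam J' → ∀ v ∈ V0, Q v ≠ 0 → Fam (conjRoot J' (refl Q v)) := by
  have hQ := hG.nd
  have hrefl : ∀ v, (refl Q v)⁻¹ = refl Q v := fun v => inv_eq_of_mul_eq_one_right (ext_ap fun y => by
    rw [ap_mul, refl_ap_ap, ap_one])
  rcases hσ with rfl | rfl
  · -- eigenspaces
    set Wp : Submodule F (ι → F) := LinearMap.ker (ap x - LinearMap.id) with hWp
    set Wm : Submodule F (ι → F) := LinearMap.ker (ap x + LinearMap.id) with hWm
    have hxx : ∀ v, ap x (ap x v) = v := fun v => by rw [hx2, one_smul]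
    have hp : ∀ v, v ∈ Wp ↔ ap x v = v := fun v => by simp [hWp, sub_eq_zero]
    have hm : ∀ v, v ∈ Wm ↔ ap x v = -v := fun v => by simp [hWm, add_eq_zero_iff_eq_neg]
    have h2' : ∀ v : ι → F, (2 : F)⁻¹ • (v + v) = v := fun v => by
      rw [← two_smul F v, smul_smul, inv_mul_cancel₀ h2, one_smul]
    have hdecp : ∀ v, (2 : F)⁻¹ • (v + ap x v) ∈ Wp := fun v =>
      (hp _).2 (by rw [map_smul, map_add, hxx, add_comm])
    have hdecm : ∀ v, (2 : F)⁻¹ • (v - ap x v) ∈ Wm := fun v =>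
      (hm _).2 (by rw [map_smul, map_sub, hxx, ← smul_neg, neg_sub])
    have horth : ∀ u ∈ Wp, ∀ v ∈ Wm, polar ⇑Q u v = 0 := fun u hu v hv => by
      have h := polar_ap x u v
      rw [(hp u).1 hu, (hm v).1 hv, pl_neg_right] at h
      exact (mul_eq_zero.1 (show (2 : F) * polar ⇑Q u v = 0 by linear_combination -h)).resolve_left h2
    have hsum : ∀ v : ι → F, v = (2 : F)⁻¹ • (v + ap x v) + (2 : F)⁻¹ • (v - ap x v) := fun v => by
      rw [← smul_add, show v + ap x v + (v - ap x v) = v + v by abel, h2']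
    have hndp : NdIn Q Wp := fun u hu hu0 => by
      obtain ⟨y, hy⟩ := exists_polar_ne hQ hu0
      refine ⟨_, hdecp y, fun h => hy ?_⟩
      conv_lhs => rw [hsum y]
      rw [pl_add_right, h, horth u hu _ (hdecm y), add_zero]
    have hndm : NdIn Q Wm := fun u hu hu0 => by
      obtain ⟨y, hy⟩ := exists_polar_ne hQ hu0
      refine ⟨_, hdecm y, fun h => hy ?_⟩
      conv_lhs => rw [hsum y]
      rw [pl_add_right, h, pl_comm (Q := Q) u, horth _ (hdecp y) u hu, add_zero]
    have hres : resSpace x = Wm := by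
      ext w
      rw [mem_resSpace, hm]
      constructor
      · rintro ⟨y, rfl⟩
        rw [map_sub, hxx, neg_sub]
      · intro hw
        refine ⟨-((2 : F)⁻¹ • w), ?_⟩
        rw [map_neg, map_smul, hw, smul_neg, neg_neg, sub_neg_eq_add, ← smul_add, h2']
    obtain ⟨b, hb⟩ : Even (finrank F Wm) := by
      have h := ((mem_omega_iff hG x).1 hx).1
      rw [dick, hres, neg_one_pow_eq_one_iff_even (by norm_num)] at h
      exact h
    have hfix := finrank_resSpace_add_fix x
    rw [hres, ← hWp, hn] at hfix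
    obtain ⟨Tp, hTp, hTpx⟩ := exists_rootOn hQ h2 hν x hx2 (d - b) Wp hndp (by omega)
      (.inl ⟨rfl, 1, .inl rfl, fun v hv => by rw [one_smul, (hp v).1 hv]⟩)
    obtain ⟨Tm, hTm, hTmx⟩ := exists_rootOn hQ h2 hν x hx2 b Wm hndm (by omega)
      (.inl ⟨rfl, -1, .inr rfl, fun v hv => by rw [neg_one_smul, (hm v).1 hv]⟩)
    have hT : RootOn Q ν ⊤ (Tp + Tm) := ⟨fun _ => Submodule.mem_top, fun u v => by
        rw [LinearMap.add_apply, LinearMap.add_apply, pl_add_left, pl_add_right, hTp.adj, hTm.adj], fun v _ => by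
        have hk1 : ∀ u ∈ Wp, Tm u = 0 := fun u hu => hTm.kill hQ fun w hw => horth u hu w hw
        have hk2 : ∀ u ∈ Wm, Tp u = 0 := fun u hu => hTp.kill hQ fun w hw => by
          rw [pl_comm (Q := Q)]; exact horth w hw u hu
        rw [hsum v]
        set p := (2 : F)⁻¹ • (v + ap x v)
        set m := (2 : F)⁻¹ • (v - ap x v)
        simp only [LinearMap.add_apply, map_add, hk1 p (hdecp v), hk2 m (hdecm v), add_zero, zero_add,
          hk1 _ (hTp.mem p), hk2 _ (hTm.mem m), hTp.sq p (hdecp v), hTm.sq m (hdecm v), smul_add]⟩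
    obtain ⟨V0, hV0, hV02, hV0x⟩ : ∃ V0 : Submodule F (ι → F), NdIn Q V0 ∧ 2 ≤ finrank F V0 ∧
        ∀ v ∈ V0, ap x v = v ∨ ap x v = -v := by
      rcases Nat.lt_or_ge (finrank F Wm) 2 with h | h
      · exact ⟨Wp, hndp, by omega, fun v hv => .inl ((hp v).1 hv)⟩
      · exact ⟨Wm, hndm, h, fun v hv => .inr ((hm v).1 hv)⟩
    refine ⟨V0, fun J' => IsRoot Q ν J' ∧ ∀ v, J' *ᵥ ap x v = (1 : F) • ap x (J' *ᵥ v),
      fun c => exists_Q_eq_in V0 hV0 hV02 c, ⟨LinearMap.toMatrix' (Tp + Tm), hT.isRoot, fun v => ?_⟩,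
      fun J' h => h, fun J' hJ' v hv hQv => ⟨hJ'.1.conj (refl Q v) fun y => ?_, fun y => ?_⟩⟩
    · rw [LinearMap.toMatrix'_mulVec, LinearMap.toMatrix'_mulVec, LinearMap.add_apply, LinearMap.add_apply, hTpx,
        hTmx, map_add, smul_add]
    · rw [conjRoot_ap, hrefl, refl_ap_ap]
    · have hs : ∀ y, ap x (ap (refl Q v) y) = ap (refl Q v) (ap x y) := fun y => by
        rw [← ap_mul, ← ap_mul, mul_refl]
        rcases hV0x v hv with e | e
        · rw [e]
        · rw [e, ← neg_one_smul F v, refl_smul Q (neg_ne_zero.2 one_ne_zero : (-1 : F) ≠ 0)]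
      rw [conjRoot_ap, conjRoot_ap, hrefl, one_smul, hs, ← hs y, hJ'.2, one_smul]
  · -- a plane
    obtain ⟨e, -, hee⟩ := exists_polar_self_ne h2 (ndIn_top hQ) (by rw [finrank_top, finrank_space]; omega)
    set f := ap x e with hfdef
    have hef : polar ⇑Q e f = 0 := by
      have h := polar_ap_invol hx2 e e
      rw [← hfdef, pl_comm (Q := Q) f e] at h
      exact (mul_eq_zero.1 (show (2 : F) * polar ⇑Q e f = 0 by linear_combination -h)).resolve_left h2
    have hff : polar ⇑Q f f = polar ⇑Q e e := polar_ap x e e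
    obtain ⟨hnd', hd'⟩ := split_plane (ndIn_top hQ) (u := e) (u' := f) Submodule.mem_top Submodule.mem_top
      (by rw [hef, mul_zero, sub_zero, hff]; exact mul_ne_zero hee hee)
    rw [finrank_top, finrank_space, hn] at hd'
    have hxf : ap x f = -e := by rw [hfdef, hx2, neg_one_smul]
    obtain ⟨T, hT, hTx⟩ := exists_rootOn hQ h2 hν x hx2 (d - 1) _ hnd' (by omega) (.inr ⟨rfl, fun v hv => by
      have h := (Submodule.mem_inf.1 hv).2
      rw [mem_orthFam, Fin.forall_fin_two] at h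
      refine Submodule.mem_inf.2 ⟨Submodule.mem_top, mem_orthFam.2 (Fin.forall_fin_two.2 ⟨?_, ?_⟩)⟩
      · show polar ⇑Q e (ap x v) = 0
        have h' : polar ⇑Q f v = 0 := h.2
        have h'' := polar_ap_invol hx2 e v
        rw [← hfdef] at h''
        linear_combination -h'' - h'
      · show polar ⇑Q f (ap x v) = 0
        rw [hfdef, polar_ap]; exact h.1⟩)
    obtain ⟨α, β, γ, hc, hb⟩ := exists_plane_coeff h2 hν hee (by rw [hff]; exact hee : polar ⇑Q f f ≠ 0)
    have hbγ : β = γ := mul_right_cancel₀ hee (by rw [hb, hff])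
    subst hbγ
    have hroot := (hT.plane hQ Submodule.mem_top Submodule.mem_top hee (by rw [hff]; exact hee) hef hc hb).isRoot
    set W : Submodule F (ι → F) := Submodule.span F ({e, f} : Set (ι → F)) with hW
    have heW : e ∈ W := Submodule.subset_span (Set.mem_insert _ _)
    have hfW : f ∈ W := Submodule.subset_span (Set.mem_insert_of_mem _ rfl)
    have hxW : ∀ v ∈ W, ap x v ∈ W := fun v hv => by
      obtain ⟨a, b, rfl⟩ := Submodule.mem_span_pair.1 hv
      rw [map_add, map_smul, map_smul, ← hfdef, hxf]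
      exact W.add_mem (W.smul_mem _ hfW) (W.smul_mem _ (W.neg_mem heW))
    have hndW : NdIn Q W := fun v hv hv0 => by
      obtain ⟨a, b, rfl⟩ := Submodule.mem_span_pair.1 hv
      by_cases ha : a = 0
      · refine ⟨f, hfW, ?_⟩
        rw [pl_add_left, pl_smul_left, pl_smul_left, ha, zero_mul, zero_add, hff]
        exact mul_ne_zero (fun hb0 => hv0 (by rw [ha, hb0, zero_smul, zero_smul, add_zero])) hee
      · refine ⟨e, heW, ?_⟩
        rw [pl_add_left, pl_smul_left, pl_smul_left, pl_comm (Q := Q) f e, hef, mul_zero, add_zero]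
        exact mul_ne_zero ha hee
    have hW2 : 2 ≤ finrank F W := by
      have hli : LinearIndependent F ![e, f] := by
        rw [LinearIndependent.pair_iff]
        intro s t h
        have h1 := congrArg (polar ⇑Q e) h
        have h2' := congrArg (polar ⇑Q f) h
        rw [pl_add_right, pl_smul_right, pl_smul_right, hef, pl_zero_right, mul_zero, add_zero] at h1
        rw [pl_add_right, pl_smul_right, pl_smul_right, pl_comm (Q := Q) f e, hef, pl_zero_right, mul_zero, zero_add,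
          hff] at h2'
        exact ⟨(mul_eq_zero.1 h1).resolve_right hee, (mul_eq_zero.1 h2').resolve_right hee⟩
      have h := finrank_span_eq_card hli
      rw [show Set.range ![e, f] = ({e, f} : Set (ι → F)) by
        rw [Matrix.range_cons, Matrix.range_cons, Matrix.range_empty, Set.union_empty, Set.singleton_union]] at h
      rw [hW, h, Fintype.card_fin]
    refine ⟨W, fun J' => (IsRoot Q ν J' ∧ ∀ v, J' *ᵥ ap x v = (-1 : F) • ap x (J' *ᵥ v)) ∧ ∀ v ∈ W, J' *ᵥ v ∈ W,
      fun c => exists_Q_eq_in W hndW hW2 c,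
      ⟨LinearMap.toMatrix' (T + planeMap Q e f α β β), ⟨hroot, fun v => ?_⟩, fun v hv => ?_⟩,
      fun J' h => h.1, fun J' hJ' v hv hQv => ?_⟩
    · rw [LinearMap.toMatrix'_mulVec, LinearMap.toMatrix'_mulVec, LinearMap.add_apply, LinearMap.add_apply, hTx,
        map_add, smul_add]
      congr 1
      have h1 : polar ⇑Q e (ap x v) = -polar ⇑Q f v := by
        have h'' := polar_ap_invol hx2 e v
        rw [← hfdef] at h''
        linear_combination -h''
      have h2' : polar ⇑Q f (ap x v) = polar ⇑Q e v := by rw [hfdef, polar_ap]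
      rw [planeMap_apply, planeMap_apply, hff, h1, h2']
      simp only [map_add, map_sub, map_smul, ← hfdef, hxf]
      module
    · rw [LinearMap.toMatrix'_mulVec, LinearMap.add_apply, hT.kill hQ (fun w hw => by
        have h := (Submodule.mem_inf.1 hw).2
        rw [mem_orthFam, Fin.forall_fin_two] at h
        obtain ⟨a, b, rfl⟩ := Submodule.mem_span_pair.1 hv
        have ha' : polar ⇑Q e w = 0 := h.1
        have hb' : polar ⇑Q f w = 0 := h.2
        rw [pl_add_left, pl_smul_left, pl_smul_left, ha', hb', mul_zero, mul_zero, add_zero]), zero_add, planeMap_apply]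
      exact W.add_mem (W.smul_mem _ (W.add_mem (W.smul_mem _ heW) (W.smul_mem _ hfW)))
        (W.smul_mem _ (W.sub_mem (W.smul_mem _ heW) (W.smul_mem _ hfW)))
    · obtain ⟨⟨hroot', hanti⟩, hinv⟩ := hJ'
      set v' := ap x v with hv'
      have hv'W : v' ∈ W := hxW v hv
      have hxv' : ap x v' = -v := by rw [hv', hx2, neg_one_smul]
      have hQv' : Q v' = Q v := Q_ap x v
      have hvv' : polar ⇑Q v v' = 0 := by
        have h := polar_ap_invol hx2 v v
        rw [← hv', pl_comm (Q := Q) v' v] at h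
        exact (mul_eq_zero.1 (show (2 : F) * polar ⇑Q v v' = 0 by linear_combination -h)).resolve_left h2
      obtain ⟨s, t, hst⟩ : ∃ s t : F, J' *ᵥ v = s • v + t • v' := by
        obtain ⟨a, b, hab⟩ := Submodule.mem_span_pair.1 hv
        obtain ⟨a', b', hab'⟩ := Submodule.mem_span_pair.1 (hinv v hv)
        have hv'e : v' = (-b) • e + a • f := by
          rw [hv', ← hab, map_add, map_smul, map_smul, ← hfdef, hxf]; module
        have hN : a * a + b * b ≠ 0 := fun h0 => by
          have h : polar ⇑Q v v = (a * a + b * b) * polar ⇑Q e e := by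
            rw [← hab]
            simp only [pl_add_left, pl_add_right, pl_smul_left, pl_smul_right, hef, pl_comm (Q := Q) f e, hff]
            ring
          rw [h0, zero_mul, pl_self] at h
          exact hQv ((mul_eq_zero.1 h).resolve_left h2)
        refine ⟨(a' * a + b' * b) / (a * a + b * b), (b' * a - a' * b) / (a * a + b * b), ?_⟩
        have ea : a' = (a' * a + b' * b) / (a * a + b * b) * a + (b' * a - a' * b) / (a * a + b * b) * -b := by
          rw [div_mul_eq_mul_div, div_mul_eq_mul_div, ← add_div, eq_div_iff hN]; ring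
        have eb : b' = (a' * a + b' * b) / (a * a + b * b) * b + (b' * a - a' * b) / (a * a + b * b) * a := by
          rw [div_mul_eq_mul_div, div_mul_eq_mul_div, ← add_div, eq_div_iff hN]; ring
        rw [← hab', hv'e, ← hab]
        conv_lhs => rw [ea, eb]
        module
      have hJv' : J' *ᵥ v' = t • v - s • v' := by
        rw [hv', hanti, hst, map_add, map_smul, map_smul, ← hv', hxv']
        module
      -- the product of the two reflections commutes with `J'`
      have hc : ∀ y, J' *ᵥ ap (refl Q v) (ap (refl Q v') y) = ap (refl Q v) (ap (refl Q v') (J' *ᵥ y)) := fun y => by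
        have e1 : polar ⇑Q v (J' *ᵥ y) = s * polar ⇑Q v y + t * polar ⇑Q v' y := by
          rw [← hroot'.adj, hst, pl_add_left, pl_smul_left, pl_smul_left]
        have e2 : polar ⇑Q v' (J' *ᵥ y) = t * polar ⇑Q v y - s * polar ⇑Q v' y := by
          rw [← hroot'.adj, hJv', pl_sub_left, pl_smul_left, pl_smul_left]
        simp only [refl_ap, hQv', pl_sub_right, pl_smul_right, hvv', e1, e2, Matrix.mulVec_sub, Matrix.mulVec_smul,
          hst, hJv']
        module
      have hxs : ∀ y, ap x (ap (refl Q v) y) = ap (refl Q v') (ap x y) := fun y => by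
        rw [← ap_mul, ← ap_mul, mul_refl]
      refine ⟨⟨hroot'.conj (refl Q v) fun y => by rw [conjRoot_ap, hrefl, refl_ap_ap], fun y => ?_⟩, fun w hw => ?_⟩
      · rw [conjRoot_ap, conjRoot_ap, hrefl]
        set y' := ap (refl Q v) y with hy'
        have hy : y = ap (refl Q v) y' := by rw [hy', refl_ap_ap]
        rw [hy, hxs y', hxs (J' *ᵥ y')]
        -- compare through the commuting product
        have key := hc (ap x y')
        rw [key, refl_ap_ap, hanti y', map_smul]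
      · have hrW : ∀ z ∈ W, ap (refl Q v) z ∈ W := fun z hz => by
          rw [refl_ap]; exact W.sub_mem hz (W.smul_mem _ hv)
        rw [conjRoot_ap, hrefl]
        exact hrW _ (hinv _ (hrW w hw))

open scoped Classical in
/-- Every involution of the quotient normalises a conjugate of the field. -/
theorem involution_conj (hG : Good Q) (h2 : (2 : F) ≠ 0) (hν : ∀ c : F, c * c ≠ ν) {d : ℕ}
    (hn : Fintype.card ι = 2 * d) (hd : 3 ≤ d) (hJ : IsRoot Q ν J) (x : IsoGrp Q) (hx : x ∈ Omega F ⇑Q) {σ : F}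
    (hσ : σ = 1 ∨ σ = -1) (hx2 : ∀ v, ap x (ap x v) = σ • v) :
    ∃ g ∈ Omega F ⇑Q, NormRoot J (((g⁻¹ * x * g : IsoGrp Q) : GL ι F) : Matrix ι ι F) := by
  obtain ⟨V0, Fam, hval, ⟨J', hJ'⟩, hFam, hstep⟩ := exists_family hG h2 hν hn hd x hx hσ hx2
  obtain ⟨g₁, hg₁⟩ := exists_conj_root hG.nd h2 hν hn hJ (hFam J' hJ').1
  obtain ⟨c, hc⟩ := quadraticChar_exists_neg_one' (F := F) (fun h => h2 (by
    have := ringChar.charP F
    have := CharP.cast_eq_zero F (ringChar F)
    rw [h] at this; exact_mod_cast this))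
  obtain ⟨v₁, hv₁, hQ₁⟩ := hval 1
  obtain ⟨v₂, hv₂, hQ₂⟩ := hval c
  have h10 : Q v₁ ≠ 0 := by rw [hQ₁]; exact one_ne_zero
  have h20 : Q v₂ ≠ 0 := by rw [hQ₂]; exact c.ne_zero
  have hrefl : ∀ v, (refl Q v)⁻¹ = refl Q v := fun v => inv_eq_of_mul_eq_one_right (ext_ap fun y => by
    rw [ap_mul, refl_ap_ap, ap_one])
  -- an element moving `J` to a member of the family, in `Ω`
  obtain ⟨g, hg, J'', hJ'', hgJ⟩ : ∃ g ∈ Omega F ⇑Q, ∃ J'', Fam J'' ∧ ∀ v, ap g (J *ᵥ v) = J'' *ᵥ ap g v := by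
    have hd1 : signHom hG (refl Q v₁) = (-1, 1) := by
      simp [signHom, Prod.ext_iff, Units.ext_iff, dick_refl hG.nd h10, spin_refl hG.nd h10, hQ₁]
    have hd2 : signHom hG (refl Q v₂) = (-1, -1) := by
      simp [signHom, Prod.ext_iff, Units.ext_iff, dick_refl hG.nd h20, spin_refl hG.nd h20, hQ₂, hc]
    have key : ∀ J₀, Fam J₀ → ∀ g₀ : IsoGrp Q, (∀ v, ap g₀ (J *ᵥ v) = J₀ *ᵥ ap g₀ v) → ∀ v ∈ V0, Q v ≠ 0 →
        Fam (conjRoot J₀ (refl Q v)) ∧
          ∀ y, ap (refl Q v * g₀) (J *ᵥ y) = conjRoot J₀ (refl Q v) *ᵥ ap (refl Q v * g₀) y :=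
      fun J₀ hJ₀ g₀ hg₀ v hv hQv => ⟨hstep J₀ hJ₀ v hv hQv, fun y => by
        rw [ap_mul, ap_mul, hg₀, conjRoot_ap, hrefl, refl_ap_ap]⟩
    have hmem : ∀ g : IsoGrp Q, signHom hG g = 1 → g ∈ Omega F ⇑Q := fun g hg => by
      rw [omega_eq_ker hG, MonoidHom.mem_ker, hg]
    generalize hab : signHom hG g₁ = p
    obtain ⟨a, b⟩ := p
    rcases Int.units_eq_one_or a with rfl | rfl <;> rcases Int.units_eq_one_or b with rfl | rfl
    · exact ⟨g₁, hmem _ hab, J', hJ', hg₁⟩
    · obtain ⟨hF1, he1⟩ := key J' hJ' g₁ hg₁ v₁ hv₁ h10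
      obtain ⟨hF2, he2⟩ := key _ hF1 _ he1 v₂ hv₂ h20
      exact ⟨_, hmem _ (by rw [map_mul, map_mul, hd1, hd2, hab]; decide), _, hF2, he2⟩
    · obtain ⟨hF1, he1⟩ := key J' hJ' g₁ hg₁ v₁ hv₁ h10
      exact ⟨_, hmem _ (by rw [map_mul, hd1, hab]; decide), _, hF1, he1⟩
    · obtain ⟨hF1, he1⟩ := key J' hJ' g₁ hg₁ v₂ hv₂ h20
      exact ⟨_, hmem _ (by rw [map_mul, hd2, hab]; decide), _, hF1, he1⟩
  refine ⟨g, hg, (normRoot_iff _).2 ⟨σ, hσ, fun v => ?_⟩⟩
  have hgi : ∀ z, ap g⁻¹ (J'' *ᵥ z) = J *ᵥ ap g⁻¹ z := fun z => by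
    refine ap_inj g ?_
    rw [hgJ, ← ap_mul, ← ap_mul, mul_inv_cancel, ap_one, ap_one]
  have hσσ : σ * σ = 1 := by rcases hσ with rfl | rfl <;> ring
  have hx' : ∀ z, ap x (J'' *ᵥ z) = σ • (J'' *ᵥ ap x z) := fun z => by
    rw [(hFam _ hJ'').2 z, smul_smul, hσσ, one_smul]
  rw [ap_mul, ap_mul, ap_mul, ap_mul, hgJ, hx', map_smul, hgi]

/-- The criterion, given bad elements for the odd primes. -/
theorem iff_two (hG : Good Q) (h2 : (2 : F) ≠ 0) {d : ℕ} (hn : Fintype.card ι = 2 * d) (hd : 3 ≤ d)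
    (K : Subalgebra F (Matrix ι ι F)) (hK : Geo.IsFieldSubalgebra 2 K) (hKf : Geo.IsSelfAdjointFor (polar ⇑Q) K)
    (r : ℕ) [Fact r.Prime]
    (hbad : r ≠ 2 → ∀ (ν : F) (J : Matrix ι ι F), IsRoot Q ν J → (∀ c : F, c * c ≠ ν) →
      (∀ g : GL ι F, NormRoot J (g : Matrix ι ι F) → g ∈ Geo.subalgebraNormalizer K) →
      ∃ x : IsoGrp Q, x ^ r = 1 ∧ x ≠ 1 ∧ ∀ g : IsoGrp Q, ¬ ∀ v, ap (g⁻¹ * x * g) (J *ᵥ v) = J *ᵥ ap (g⁻¹ * x * g) v) :
    (∀ x ∈ Geo.omegaGL ⇑Q, (∃ z : F, ((x ^ r : GL ι F) : Matrix ι ι F) = z • (1 : Matrix ι ι F)) →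
      (∀ z : F, (x : Matrix ι ι F) ≠ z • (1 : Matrix ι ι F)) →
      ∃ g ∈ Geo.omegaGL ⇑Q, g⁻¹ * x * g ∈ Geo.subalgebraNormalizer K) ↔ r = 2 := by
  classical
  haveI : Nonempty ι := Fintype.card_pos_iff.1 (by omega)
  obtain ⟨ν, J, hJ, hν, hJK, hJs, hsq, hsp⟩ := exists_root_of_field h2 hK hKf
  have hN := mem_normalizer_iff h2 hν hJK hJs hsq hsp
  obtain ⟨w, hw⟩ := exists_Q_eq hG.nd (by omega) (1 : F)
  have hw0 : Q w ≠ 0 := by rw [hw]; exact one_ne_zero
  constructor
  · intro hall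
    by_contra hr2
    obtain ⟨x, hxr, hx1, hbadx⟩ := hbad hr2 ν J hJ hν fun g => (hN g).2
    have hodd : Odd r := (Fact.out : r.Prime).odd_of_ne_two hr2
    obtain ⟨γ, hγ, hgN⟩ := hall (x : GL ι F) (coe_mem_omegaGL.2 (mem_omega_of_odd_pow hG hodd hxr))
      ⟨1, by rw [← SubgroupClass.coe_pow, hxr, one_smul]; rfl⟩ (fun z hz => hx1 (by
        have hap : ∀ v, ap x v = z • v := fun v => by rw [ap_apply, hz, Matrix.smul_mulVec, Matrix.one_mulVec]
        have hzz : z * z = 1 := by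
          have h := Q_ap x w
          rw [hap, Q_smul] at h
          exact mul_right_cancel₀ hw0 (by linear_combination h)
        refine (eq_one_or_eq_negOne_of_scalar hzz hap).resolve_right fun e => ?_
        have h := congrArg (fun g => ap g w) hxr
        simp only [e, ap_one] at h
        have hpow : ∀ k, ap ((negOne Q) ^ k) w = ((-1 : F) ^ k) • w := by
          intro k
          induction k with
          | zero => simp
          | succ k ih => rw [pow_succ, ap_mul, negOne_ap, map_neg, ih, pow_succ, mul_neg_one, neg_smul]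
        rw [hpow, hodd.neg_one_pow, neg_one_smul] at h
        have h' : (2 : F) • w = 0 := by rw [two_smul]; nth_rw 1 [← h]; exact neg_add_cancel w
        exact hw0 (by rw [(smul_eq_zero.1 h').resolve_left h2, QuadraticMap.map_zero])))
    obtain ⟨g, -, rfl⟩ := mem_omegaGL_iff.1 hγ
    rw [← Subgroup.coe_inv, ← Subgroup.coe_mul, ← Subgroup.coe_mul, hN] at hgN
    obtain ⟨ε, hε, hcom⟩ := (normRoot_iff _).1 hgN
    rcases hε with rfl | rfl
    · exact hbadx g fun v => by rw [hcom, one_smul]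
    · set y := g⁻¹ * x * g with hy
      have hyr : y ^ r = 1 := by
        rw [hy, show (g⁻¹ * x * g) ^ r = g⁻¹ * x ^ r * g from by simpa using conj_pow (a := g⁻¹) (b := x) (i := r),
          hxr]; group
      have hit : ∀ k : ℕ, ∀ v, ap (y ^ k) (J *ᵥ v) = ((-1 : F) ^ k) • (J *ᵥ ap (y ^ k) v) := by
        intro k
        induction k with
        | zero => intro v; simp
        | succ k ih =>
          intro v
          rw [pow_succ' y, ap_mul y, ih, map_smul, hcom, smul_smul, ap_mul y, pow_succ]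
      have h := hit r w
      rw [hyr, ap_one, ap_one, hodd.neg_one_pow, neg_one_smul] at h
      have h' : (2 : F) • (J *ᵥ w) = 0 := by rw [two_smul]; nth_rw 1 [h]; exact neg_add_cancel _
      have hνw : ν • w = 0 := by rw [← hJ.sq, (smul_eq_zero.1 h').resolve_left h2, Matrix.mulVec_zero]
      rcases smul_eq_zero.1 hνw with e | e
      · exact hν 0 (by rw [e, mul_zero])
      · exact hw0 (by rw [e, QuadraticMap.map_zero])
  · rintro rfl x hx ⟨z, hz⟩ -
    obtain ⟨h, hh, rfl⟩ := mem_omegaGL_iff.1 hx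
    have hxx : ∀ v, ap h (ap h v) = z • v := fun v => by
      rw [ap_apply, ap_apply, Matrix.mulVec_mulVec, ← Units.val_mul, ← pow_two, hz, Matrix.smul_mulVec,
        Matrix.one_mulVec]
    have hzz : z * z = 1 := by
      have h' := Q_ap h (ap h w)
      rw [Q_ap h w, hxx, Q_smul] at h'
      exact mul_right_cancel₀ hw0 (by linear_combination h')
    obtain ⟨g, hg, hgN⟩ := involution_conj hG h2 hν hn hd hJ h hh (mul_self_eq_one_iff.1 hzz) hxx
    refine ⟨(g : GL ι F), coe_mem_omegaGL.2 hg, ?_⟩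
    rw [← Subgroup.coe_inv, ← Subgroup.coe_mul, ← Subgroup.coe_mul, hN]
    exact hgN

end Cfsg.Agent.Orth
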