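import Cfsg.Agent.Lib.Orth.QuadExtSub
import Cfsg.Agent.Lib.PrimeOrderElt.Semisimple

/-!
# Elements of odd prime order commuting with no self-adjoint root

* `Bad`, `bad_eich` : Siegel transvections
* `exists_ext` : extension of an isometry of a non-degenerate subspace by the identity
* `bad_odd` : an odd-dimensional kernel; `bad_even` : an irreducible elliptic part
* `bad_plus`, `bad_minus` : the standard forms
-/

set_option autoImplicit false
set_option linter.unusedSectionVars false

namespace Cfsg.Agent.Orth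

open Cfsg Matrix Module Polynomial
open QuadraticMap (polar)
open Cfsg.Agent.PrimeOrderElt (fix mem_fix Inv)

variable {ι : Type} [Fintype ι] [DecidableEq ι] {F : Type*} [Field F] [Fintype F]
variable {Q : QuadraticForm F (ι → F)} {ν : F} {J : Matrix ι ι F}

/-- An element of order `r` commuting with no root of `ν`. -/
def Bad (Q : QuadraticForm F (ι → F)) (ν : F) (r : ℕ) : Prop :=
  ∃ x : IsoGrp Q, x ^ r = 1 ∧ x ≠ 1 ∧
    ∀ J' : Matrix ι ι F, Orth.IsRoot Q ν J' → ¬ ∀ v, ap x (J' *ᵥ v) = J' *ᵥ ap x v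

theorem Bad.apply {r : ℕ} (h : Bad Q ν r) (hJ : Orth.IsRoot Q ν J) :
    ∃ x : IsoGrp Q, x ^ r = 1 ∧ x ≠ 1 ∧
      ∀ g : IsoGrp Q, ¬ ∀ v, ap (g⁻¹ * x * g) (J *ᵥ v) = J *ᵥ ap (g⁻¹ * x * g) v := by
  obtain ⟨x, hxr, hx1, hx⟩ := h
  refine ⟨x, hxr, hx1, fun g hg => hx (conjRoot J g) (hJ.conj g fun v => ?_) fun v => ?_⟩
  · rw [conjRoot_ap, ← ap_mul g⁻¹, inv_mul_cancel, ap_one]
  · rw [conjRoot_ap, conjRoot_ap]
    have h1 := congrArg (ap g) (hg (ap g⁻¹ v))
    simp only [ap_mul, ap_ap_inv] at h1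
    exact h1

/-! ### characteristic -/

theorem bad_eich {u w f f' : ι → F} (hu : Q u = 0) (hw : Q w = 0) (huw : polar ⇑Q u w = 0)
    (hf1 : polar ⇑Q u f = 1) (hf2 : polar ⇑Q w f = 0) (hw' : polar ⇑Q w f' = 1)
    (hν : ∀ c : F, c * c ≠ ν) {r : ℕ} (hr : (r : F) = 0) : Bad Q ν r := by
  have hpow : ∀ k : ℕ, eich Q u w ^ k = eich Q u ((k : F) • w) := by
    intro k
    induction k with
    | zero => rw [pow_zero, Nat.cast_zero, zero_smul, eich_zero]
    | succ k ih => rw [pow_succ, ih, eich_add hu (by rw [pl_smul_right, huw, mul_zero]) huw, Nat.cast_succ,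
        add_smul, one_smul]
  have hap : ∀ v, ap (eich Q u w) v = v + polar ⇑Q u v • w - polar ⇑Q w v • u := fun v => by
    rw [eich_ap hu huw, hw, zero_mul, add_zero]
  have hw0 : w ≠ 0 := fun e => one_ne_zero (α := F) (by rw [← hw', e, pl_zero_left])
  refine ⟨eich Q u w, by rw [hpow, hr, zero_smul, eich_zero], fun h1 => hw0 ?_, fun J' hJ' hcom => ?_⟩
  · have h := hap f
    rw [h1, ap_one, hf1, hf2, one_smul, zero_smul, sub_zero] at h
    exact left_eq_add.1 h
  · have h := hcom f
    rw [hap, hap, hf1, hf2, one_smul, zero_smul, sub_zero, Matrix.mulVec_add, ← hJ'.adj u f, ← hJ'.adj w f,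
      add_sub_assoc, add_right_inj] at h
    have hB : polar ⇑Q (J' *ᵥ w) f = 0 := by
      have h' := congrArg (fun z => polar ⇑Q z f) h
      simp only [pl_sub_left, pl_smul_left, hf1, hf2, mul_zero, mul_one, zero_sub] at h'
      have hadj := h'
      by_cases h2 : (2 : F) = 0
      · exfalso
        haveI : CharP F 2 := CharTwo.of_one_ne_zero_of_two_eq_zero one_ne_zero h2
        obtain ⟨t, ht⟩ := FiniteField.isSquare_of_char_two (ringChar.eq F 2) ν
        exact hν t ht.symm
      · exact (mul_eq_zero.1 (show (2 : F) * polar ⇑Q (J' *ᵥ w) f = 0 by linear_combination -hadj)).resolve_left h2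
    rw [hB, zero_smul, sub_zero] at h
    have h2' := hJ'.sq w
    rw [← h, Matrix.mulVec_smul, ← h, smul_smul, ← sub_eq_zero, ← sub_smul, smul_eq_zero] at h2'
    exact hν _ (sub_eq_zero.1 (h2'.resolve_right hw0))

/-! ### extension by the identity -/

theorem polar_map {κ : Type} [Fintype κ] [DecidableEq κ] {Q0 : QuadraticForm F (κ → F)}
    {φ : (κ → F) →ₗ[F] (ι → F)} (hφ : ∀ a, Q (φ a) = Q0 a) (a b : κ → F) :
    polar ⇑Q (φ a) (φ b) = polar ⇑Q0 a b := by
  simp only [polar, ← map_add, hφ]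

theorem exists_ext (hQ : Q.polarBilin.Nondegenerate) {κ : Type} [Fintype κ] [DecidableEq κ]
    {Q0 : QuadraticForm F (κ → F)} (h0 : Q0.polarBilin.Nondegenerate) (φ : (κ → F) →ₗ[F] (ι → F))
    (hφ : ∀ a, Q (φ a) = Q0 a) (T0 : Module.End F (κ → F)) (hT0 : ∀ a, Q0 (T0 a) = Q0 a) {r : ℕ}
    (hTr : T0 ^ r = 1) (hfix : ∀ a, T0 a = a → a = 0) :
    ∃ x : IsoGrp Q, x ^ r = 1 ∧ finrank F (fix (ap x)) + Fintype.card κ = Fintype.card ι ∧
      ∀ P : F[X], P.eval 1 ≠ 0 →
        LinearMap.ker (aeval (ap x) P) = (LinearMap.ker (aeval T0 P)).map φ := by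
  let π : (ι → F) →ₗ[F] (κ → F) :=
    (LinearMap.BilinForm.toDual Q0.polarBilin h0).symm.toLinearMap.comp
      ((LinearMap.lcomp F F φ).comp Q.polarBilin)
  have hπ : ∀ v a, polar ⇑Q0 (π v) a = polar ⇑Q v (φ a) := fun v a => by
    rw [← QuadraticMap.polarBilin_apply_apply]
    exact LinearMap.BilinForm.apply_toDual_symm_apply (hB := h0) _ _
  have hπφ : ∀ a, π (φ a) = a := fun a => by
    rw [← sub_eq_zero]
    refine h0.1 _ fun b => ?_
    rw [QuadraticMap.polarBilin_apply_apply, pl_sub_left, hπ, polar_map hφ, sub_self]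
  have hφinj : Function.Injective φ := fun a b e => by rw [← hπφ a, e, hπφ]
  have hperp : ∀ v b, polar ⇑Q (v - φ (π v)) (φ b) = 0 := fun v b => by
    rw [pl_sub_left, polar_map hφ, hπ, sub_self]
  let T : Module.End F (ι → F) := LinearMap.id + φ.comp ((T0 - 1).comp π)
  have hT : ∀ v, T v = v + φ (T0 (π v) - π v) := fun v => rfl
  have hTQ : ∀ v, Q (T v) = Q v := fun v => by
    conv_rhs => rw [← sub_add_cancel v (φ (π v))]
    rw [hT, map_sub, show v + (φ (T0 (π v)) - φ (π v)) = (v - φ (π v)) + φ (T0 (π v)) by abel, Q_add, Q_add,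
      hperp, hperp, hφ, hφ, hT0]
  obtain ⟨x, hx⟩ := exists_isoGrp_of_preserve hQ T hTQ
  have hπT : ∀ v, π (T v) = T0 (π v) := fun v => by rw [hT, map_add, hπφ, add_sub_cancel]
  have hpow : ∀ k : ℕ, ∀ v, (T ^ k) v = v + φ ((T0 ^ k) (π v) - π v) ∧ π ((T ^ k) v) = (T0 ^ k) (π v) := by
    intro k
    induction k with
    | zero => intro v; simp
    | succ k ih =>
      intro v
      rw [pow_succ', pow_succ', Module.End.mul_apply, Module.End.mul_apply, hπT, (ih v).2]
      refine ⟨?_, rfl⟩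
      rw [hT, (ih v).2, (ih v).1, add_assoc, ← map_add]
      congr 2
      abel
  refine ⟨x, ext_ap fun v => by rw [ap_pow, hx, (hpow r v).1, hTr, ap_one, Module.End.one_apply, sub_self,
    map_zero, add_zero], ?_, fun P hP => ?_⟩
  · have hker : fix (ap x) = LinearMap.ker π := by
      ext v
      rw [mem_fix, hx, hT, add_eq_left, LinearMap.mem_ker, map_eq_zero_iff φ hφinj, sub_eq_zero]
      exact ⟨hfix _, fun h => by rw [h, map_zero]⟩
    have h := LinearMap.finrank_range_add_finrank_ker π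
    rw [LinearMap.range_eq_top.2 (fun a => ⟨φ a, hπφ a⟩), finrank_top, finrank_space, finrank_space] at h
    rw [hker]
    omega
  · have hev : ∀ v, aeval T P v = φ (aeval T0 P (π v)) + P.eval 1 • (v - φ (π v)) := by
      intro v
      induction P using Polynomial.induction_on' with
      | add A B hA hB =>
        rw [map_add, map_add, LinearMap.add_apply, LinearMap.add_apply, map_add, eval_add, add_smul]
        have e : ∀ R : F[X], aeval T R v = φ (aeval T0 R (π v)) + R.eval 1 • (v - φ (π v)) := fun R => by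
          clear hA hB
          induction R using Polynomial.induction_on' with
          | add A B hA hB =>
            rw [map_add, map_add, LinearMap.add_apply, LinearMap.add_apply, map_add, eval_add, add_smul, hA, hB]
            abel
          | monomial k c =>
            rw [aeval_monomial, aeval_monomial, eval_monomial, one_pow, mul_one, Module.End.mul_apply,
              Module.End.mul_apply, Module.algebraMap_end_apply, Module.algebraMap_end_apply, (hpow k v).1, map_smul,
              smul_add, smul_sub, map_sub, smul_sub]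
            abel
        rw [e, e]
        abel
      | monomial k c =>
        rw [aeval_monomial, aeval_monomial, eval_monomial, one_pow, mul_one, Module.End.mul_apply,
          Module.End.mul_apply, Module.algebraMap_end_apply, Module.algebraMap_end_apply, (hpow k v).1, map_smul,
          smul_add, smul_sub, map_sub, smul_sub]
        abel
    ext v
    rw [LinearMap.mem_ker, hx, hev, Submodule.mem_map]
    constructor
    · intro h
      have h' := congrArg π h
      rw [map_add, map_smul, map_sub, hπφ, hπφ, sub_self, smul_zero, add_zero, map_zero] at h'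
      rw [h', map_zero, zero_add, smul_eq_zero, sub_eq_zero] at h
      exact ⟨π v, h', (h.resolve_left hP).symm⟩
    · rintro ⟨a, ha, rfl⟩
      rw [LinearMap.mem_ker] at ha
      rw [hπφ, ha, map_zero, sub_self, smul_zero, add_zero]

/-! ### an odd-dimensional kernel -/

theorem commute_aeval {T S : Module.End F (ι → F)} (h : Commute T S) (P : F[X]) : Commute (aeval T P) S := by
  induction P using Polynomial.induction_on' with
  | add A B hA hB => rw [map_add]; exact hA.add_left hB
  | monomial k c => rw [aeval_monomial]; exact (Algebra.commute_algebraMap_left c S).mul_left (h.pow_left k)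

theorem bad_odd (hν : ∀ c : F, c * c ≠ ν) (x : IsoGrp Q) (P : F[X])
    (hodd : Odd (finrank F (LinearMap.ker (aeval (ap x) P)))) (J' : Matrix ι ι F) (hJ' : Orth.IsRoot Q ν J') :
    ¬ ∀ v, ap x (J' *ᵥ v) = J' *ᵥ ap x v := by
  intro hcom
  set U := LinearMap.ker (aeval (ap x) P) with hU
  have hc : Commute (ap x) (Matrix.toLin' J') := LinearMap.ext fun v => by
    simp only [Module.End.mul_apply, Matrix.toLin'_apply, hcom]
  have hinv : ∀ v ∈ U, Matrix.toLin' J' v ∈ U := fun v hv => by
    rw [hU, LinearMap.mem_ker, ← Module.End.mul_apply, (commute_aeval hc P).eq, Module.End.mul_apply,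
      LinearMap.mem_ker.1 hv, map_zero]
  set j : Module.End F U := (Matrix.toLin' J').restrict hinv
  have hjj : j * j = ν • (1 : Module.End F U) := LinearMap.ext fun v => Subtype.ext (by
    simp only [j, Module.End.mul_apply, LinearMap.smul_apply, Module.End.one_apply, Submodule.coe_smul,
      LinearMap.coe_restrict_apply, Matrix.toLin'_apply, hJ'.sq])
  have hdet := congrArg LinearMap.det hjj
  rw [map_mul, LinearMap.det_smul, map_one, mul_one] at hdet
  obtain ⟨m, hm⟩ := hodd
  rw [hm] at hdet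
  have hν0 : ν ≠ 0 := fun e => hν 0 (by rw [e, mul_zero])
  refine hν (LinearMap.det j / ν ^ m) ?_
  rw [div_mul_div_comm, hdet, ← pow_add, div_eq_iff (pow_ne_zero _ hν0)]
  ring

/-! ### an elliptic part -/

theorem bad_even (hQ : Q.polarBilin.Nondegenerate) (h2 : (2 : F) ≠ 0) (hν : ∀ c : F, c * c ≠ ν) (x : IsoGrp Q)
    {r : ℕ} [Fact r.Prime] (hr : (r : F) ≠ 0) (hxr : x ^ r = 1) {f : ℕ} (hf : Odd f)
    (hord : orderOf (Fintype.card F : ZMod r) = 2 * f) (hdiv : r ∣ Fintype.card F ^ f + 1)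
    (hdim : finrank F (fix (ap x)) + 2 * f = Fintype.card ι) (J' : Matrix ι ι F) (hJ' : Orth.IsRoot Q ν J') :
    ¬ ∀ v, ap x (J' *ᵥ v) = J' *ᵥ ap x v := by
  intro hcom
  have hrP : r.Prime := Fact.out
  set T : Module.End F (ι → F) := ap x with hT
  set S : Module.End F (ι → F) := Matrix.toLin' J' with hS
  have hTr : T ^ r = 1 := LinearMap.ext fun v => by rw [hT, ← ap_pow, hxr, ap_one, Module.End.one_apply]
  set T' : Module.End F (ι → F) := T ^ (r - 1) with hT'
  have hTT' : T * T' = 1 := by rw [hT', ← pow_succ', Nat.sub_add_cancel hrP.one_lt.le, hTr]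
  have hadj1 : ∀ a b, polar ⇑Q (T a) b = polar ⇑Q a (T' b) := fun a b => by
    conv_lhs => rw [show b = T (T' b) by rw [← Module.End.mul_apply, hTT', Module.End.one_apply]]
    rw [hT, polar_ap]
  set W := LinearMap.range (T - 1) with hW
  have hWd : finrank F W = 2 * f := by
    have h := LinearMap.finrank_range_add_finrank_ker (T - 1)
    rw [finrank_space] at h
    change finrank F W + finrank F (fix T) = _ at h
    omega
  have hnofix : W ⊓ fix T = ⊥ := by
    rw [eq_bot_iff]
    rintro w ⟨⟨u, rfl⟩, hw⟩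
    rw [SetLike.mem_coe, mem_fix] at hw
    have hk : ∀ k : ℕ, (T ^ k) u = u + (k : F) • (T - 1) u := by
      intro k
      induction k with
      | zero => simp
      | succ k ih =>
        rw [pow_succ', Module.End.mul_apply, ih, map_add, map_smul, hw, Nat.cast_succ, add_smul, one_smul,
          LinearMap.sub_apply, Module.End.one_apply]
        abel
    have h := hk r
    rw [hTr, Module.End.one_apply, left_eq_add, smul_eq_zero] at h
    exact (Submodule.mem_bot F).2 (h.resolve_left hr)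
  have hWnd : NdIn Q W := fun w hw hw0 => by
    by_contra h
    push Not at h
    refine hw0 ((Submodule.mem_bot F).1 (hnofix ▸ Submodule.mem_inf.2 ⟨hw, mem_fix.2 (sub_eq_zero.1
      (hQ.1 _ fun u => ?_))⟩))
    have h' : polar ⇑Q w ((T - 1) (T u)) = 0 := h _ ⟨T u, rfl⟩
    rw [LinearMap.sub_apply, Module.End.one_apply, pl_sub_right] at h'
    rw [QuadraticMap.polarBilin_apply_apply, pl_sub_left]
    have e : polar ⇑Q (T (T w)) (T (T u)) = polar ⇑Q w u := by rw [hT, polar_ap, polar_ap]
    have e' : polar ⇑Q (T w) (T (T u)) = polar ⇑Q w (T u) := by rw [hT, polar_ap]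
    have e'' : polar ⇑Q (T w) (T u) = polar ⇑Q w u := by rw [hT, polar_ap]
    have h3 : polar ⇑Q w ((T - 1) u) = 0 := h _ ⟨u, rfl⟩
    rw [LinearMap.sub_apply, Module.End.one_apply, pl_sub_right] at h3
    have h4 : polar ⇑Q ((T - 1) (T' u)) w = 0 := by rw [pl_comm (Q := Q)]; exact h _ ⟨T' u, rfl⟩
    rw [LinearMap.sub_apply, Module.End.one_apply, pl_sub_left, ← Module.End.mul_apply, hTT', Module.End.one_apply,
      pl_comm (Q := Q) (T' u), ← hadj1 w u, pl_comm (Q := Q) u w] at h4
    linear_combination -h4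
  have hWS : ∀ w ∈ W, S w ∈ W := by
    rintro _ ⟨u, rfl⟩
    exact ⟨S u, by simp only [LinearMap.sub_apply, Module.End.one_apply, map_sub, hS, Matrix.toLin'_apply, hcom]⟩
  have hST : Commute T S := LinearMap.ext fun v => by
    simp only [Module.End.mul_apply, hS, Matrix.toLin'_apply, hcom]
  obtain ⟨v, hv, hv0⟩ := Submodule.exists_mem_ne_zero_of_ne_bot (p := W) (fun e => by
    have := hf.pos; rw [e, finrank_bot] at hWd; omega)
  -- the cyclic subspace is `W`
  let ev : F[X] →ₗ[F] (ι → F) := (LinearMap.applyₗ v).comp (aeval T).toLinearMap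
  set U := LinearMap.range ev with hUdef
  have hUW : U ≤ W := by
    rintro _ ⟨P, rfl⟩
    obtain ⟨u, rfl⟩ := hv
    exact ⟨aeval T P u, by
      show ((T - 1) * aeval T P) u = (aeval T P * (T - 1)) u
      rw [(commute_aeval ((Commute.refl T).sub_right (Commute.one_right T)) P).eq]⟩
  have hUinv : Inv T U := by
    rintro _ ⟨_, ⟨P, rfl⟩, rfl⟩
    exact ⟨X * P, by simp [ev]⟩
  have hUeq : U = W := by
    obtain ⟨s, hs, -⟩ := PrimeOrderElt.exists_dims hr hTr hUinv
    rw [(le_bot_iff.1 ((inf_le_inf_right (fix T) hUW).trans hnofix.le) : U ⊓ fix T = ⊥), finrank_bot, zero_add,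
      hord] at hs
    have hU0 : finrank F U ≠ 0 := fun h0 => hv0 (by
      have h1 : ev 1 ∈ U := ⟨1, rfl⟩
      rw [Submodule.finrank_eq_zero.1 h0, Submodule.mem_bot] at h1
      simpa [ev] using h1)
    refine Submodule.eq_of_le_of_finrank_le hUW ?_
    rw [hWd, hs]
    rcases Nat.eq_zero_or_pos s with rfl | hs0
    · exact absurd (by rw [hs, zero_mul]) hU0
    · exact Nat.le_mul_of_pos_left _ hs0
  obtain ⟨P, hP⟩ : S v ∈ U := hUeq ▸ hWS v hv
  have hPS : ∀ w ∈ W, aeval T P w = S w := by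
    intro w hw
    obtain ⟨R, rfl⟩ : w ∈ U := hUeq ▸ hw
    show (aeval T P * aeval T R) v = (S * aeval T R) v
    rw [← map_mul, mul_comm P, map_mul, ← (commute_aeval hST R).eq, Module.End.mul_apply, Module.End.mul_apply]
    exact congrArg _ hP
  -- the power of the Frobenius
  set q := Fintype.card F with hq
  have hqodd : Odd q := Nat.odd_iff.2 (FiniteField.odd_card_of_char_ne_two (fun h => h2 (by
    have := ringChar.charP F
    have := CharP.cast_eq_zero F (ringChar F)
    rw [h] at this; exact_mod_cast this)))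
  have hSS : S * S = ν • (1 : Module.End F (ι → F)) := LinearMap.ext fun u => by
    simp only [Module.End.mul_apply, hS, Matrix.toLin'_apply, hJ'.sq, LinearMap.smul_apply, Module.End.one_apply]
  have hνp : ν ^ (q / 2) = -1 := by
    have hchar : ringChar F ≠ 2 := fun h => h2 (by
      have := ringChar.charP F
      have := CharP.cast_eq_zero F (ringChar F)
      rw [h] at this; exact_mod_cast this)
    have hν0 : ν ≠ 0 := fun e => hν 0 (by rw [e, mul_zero])
    rcases FiniteField.pow_dichotomy hchar hν0 with h' | h'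
    · obtain ⟨c, hc⟩ := (FiniteField.isSquare_iff hchar hν0).2 h'
      exact absurd hc.symm (hν c)
    · exact h'
  have hSq : S ^ q = -S := by
    obtain ⟨k, hk⟩ := hqodd
    rw [show q = 2 * (q / 2) + 1 by omega, pow_succ, pow_mul, pow_two, hSS, _root_.smul_pow, one_pow, hνp]
    refine LinearMap.ext fun u => ?_
    rw [Module.End.mul_apply, LinearMap.smul_apply, Module.End.one_apply, LinearMap.neg_apply, neg_smul, one_smul]
  have hSqk : ∀ k : ℕ, S ^ q ^ k = ((-1 : F) ^ k) • S := by
    intro k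
    induction k with
    | zero => simp
    | succ k ih =>
      rw [pow_succ, pow_mul, ih, _root_.smul_pow, hSq, ← pow_mul, mul_comm k, pow_mul, hqodd.neg_one_pow, pow_succ]
      module
  have hexp : ∀ k : ℕ, expand F (q ^ k) P = P ^ q ^ k := by
    intro k
    induction k with
    | zero => simp
    | succ k ih => rw [pow_succ', expand_mul, ih, map_pow, hq, FiniteField.expand_card, ← pow_mul]
  have hTq : T ^ q ^ f = T' := by
    obtain ⟨c, hc⟩ := hdiv
    have h1 : T ^ (q ^ f + 1) = 1 := by rw [hq, hc, pow_mul, hTr, one_pow]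
    calc T ^ q ^ f = T ^ q ^ f * (T * T') := by rw [hTT', mul_one]
      _ = _ := by rw [← mul_assoc, ← pow_succ, h1, one_mul]
  have hPT' : ∀ w ∈ W, aeval T' P w = -S w := by
    intro w hw
    have e : aeval T' P = (aeval T P) ^ q ^ f := by
      rw [← map_pow, ← hexp, expand_aeval, hTq]
    have hk : ∀ k : ℕ, ((aeval T P) ^ k) w = (S ^ k) w ∧ (S ^ k) w ∈ W := by
      intro k
      induction k with
      | zero => exact ⟨rfl, hw⟩
      | succ k ih =>
        rw [pow_succ', pow_succ', Module.End.mul_apply, Module.End.mul_apply, ih.1]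
        exact ⟨hPS _ ih.2, hWS _ ih.2⟩
    rw [e, (hk _).1, hSqk, hf.neg_one_pow]
    simp
  have hadjP : ∀ a b, polar ⇑Q (aeval T P a) b = polar ⇑Q a (aeval T' P b) := by
    intro a b
    have hk : ∀ k : ℕ, ∀ a b, polar ⇑Q ((T ^ k) a) b = polar ⇑Q a ((T' ^ k) b) := by
      intro k
      induction k with
      | zero => intro a b; rfl
      | succ k ih =>
        intro a b
        rw [pow_succ, pow_succ', Module.End.mul_apply, Module.End.mul_apply, ih, hadj1]
    clear hP hPS hexp hPT'
    induction P using Polynomial.induction_on' with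
    | add A B hA hB => rw [map_add, map_add, LinearMap.add_apply, LinearMap.add_apply, pl_add_left, pl_add_right, hA, hB]
    | monomial k c =>
      rw [aeval_monomial, aeval_monomial, Module.End.mul_apply, Module.End.mul_apply, Module.algebraMap_end_apply,
        Module.algebraMap_end_apply, pl_smul_left, pl_smul_right, hk]
  obtain ⟨a, ha, hab⟩ := hWnd (S v) (hWS v hv) (fun e => by
    have h := LinearMap.congr_fun hSS v
    rw [Module.End.mul_apply, e, map_zero, LinearMap.smul_apply, Module.End.one_apply] at h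
    exact hν 0 (by rw [mul_zero, (smul_eq_zero.1 h.symm).resolve_right hv0]))
  refine hab ?_
  have h := hadjP a v
  rw [hPS a ha, hPT' v hv, pl_neg_right] at h
  have h' : polar ⇑Q (S a) v = polar ⇑Q a (S v) := by rw [hS, Matrix.toLin'_apply, Matrix.toLin'_apply, hJ'.adj]
  rw [pl_comm (Q := Q)]
  exact (mul_eq_zero.1 (show (2 : F) * polar ⇑Q a (S v) = 0 by linear_combination h - h')).resolve_left h2

/-! ### the orders -/

theorem split_cases {q r j : ℕ} [Fact r.Prime] (hq : 0 < q) (hj : Odd j) (h : r ∣ q ^ (2 * j) - 1) :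
    r ∣ q ^ j - 1 ∨ ∃ f, Odd f ∧ f ≤ j ∧ r ∣ q ^ f + 1 ∧ orderOf (q : ZMod r) = 2 * f := by
  have hdvd : ∀ k, r ∣ q ^ k - 1 ↔ orderOf (q : ZMod r) ∣ k := fun k => by
    rw [orderOf_dvd_iff_pow_eq_one, ← ZMod.natCast_eq_zero_iff, Nat.cast_sub (Nat.one_le_pow _ _ hq), sub_eq_zero,
      Nat.cast_pow, Nat.cast_one]
  rw [hdvd] at h ⊢
  by_cases hj' : orderOf (q : ZMod r) ∣ j
  · exact .inl hj'
  rcases Nat.even_or_odd (orderOf (q : ZMod r)) with ⟨f, hf⟩ | he
  · rw [← two_mul] at hf
    rw [hf] at h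
    have hfj : f ∣ j := Nat.dvd_of_mul_dvd_mul_left two_pos h
    have hf0 : 0 < f := Nat.pos_of_dvd_of_pos hfj hj.pos
    refine .inr ⟨f, hj.of_dvd_nat hfj, Nat.le_of_dvd hj.pos hfj, ?_, hf⟩
    rw [← ZMod.natCast_eq_zero_iff, Nat.cast_add, Nat.cast_pow, Nat.cast_one]
    have h1 : ((q : ZMod r) ^ f) * ((q : ZMod r) ^ f) = 1 := by
      rw [← pow_add, ← two_mul, ← hf, pow_orderOf_eq_one]
    rcases mul_self_eq_one_iff.1 h1 with e | e
    · have := Nat.le_of_dvd hf0 (orderOf_dvd_of_pow_eq_one e)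
      omega
    · rw [e]; ring
  · exact .inl ((Nat.Coprime.dvd_of_dvd_mul_left (Nat.coprime_two_right.2 he) h))

/-! ### models -/

/-- An isometry of the hyperbolic space with an odd-dimensional kernel. -/
theorem exists_fpf_plus_poly (e : ℕ) [NeZero e] (he : Odd e) {r : ℕ} [hr : Fact r.Prime] (hr2 : r ≠ 2)
    (hdvd : r ∣ Fintype.card F ^ e - 1) :
    ∃ (T : Module.End F (Fin e ⊕ Fin e → F)) (P : F[X]),
      (∀ x, quadPlus e F (T x) = quadPlus e F x) ∧ T ^ r = 1 ∧ (∀ x, T x = x → x = 0) ∧ P.eval 1 ≠ 0 ∧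
        finrank F (LinearMap.ker (aeval T P)) = e := by
  classical
  obtain ⟨p, hp⟩ := CharP.exists F
  haveI : Fact p.Prime := ⟨CharP.char_is_prime F p⟩
  let K := FiniteField.Extension F p e
  have hKe : finrank F K = e := FiniteField.finrank_extension F p e
  haveI : Module.Finite F K := Module.finite_of_finrank_pos (by rw [hKe]; exact he.pos)
  obtain ⟨z, hz⟩ := exists_unit_orderOf K (r := r)
    (by rw [FiniteField.natCard_extension F p e, Nat.card_eq_fintype_card]; exact hdvd)
  have hzr : (z : K) ^ r = 1 := by rw [← Units.val_pow_eq_pow_val, ← hz, pow_orderOf_eq_one, Units.val_one]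
  have hz1 : (z : K) - 1 ≠ 0 := sub_ne_zero.2 fun h => hr.out.ne_one (by
    rw [← hz, show z = 1 from Units.ext h, orderOf_one])
  let b : Basis (Fin e) F K := Module.finBasisOfFinrankEq F K hKe
  set A := Algebra.leftMulMatrix b (z : K) with hA
  obtain ⟨m, rfl⟩ : ∃ m, r = m + 1 := ⟨r - 1, by have := hr.out.pos; omega⟩
  have hAr : A ^ (m + 1) = 1 := by rw [hA, ← map_pow, hzr, map_one]
  set B := (A ^ m)ᵀ with hB
  let M : Matrix (Fin e ⊕ Fin e) (Fin e ⊕ Fin e) F := Matrix.fromBlocks A 0 0 B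
  set P := minpoly F (z : K) with hP
  have hint : IsIntegral F (z : K) := IsIntegral.of_finite F _
  have hP1 : P.eval 1 ≠ 0 := fun h => hz1 (by
    have h' := minpoly.root hint h
    rw [← h', map_one, sub_self])
  have hPm : aeval ((z : K) ^ m) P ≠ 0 := by
    intro h
    obtain ⟨σ, hσ⟩ := minpoly.exists_algEquiv_of_root' (Algebra.IsAlgebraic.isAlgebraic (z : K)) h
    have hzm : (z : K) ^ m * z = 1 := by rw [← pow_succ, hzr]
    have hzm' : (z : K) ^ m = (z : K)⁻¹ := eq_inv_of_mul_eq_one_left hzm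
    rw [hzm'] at hσ
    have hσ2 : σ (σ (z : K)) = z := by rw [hσ, map_inv₀, hσ, inv_inv]
    have hσe : σ ^ e = 1 := by
      have h1 := pow_card_eq_one' (G := K ≃ₐ[F] K) (x := σ)
      rwa [IsGalois.card_aut_eq_finrank, hKe] at h1
    have heven : ∀ k : ℕ, (σ ^ (2 * k)) (z : K) = z := by
      intro k
      induction k with
      | zero => rfl
      | succ k ih => rw [mul_add, mul_one, pow_add, AlgEquiv.mul_apply, pow_two, AlgEquiv.mul_apply, hσ2, ih]
    obtain ⟨k, hk⟩ := he
    have h1 : (σ ^ (2 * k + 1)) (z : K) = z := by rw [← hk, hσe]; rfl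
    rw [pow_succ', AlgEquiv.mul_apply, heven, hσ] at h1
    have hzz : (z : K) ^ 2 = 1 := by
      rw [pow_two]; nth_rw 1 [← h1]; exact inv_mul_cancel₀ z.ne_zero
    obtain ⟨l, hl⟩ := hr.out.odd_of_ne_two hr2
    rw [hl, pow_succ, pow_mul, hzz, one_pow, one_mul] at hzr
    exact hz1 (by rw [hzr, sub_self])
  have hM : ∀ x : Fin e ⊕ Fin e → F, M *ᵥ x = Sum.elim (A *ᵥ (x ∘ Sum.inl)) (B *ᵥ (x ∘ Sum.inr)) := fun x => by
    simp [M, Matrix.fromBlocks_mulVec]
  have hMpow : ∀ n : ℕ, M ^ n = Matrix.fromBlocks (A ^ n) 0 0 (B ^ n) := fun n => by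
    induction n with
    | zero => simp [Matrix.fromBlocks_one]
    | succ n ih => rw [pow_succ, ih, Matrix.fromBlocks_multiply]; simp [pow_succ]
  have hMev : ∀ R : F[X], aeval M R = Matrix.fromBlocks (aeval A R) 0 0 (aeval B R) := fun R => by
    induction R using Polynomial.induction_on' with
    | add S S' hS hS' => rw [map_add, map_add, map_add, hS, hS', Matrix.fromBlocks_add, add_zero]
    | monomial k c =>
      simp only [aeval_monomial, ← Algebra.smul_def, hMpow, Matrix.fromBlocks_smul, smul_zero]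
  have hBev : ∀ R : F[X], aeval B R = (Algebra.leftMulMatrix b (aeval ((z : K) ^ m) R))ᵀ := fun R => by
    induction R using Polynomial.induction_on' with
    | add S S' hS hS' => rw [map_add, map_add, map_add, Matrix.transpose_add, hS, hS']
    | monomial k c =>
      simp only [aeval_monomial, ← Algebra.smul_def, map_smul, Matrix.transpose_smul, map_pow, ← hA, hB,
        Matrix.transpose_pow]
  have hA0 : aeval A P = 0 := by rw [hA, aeval_algHom_apply, hP, minpoly.aeval, map_zero]
  have hB0 : IsUnit (aeval B P) := by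
    rw [hBev]
    exact (Matrix.isUnit_transpose _).2 ((isUnit_iff_ne_zero.2 hPm).map (Algebra.leftMulMatrix b))
  have hker : ∀ R : F[X], ∀ x, aeval (Matrix.toLin' M) R x = aeval M R *ᵥ x := fun R x => by
    rw [show Matrix.toLin' M = Matrix.toLinAlgEquiv' M from rfl, aeval_algHom_apply]
    rfl
  have hTr : Matrix.toLin' M ^ (m + 1) = 1 := by
    have hBr : B ^ (m + 1) = 1 := by
      rw [hB, ← Matrix.transpose_pow, ← pow_mul, mul_comm, pow_mul, hAr, one_pow, Matrix.transpose_one]
    have : Matrix.toLinAlgEquiv' (M ^ (m + 1)) = (1 : Module.End F (Fin e ⊕ Fin e → F)) := by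
      rw [hMpow, hAr, hBr, Matrix.fromBlocks_one, map_one]
    rw [map_pow] at this
    exact this
  refine ⟨Matrix.toLin' M, P, fun x => ?_, hTr, fun x hx => ?_, hP1, ?_⟩
  · rw [Matrix.toLin'_apply, hM]
    have e : ∀ u : Fin e ⊕ Fin e → F, quadPlus e F u = (u ∘ Sum.inl) ⬝ᵥ (u ∘ Sum.inr) := fun u => rfl
    rw [e, e, Sum.elim_comp_inl, Sum.elim_comp_inr, Matrix.dotProduct_mulVec, ← Matrix.mulVec_transpose,
      Matrix.mulVec_mulVec]
    rw [hB, Matrix.transpose_transpose, ← pow_succ, hAr, Matrix.one_mulVec]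
  · -- `P(1) ≠ 0` and `X - 1` kills `x`
    have hR : ∀ R : F[X], aeval (Matrix.toLin' M) R x = R.eval 1 • x := fun R => by
      induction R using Polynomial.induction_on' with
      | add S S' hS hS' => rw [map_add, LinearMap.add_apply, hS, hS', eval_add, add_smul]
      | monomial k c =>
        have hk : ∀ k : ℕ, (Matrix.toLin' M ^ k) x = x := fun k => by
          induction k with
          | zero => rfl
          | succ k ih => rw [pow_succ', Module.End.mul_apply, ih, hx]
        rw [aeval_monomial, Module.End.mul_apply, hk, Module.algebraMap_end_apply, eval_monomial, one_pow, mul_one]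
    have h := hR P
    rw [hker, hMev, hA0, Matrix.fromBlocks_mulVec] at h
    have hl : x ∘ Sum.inl = 0 := funext fun i => by
      have h' := congrFun h (Sum.inl i)
      simp only [Sum.elim_inl, Matrix.zero_mulVec, Pi.add_apply, Pi.zero_apply, add_zero, Pi.smul_apply,
        smul_eq_mul] at h'
      exact (mul_eq_zero.1 h'.symm).resolve_left hP1
    have hxr' : B *ᵥ (x ∘ Sum.inr) = x ∘ Sum.inr := funext fun i => by
      have := congrFun hx (Sum.inr i)
      rwa [Matrix.toLin'_apply, hM] at this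
    have hBz : IsUnit (B - 1) := by
      rw [hB, ← Matrix.transpose_one, ← Matrix.transpose_sub]
      refine (Matrix.isUnit_transpose _).2 ?_
      rw [hA, ← map_pow, ← map_one (Algebra.leftMulMatrix b), ← map_sub]
      refine (isUnit_iff_ne_zero.2 (sub_ne_zero.2 fun h1 => hz1 ?_)).map (Algebra.leftMulMatrix b)
      rw [pow_succ, h1, one_mul] at hzr
      rw [hzr, sub_self]
    have hr0 : x ∘ Sum.inr = 0 := Matrix.mulVec_injective_iff_isUnit.2 hBz
      (by rw [Matrix.sub_mulVec, Matrix.one_mulVec, hxr', sub_self, Matrix.mulVec_zero])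
    funext i
    rcases i with i | i
    · exact congrFun hl i
    · exact congrFun hr0 i
  · let g : (Fin e → F) →ₗ[F] (Fin e ⊕ Fin e → F) :=
      { toFun := fun u => Sum.elim u 0
        map_add' := fun u u' => by funext i; rcases i with i | i <;> simp
        map_smul' := fun c u => by funext i; rcases i with i | i <;> simp }
    have hg : LinearMap.ker (aeval (Matrix.toLin' M) P) = LinearMap.range g := by
      ext x
      rw [LinearMap.mem_ker, hker, hMev, hA0, Matrix.fromBlocks_mulVec, LinearMap.mem_range]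
      constructor
      · intro h
        have hr0 : x ∘ Sum.inr = 0 := Matrix.mulVec_injective_iff_isUnit.2 hB0 (funext fun i => by
          have h' := congrFun h (Sum.inr i)
          simpa using h')
        exact ⟨x ∘ Sum.inl, funext fun i => by rcases i with i | i <;> [rfl; exact (congrFun hr0 i).symm]⟩
      · rintro ⟨u, rfl⟩
        funext i
        rcases i with i | i <;> simp [g, Function.comp_def, ← Pi.zero_def]
    rw [hg, LinearMap.finrank_range_of_inj (fun u u' h => _root_.funext fun i => congrFun h (Sum.inl i)),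
      Module.finrank_fin_fun]

/-- Padding by zeros. -/
def pad {k : ℕ} (d : ℕ) : (Fin k → F) →ₗ[F] (Fin d → F) where
  toFun a j := if h : (j : ℕ) < k then a ⟨j, h⟩ else 0
  map_add' a b := funext fun j => by by_cases h : (j : ℕ) < k <;> simp [h]
  map_smul' c a := funext fun j => by by_cases h : (j : ℕ) < k <;> simp [h]

theorem sum_pad {k d : ℕ} (h : k ≤ d) (a b : Fin k → F) :
    ∑ j, pad d a j * pad d b j = ∑ i, a i * b i := by
  obtain ⟨l, rfl⟩ := Nat.exists_eq_add_of_le h
  rw [Fin.sum_univ_add]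
  simp [pad]

/-- Padding of hyperbolic pairs. -/
def padPlus {k : ℕ} (d : ℕ) : (Fin k ⊕ Fin k → F) →ₗ[F] (Fin d ⊕ Fin d → F) where
  toFun a := Sum.elim (pad d (a ∘ Sum.inl)) (pad d (a ∘ Sum.inr))
  map_add' a b := funext fun i => by rcases i with i | i <;> simp [Pi.add_comp]
  map_smul' c a := funext fun i => by rcases i with i | i <;> simp [Pi.smul_comp]

theorem quadPlus_padPlus {k d : ℕ} (h : k ≤ d) (a : Fin k ⊕ Fin k → F) :
    quadPlus d F (padPlus d a) = quadPlus k F a :=
  sum_pad h _ _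

/-- An elliptic space inside two further hyperbolic pairs. -/
def minusToPlus (k : ℕ) (a b : F) : ((Fin k ⊕ Fin k) ⊕ Fin 2 → F) →ₗ[F] (Fin (k + 2) ⊕ Fin (k + 2) → F) where
  toFun v := Sum.elim
    (Fin.snoc (Fin.snoc (fun i => v (.inl (.inl i))) (v (.inr 0))) (v (.inr 1)))
    (Fin.snoc (Fin.snoc (fun i => v (.inl (.inr i))) (v (.inr 0) + a * v (.inr 1))) (b * v (.inr 1)))
  map_add' v w := funext fun i => by
    rcases i with i | i <;> refine Fin.lastCases ?_ (Fin.lastCases ?_ fun i => ?_) i <;> simp <;> ring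
  map_smul' c v := funext fun i => by
    rcases i with i | i <;> refine Fin.lastCases ?_ (Fin.lastCases ?_ fun i => ?_) i <;> simp <;> ring

theorem quadPlus_minusToPlus (k : ℕ) (a b : F) (v : (Fin k ⊕ Fin k) ⊕ Fin 2 → F) :
    quadPlus (k + 2) F (minusToPlus k a b v) = quadMinus k F a b v := by
  rw [coe_quadPlus, coe_quadMinus]
  simp only [quadFormPlus, quadFormMinus]
  rw [Fin.sum_univ_castSucc, Fin.sum_univ_castSucc]
  simp [minusToPlus]
  ring

/-- Padding of hyperbolic pairs next to an elliptic plane. -/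
def padMinus {k : ℕ} (d : ℕ) : ((Fin k ⊕ Fin k) ⊕ Fin 2 → F) →ₗ[F] ((Fin d ⊕ Fin d) ⊕ Fin 2 → F) where
  toFun a := Sum.elim (padPlus d (a ∘ Sum.inl)) (a ∘ Sum.inr)
  map_add' a b := funext fun i => by rcases i with i | i <;> simp [Pi.add_comp]
  map_smul' c a := funext fun i => by rcases i with i | i <;> simp [Pi.smul_comp]

theorem quadMinus_padMinus {k d : ℕ} (h : k ≤ d) (a b : F) (v : (Fin k ⊕ Fin k) ⊕ Fin 2 → F) :
    quadMinus d F a b (padMinus d v) = quadMinus k F a b v := by
  rw [coe_quadMinus, coe_quadMinus]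
  simp only [quadFormMinus]
  rw [show ∑ i, padMinus d v (.inl (.inl i)) * padMinus d v (.inl (.inr i)) =
      ∑ i, v (.inl (.inl i)) * v (.inl (.inr i)) from sum_pad h _ _]
  rfl

/-- Hyperbolic pairs next to an elliptic plane. -/
def plusToMinus (k : ℕ) : (Fin k ⊕ Fin k → F) →ₗ[F] ((Fin k ⊕ Fin k) ⊕ Fin 2 → F) where
  toFun a := Sum.elim a 0
  map_add' a b := funext fun i => by rcases i with i | i <;> simp
  map_smul' c a := funext fun i => by rcases i with i | i <;> simp

theorem quadMinus_plusToMinus (k : ℕ) (a b : F) (v : Fin k ⊕ Fin k → F) :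
    quadMinus k F a b (plusToMinus k v) = quadPlus k F v := by
  rw [coe_quadMinus, coe_quadPlus]
  simp only [quadFormPlus, quadFormMinus]
  simp [plusToMinus]

theorem bad_of_plus_model (hQ : Q.polarBilin.Nondegenerate) (hν : ∀ c : F, c * c ≠ ν) {e : ℕ} (he : Odd e)
    (φ : (Fin e ⊕ Fin e → F) →ₗ[F] (ι → F)) (hφ : ∀ a, Q (φ a) = quadPlus e F a) {r : ℕ} [Fact r.Prime]
    (hr2 : r ≠ 2) (hdvd : r ∣ Fintype.card F ^ e - 1) : Bad Q ν r := by
  haveI : NeZero e := ⟨Nat.ne_of_gt he.pos⟩
  obtain ⟨T0, P, hT0, hTr, hfix, hP1, hker⟩ := exists_fpf_plus_poly e he hr2 hdvd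
  obtain ⟨x, hxr, hdim, hkx⟩ := exists_ext hQ (quadPlus_nondeg e) φ hφ T0 hT0 hTr hfix
  have hφinj : Function.Injective φ := (injective_iff_map_eq_zero φ).2 fun a ha =>
    (quadPlus_nondeg e).1 a fun b => by
      rw [QuadraticMap.polarBilin_apply_apply, ← polar_map hφ, ha, pl_zero_left]
  refine ⟨x, hxr, fun h1 => ?_, bad_odd hν x P ?_⟩
  · have h : fix (ap x) = ⊤ := Submodule.eq_top_iff'.2 fun v => by rw [mem_fix, h1, ap_one]
    rw [h, finrank_top, finrank_space, Fintype.card_sum, Fintype.card_fin] at hdim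
    have := he.pos
    omega
  · rw [hkx P hP1, ← LinearEquiv.finrank_eq (Submodule.equivMapOfInjective φ hφinj _), hker]
    exact he

theorem bad_of_minus_model (hQ : Q.polarBilin.Nondegenerate) (h2 : (2 : F) ≠ 0) (hν : ∀ c : F, c * c ≠ ν)
    {f : ℕ} (hf : Odd f) {a b : F} (hab : ∀ x y : F, x ^ 2 + a * x * y + b * y ^ 2 = 0 → x = 0 ∧ y = 0)
    (φ : ((Fin (f - 1) ⊕ Fin (f - 1)) ⊕ Fin 2 → F) →ₗ[F] (ι → F))
    (hφ : ∀ v, Q (φ v) = quadMinus (f - 1) F a b v) {r : ℕ} [Fact r.Prime] (hr : (r : F) ≠ 0) (hr2 : r ≠ 2)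
    (hdvd : r ∣ Fintype.card F ^ f + 1) (hord : orderOf (Fintype.card F : ZMod r) = 2 * f) : Bad Q ν r := by
  haveI : NeZero f := ⟨Nat.ne_of_gt hf.pos⟩
  obtain ⟨T0, hT0, hTr, hfix⟩ := exists_fpf_minus f hr2 hdvd hab
  obtain ⟨x, hxr, hdim, -⟩ := exists_ext hQ (quadMinus_nondeg (f - 1) hab) φ hφ T0 hT0 hTr hfix
  simp only [Fintype.card_sum, Fintype.card_fin] at hdim
  refine ⟨x, hxr, fun h1 => ?_, bad_even hQ h2 hν x hr hxr hf hord hdvd ?_⟩
  · have h : fix (ap x) = ⊤ := Submodule.eq_top_iff'.2 fun v => by rw [mem_fix, h1, ap_one]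
    rw [h, finrank_top, finrank_space] at hdim
    omega
  · have := hf.pos
    omega

theorem exists_aniso (h2 : (2 : F) ≠ 0) :
    ∃ a b : F, ∀ x y : F, x ^ 2 + a * x * y + b * y ^ 2 = 0 → x = 0 ∧ y = 0 := by
  obtain ⟨c, hc⟩ := FiniteField.exists_nonsquare (F := F) (fun h => h2 (by
    have := ringChar.charP F
    have := CharP.cast_eq_zero F (ringChar F)
    rw [h] at this; exact_mod_cast this))
  refine ⟨0, -c, fun x y h => ?_⟩
  by_cases hy : y = 0
  · exact ⟨(pow_eq_zero_iff two_ne_zero).1 (by rw [hy] at h; linear_combination h), hy⟩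
  · exact absurd ⟨x / y, by field_simp; linear_combination -h⟩ hc

theorem bad_plus (h2 : (2 : F) ≠ 0) (hν : ∀ c : F, c * c ≠ ν) {d : ℕ} (hd : 4 ≤ d) {r : ℕ} [Fact r.Prime]
    (hr : (r : F) ≠ 0) (hr2 : r ≠ 2)
    (hcase : (∃ j, Odd j ∧ j < d ∧ r ∣ Fintype.card F ^ (2 * j) - 1) ∨ (Odd d ∧ r ∣ Fintype.card F ^ d - 1)) :
    Bad (quadPlus d F) ν r := by
  have hodd : ∀ e, Odd e → e ≤ d → r ∣ Fintype.card F ^ e - 1 → Bad (quadPlus d F) ν r := fun e he hed h =>
    bad_of_plus_model (quadPlus_nondeg d) hν he (padPlus d) (quadPlus_padPlus hed) hr2 h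
  rcases hcase with ⟨j, hj, hjd, h⟩ | ⟨hd', h⟩
  · rcases split_cases Fintype.card_pos hj h with h' | ⟨f, hf, hfj, hdvd, hord⟩
    · exact hodd j hj hjd.le h'
    · obtain ⟨a, b, hab⟩ := exists_aniso h2
      refine bad_of_minus_model (quadPlus_nondeg d) h2 hν hf hab ((padPlus d).comp (minusToPlus (f - 1) a b))
        (fun v => ?_) hr hr2 hdvd hord
      rw [LinearMap.comp_apply, quadPlus_padPlus (by omega), quadPlus_minusToPlus]
  · exact hodd d hd' le_rfl h

theorem bad_minus (h2 : (2 : F) ≠ 0) (hν : ∀ c : F, c * c ≠ ν) {d : ℕ} (hd : 4 ≤ d) {a b : F}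
    (hab : ∀ x y : F, x ^ 2 + a * x * y + b * y ^ 2 = 0 → x = 0 ∧ y = 0) {r : ℕ} [Fact r.Prime]
    (hr : (r : F) ≠ 0) (hr2 : r ≠ 2)
    (hcase : (∃ j, Odd j ∧ j < d ∧ r ∣ Fintype.card F ^ (2 * j) - 1) ∨ (Odd d ∧ r ∣ Fintype.card F ^ d + 1)) :
    Bad (quadMinus (d - 1) F a b) ν r := by
  have hodd : ∀ e, Odd e → e ≤ d - 1 → r ∣ Fintype.card F ^ e - 1 → Bad (quadMinus (d - 1) F a b) ν r :=
    fun e he hed h => bad_of_plus_model (quadMinus_nondeg (d - 1) hab) hν he
      ((plusToMinus (d - 1)).comp (padPlus (d - 1)))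
      (fun v => by rw [LinearMap.comp_apply, quadMinus_plusToMinus, quadPlus_padPlus hed]) hr2 h
  have hev : ∀ f, Odd f → f ≤ d → r ∣ Fintype.card F ^ f + 1 → orderOf (Fintype.card F : ZMod r) = 2 * f →
      Bad (quadMinus (d - 1) F a b) ν r := fun f hf hfd h hord =>
    bad_of_minus_model (quadMinus_nondeg (d - 1) hab) h2 hν hf hab (padMinus (d - 1))
      (quadMinus_padMinus (by omega) a b) hr hr2 h hord
  rcases hcase with ⟨j, hj, hjd, h⟩ | ⟨hd', h⟩
  · rcases split_cases Fintype.card_pos hj h with h' | ⟨f, hf, hfj, hdvd, hord⟩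
    · exact hodd j hj (by omega) h'
    · exact hev f hf (by omega) hdvd hord
  · have hq : 0 < Fintype.card F := Fintype.card_pos
    have h2d : r ∣ Fintype.card F ^ (2 * d) - 1 := h.trans ⟨Fintype.card F ^ d - 1, by
      rw [mul_comm 2, pow_mul, ← Nat.sq_sub_sq, one_pow]⟩
    rcases split_cases hq hd' h2d with h' | ⟨f, hf, hfj, hdvd, hord⟩
    · exfalso
      have h'' : r ∣ 2 := by
        have := Nat.dvd_sub h h'
        have e : Fintype.card F ^ d + 1 - (Fintype.card F ^ d - 1) = 2 := by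
          have := Nat.one_le_pow d _ hq
          omega
        rwa [e] at this
      exact hr2 ((Nat.prime_dvd_prime_iff_eq Fact.out Nat.prime_two).1 h'')
    · exact hev f hf hfj hdvd hord

theorem bad_eich_plus (hν : ∀ c : F, c * c ≠ ν) {d : ℕ} (hd : 2 ≤ d) {r : ℕ} (hr : (r : F) = 0) :
    Bad (quadPlus d F) ν r := by
  let i0 : Fin d := ⟨0, by omega⟩
  let i1 : Fin d := ⟨1, by omega⟩
  have h01 : i0 ≠ i1 := by simp [i0, i1, Fin.ext_iff]
  refine bad_eich (u := Pi.single (.inl i0) 1) (w := Pi.single (.inl i1) 1) (f := Pi.single (.inr i0) 1)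
    (f' := Pi.single (.inr i1) 1) ?_ ?_ ?_ ?_ ?_ ?_ hν hr
  all_goals simp [coe_quadPlus, polar_quadPlus, quadFormPlus, Pi.single_apply, h01, h01.symm]

theorem bad_eich_minus (hν : ∀ c : F, c * c ≠ ν) {k : ℕ} (hk : 2 ≤ k) (a b : F) {r : ℕ} (hr : (r : F) = 0) :
    Bad (quadMinus k F a b) ν r := by
  let i0 : Fin k := ⟨0, by omega⟩
  let i1 : Fin k := ⟨1, by omega⟩
  have h01 : i0 ≠ i1 := by simp [i0, i1, Fin.ext_iff]
  refine bad_eich (u := Pi.single (.inl (.inl i0)) 1) (w := Pi.single (.inl (.inl i1)) 1)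
    (f := Pi.single (.inl (.inr i0)) 1) (f' := Pi.single (.inl (.inr i1)) 1) ?_ ?_ ?_ ?_ ?_ ?_ hν hr
  all_goals simp [coe_quadMinus, polar_quadMinus, quadFormMinus, Pi.single_apply, h01, h01.symm]

end Cfsg.Agent.Orth
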