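import Cfsg.Agent.Lib.Orth.Derange
import Cfsg.Agent.Lib.Orth.Geo
import Cfsg.Agent.Lib.QuadClass.Odd
import Cfsg.Agent.Lib.Forms.Count
import Cfsg.Agent.Lib.Forms.Bases
import Cfsg.Agent.Lib.GLOrder.Basic

/-!
# Elements of `SL_n` conjugate to similitudes of a quadratic form, odd characteristic

* `mem_of_gram` : a symmetric matrix scaled by `x` gives a conjugate similitude
* `gram_of_sim`, `charpoly_twist` : what a similitude satisfies
* `dvd_zeros_sub_one` : isometries of prime order without fixed vectors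
* `index_cases` : the primes dividing the index of the orthogonal group in `SL_n`
-/

set_option autoImplicit false
set_option linter.unusedSectionVars false

namespace Cfsg.Agent.Orth

open Cfsg Matrix Module
open QuadraticMap (polar)

variable {F : Type*} [Field F] [Fintype F] {n : ℕ}

theorem mem_specialLinear_iff {g : GL (Fin n) F} :
    g ∈ Geo.specialLinear (Fin n) F ↔ (g : Matrix (Fin n) (Fin n) F).det = 1 := by
  rw [Geo.specialLinear, MonoidHom.mem_ker, Units.ext_iff]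
  rfl

/-- The Gram matrix of the polar form. -/
noncomputable def polMat (Q : QuadraticForm F (Fin n → F)) : Matrix (Fin n) (Fin n) F :=
  LinearMap.BilinForm.toMatrix' Q.polarBilin

theorem polMat_transpose (Q : QuadraticForm F (Fin n → F)) : (polMat Q)ᵀ = polMat Q := by
  ext i j
  rw [Matrix.transpose_apply, polMat, LinearMap.BilinForm.toMatrix'_apply,
    LinearMap.BilinForm.toMatrix'_apply, QuadraticMap.polarBilin_apply_apply,
    QuadraticMap.polarBilin_apply_apply, QuadraticMap.polar_comm]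

theorem polar_eq_polMat (Q : QuadraticForm F (Fin n → F)) (u v : Fin n → F) :
    polar ⇑Q u v = u ⬝ᵥ (polMat Q *ᵥ v) := by
  rw [← Matrix.toBilin'_apply', polMat, Matrix.toBilin'_toMatrix', QuadraticMap.polarBilin_apply_apply]

theorem exists_form_of_matrix (h2 : (2 : F) ≠ 0) {S : Matrix (Fin n) (Fin n) F} (hS : Sᵀ = S) (hdet : S.det ≠ 0) :
    ∃ Q : QuadraticForm F (Fin n → F), Q.polarBilin.Nondegenerate ∧ QuadClass.disc Q = S.det ∧
      ∀ v, Q v = 2⁻¹ * (v ⬝ᵥ (S *ᵥ v)) := by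
  let Q := LinearMap.BilinMap.toQuadraticMap ((2 : F)⁻¹ • Matrix.toBilin' S)
  have hQ : ∀ v, Q v = 2⁻¹ * (v ⬝ᵥ (S *ᵥ v)) := fun v => by
    show ((2 : F)⁻¹ • Matrix.toBilin' S) v v = _
    rw [LinearMap.smul_apply, LinearMap.smul_apply, Matrix.toBilin'_apply', smul_eq_mul]
  have hpol : Q.polarBilin = Matrix.toBilin' S := by
    refine LinearMap.ext₂ fun u v => ?_
    rw [QuadraticMap.polarBilin_apply_apply, polar, hQ, hQ, hQ, Matrix.toBilin'_apply']
    have hsymm : v ⬝ᵥ (S *ᵥ u) = u ⬝ᵥ (S *ᵥ v) := by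
      rw [Matrix.dotProduct_mulVec, ← Matrix.mulVec_transpose, hS, dotProduct_comm]
    simp only [Matrix.mulVec_add, add_dotProduct, dotProduct_add, hsymm]
    field_simp
    ring
  refine ⟨Q, ?_, ?_, hQ⟩
  · rw [hpol]
    exact LinearMap.BilinForm.nondegenerate_toBilin'_iff_det_ne_zero.2 hdet
  · rw [QuadClass.disc, hpol, LinearMap.BilinForm.toMatrix'_toBilin']

theorem gram_of_sim {Q : QuadraticForm F (Fin n → F)} {Y : Matrix (Fin n) (Fin n) F} {c : F}
    (h : ∀ v, Q (Y *ᵥ v) = c * Q v) : Yᵀ * polMat Q * Y = c • polMat Q := by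
  refine Matrix.toBilin'.injective (LinearMap.ext₂ fun u v => ?_)
  rw [Matrix.toBilin'_apply', Matrix.toBilin'_apply', Matrix.smul_mulVec, dotProduct_smul, ← polar_eq_polMat,
    ← Matrix.mulVec_mulVec, ← Matrix.mulVec_mulVec, Matrix.dotProduct_mulVec, Matrix.vecMul_transpose,
    ← polar_eq_polMat, polar, polar, ← Matrix.mulVec_add, h, h, h, smul_eq_mul]
  ring

/-- The characteristic polynomial of a similitude is twisted reciprocal. -/
theorem charpoly_twist {Q : QuadraticForm F (Fin n → F)} (hQ : Q.polarBilin.Nondegenerate) {Y : GL (Fin n) F}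
    {c : F} (h : ∀ v, Q ((Y : Matrix (Fin n) (Fin n) F) *ᵥ v) = c * Q v) :
    (Y : Matrix (Fin n) (Fin n) F).charpoly = (c • ((Y⁻¹ : GL (Fin n) F) : Matrix (Fin n) (Fin n) F)).charpoly := by
  let S : GL (Fin n) F := GeneralLinearGroup.mkOfDetNeZero (polMat Q) (QuadClass.disc_ne_zero Q hQ)
  have hS : (S : Matrix (Fin n) (Fin n) F) = polMat Q := rfl
  have h1 : (Y : Matrix (Fin n) (Fin n) F)ᵀ =
      (S : Matrix (Fin n) (Fin n) F) * (c • ((Y⁻¹ : GL (Fin n) F) : Matrix (Fin n) (Fin n) F)) *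
        ((S⁻¹ : GL (Fin n) F) : Matrix (Fin n) (Fin n) F) := by
    rw [Matrix.mul_smul, Matrix.smul_mul, ← Matrix.smul_mul, ← Matrix.smul_mul, hS, ← gram_of_sim h,
      Matrix.mul_assoc _ _ ((Y⁻¹ : GL (Fin n) F) : Matrix (Fin n) (Fin n) F), Units.mul_inv, mul_one, ← hS,
      Matrix.mul_assoc, Units.mul_inv, mul_one]
  rw [← Matrix.charpoly_transpose, h1,
    show ((S⁻¹ : GL (Fin n) F) : Matrix (Fin n) (Fin n) F) = (S : Matrix (Fin n) (Fin n) F)⁻¹ from
      Matrix.coe_units_inv S, Matrix.charpoly_units_conj]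

/-- A symmetric matrix scaled by `x`, in the discriminant class of `Q`, gives a conjugate similitude. -/
theorem mem_of_gram (h2 : (2 : F) ≠ 0) {Q : QuadraticForm F (Fin n → F)} (hQ : Q.polarBilin.Nondegenerate)
    (x : GL (Fin n) F)
    (hdet : ∀ d : F, d ≠ 0 → ∃ C : Matrix (Fin n) (Fin n) F, C.det = d ∧
      C * (x : Matrix (Fin n) (Fin n) F) = (x : Matrix (Fin n) (Fin n) F) * C)
    {S : Matrix (Fin n) (Fin n) F} (hS : Sᵀ = S) (hS0 : S.det ≠ 0)
    (hsq : IsSquare (QuadClass.disc Q * S.det)) {c : F} (hc : c ≠ 0)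
    (hx : (x : Matrix (Fin n) (Fin n) F)ᵀ * S * (x : Matrix (Fin n) (Fin n) F) = c • S) :
    ∃ g ∈ Geo.specialLinear (Fin n) F, g⁻¹ * x * g ∈ Geo.quadSimilarityGroup ⇑Q := by
  obtain ⟨Q', hQ', hd', hQv⟩ := exists_form_of_matrix h2 hS hS0
  obtain ⟨e⟩ := (QuadClass.equivalent_iff_disc h2 Q Q' hQ hQ').2 (by rw [hd']; exact hsq)
  set G : GL (Fin n) F := Forms.glLinEquiv.symm e.toLinearEquiv with hG
  have hGe : ∀ v, Q' ((G : Matrix (Fin n) (Fin n) F) *ᵥ v) = Q v := fun v => by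
    rw [← Forms.glLinEquiv_apply, hG, MulEquiv.apply_symm_apply]
    exact e.map_app v
  obtain ⟨C, hCd, hC⟩ := hdet _ (inv_ne_zero G.det_ne_zero)
  set C' : GL (Fin n) F := GeneralLinearGroup.mkOfDetNeZero C (by rw [hCd]; exact inv_ne_zero G.det_ne_zero)
  have hC' : C' * x = x * C' := Units.ext hC
  refine ⟨C' * G, ?_, Units.mk0 c hc, fun v => ?_⟩
  · rw [mem_specialLinear_iff, Units.val_mul, Matrix.det_mul]
    show C.det * _ = 1
    rw [hCd, inv_mul_cancel₀ G.det_ne_zero]
  · rw [show (C' * G)⁻¹ * x * (C' * G) = G⁻¹ * (C'⁻¹ * (x * C')) * G by group, ← hC', inv_mul_cancel_left,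
      ← hGe, Matrix.mulVec_mulVec, ← Units.val_mul, show G * (G⁻¹ * x * G) = x * G by group, Units.val_mul,
      ← Matrix.mulVec_mulVec, ← hGe v, hQv, hQv, Units.val_mk0]
    set u := (G : Matrix (Fin n) (Fin n) F) *ᵥ v
    rw [show ((x : Matrix (Fin n) (Fin n) F) *ᵥ u) ⬝ᵥ (S *ᵥ ((x : Matrix (Fin n) (Fin n) F) *ᵥ u)) =
      u ⬝ᵥ (((x : Matrix (Fin n) (Fin n) F)ᵀ * S * (x : Matrix (Fin n) (Fin n) F)) *ᵥ u) by
        rw [← Matrix.mulVec_mulVec, ← Matrix.mulVec_mulVec, Matrix.dotProduct_mulVec _ (x : Matrix (Fin n) (Fin n) F)ᵀ,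
          Matrix.vecMul_transpose],
      hx, Matrix.smul_mulVec, dotProduct_smul, smul_eq_mul]
    ring

/-- Isometries of prime order without fixed vectors. -/
theorem dvd_zeros_sub_one {V : Type*} [AddCommGroup V] [Module F V] [FiniteDimensional F V]
    (Q : QuadraticForm F V) {r : ℕ} [Fact r.Prime] (T : Module.End F V) (hT : ∀ v, Q (T v) = Q v)
    (hTr : T ^ r = 1) (hfix : ∀ v, T v = v → v = 0) : r ∣ Nat.card {v // Q v = 0} - 1 := by
  haveI : Finite V := Module.finite_of_finite F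
  have hinj : Function.Injective T := Function.HasLeftInverse.injective ⟨⇑(T ^ (r - 1)), fun v => by
    rw [← Module.End.mul_apply, ← pow_succ, Nat.sub_add_cancel (Fact.out : r.Prime).one_lt.le, hTr,
      Module.End.one_apply]⟩
  let α := {v : V // v ≠ 0 ∧ Q v = 0}
  let s : α → α := fun v => ⟨T v.1, fun h => v.2.1 (hinj (h.trans (map_zero T).symm)), (hT _).trans v.2.2⟩
  have hsi : Function.Injective s := fun a b h => Subtype.ext (hinj (congrArg Subtype.val h))
  let σ : Equiv.Perm α := Equiv.ofBijective s (Finite.injective_iff_bijective.1 hsi)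
  have hpow : ∀ k (v : α), ((σ ^ k) v).1 = (T ^ k) v.1 := by
    intro k
    induction k with
    | zero => intro v; simp
    | succ k ih =>
      intro v
      rw [pow_succ, pow_succ, Equiv.Perm.mul_apply, ih, Module.End.mul_apply]
      rfl
  have h := dvd_card_of_fixedPointFree σ
    (Equiv.ext fun v => Subtype.ext (by rw [hpow, hTr]; rfl))
    (fun v h => v.2.1 (hfix _ (congrArg Subtype.val h)))
  rw [← Forms.card_ne_zero_zeros Q, Nat.add_sub_cancel]
  exact h

/-- The order of `SL`, split along the orthogonal group. -/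
theorem prod_sl_split (q : ℕ) : ∀ m : ℕ, ∏ i ∈ Finset.Ico 1 (2 * m + 1), (q ^ (i + 1) - 1) =
    (∏ i ∈ Finset.range m, (q ^ (2 * (i + 1)) - 1)) * ∏ i ∈ Finset.range m, (q ^ (2 * (i + 1) + 1) - 1)
  | 0 => by simp
  | m + 1 => by
    rw [show 2 * (m + 1) + 1 = 2 * m + 1 + 1 + 1 by omega, Finset.prod_Ico_succ_top (by omega),
      Finset.prod_Ico_succ_top (by omega), prod_sl_split q m, Finset.prod_range_succ, Finset.prod_range_succ,
      show 2 * m + 1 + 1 = 2 * (m + 1) by omega]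
    ring

/-- A prime dividing the index of the orthogonal group in `SL_n`. -/
theorem index_cases (h2 : (2 : F) ≠ 0) (hn : 3 ≤ n) {Q : QuadraticForm F (Fin n → F)}
    (hQ : Q.polarBilin.Nondegenerate) {r : ℕ} [hr : Fact r.Prime] (hr2 : r ≠ 2)
    (hrq : ¬ r ∣ Fintype.card F) (hrq1 : ¬ r ∣ Fintype.card F - 1)
    (hΩ : r ∣ (Geo.quadSimilarityGroup ⇑Q).relIndex (Geo.specialLinear (Fin n) F)) :
    (∃ j, Odd j ∧ j ≤ n ∧ r ∣ Fintype.card F ^ j - 1) ∨
      (r ∣ Fintype.card F ^ n - 1 ∧ ¬ r ∣ Nat.card {v : Fin n → F // Q v = 0} - 1) := by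
  classical
  set q := Fintype.card F with hq
  have hqN : Nat.card F = q := Nat.card_eq_fintype_card
  have hq2 : 2 ≤ q := Fintype.one_lt_card
  set S := Geo.specialLinear (Fin n) F with hS
  set O := isometryGroup F ⇑Q with hO
  have hOmem : ∀ {g : GL (Fin n) F}, g ∈ O → ∀ v, Q ((g : Matrix (Fin n) (Fin n) F) *ᵥ v) = Q v :=
    fun hg => (Forms.mem_isometryGroup _ _).1 hg
  have hSL : Nat.card S = q ^ (n * (n - 1) / 2) * ∏ i ∈ Finset.Ico 1 n, (q ^ (i + 1) - 1) := by
    rw [← hqN, ← GLOrder.card_SL]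
    refine (Nat.card_congr (Equiv.ofBijective
      (fun g : Matrix.SpecialLinearGroup (Fin n) F =>
        (⟨Matrix.SpecialLinearGroup.toGL g, mem_specialLinear_iff.mpr g.2⟩ : S))
      ⟨fun a b h => Matrix.SpecialLinearGroup.toGL_injective (congrArg Subtype.val h), fun g => ?_⟩)).symm
    exact ⟨⟨(g : GL (Fin n) F), mem_specialLinear_iff.mp g.2⟩, Subtype.ext (Units.ext rfl)⟩
  -- isometries have determinant `±1`
  have hdvd : Nat.card O ∣ 2 * Nat.card (O ⊓ S : Subgroup (GL (Fin n) F)) := by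
    let φ : O →* Fˣ := GeneralLinearGroup.det.comp O.subtype
    have hker : Nat.card φ.ker = Nat.card (O ⊓ S : Subgroup (GL (Fin n) F)) := by
      refine Nat.card_congr
        { toFun := fun g => ⟨g.1.1, g.1.2, g.2⟩
          invFun := fun g => ⟨⟨g.1, g.2.1⟩, g.2.2⟩
          left_inv := fun _ => rfl
          right_inv := fun _ => rfl }
    have hsq : ∀ u ∈ φ.range, u = 1 ∨ u = -1 := by
      rintro _ ⟨g, rfl⟩
      have h := congrArg Matrix.det (gram_of_sim (c := 1) fun v => (hOmem g.2 v).trans (one_mul _).symm)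
      rw [Matrix.det_mul, Matrix.det_mul, Matrix.det_transpose, one_smul, mul_right_comm] at h
      have h1 : (g.1 : Matrix (Fin n) (Fin n) F).det * (g.1 : Matrix (Fin n) (Fin n) F).det = 1 :=
        mul_right_cancel₀ (QuadClass.disc_ne_zero Q hQ) (h.trans (one_mul _).symm)
      exact (mul_self_eq_one_iff.1 h1).imp (fun e => Units.ext e) (fun e => Units.ext e)
    have hle : Nat.card φ.range ≤ 2 := by
      let f : φ.range → ({1, -1} : Finset Fˣ) := fun u => ⟨u.1, by simpa using hsq u.1 u.2⟩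
      have hf : Function.Injective f := fun a b e => Subtype.ext (congrArg (fun x : ({1, -1} : Finset Fˣ) => x.1) e)
      refine (Nat.card_le_card_of_injective f hf).trans ?_
      rw [Nat.card_eq_fintype_card, Fintype.card_coe]
      exact Finset.card_le_two
    rw [← φ.ker.card_mul_index, Subgroup.index_ker, hker, mul_comm]
    refine Nat.mul_dvd_mul ?_ dvd_rfl
    have hpos : 0 < Nat.card φ.range := Nat.card_pos
    rcases (show Nat.card φ.range = 1 ∨ Nat.card φ.range = 2 by omega) with h | h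
    · exact h.symm ▸ one_dvd 2
    · exact h.symm ▸ dvd_rfl
  have hmain : r * Nat.card O ∣ 2 * Nat.card S := by
    have h' := ((Geo.quadSimilarityGroup ⇑Q).subgroupOf S).index_mul_card
    rw [← h', ← mul_assoc, mul_comm 2, mul_assoc]
    refine Nat.mul_dvd_mul hΩ (hdvd.trans (Nat.mul_dvd_mul_left 2 ?_))
    have hle : (O ⊓ S).subgroupOf S ≤ (Geo.quadSimilarityGroup ⇑Q).subgroupOf S := fun g hg =>
      ⟨1, fun v => (hOmem (Subgroup.mem_subgroupOf.1 hg).1 v).trans (by rw [Units.val_one, one_mul])⟩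
    rw [← Nat.card_congr (Subgroup.subgroupOfEquivOfLe (inf_le_right : O ⊓ S ≤ S)).toEquiv]
    exact Subgroup.card_dvd_of_le hle
  rw [hSL] at hmain
  -- the odd powers
  have hfin : ∀ (a X Y : ℕ), 0 < X → Nat.card O = 2 * q ^ a * X → a ≤ n * (n - 1) / 2 →
      ∏ i ∈ Finset.Ico 1 n, (q ^ (i + 1) - 1) = X * Y → r ∣ Y := by
    intro a X Y hX hcard hab hprod
    have hrw : 2 * (q ^ (n * (n - 1) / 2) * (X * Y)) = (2 * q ^ a * X) * (q ^ (n * (n - 1) / 2 - a) * Y) := by
      rw [← Nat.add_sub_of_le hab, pow_add, Nat.add_sub_of_le hab]; ring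
    rw [hcard, hprod, hrw, mul_comm r] at hmain
    have h := Nat.dvd_of_mul_dvd_mul_left (by positivity) hmain
    exact ((Nat.Prime.dvd_mul hr.out).1 h).resolve_left fun h' => hrq (hr.out.dvd_of_dvd_pow h')
  have hodd : ∀ {m : ℕ}, 2 * m + 1 ≤ n → r ∣ ∏ i ∈ Finset.range m, (q ^ (2 * (i + 1) + 1) - 1) →
      ∃ j, Odd j ∧ j ≤ n ∧ r ∣ q ^ j - 1 := fun hm h => by
    obtain ⟨i, hi, hd⟩ := (Prime.dvd_finsetProd_iff hr.out.prime _).1 h
    rw [Finset.mem_range] at hi
    exact ⟨2 * (i + 1) + 1, ⟨i + 1, rfl⟩, by omega, hd⟩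
  have hppos : ∀ m, 0 < ∏ i ∈ Finset.range m, (q ^ (2 * (i + 1)) - 1) := fun m =>
    Finset.prod_pos fun i _ => by
      have : 1 < q ^ (2 * (i + 1)) := Nat.one_lt_pow (by omega) hq2
      omega
  rcases Nat.even_or_odd' n with ⟨m, rfl | rfl⟩
  · obtain ⟨l, rfl⟩ : ∃ l, m = l + 1 := ⟨m - 1, by omega⟩
    have hexp : (l + 1) * l ≤ 2 * (l + 1) * (2 * (l + 1) - 1) / 2 := by
      rw [mul_assoc, Nat.mul_div_cancel_left _ two_pos]
      exact Nat.mul_le_mul_left _ (by omega)
    have hprod : ∏ i ∈ Finset.Ico 1 (2 * (l + 1)), (q ^ (i + 1) - 1) =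
        (∏ i ∈ Finset.range l, (q ^ (2 * (i + 1)) - 1)) * (∏ i ∈ Finset.range l, (q ^ (2 * (i + 1) + 1) - 1)) *
          ((q ^ (l + 1) - 1) * (q ^ (l + 1) + 1)) := by
      rw [show 2 * (l + 1) = 2 * l + 1 + 1 by omega, Finset.prod_Ico_succ_top (by omega), prod_sl_split]
      congr 1
      rw [show 2 * l + 1 + 1 = 2 * (l + 1) by omega, mul_comm (q ^ (l + 1) - 1), ← Nat.sq_sub_sq, ← pow_mul,
        one_pow, mul_comm 2]
    obtain ⟨b, -, hb⟩ := Forms.exists_no_root (F := F)
    have hpos : 1 < q ^ (l + 1) := Nat.one_lt_pow (by omega) hq2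
    have hqr : (q : ZMod r) ≠ 1 := fun h => hrq1 (by
      rw [← ZMod.natCast_eq_zero_iff, Nat.cast_sub (by omega), h, Nat.cast_one, sub_self])
    have hq0 : (q : ZMod r) ≠ 0 := fun h => hrq ((ZMod.natCast_eq_zero_iff _ _).1 h)
    have hneg : (2 : ZMod r) ≠ 0 := fun h => by
      have h' : ((2 : ℕ) : ZMod r) = 0 := by exact_mod_cast h
      rw [ZMod.natCast_eq_zero_iff] at h'
      exact hr2 ((Nat.prime_dvd_prime_iff_eq hr.out Nat.prime_two).1 h')
    have hdim : finrank F (Fin (2 * (l + 1)) → F) = 2 * (l + 1) := Module.finrank_fin_fun F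
    rcases Forms.classify_even Q hQ hdim hb with ⟨e, he⟩ | ⟨-, e, he⟩
    · have hcO : Nat.card O = 2 * q ^ ((l + 1) * l) * ((q ^ (l + 1) - 1) * ∏ i ∈ Finset.range l, (q ^ (2 * (i + 1)) - 1)) := by
        rw [hO, Nat.card_congr (Forms.isometryGroupEquiv _).toEquiv,
          ← Nat.card_congr (Forms.preservingFunCongr (⇑(Forms.qfPlus (l + 1) F)) (⇑Q) e 1 one_ne_zero
            (fun v => (he v).trans (one_mul _).symm)).toEquiv, Forms.card_preservingFun_qfPlus, hqN]
        ring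
      rcases (Nat.Prime.dvd_mul hr.out).1 (hfin _ _ ((q ^ (l + 1) + 1) * ∏ i ∈ Finset.range l, (q ^ (2 * (i + 1) + 1) - 1))
          (Nat.mul_pos (by omega) (hppos l)) hcO hexp (by rw [hprod]; ring)) with h | h
      · refine .inr ⟨?_, fun hz => ?_⟩
        · rw [pow_mul', show (q ^ (l + 1)) ^ 2 - 1 = (q ^ (l + 1) + 1) * (q ^ (l + 1) - 1) by
            rw [← Nat.sq_sub_sq, one_pow]]
          exact h.mul_right _
        · rw [Forms.card_zeros_congr (⇑(Forms.qfPlus (l + 1) F)) (⇑Q) e 1 one_ne_zero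
            (fun v => (he v).trans (one_mul _).symm)] at hz
          have hQ1 : (q : ZMod r) ^ (l + 1) = -1 := by
            rw [← ZMod.natCast_eq_zero_iff] at h
            push_cast at h
            exact eq_neg_of_add_eq_zero_left h
          have hZ := Forms.card_zeros_qfPlus (F := F) l
          rw [hqN] at hZ
          have h1 : 1 ≤ Nat.card {v // Forms.qfPlus (l + 1) F v = 0} :=
            Finite.card_pos_iff.2 ⟨⟨0, QuadraticMap.map_zero _⟩⟩
          rw [← ZMod.natCast_eq_zero_iff, Nat.cast_sub h1, ← Int.cast_natCast, hZ] at hz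
          push_cast at hz
          rw [show 2 * l + 1 = l + 1 + l by omega, pow_add, hQ1] at hz
          have hP : (q : ZMod r) ^ l = -1 := mul_left_cancel₀ hneg (by linear_combination -hz)
          rw [pow_succ, hP] at hQ1
          exact hqr (by linear_combination -hQ1)
      · exact .inl (hodd (by omega) h)
    · change ((Fin l ⊕ Fin l) ⊕ Fin 2 → F) ≃ₗ[F] _ at e
      change ∀ v, Q (e v) = Forms.qfMinus l F 1 b v at he
      have hcO : Nat.card O = 2 * q ^ ((l + 1) * l) * ((q ^ (l + 1) + 1) * ∏ i ∈ Finset.range l, (q ^ (2 * (i + 1)) - 1)) := by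
        rw [hO, Nat.card_congr (Forms.isometryGroupEquiv _).toEquiv,
          ← Nat.card_congr (Forms.preservingFunCongr (⇑(Forms.qfMinus l F 1 b)) (⇑Q) e 1 one_ne_zero
            (fun v => (he v).trans (one_mul _).symm)).toEquiv, Forms.card_preservingFun_qfMinus hb, hqN]
        ring
      rcases (Nat.Prime.dvd_mul hr.out).1 (hfin _ _ ((q ^ (l + 1) - 1) * ∏ i ∈ Finset.range l, (q ^ (2 * (i + 1) + 1) - 1))
          (Nat.mul_pos (by omega) (hppos l)) hcO hexp (by rw [hprod]; ring)) with h | h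
      · refine .inr ⟨?_, fun hz => ?_⟩
        · rw [pow_mul', show (q ^ (l + 1)) ^ 2 - 1 = (q ^ (l + 1) + 1) * (q ^ (l + 1) - 1) by
            rw [← Nat.sq_sub_sq, one_pow]]
          exact h.mul_left _
        · rw [Forms.card_zeros_congr (⇑(Forms.qfMinus l F 1 b)) (⇑Q) e 1 one_ne_zero
            (fun v => (he v).trans (one_mul _).symm)] at hz
          have hQ1 : (q : ZMod r) ^ (l + 1) = 1 := by
            rw [← ZMod.natCast_eq_zero_iff, Nat.cast_sub (by omega), sub_eq_zero] at h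
            exact_mod_cast h
          have hZ := Forms.card_zeros_qfMinus hb l
          rw [hqN] at hZ
          have h1 : 1 ≤ Nat.card {v // Forms.qfMinus l F 1 b v = 0} :=
            Finite.card_pos_iff.2 ⟨⟨0, QuadraticMap.map_zero _⟩⟩
          rw [← ZMod.natCast_eq_zero_iff, Nat.cast_sub h1, ← Int.cast_natCast, hZ] at hz
          push_cast at hz
          rw [show 2 * l + 1 = l + 1 + l by omega, pow_add, hQ1] at hz
          have hP : (q : ZMod r) ^ l = 1 := mul_left_cancel₀ hneg (by linear_combination hz)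
          rw [pow_succ, hP, one_mul] at hQ1
          exact hqr hQ1
      · exact .inl (hodd (by omega) h)
  · obtain ⟨-, c, e, hc, he⟩ := Forms.classify_odd Q hQ (Module.finrank_fin_fun F (n := 2 * m + 1))
    have hcO : Nat.card O = 2 * q ^ (m ^ 2) * ∏ i ∈ Finset.range m, (q ^ (2 * (i + 1)) - 1) := by
      rw [hO, Nat.card_congr (Forms.isometryGroupEquiv _).toEquiv,
        ← Nat.card_congr (Forms.preservingFunCongr (⇑(Forms.qfOdd m F)) (⇑Q) e c hc he).toEquiv,
        Forms.card_preservingFun_qfOdd h2, hqN]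
    refine .inl (hodd le_rfl (hfin _ _ _ (hppos m) hcO ?_ (prod_sl_split q m)))
    rw [show (2 * m + 1) * (2 * m + 1 - 1) = 2 * ((2 * m + 1) * m) by rw [Nat.add_sub_cancel]; ring,
      Nat.mul_div_cancel_left _ two_pos, sq]
    exact Nat.mul_le_mul_right _ (by omega)

end Cfsg.Agent.Orth
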