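import Cfsg.Agent.Lib.Orth.NondegTools
import Cfsg.Agent.Lib.Orth.Geo
import Cfsg.Agent.Lib.Aschbacher.TensorPlus
import Cfsg.Agent.Lib.Aschbacher.FormWreath

/-!
# A tensor power of a small symplectic space in characteristic two carries a spin structure

The normaliser of the span of the one-site operators lies strictly between the stabiliser of the tensor
decomposition and `Ω`.
-/

set_option autoImplicit false
set_option linter.unusedSectionVars false

namespace Cfsg.Agent.Orth

open Cfsg Matrix Module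
open QuadraticMap (polar)
open Cfsg.Agent.Aschbacher (pureMat pureMat_apply pureMat_one pureMat_mul pureUnit)
open Cfsg.Agent.Aschbacher.TensorPlus (pureMat_mulVec)
open scoped MatrixGroups commutatorElement

variable {F : Type*} [Field F] {t k : ℕ}

/-- The pure tensor of a family of vectors. -/
def pv (w : Fin t → Fin k → F) : (Fin t → Fin k) → F := fun a => ∏ l, w l (a l)

theorem pv_single (a : (Fin t → Fin k)) : pv (fun l => Pi.single (a l) (1 : F)) = Pi.single a 1 := by
  funext b
  unfold pv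
  by_cases h : b = a
  · subst h; simp
  · rw [Pi.single_eq_of_ne h]
    obtain ⟨l, hl⟩ := Function.ne_iff.1 h
    exact Finset.prod_eq_zero (Finset.mem_univ l) (Pi.single_eq_of_ne hl _)

theorem pureMat_pv (M : Fin t → Matrix (Fin k) (Fin k) F) (w : Fin t → Fin k → F) :
    pureMat M *ᵥ pv w = pv fun l => M l *ᵥ w l := pureMat_mulVec M w

theorem matrix_ext_pv {A B : Matrix (Fin t → Fin k) (Fin t → Fin k) F} (h : ∀ w, A *ᵥ pv w = B *ᵥ pv w) : A = B :=
  Matrix.ext_of_mulVec_single fun a => by rw [← pv_single]; exact h _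

theorem pv_dot (u v : Fin t → Fin k → F) : pv u ⬝ᵥ pv v = ∏ l, u l ⬝ᵥ v l := by
  simp only [dotProduct, pv, ← Finset.prod_mul_distrib]
  exact (Fintype.prod_sum fun l a => u l a * v l a).symm

theorem pv_form (G : Matrix (Fin k) (Fin k) F) (u v : Fin t → Fin k → F) :
    pv u ⬝ᵥ (pureMat (fun _ : Fin t => G) *ᵥ pv v) = ∏ l, u l ⬝ᵥ (G *ᵥ v l) := by
  rw [pureMat_pv, pv_dot]

theorem pureMat_update_add (M : Fin t → Matrix (Fin k) (Fin k) F) (i : Fin t) (X Y : Matrix (Fin k) (Fin k) F) :
    pureMat (Function.update M i (X + Y)) = pureMat (Function.update M i X) + pureMat (Function.update M i Y) := by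
  ext x y
  simp only [Matrix.add_apply, pureMat_apply]
  rw [Finset.prod_eq_mul_prod_sdiff_singleton_of_mem (Finset.mem_univ i),
    Finset.prod_eq_mul_prod_sdiff_singleton_of_mem (Finset.mem_univ i),
    Finset.prod_eq_mul_prod_sdiff_singleton_of_mem (Finset.mem_univ i)]
  simp only [Function.update_self, Matrix.add_apply, add_mul]
  have hc : ∀ Z : Matrix (Fin k) (Fin k) F, ∏ l ∈ Finset.univ \ {i}, Function.update M i Z l (x l) (y l) =
      ∏ l ∈ Finset.univ \ {i}, M l (x l) (y l) := fun Z => Finset.prod_congr rfl fun l hl => by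
    rw [Function.update_of_ne (by simpa using hl)]
  rw [hc, hc, hc]

theorem pureMat_update_smul (M : Fin t → Matrix (Fin k) (Fin k) F) (i : Fin t) (c : F)
    (X : Matrix (Fin k) (Fin k) F) :
    pureMat (Function.update M i (c • X)) = c • pureMat (Function.update M i X) := by
  ext x y
  simp only [Matrix.smul_apply, pureMat_apply, smul_eq_mul]
  rw [Finset.prod_eq_mul_prod_sdiff_singleton_of_mem (Finset.mem_univ i),
    Finset.prod_eq_mul_prod_sdiff_singleton_of_mem (Finset.mem_univ i)]
  simp only [Function.update_self, Matrix.smul_apply, smul_eq_mul, mul_assoc]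
  exact congrArg _ (congrArg _ (Finset.prod_congr rfl fun l hl => by
    rw [Function.update_of_ne (by simpa using hl), Function.update_of_ne (by simpa using hl)]))

theorem pureMat_eq_zero_of_site {M : Fin t → Matrix (Fin k) (Fin k) F} {i : Fin t} (h : M i = 0) :
    pureMat M = 0 := by
  ext x y
  rw [pureMat_apply, Matrix.zero_apply]
  exact Finset.prod_eq_zero (Finset.mem_univ i) (by rw [h]; rfl)

theorem pureMat_slot_apply (i : Fin t) (y : Matrix (Fin k) (Fin k) F) {x x' : (Fin t → Fin k)}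
    (h : ∃ a b, a ≠ b ∧ x a ≠ x' a ∧ x b ≠ x' b) : pureMat (Pi.mulSingle i y) x x' = 0 := by
  obtain ⟨a, b, hab, ha, hb⟩ := h
  rw [pureMat_apply]
  by_cases hai : a = i
  · refine Finset.prod_eq_zero (Finset.mem_univ b) ?_
    rw [Pi.mulSingle_eq_of_ne (fun h => hab (hai.trans h.symm))]
    exact Matrix.one_apply_ne hb
  · refine Finset.prod_eq_zero (Finset.mem_univ a) ?_
    rw [Pi.mulSingle_eq_of_ne hai]
    exact Matrix.one_apply_ne ha

/-- The span of the one-site operators from `S`. -/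
def siteSpan (t : ℕ) (S : Set (Matrix (Fin k) (Fin k) F)) : Submodule F (Matrix (Fin t → Fin k) (Fin t → Fin k) F) :=
  Submodule.span F {M | ∃ i, ∃ y ∈ S, M = pureMat (Pi.mulSingle i y)}

theorem slot_mem_siteSpan {S : Set (Matrix (Fin k) (Fin k) F)} (i : Fin t) {y : Matrix (Fin k) (Fin k) F}
    (hy : y ∈ S) : pureMat (Pi.mulSingle i y) ∈ siteSpan t S :=
  Submodule.subset_span ⟨i, y, hy, rfl⟩

theorem siteSpan_apply_eq_zero {S : Set (Matrix (Fin k) (Fin k) F)} {M : Matrix (Fin t → Fin k) (Fin t → Fin k) F} (hM : M ∈ siteSpan t S)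
    {x x' : (Fin t → Fin k)} (h : ∃ a b, a ≠ b ∧ x a ≠ x' a ∧ x b ≠ x' b) : M x x' = 0 := by
  induction hM using Submodule.span_induction with
  | mem M hM => obtain ⟨i, y, -, rfl⟩ := hM; exact pureMat_slot_apply i y h
  | zero => rfl
  | add A B _ _ hA hB => rw [Matrix.add_apply, hA, hB, add_zero]
  | smul c A _ hA => rw [Matrix.smul_apply, hA, smul_zero]

/-- Monomial action on the pure tensors. -/
theorem wreathStandard_mono {g : GL (Fin t → Fin k) F} (hg : g ∈ Geo.tensorWreathStandard k t F) :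
    ∃ (σ : Equiv.Perm (Fin t)) (A : Fin t → GL (Fin k) F), ∀ w,
      (g : Matrix (Fin t → Fin k) (Fin t → Fin k) F) *ᵥ pv w = pv fun l => (A l : Matrix (Fin k) (Fin k) F) *ᵥ w (σ l) := by
  induction hg using Subgroup.closure_induction with
  | mem g hg =>
    rcases hg with ⟨gs, hgs⟩ | ⟨σ, hσ⟩
    · refine ⟨1, gs, fun w => ?_⟩
      have : (g : Matrix (Fin t → Fin k) (Fin t → Fin k) F) = pureMat fun l => (gs l : Matrix (Fin k) (Fin k) F) :=
        Matrix.ext fun x y => (hgs x y).trans (pureMat_apply _ x y).symm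
      rw [this, pureMat_pv]
      rfl
    · refine ⟨σ.symm, fun _ => 1, fun w => funext fun a => ?_⟩
      show ∑ b, (g : Matrix (Fin t → Fin k) (Fin t → Fin k) F) a b * pv w b = _
      simp only [hσ, ite_mul, one_mul, zero_mul, Finset.sum_ite_eq', Finset.mem_univ, if_true, pv,
        Units.val_one, Matrix.one_mulVec, Function.comp_apply]
      exact Fintype.prod_equiv σ _ _ fun i => by simp
  | one => exact ⟨1, fun _ => 1, fun w => by simp⟩
  | mul x y _ _ hx hy =>
    obtain ⟨σ, A, hA⟩ := hx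
    obtain ⟨τ, B, hB⟩ := hy
    refine ⟨σ.trans τ, fun l => A l * B (σ l), fun w => ?_⟩
    rw [Units.val_mul, ← Matrix.mulVec_mulVec, hB, hA]
    simp [Matrix.mulVec_mulVec]
  | inv x _ hx =>
    obtain ⟨σ, A, hA⟩ := hx
    refine ⟨σ.symm, fun l => (A (σ.symm l))⁻¹, fun w => ?_⟩
    have h1 := hA fun l => (((A (σ.symm l))⁻¹ : GL (Fin k) F) : Matrix (Fin k) (Fin k) F) *ᵥ w (σ.symm l)
    simp only [Equiv.symm_apply_apply, Matrix.mulVec_mulVec, Units.mul_inv, Matrix.one_mulVec] at h1
    conv_lhs => rw [← h1]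
    rw [Matrix.mulVec_mulVec, Units.inv_mul, Matrix.one_mulVec]

variable {ι : Type} [Fintype ι] [DecidableEq ι]

/-- Matrices on the tensor space as matrices on `F^ι`. -/
noncomputable def viaEquiv (Ψ : ((Fin t → Fin k) → F) ≃ₗ[F] (ι → F)) : Matrix (Fin t → Fin k) (Fin t → Fin k) F ≃ₐ[F] Matrix ι ι F :=
  (Matrix.toLinAlgEquiv'.trans (Ψ.conjAlgEquiv F)).trans Matrix.toLinAlgEquiv'.symm

theorem viaEquiv_mulVec (Ψ : ((Fin t → Fin k) → F) ≃ₗ[F] (ι → F)) (M : Matrix (Fin t → Fin k) (Fin t → Fin k) F) (v : (Fin t → Fin k) → F) :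
    viaEquiv Ψ M *ᵥ Ψ v = Ψ (M *ᵥ v) := by
  rw [← Matrix.toLinAlgEquiv'_apply (viaEquiv Ψ M)]
  simp [viaEquiv]

theorem matrix_ext_via (Ψ : ((Fin t → Fin k) → F) ≃ₗ[F] (ι → F)) {A B : Matrix ι ι F}
    (h : ∀ w, A *ᵥ Ψ (pv w) = B *ᵥ Ψ (pv w)) : A = B := by
  apply (viaEquiv Ψ).symm.injective
  refine matrix_ext_pv fun w => Ψ.injective ?_
  rw [← viaEquiv_mulVec, ← viaEquiv_mulVec, AlgEquiv.apply_symm_apply, AlgEquiv.apply_symm_apply]
  exact h w

variable [Fintype F] {Q : QuadraticForm F (ι → F)} (Ψ : ((Fin t → Fin k) → F) ≃ₗ[F] (ι → F))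
  (G : Matrix (Fin k) (Fin k) F) {c : F}
  (hpol : ∀ u v, polar ⇑Q (Ψ u) (Ψ v) = c * (u ⬝ᵥ (pureMat (fun _ : Fin t => G) *ᵥ v)))
  (hsing : ∀ w, Q (Ψ (pv w)) = 0)

include hpol hsing

theorem Q_via_eq {M : Matrix (Fin t → Fin k) (Fin t → Fin k) F}
    (hJ : Mᵀ * pureMat (fun _ : Fin t => G) * M = pureMat (fun _ : Fin t => G))
    (hb : ∀ a : (Fin t → Fin k), Q (Ψ (M *ᵥ Pi.single a 1)) = 0) (x : ι → F) : Q (viaEquiv Ψ M *ᵥ x) = Q x := by
  classical
  obtain ⟨v, rfl⟩ := Ψ.surjective x
  have hp : ∀ u u', polar ⇑Q (Ψ (M *ᵥ u)) (Ψ (M *ᵥ u')) = polar ⇑Q (Ψ u) (Ψ u') := by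
    intro u u'
    rw [hpol, hpol]
    conv_rhs => rw [← hJ]
    rw [← Matrix.mulVec_mulVec, ← Matrix.mulVec_mulVec, Matrix.dotProduct_mulVec u, Matrix.vecMul_transpose]
  rw [viaEquiv_mulVec, pi_eq_sum_univ' v]
  induction (Finset.univ : Finset (Fin t → Fin k)) using Finset.induction with
  | empty => simp
  | insert a s ha ih =>
    rw [Finset.sum_insert ha, Matrix.mulVec_add, Ψ.map_add, Ψ.map_add, Q_add, Q_add, hp, ih, Matrix.mulVec_smul,
      Ψ.map_smul, Ψ.map_smul, Q_smul, Q_smul, hb, ← pv_single, hsing]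

/-- A commutator of two isometries of the form `1 + pureMat M`. -/
theorem exists_omega_site (h2 : (2 : F) = 0) {M : Fin t → Matrix (Fin k) (Fin k) F}
    (hadj : ∀ l, (M l)ᵀ * G = G * M l) {j r s : Fin t} (hr : r ≠ j) (hM2 : M r * M r = 0)
    (halt : ∀ p, (G * M s) p p = 0) {h : GL (Fin k) F}
    (hh : (h : Matrix (Fin k) (Fin k) F)ᵀ * G * (h : Matrix (Fin k) (Fin k) F) = G) :
    ∃ g : IsoGrp Q, g ∈ Omega F ⇑Q ∧ ((g : GL ι F) : Matrix ι ι F) = viaEquiv Ψ (1 +
      pureMat (Function.update M j ((h : Matrix (Fin k) (Fin k) F) * M j *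
        ((h⁻¹ : GL (Fin k) F) : Matrix (Fin k) (Fin k) F) + M j))) := by
  classical
  have hself : ∀ {X : Matrix (Fin t → Fin k) (Fin t → Fin k) F}, X + X = 0 := fun {X} => by rw [← two_smul F X, h2, zero_smul]
  set J := pureMat (fun _ : Fin t => G) with hJ
  have hN2 : pureMat M * pureMat M = 0 := by
    rw [pureMat_mul]; exact pureMat_eq_zero_of_site (i := r) hM2
  let gU : GL (Fin t → Fin k) F := ⟨1 + pureMat M, 1 + pureMat M,
    by rw [add_mul, one_mul, mul_add, mul_one, hN2, add_zero, add_assoc, hself, add_zero],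
    by rw [add_mul, one_mul, mul_add, mul_one, hN2, add_zero, add_assoc, hself, add_zero]⟩
  let hU : GL (Fin t → Fin k) F := pureUnit (Pi.mulSingle j h)
  have hg : ∀ x, Q (viaEquiv Ψ (gU : Matrix (Fin t → Fin k) (Fin t → Fin k) F) *ᵥ x) = Q x := by
    refine Q_via_eq Ψ G hpol hsing ?_ fun a => ?_
    · show (1 + pureMat M)ᵀ * J * (1 + pureMat M) = J
      have e1 : (pureMat M)ᵀ * J = J * pureMat M := by
        rw [Aschbacher.pureMat_transpose, hJ, pureMat_mul, pureMat_mul]
        exact congrArg _ (funext hadj)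
      rw [Matrix.transpose_add, Matrix.transpose_one, add_mul, one_mul, e1, add_mul, mul_add, mul_add, mul_one,
        mul_one, mul_assoc, hN2, mul_zero, add_zero, add_assoc, hself, add_zero]
    · show Q (Ψ ((1 + pureMat M) *ᵥ Pi.single a 1)) = 0
      rw [Matrix.add_mulVec, Matrix.one_mulVec, ← pv_single, pureMat_pv, map_add, Q_add, hsing, hsing, hpol,
        pureMat_pv, pv_dot, Finset.prod_eq_zero (Finset.mem_univ s)]
      · simp
      · rw [Matrix.mulVec_mulVec, Matrix.mulVec_single_one, single_dotProduct, one_mul]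
        exact halt _
  have hh' : ∀ x, Q (viaEquiv Ψ (hU : Matrix (Fin t → Fin k) (Fin t → Fin k) F) *ᵥ x) = Q x := by
    refine Q_via_eq Ψ G hpol hsing ?_ fun a => ?_
    · show (pureMat fun l => ((Pi.mulSingle j h : Fin t → GL (Fin k) F) l : Matrix (Fin k) (Fin k) F))ᵀ * J * _ = J
      rw [Aschbacher.pureMat_transpose, hJ, pureMat_mul]
      show _ * pureMat _ = _
      rw [pureMat_mul]
      refine congrArg _ (funext fun l => ?_)
      by_cases hl : l = j
      · subst hl; simpa [Pi.mul_apply] using hh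
      · simp [Pi.mul_apply, hl]
    · show Q (Ψ (pureMat _ *ᵥ _)) = 0
      rw [← pv_single, pureMat_pv, hsing]
  let Φ := Units.map (viaEquiv Ψ).toAlgHom.toRingHom.toMonoidHom
  let gI : IsoGrp Q := ⟨Φ gU, fun x _ => hg x⟩
  let hI : IsoGrp Q := ⟨Φ hU, fun x _ => hh' x⟩
  refine ⟨⁅hI, gI⁆, Subgroup.commutator_mem_commutator (Subgroup.mem_top _) (Subgroup.mem_top _), ?_⟩
  have hval : ((⁅hI, gI⁆ : IsoGrp Q) : GL ι F) = Φ ⁅hU, gU⁆ := by
    rw [map_commutatorElement]
    rfl
  rw [hval]
  show viaEquiv Ψ ((⁅hU, gU⁆ : GL (Fin t → Fin k) F) : Matrix (Fin t → Fin k) (Fin t → Fin k) F) = _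
  congr 1
  rw [commutatorElement_def]
  show pureMat _ * (1 + pureMat M) * pureMat _ * (1 + pureMat M) = _
  set e' := (h : Matrix (Fin k) (Fin k) F) * M j * ((h⁻¹ : GL (Fin k) F) : Matrix (Fin k) (Fin k) F)
  have hconj : pureMat (fun l => ((Pi.mulSingle j h : Fin t → GL (Fin k) F) l : Matrix (Fin k) (Fin k) F)) *
      (1 + pureMat M) * pureMat (fun l => (((Pi.mulSingle j h : Fin t → GL (Fin k) F) l)⁻¹ :
        GL (Fin k) F).val) = 1 + pureMat (Function.update M j e') := by
    rw [mul_add, mul_one, add_mul, pureMat_mul, pureMat_mul, pureMat_mul]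
    congr 1
    · rw [← pureMat_one (F := F)]
      refine congrArg _ (funext fun l => ?_)
      simp [Pi.mul_apply]
    · refine congrArg _ (funext fun l => ?_)
      by_cases hl : l = j
      · subst hl; simp [Pi.mul_apply, e']
      · simp [Pi.mul_apply, hl]
  rw [hconj]
  have hz : pureMat (Function.update M j e') * pureMat M = 0 := by
    rw [pureMat_mul]
    exact pureMat_eq_zero_of_site (i := r) (by rw [Pi.mul_apply, Function.update_of_ne hr, hM2])
  rw [add_mul, one_mul, mul_add, mul_one, hz, add_zero]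
  conv_lhs => rw [add_assoc, ← Function.update_eq_self j M, Function.update_idem, add_comm (pureMat _),
    ← pureMat_update_add]

set_option maxHeartbeats 1600000 in
/-- The spin structure gives a subgroup strictly between. -/
theorem exists_between_spin (h2 : (2 : F) = 0) (hc : c ≠ 0) (H : Subgroup (GL ι F))
    (hH : ∀ g ∈ H, ∃ (σ : Equiv.Perm (Fin t)) (A : Fin t → GL (Fin k) F), ∀ w,
      (g : Matrix ι ι F) *ᵥ Ψ (pv w) = Ψ (pv fun l => (A l : Matrix (Fin k) (Fin k) F) *ᵥ w (σ l)))
    {p₀ q₀ : Fin k} (hG0 : G p₀ q₀ ≠ 0)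
    (S : Set (Matrix (Fin k) (Fin k) F))
    (hsim : ∀ (A : GL (Fin k) F) (lam : F), lam ≠ 0 →
      (A : Matrix (Fin k) (Fin k) F)ᵀ * G * (A : Matrix (Fin k) (Fin k) F) = lam • G →
      ∀ y ∈ S, (A : Matrix (Fin k) (Fin k) F) * y * ((A⁻¹ : GL (Fin k) F) : Matrix (Fin k) (Fin k) F) ∈ S)
    {a e : Matrix (Fin k) (Fin k) F} {h : GL (Fin k) F} {e' : Matrix (Fin k) (Fin k) F}
    (he' : e' = (h : Matrix (Fin k) (Fin k) F) * e * ((h⁻¹ : GL (Fin k) F) : Matrix (Fin k) (Fin k) F) + e)
    (hh : (h : Matrix (Fin k) (Fin k) F)ᵀ * G * (h : Matrix (Fin k) (Fin k) F) = G)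
    (haS : a ∈ S) (he'S : e' ∈ S) (ha2 : a * a = 0) (he'2 : ∃ r : F, e' * e' = r • 1)
    (haanti : ∀ y ∈ S, ∃ r : F, a * y + y * a = r • 1) (heanti : ∀ y ∈ S, ∃ r : F, e' * y + y * e' = r • 1)
    (haadj : aᵀ * G = G * a) (headj : eᵀ * G = G * e)
    {i j : Fin t} (hij : i ≠ j) (halt : ∃ s, ∀ p, (G * (Function.update (Pi.mulSingle i a : Fin t → Matrix (Fin k) (Fin k) F) j e) s) p p = 0)
    {s p : Fin k} (hsp : s ≠ p) {μ : F} (hμ : μ ≠ 0) (has : a *ᵥ Pi.single s 1 = Pi.single p 1)
    (hes : e' *ᵥ Pi.single s 1 = μ • Pi.single p 1)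
    {M : Fin t → Matrix (Fin k) (Fin k) F} (hMadj : ∀ l, (M l)ᵀ * G = G * M l) {i' j' r' : Fin t}
    (hMj : M j' = e) (hij' : i' ≠ j') (hr' : r' ≠ j') (hM2 : M r' * M r' = 0)
    (hMalt : ∃ s, ∀ p, (G * M s) p p = 0) {y₀ : Matrix (Fin k) (Fin k) F} (hy₀ : y₀ ∈ S)
    (hMzero : pureMat (Function.update (Function.update M j' e' * Function.update M j' e') i'
      (M i' * y₀ * M i')) = 0)
    (hMout : ∃ x x' : (Fin t → Fin k), (∃ u v, u ≠ v ∧ x u ≠ x' u ∧ x v ≠ x' v) ∧
      pureMat (Function.update (Function.update M j' e') i' (M i' * y₀ + y₀ * M i')) x x' ≠ 0) :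
    ∃ K : Subgroup (GL ι F), H ⊓ Geo.omegaGL ⇑Q < K ∧ K < Geo.omegaGL ⇑Q := by
  classical
  have hself : ∀ {X : Matrix (Fin t → Fin k) (Fin t → Fin k) F}, X + X = 0 := fun {X} => by rw [← two_smul F X, h2, zero_smul]
  have hselfk : ∀ {X : Matrix (Fin k) (Fin k) F}, X + X = 0 := fun {X} => by rw [← two_smul F X, h2, zero_smul]
  let L : Submodule F (Matrix ι ι F) := (siteSpan t S).map (viaEquiv Ψ).toLinearMap
  let Nn : Subgroup (GL ι F) :=
    { carrier := {g | ∀ X ∈ L, PrimeDim.cj g X ∈ L ∧ PrimeDim.cj g⁻¹ X ∈ L}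
      one_mem' := fun X hX => by simpa [PrimeDim.cj_apply] using hX
      mul_mem' := fun {g g'} hg hg' X hX => ⟨by rw [← PrimeDim.cj_cj]; exact (hg _ (hg' X hX).1).1,
        by rw [_root_.mul_inv_rev, ← PrimeDim.cj_cj]; exact (hg' _ (hg X hX).2).2⟩
      inv_mem' := fun {g} hg X hX => ⟨(hg X hX).2, by rw [inv_inv]; exact (hg X hX).1⟩ }
  -- membership is tested on the generators
  have hgen : ∀ g : GL ι F, (∀ l y, y ∈ S → PrimeDim.cj g (viaEquiv Ψ (pureMat (Pi.mulSingle l y))) ∈ L) →
      ∀ X ∈ L, PrimeDim.cj g X ∈ L := by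
    intro g hg X hX
    obtain ⟨Y, hY, rfl⟩ := Submodule.mem_map.1 hX
    induction hY using Submodule.span_induction with
    | mem Y hY => obtain ⟨l, y, hy, rfl⟩ := hY; exact hg l y hy
    | zero => simp
    | add A B hA' hB' hA hB =>
      rw [map_add, map_add]
      exact L.add_mem (hA (Submodule.mem_map_of_mem hA')) (hB (Submodule.mem_map_of_mem hB'))
    | smul r A hA' hA =>
      rw [map_smul, map_smul]
      exact L.smul_mem _ (hA (Submodule.mem_map_of_mem hA'))
  have hslot : ∀ l y, y ∈ S → viaEquiv Ψ (pureMat (Pi.mulSingle l y)) ∈ L := fun l y hy =>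
    Submodule.mem_map_of_mem (slot_mem_siteSpan l hy)
  -- the tensor stabiliser normalises the span
  have hHN : ∀ g ∈ H ⊓ Geo.omegaGL ⇑Q, ∀ X ∈ L, PrimeDim.cj g X ∈ L := by
    rintro g ⟨hgH, hgΩ⟩
    refine hgen g fun l y hy => ?_
    obtain ⟨σ, A, hA⟩ := hH g hgH
    obtain ⟨g₁, -, rfl⟩ := mem_omegaGL_iff.1 hgΩ
    -- the factor at the new site is a similitude
    set l' := σ.symm l with hl'
    have hform : ∀ w w' : Fin t → Fin k → F,
        ∏ u, ((A u : Matrix (Fin k) (Fin k) F) *ᵥ w (σ u)) ⬝ᵥ (G *ᵥ ((A u : Matrix (Fin k) (Fin k) F) *ᵥ w' (σ u))) =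
          ∏ u, w u ⬝ᵥ (G *ᵥ w' u) := by
      intro w w'
      have := polar_ap g₁ (Ψ (pv w)) (Ψ (pv w'))
      rw [ap_apply, ap_apply, hA, hA, hpol, hpol, pv_form, pv_form] at this
      exact mul_left_cancel₀ hc this
    obtain ⟨lam, hlam, hlamA⟩ : ∃ lam : F, lam ≠ 0 ∧
        (A l' : Matrix (Fin k) (Fin k) F)ᵀ * G * (A l' : Matrix (Fin k) (Fin k) F) = lam • G := by
      let w : Fin k → Fin t → Fin k → F := fun p => Function.update (fun _ => Pi.single p₀ 1) l (Pi.single p 1)
      let w' : Fin k → Fin t → Fin k → F := fun p => Function.update (fun _ => Pi.single q₀ 1) l (Pi.single p 1)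
      set R := ∏ u ∈ Finset.univ \ {l'}, ((A u : Matrix (Fin k) (Fin k) F) *ᵥ Pi.single p₀ 1) ⬝ᵥ
        (G *ᵥ ((A u : Matrix (Fin k) (Fin k) F) *ᵥ Pi.single q₀ 1))
      set R' := ∏ u ∈ Finset.univ \ {l}, G p₀ q₀
      have key : ∀ p q, ((A l' : Matrix (Fin k) (Fin k) F)ᵀ * G * (A l' : Matrix (Fin k) (Fin k) F)) p q * R =
          G p q * R' := by
        intro p q
        have h1 := hform (w p) (w' q)
        rw [Finset.prod_eq_mul_prod_sdiff_singleton_of_mem (Finset.mem_univ l'),
          Finset.prod_eq_mul_prod_sdiff_singleton_of_mem (Finset.mem_univ l)] at h1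
        refine Eq.trans (congrArg₂ (· * ·) ?_ ?_) (h1.trans (congrArg₂ (· * ·) ?_ ?_))
        · simp only [w, w', hl', Equiv.apply_symm_apply, Function.update_self]
          rw [Matrix.mulVec_mulVec, Matrix.dotProduct_mulVec, ← Matrix.dotProduct_mulVec, Matrix.mulVec_single_one,
            Matrix.mulVec_single_one, mul_assoc]
          simp [Matrix.mul_apply, dotProduct, Matrix.transpose_apply]
        · refine Finset.prod_congr rfl fun u hu => ?_
          have hu' : σ u ≠ l := fun h => by simp [hl', ← h] at hu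
          simp [w, w', hu']
        · simp [w, w']
        · refine Finset.prod_congr rfl fun u hu => ?_
          have hu' : u ≠ l := by simpa using hu
          simp [w, w', hu']
      have hR' : R' ≠ 0 := Finset.prod_ne_zero_iff.2 fun _ _ => hG0
      have hR : R ≠ 0 := fun hR => by
        have := key p₀ q₀
        rw [hR, mul_zero] at this
        exact mul_ne_zero hG0 hR' this.symm
      refine ⟨R' / R, div_ne_zero hR' hR, Matrix.ext fun p q => ?_⟩
      rw [Matrix.smul_apply, smul_eq_mul, div_mul_eq_mul_div, eq_div_iff hR, key, mul_comm]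
    suffices hcomm : (g₁ : GL ι F).val * viaEquiv Ψ (pureMat (Pi.mulSingle l y)) =
        viaEquiv Ψ (pureMat (Pi.mulSingle l' ((A l' : Matrix (Fin k) (Fin k) F) * y *
          ((A l')⁻¹ : GL (Fin k) F).val))) * (g₁ : GL ι F).val by
      rw [PrimeDim.cj_apply, hcomm, mul_assoc, Units.mul_inv, mul_one]
      exact hslot _ _ (hsim _ lam hlam hlamA y hy)
    refine matrix_ext_via Ψ fun w => ?_
    rw [← Matrix.mulVec_mulVec, ← Matrix.mulVec_mulVec, viaEquiv_mulVec, pureMat_pv, hA, hA, viaEquiv_mulVec,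
      pureMat_pv]
    congr 2
    funext u
    by_cases hu : u = l'
    · subst hu
      simp [hl', Matrix.mulVec_mulVec, mul_assoc]
    · have hu' : σ u ≠ l := fun h => hu (by rw [hl', ← h, Equiv.symm_apply_apply])
      simp [hu, hu']
  obtain ⟨sa, hsa⟩ := halt
  obtain ⟨g, hgΩ, hgv⟩ := exists_omega_site Ψ G hpol hsing h2 (M := Function.update (Pi.mulSingle i a) j e)
    (fun l => by
      by_cases hl : l = j
      · subst hl; simpa using headj
      · by_cases hl' : l = i
        · subst hl'; simpa [hl] using haadj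
        · simp [hl, hl']) (j := j) (r := i) hij (by simp [hij, ha2]) hsa hh
  rw [Function.update_self, ← he', Function.update_idem] at hgv
  set M₁ := Function.update (Pi.mulSingle i a : Fin t → Matrix (Fin k) (Fin k) F) j e' with hM₁
  obtain ⟨sb, hsb⟩ := hMalt
  obtain ⟨g', hg'Ω, hg'v⟩ := exists_omega_site Ψ G hpol hsing h2 hMadj (j := j') hr' hM2 hsb hh
  rw [hMj, ← he'] at hg'v
  set M₂ := Function.update M j' e' with hM₂
  -- conjugation by an involution
  have hcjg : ∀ (γ : IsoGrp Q) (N : Matrix (Fin t → Fin k) (Fin t → Fin k) F), ((γ : GL ι F) : Matrix ι ι F) = viaEquiv Ψ (1 + N) → N * N = 0 →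
      ((γ : GL ι F)⁻¹ = (γ : GL ι F)) ∧ ∀ W, PrimeDim.cj (γ : GL ι F) (viaEquiv Ψ W) =
        viaEquiv Ψ (W + (N * W + W * N) + N * W * N) := by
    intro γ N hγ hN
    have hsq : (γ : GL ι F) * (γ : GL ι F) = 1 := Units.ext <| by
      rw [Units.val_mul, hγ, ← map_mul, add_mul, one_mul, mul_add, mul_one, hN, add_zero, add_assoc, hself,
        add_zero, map_one, Units.val_one]
    have hinv : (γ : GL ι F)⁻¹ = (γ : GL ι F) := inv_eq_of_mul_eq_one_right hsq
    refine ⟨hinv, fun W => ?_⟩
    rw [PrimeDim.cj_apply, hinv, hγ, ← map_mul, ← map_mul]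
    congr 1
    noncomm_ring
  have hN₁ : pureMat M₁ * pureMat M₁ = 0 := by
    rw [pureMat_mul]; exact pureMat_eq_zero_of_site (i := i) (by simp [hM₁, hij, ha2])
  have hN₂ : pureMat M₂ * pureMat M₂ = 0 := by
    rw [pureMat_mul]; exact pureMat_eq_zero_of_site (i := r') (by simp [hM₂, hr', hM2])
  -- the operators around a one-site operator
  have hNW : ∀ (N : Fin t → Matrix (Fin k) (Fin k) F) l y,
      pureMat N * pureMat (Pi.mulSingle l y) + pureMat (Pi.mulSingle l y) * pureMat N =
        pureMat (Function.update N l (N l * y + y * N l)) ∧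
      pureMat N * pureMat (Pi.mulSingle l y) * pureMat N =
        pureMat (Function.update (N * N) l (N l * y * N l)) := by
    intro N l y
    rw [pureMat_mul, pureMat_mul, pureMat_mul, pureMat_update_add]
    refine ⟨congrArg₂ (· + ·) (congrArg _ (funext fun u => ?_)) (congrArg _ (funext fun u => ?_)),
      congrArg _ (funext fun u => ?_)⟩ <;>
    · by_cases hu : u = l
      · subst hu; simp [Pi.mul_apply]
      · simp [Pi.mul_apply, hu]
  refine Transvect.exists_between Nn ?_ inf_le_right ⟨(g : GL ι F), ?_, coe_mem_omegaGL.2 hgΩ, ?_⟩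
    ⟨(g' : GL ι F), coe_mem_omegaGL.2 hg'Ω, ?_⟩
  · exact fun g hg X hX => ⟨hHN g hg X hX, hHN g⁻¹ (inv_mem hg) X hX⟩
  · -- the first element normalises the span
    obtain ⟨hinv, hcj⟩ := hcjg g _ hgv hN₁
    suffices hX : ∀ X ∈ L, PrimeDim.cj (g : GL ι F) X ∈ L from
      fun X hX' => ⟨hX X hX', by rw [hinv]; exact hX X hX'⟩
    refine hgen _ fun l y hy => ?_
    rw [hcj]
    refine Submodule.mem_map_of_mem ?_
    obtain ⟨hN1, hN3⟩ := hNW M₁ l y
    rw [hN1, hN3]
    have hM₁j : M₁ j = e' := Function.update_self _ _ _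
    have hM₁i : M₁ i = a := by simp [hM₁, hij]
    refine Submodule.add_mem _ (Submodule.add_mem _ (slot_mem_siteSpan l hy) ?_) ?_
    · by_cases hli : l = i
      · subst hli
        obtain ⟨r, hr⟩ := haanti y hy
        rw [hM₁i, hr, pureMat_update_smul]
        refine Submodule.smul_mem _ _ ?_
        have : Function.update M₁ l 1 = Pi.mulSingle j e' := funext fun u => by
          by_cases hu : u = l
          · subst hu; simp [hij]
          · by_cases hu' : u = j
            · subst hu'; simp [hu, hM₁]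
            · simp [hu, hu', hM₁]
        rw [this]; exact slot_mem_siteSpan j he'S
      · by_cases hlj : l = j
        · subst hlj
          obtain ⟨r, hr⟩ := heanti y hy
          rw [hM₁j, hr, pureMat_update_smul]
          refine Submodule.smul_mem _ _ ?_
          have : Function.update M₁ l 1 = Pi.mulSingle i a := funext fun u => by
            by_cases hu : u = l
            · subst hu; simp [hij.symm]
            · simp [hu, hM₁]
          rw [this]; exact slot_mem_siteSpan i haS
        · have : M₁ l = 1 := by simp [hM₁, hli, hlj]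
          rw [this, one_mul, mul_one, hselfk, pureMat_eq_zero_of_site (i := l) (by simp)]
          exact Submodule.zero_mem _
    · by_cases hli : l = i
      · subst hli
        obtain ⟨r, hr⟩ := haanti y hy
        obtain ⟨r', hr'⟩ := he'2
        have e1 : a * y * a = r • a := by
          have := congrArg (fun Z => Z * a) hr
          simp only [add_mul, mul_assoc, ha2, mul_zero, add_zero, Matrix.smul_mul, one_mul] at this
          rw [mul_assoc]; exact this
        have e2 : Function.update (M₁ * M₁) l (r • a) =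
            Function.update (Function.update (Pi.mulSingle j (r' • 1) : Fin t → Matrix (Fin k) (Fin k) F) l a) l (r • a) := funext fun u => by
          by_cases hu : u = l
          · subst hu; simp
          · by_cases hu' : u = j
            · subst hu'; simp [hu, hM₁, Pi.mul_apply, hr']
            · simp [hu, hu', hM₁, Pi.mul_apply]
        rw [hM₁i, e1, e2, pureMat_update_smul]
        refine Submodule.smul_mem _ _ ?_
        have e3 : Function.update (Function.update (Pi.mulSingle j (r' • 1) : Fin t → Matrix (Fin k) (Fin k) F) l a) l a =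
            Function.update (Pi.mulSingle l a : Fin t → Matrix (Fin k) (Fin k) F) j (r' • 1) := funext fun u => by
          by_cases hu : u = l
          · subst hu; simp [hij]
          · by_cases hu' : u = j
            · subst hu'; simp [hu]
            · simp [hu, hu']
        rw [e3, pureMat_update_smul]
        refine Submodule.smul_mem _ _ ?_
        have e4 : Function.update (Pi.mulSingle l a : Fin t → Matrix (Fin k) (Fin k) F) j 1 = Pi.mulSingle l a :=
          Function.update_eq_self_iff.2 (by simp [hij.symm])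
        rw [e4]; exact slot_mem_siteSpan l haS
      · rw [pureMat_eq_zero_of_site (i := i) (by
          simp [Pi.mul_apply, Function.update_of_ne (Ne.symm hli), hM₁i, ha2])]
        exact Submodule.zero_mem _
  · -- it is not monomial
    intro hmem
    obtain ⟨σ, A, hA⟩ := hH _ hmem.1
    set w : Fin t → Fin k → F := fun _ => Pi.single s 1 with hw
    have h1 := hA w
    rw [hgv, viaEquiv_mulVec, Matrix.add_mulVec, Matrix.one_mulVec, pureMat_pv] at h1
    have h1' := Ψ.injective h1
    set u : Fin t → Fin k → F := fun l => (A l : Matrix (Fin k) (Fin k) F) *ᵥ w (σ l)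
    let x : Fin k → Fin k → (Fin t → Fin k) := fun b b' => Function.update (Function.update (fun _ => s) i b) j b'
    have hid : pv u (x s s) * pv u (x p p) = pv u (x s p) * pv u (x p s) := by
      simp only [pv, ← Finset.prod_mul_distrib]
      refine Finset.prod_congr rfl fun l _ => ?_
      by_cases hlj : l = j
      · subst hlj; simp [x]; ring
      · by_cases hli : l = i
        · subst hli; simp [x, hij]
        · simp [x, hlj, hli]
    have hval : ∀ b b', pv u (x b b') = (if b = s ∧ b' = s then 1 else 0) + if b = p ∧ b' = p then μ else 0 := by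
      intro b b'
      rw [← h1', Pi.add_apply]
      congr 1
      · by_cases hb : b = s ∧ b' = s
        · rw [if_pos hb]
          obtain ⟨rfl, rfl⟩ := hb
          exact Finset.prod_eq_one fun l _ => by simp [x, hw, Function.update_apply]
        · rw [if_neg hb]
          rcases not_and_or.1 hb with hb | hb
          · exact Finset.prod_eq_zero (Finset.mem_univ i) (by simp [x, hw, hij, hb])
          · exact Finset.prod_eq_zero (Finset.mem_univ j) (by simp [x, hw, hb])
      · unfold pv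
        rw [Finset.prod_eq_mul_prod_sdiff_singleton_of_mem (Finset.mem_univ j),
          Finset.prod_eq_mul_prod_sdiff_singleton_of_mem
            (s := Finset.univ \ {j}) (i := i) (by simp [hij]), Finset.prod_eq_one]
        · simp [x, hM₁, hw, hij, has, hes, Pi.single_apply]
          split_ifs <;> simp_all
        · intro l hl
          simp only [Finset.mem_sdiff, Finset.mem_univ, Finset.mem_singleton, true_and] at hl
          simp [x, hM₁, hw, hl.1, hl.2]
    rw [hval, hval, hval, hval] at hid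
    simp [hsp, hsp.symm, hμ] at hid
  · -- the second element moves the span
    intro hmem
    obtain ⟨-, hcj⟩ := hcjg g' _ hg'v hN₂
    have h1 := (hmem _ (hslot i' y₀ hy₀)).1
    rw [hcj] at h1
    obtain ⟨Z, hZ, hZe⟩ := Submodule.mem_map.1 h1
    rw [(viaEquiv Ψ).injective hZe] at hZ
    obtain ⟨hN1, hN3⟩ := hNW M₂ i' y₀
    have hM₂i : M₂ i' = M i' := Function.update_of_ne hij' _ _
    rw [hN1, hN3, hM₂i, hMzero, add_zero] at hZ
    obtain ⟨x, x', hxx, hne⟩ := hMout
    apply hne
    have := (siteSpan t S).sub_mem hZ (slot_mem_siteSpan i' hy₀)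
    rw [add_sub_cancel_left] at this
    exact siteSpan_apply_eq_zero this hxx

end Cfsg.Agent.Orth
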