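import Cfsg.Agent.Lib.Orth.SpinTensor
import Cfsg.Agent.Lib.Aschbacher.FrameThree
import Cfsg.Agent.Lib.Aschbacher.SymplecticCases
import Cfsg.Agent.Lib.OrthOuter.SympDet

/-!
# Coordinates for the tensor powers of `Sp₂` and `Sp₄` in characteristic two
-/

set_option autoImplicit false
set_option linter.unusedSectionVars false

namespace Cfsg.Agent.Orth

open Cfsg Matrix Module
open QuadraticMap (polar)
open Cfsg.Agent.Aschbacher (pureMat pureMat_apply pureMat_one pureMat_mul pureUnit)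
open scoped MatrixGroups

variable {F : Type*} [Field F] {ι : Type} [Fintype ι] [DecidableEq ι]

/-- A symplectic factor in standard coordinates. -/
theorem exists_std_gram {l k : ℕ} (π : Fin k ≃ Fin l ⊕ Fin l) {f : (Fin k → F) → (Fin k → F) → F}
    (hf : Geo.IsSymplecticForm f) :
    ∃ B : GL (Fin k) F, (B : Matrix (Fin k) (Fin k) F)ᵀ * Geo.gramMatrix f * (B : Matrix (Fin k) (Fin k) F) =
      (-(Matrix.J (Fin l) F)).submatrix π π := by
  classical
  set W := Geo.gramMatrix f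
  have hW : ∀ x y, x ⬝ᵥ (W *ᵥ y) = f x y := by
    intro x y
    rw [← Aschbacher.FrameThree.fog_eq hf.bilinear x y, Geo.formOfGram]
    simp only [dotProduct, Matrix.mulVec, Finset.mul_sum, id]
    exact Finset.sum_congr rfl fun a _ => Finset.sum_congr rfl fun b _ => by ring
  have hdet : W.det ≠ 0 := fun h0 => by
    obtain ⟨y, hy0, hy⟩ := Matrix.exists_mulVec_eq_zero_iff.2 h0
    obtain ⟨⟨x, hx⟩, -⟩ := hf.nondegenerate y hy0
    exact hx (by rw [← hW, hy, dotProduct_zero])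
  have hcard : Fintype.card (Fin k) = 2 * l := by rw [Fintype.card_congr π]; simp; omega
  obtain ⟨e, P, hP, hPW⟩ := OrthOuter.exists_sympl_matrix W (fun x => by rw [hW, hf.alternating]) hdet hcard
  refine ⟨(Matrix.GeneralLinearGroup.mkOfDetNeZero (P.submatrix e.symm (π.trans (Equiv.refl _))) ?_), ?_⟩
  · have : P.submatrix e.symm (π.trans (Equiv.refl _)) =
        (P.submatrix (id : Fin l ⊕ Fin l → Fin l ⊕ Fin l) (e.trans π)).submatrix e.symm e.symm := by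
      ext i j; simp
    rw [this, Matrix.det_submatrix_equiv_self, Matrix.det_permute']
    exact mul_ne_zero (by rcases Int.units_eq_one_or (Equiv.Perm.sign (e.trans π)) with h | h <;> simp [h]) hP
  · show (P.submatrix e.symm π)ᵀ * W * P.submatrix e.symm π = _
    rw [← hPW, Matrix.transpose_submatrix,
      show W = (W.submatrix e e).submatrix e.symm e.symm by simp,
      Matrix.submatrix_mul_equiv, Matrix.submatrix_mul_equiv]
    simp

variable [Fintype F]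

/-- The standard coordinates on a tensor power. -/
theorem exists_tensor_coords {t k : ℕ} {Q : (ι → F) → F} (hQ : Geo.IsNondegenerateQuadraticForm Q)
    (e : ι ≃ (Fin t → Fin k)) (P : GL ι F) {f : (Fin k → F) → (Fin k → F) → F}
    (hT : Geo.IsTensorPowerFormStructure id (polar Q) f e P)
    (hpure : ∀ xs : Fin t → (Fin k → F), Q (Matrix.mulVec (P : Matrix ι ι F)
      ((fun a : Fin t → Fin k => ∏ i, xs i (a i)) ∘ e)) = 0)
    {B : GL (Fin k) F} {G : Matrix (Fin k) (Fin k) F}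
    (hB : (B : Matrix (Fin k) (Fin k) F)ᵀ * Geo.gramMatrix f * (B : Matrix (Fin k) (Fin k) F) = G) :
    ∃ (c : F) (Ψ : ((Fin t → Fin k) → F) ≃ₗ[F] (ι → F)), c ≠ 0 ∧
      (∀ u v, polar ⇑(ofND hQ) (Ψ u) (Ψ v) = c * (u ⬝ᵥ (pureMat (fun _ : Fin t => G) *ᵥ v))) ∧
      (∀ w, ofND hQ (Ψ (pv w)) = 0) ∧
      ∀ g ∈ Geo.tensorWreathSubgroup k t e P, ∃ (σ : Equiv.Perm (Fin t)) (A : Fin t → GL (Fin k) F), ∀ w,
        (g : Matrix ι ι F) *ᵥ Ψ (pv w) = Ψ (pv fun l => (A l : Matrix (Fin k) (Fin k) F) *ᵥ w (σ l)) := by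
  classical
  obtain ⟨c, hc, hform⟩ := hT
  let Bp : GL (Fin t → Fin k) F := pureUnit fun _ => B
  let Ψ : ((Fin t → Fin k) → F) ≃ₗ[F] (ι → F) :=
    ((Transvect.app Bp).trans (LinearEquiv.funCongrLeft F F e)).trans (Transvect.app P)
  have hΨ : ∀ v, Ψ v = (P : Matrix ι ι F) *ᵥ (((Bp : Matrix (Fin t → Fin k) (Fin t → Fin k) F) *ᵥ v) ∘ e) :=
    fun v => rfl
  have hΨpv : ∀ w, Ψ (pv w) = (P : Matrix ι ι F) *ᵥ ((pv fun l => (B : Matrix (Fin k) (Fin k) F) *ᵥ w l) ∘ e) :=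
    fun w => by rw [hΨ]; exact congrArg (fun z => (P : Matrix ι ι F) *ᵥ (z ∘ e)) (pureMat_pv _ w)
  refine ⟨c, Ψ, hc, fun u v => ?_, fun w => ?_, ?_⟩
  · rw [hΨ, hΨ, coe_ofND]
    refine (hform _ _).trans (congrArg (c * ·) ?_)
    have : ∀ x y : (Fin t → Fin k) → F, (∑ a, ∑ b, x a * (∏ i, Geo.gramMatrix f (a i) (b i)) * id (y b)) =
        x ⬝ᵥ (pureMat (fun _ : Fin t => Geo.gramMatrix f) *ᵥ y) := by
      intro x y
      simp only [dotProduct, Matrix.mulVec, pureMat_apply, Finset.mul_sum, id, mul_assoc]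
    rw [this, Matrix.mulVec_mulVec]
    conv_lhs => rw [← Matrix.vecMul_transpose]
    rw [← Matrix.dotProduct_mulVec, Matrix.mulVec_mulVec]
    congr 2
    show (pureMat fun _ => (B : Matrix (Fin k) (Fin k) F))ᵀ * (_ * pureMat fun _ => (B : Matrix (Fin k) (Fin k) F)) = _
    rw [Aschbacher.pureMat_transpose, pureMat_mul, pureMat_mul]
    exact congrArg _ (funext fun _ => by simp only [Pi.mul_apply, ← mul_assoc, hB])
  · rw [hΨpv]; exact hpure _
  · rintro _ ⟨_, ⟨h0, hh0, rfl⟩, rfl⟩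
    obtain ⟨σ, A, hA⟩ := wreathStandard_mono hh0
    refine ⟨σ, fun l => B⁻¹ * A l * B, fun w => ?_⟩
    rw [hΨpv, hΨpv]
    show ((P * Geo.glReindex e.symm h0 * P⁻¹ : GL ι F) : Matrix ι ι F) *ᵥ _ = _
    rw [Units.val_mul, Units.val_mul, Matrix.mulVec_mulVec, mul_assoc, Units.inv_mul, mul_one,
      ← Matrix.mulVec_mulVec]
    congr 1
    show ((h0 : Matrix (Fin t → Fin k) (Fin t → Fin k) F).submatrix e.symm.symm e.symm.symm) *ᵥ _ = _
    rw [Equiv.symm_symm, Matrix.submatrix_mulVec_equiv, Function.comp_assoc, Equiv.self_comp_symm,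
      Function.comp_id, hA]
    congr 2
    funext l
    simp [Matrix.mulVec_mulVec, mul_assoc]

variable {Q : QuadraticForm F (ι → F)} {t : ℕ} {c : F}

/-- The case `k = 2`, `q > 2`. -/
theorem exists_between_spin_two (h2 : (2 : F) = 0) (hc : c ≠ 0) (hq : Fintype.card F ≠ 2) (ht : 4 ≤ t)
    (Ψ : ((Fin t → Fin 2) → F) ≃ₗ[F] (ι → F))
    (hpol : ∀ u v, polar ⇑Q (Ψ u) (Ψ v) = c * (u ⬝ᵥ (pureMat (fun _ : Fin t => !![0, 1; 1, 0]) *ᵥ v)))
    (hsing : ∀ w, Q (Ψ (pv w)) = 0) (H : Subgroup (GL ι F))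
    (hH : ∀ g ∈ H, ∃ (σ : Equiv.Perm (Fin t)) (A : Fin t → GL (Fin 2) F), ∀ w,
      (g : Matrix ι ι F) *ᵥ Ψ (pv w) = Ψ (pv fun l => (A l : Matrix (Fin 2) (Fin 2) F) *ᵥ w (σ l))) :
    ∃ K : Subgroup (GL ι F), H ⊓ Geo.omegaGL ⇑Q < K ∧ K < Geo.omegaGL ⇑Q := by
  classical
  obtain ⟨lam, hl0, hl1⟩ := exists_scalar_of_card (F := F) hq
  have hxx : ∀ x : F, x + x = 0 := fun x => by linear_combination x * h2
  have hneg : ∀ x : F, -x = x := fun x => by linear_combination (-x) * h2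
  set G : Matrix (Fin 2) (Fin 2) F := !![0, 1; 1, 0] with hG
  set a : Matrix (Fin 2) (Fin 2) F := !![0, 1; 0, 0] with ha
  let h : GL (Fin 2) F := ⟨!![lam, 0; 0, lam⁻¹], !![lam⁻¹, 0; 0, lam],
    by simp [Matrix.one_fin_two, hl0], by simp [Matrix.one_fin_two, hl0]⟩
  have hμ : lam * lam + 1 ≠ 0 := fun h0 => hl1 <| by
    have : (lam + 1) * (lam + 1) = 0 := by linear_combination h0 + lam * h2
    have := mul_self_eq_zero.1 this
    linear_combination this - h2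
  set μ := lam * lam + 1 with hμdef
  let i₀ : Fin t := ⟨0, by omega⟩
  let i₁ : Fin t := ⟨1, by omega⟩
  let i₂ : Fin t := ⟨2, by omega⟩
  let i₃ : Fin t := ⟨3, by omega⟩
  let M : Fin t → Matrix (Fin 2) (Fin 2) F := fun l => if (l : ℕ) < 3 then a else 1
  have ha2 : a * a = 0 := by
    rw [ha]; ext i j; fin_cases i <;> fin_cases j <;> simp [Matrix.mul_apply, Fin.sum_univ_two]
  have haadj : aᵀ * G = G * a := by
    rw [ha, hG]; ext i j; fin_cases i <;> fin_cases j <;> simp [Matrix.mul_apply, Fin.sum_univ_two]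
  have hanti : ∀ y : Matrix (Fin 2) (Fin 2) F, y 0 0 = y 1 1 → a * y + y * a = y 1 0 • 1 := by
    intro y hy
    rw [ha]
    ext i j
    fin_cases i <;> fin_cases j <;> simp [Matrix.mul_apply, Matrix.vecMul, dotProduct, Fin.sum_univ_two, hy, hxx]
  refine exists_between_spin Ψ G hpol hsing h2 hc H hH (p₀ := 0) (q₀ := 1) (by simp [hG])
    {y | y 0 0 = y 1 1} ?_ (a := a) (e := a) (h := h) (e' := μ • a) ?_ ?_ (by simp [ha]) (by simp [ha])
    ha2 ⟨0, by rw [Matrix.smul_mul, Matrix.mul_smul, ha2, smul_zero, smul_zero, zero_smul]⟩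
    (fun y hy => ⟨_, hanti y hy⟩)
    (fun y hy => ⟨μ * y 1 0, by rw [Matrix.smul_mul, Matrix.mul_smul, ← smul_add, hanti y hy, smul_smul]⟩)
    haadj haadj (i := i₀) (j := i₁) (by simp [i₀, i₁]) ⟨i₂, fun p => ?_⟩ (s := 1) (p := 0) (by decide) hμ ?_ ?_
    (M := M) (fun l => ?_) (i' := i₀) (j' := i₁) (r' := i₂) (by simp [M, i₁]) (by simp [i₀, i₁])
    (by simp [i₁, i₂]) (by simp [M, i₂, ha2]) ⟨i₃, fun p => ?_⟩ (y₀ := !![0, 0; 1, 0]) (by simp)
    (Orth.pureMat_eq_zero_of_site (i := i₂) ?_) ?_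
  · intro A lam' _ _ y hy
    set Z := (A : Matrix (Fin 2) (Fin 2) F) * y * ((A⁻¹ : GL (Fin 2) F) : Matrix (Fin 2) (Fin 2) F)
    have htr : Z.trace = y.trace := by
      simp only [Z, Matrix.trace_mul_cycle, Units.inv_mul, Matrix.one_mul]
    rw [Matrix.trace_fin_two, Matrix.trace_fin_two] at htr
    show Z 0 0 = Z 1 1
    have hy' : y 0 0 = y 1 1 := hy
    linear_combination htr + hy' + (y 1 1) * h2 - (Z 1 1) * h2
  · rw [ha, hμdef]
    ext i j
    fin_cases i <;> fin_cases j <;> simp [h, Matrix.mul_apply, Fin.sum_univ_two]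
  · rw [hG]
    ext i j
    fin_cases i <;> fin_cases j <;> simp [h, Matrix.mul_apply, Fin.sum_univ_two, hl0]
  · fin_cases p <;> simp [hG, i₀, i₁, i₂, Fin.ext_iff]
  · rw [ha]; funext i; fin_cases i <;> simp
  · rw [ha]; funext i; fin_cases i <;> simp
  · simp only [M]; split_ifs with hl
    · exact haadj
    · simp
  · fin_cases p <;> simp [hG, M, i₃]
  · rw [Function.update_of_ne (by simp [i₀, i₂]), Pi.mul_apply, Function.update_of_ne (by simp [i₁, i₂])]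
    simp [M, i₂, ha2]
  · refine ⟨fun _ => 0, fun l => if l = i₁ ∨ l = i₂ then 1 else 0, ⟨i₁, i₂, by simp [i₁, i₂], by simp, by simp⟩, ?_⟩
    rw [pureMat_apply, Finset.prod_ne_zero_iff]
    intro l _
    by_cases e0 : l = i₀
    · subst e0; simp [M, i₀, i₁, i₂, ha, Matrix.mul_apply, Fin.sum_univ_two]
    · by_cases e1 : l = i₁
      · subst e1; simp [e0, ha, hμ]
      · by_cases e2 : l = i₂
        · subst e2; simp [e0, e1, M, ha, i₂]
        · have : ¬ (l : ℕ) < 3 := fun hl => by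
            simp only [Fin.ext_iff, i₀, i₁, i₂] at e0 e1 e2; omega
          simp [e0, e1, e2, M, this]

set_option maxHeartbeats 1000000 in
/-- The case `k = 4`. -/
theorem exists_between_spin_four (h2 : (2 : F) = 0) (hc : c ≠ 0) (ht : 2 ≤ t)
    (Ψ : ((Fin t → Fin 4) → F) ≃ₗ[F] (ι → F))
    (hpol : ∀ u v, polar ⇑Q (Ψ u) (Ψ v) = c * (u ⬝ᵥ (pureMat (fun _ : Fin t =>
      !![0, 0, 1, 0; 0, 0, 0, 1; 1, 0, 0, 0; 0, 1, 0, 0]) *ᵥ v)))
    (hsing : ∀ w, Q (Ψ (pv w)) = 0) (H : Subgroup (GL ι F))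
    (hH : ∀ g ∈ H, ∃ (σ : Equiv.Perm (Fin t)) (A : Fin t → GL (Fin 4) F), ∀ w,
      (g : Matrix ι ι F) *ᵥ Ψ (pv w) = Ψ (pv fun l => (A l : Matrix (Fin 4) (Fin 4) F) *ᵥ w (σ l))) :
    ∃ K : Subgroup (GL ι F), H ⊓ Geo.omegaGL ⇑Q < K ∧ K < Geo.omegaGL ⇑Q := by
  classical
  have hxx : ∀ x : F, x + x = 0 := fun x => by linear_combination x * h2
  have hneg : ∀ x : F, -x = x := fun x => by linear_combination (-x) * h2
  have h11 : (1 : F) + 1 = 0 := hxx 1
  set G : Matrix (Fin 4) (Fin 4) F := !![0, 0, 1, 0; 0, 0, 0, 1; 1, 0, 0, 0; 0, 1, 0, 0] with hG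
  set a : Matrix (Fin 4) (Fin 4) F := !![0, 1, 0, 0; 0, 0, 0, 0; 0, 0, 0, 0; 0, 0, 1, 0] with ha
  set sw : Matrix (Fin 4) (Fin 4) F := !![0, 1, 0, 0; 1, 0, 0, 0; 0, 0, 0, 1; 0, 0, 1, 0] with hsw
  set X : Matrix (Fin 4) (Fin 4) F := !![0, 0, 1, 0; 0, 0, 0, 0; 0, 0, 0, 0; 0, 0, 0, 0] with hX
  have hsw2 : sw * sw = 1 := by
    rw [hsw]; ext i j; fin_cases i <;> fin_cases j <;> simp [Matrix.mul_apply, Fin.sum_univ_four]
  let h : GL (Fin 4) F := ⟨sw, sw, hsw2, hsw2⟩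
  let S : Set (Matrix (Fin 4) (Fin 4) F) := {y | (∀ z, z ⬝ᵥ ((G * y) *ᵥ z) = 0) ∧ ∃ r : F, y * y = r • 1}
  have hS : ∀ y ∈ S, (y 2 0 = 0 ∧ y 3 1 = 0 ∧ y 0 2 = 0 ∧ y 1 3 = 0) ∧
      (y 2 1 = y 3 0 ∧ y 2 2 = y 0 0 ∧ y 2 3 = y 1 0 ∧ y 3 2 = y 0 1 ∧ y 3 3 = y 1 1 ∧ y 0 3 = y 1 2) ∧
      y 0 0 = y 1 1 := by
    rintro y ⟨hy, r, hr⟩
    have eq_of : ∀ x x' : F, x + x' = 0 → x = x' := fun x x' h => by rw [eq_neg_of_add_eq_zero_left h, hneg]
    have d := fun i => hy (Pi.single i 1)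
    have o := fun i j => hy (Pi.single i 1 + Pi.single j 1)
    simp only [Matrix.mulVec_add, add_dotProduct, dotProduct_add, Matrix.mulVec_single_one, single_dotProduct,
      one_mul, Matrix.col_apply, Matrix.mul_apply, Fin.sum_univ_four] at d o
    have d0 : y 2 0 = 0 := by simpa [hG] using d 0
    have d1 : y 3 1 = 0 := by simpa [hG] using d 1
    have d2 : y 0 2 = 0 := by simpa [hG] using d 2
    have d3 : y 1 3 = 0 := by simpa [hG] using d 3
    have o01 : y 2 1 = y 3 0 := eq_of _ _ ((add_comm _ _).trans (by simpa [hG, d0, d1] using o 0 1))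
    have o02 : y 2 2 = y 0 0 := eq_of _ _ ((add_comm _ _).trans (by simpa [hG, d0, d2] using o 0 2))
    have o03 : y 2 3 = y 1 0 := eq_of _ _ ((add_comm _ _).trans (by simpa [hG, d0, d3] using o 0 3))
    have o12 : y 3 2 = y 0 1 := eq_of _ _ ((add_comm _ _).trans (by simpa [hG, d1, d2] using o 1 2))
    have o13 : y 3 3 = y 1 1 := eq_of _ _ ((add_comm _ _).trans (by simpa [hG, d1, d3] using o 1 3))
    have o23 : y 0 3 = y 1 2 := eq_of _ _ ((add_comm _ _).trans (by simpa [hG, d2, d3] using o 2 3))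
    have r0 := congrFun (congrFun hr 0) 0
    have r1 := congrFun (congrFun hr 1) 1
    simp [Matrix.mul_apply, Fin.sum_univ_four, d0, d1, d2, d3, o01, o23] at r0 r1
    refine ⟨⟨d0, d1, d2, d3⟩, ⟨o01, o02, o03, o12, o13, o23⟩, eq_of _ _ (mul_self_eq_zero.1 ?_)⟩
    linear_combination r0 - r1 + (y 0 0 * y 1 1 + y 1 1 * y 1 1) * h2
  let i₀ : Fin t := ⟨0, by omega⟩
  let i₁ : Fin t := ⟨1, by omega⟩
  let M : Fin t → Matrix (Fin 4) (Fin 4) F := Function.update (Pi.mulSingle i₀ X) i₁ a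
  have haalt : ∀ p, (G * a) p p = 0 := by
    intro p; fin_cases p <;> simp [hG, ha, Matrix.mul_apply, Fin.sum_univ_four]
  have haadj : aᵀ * G = G * a := by
    rw [ha, hG]; ext i j; fin_cases i <;> fin_cases j <;> simp [Matrix.mul_apply, Fin.sum_univ_four]
  have hXadj : Xᵀ * G = G * X := by
    rw [hX, hG]; ext i j; fin_cases i <;> fin_cases j <;> simp [Matrix.mul_apply, Fin.sum_univ_four]
  have ha2 : a * a = 0 := by
    rw [ha]; ext i j; fin_cases i <;> fin_cases j <;> simp [Matrix.mul_apply, Fin.sum_univ_four]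
  have h01 : i₀ ≠ i₁ := by simp [i₀, i₁]
  have hMi : M i₀ = X := by simp [M, h01]
  have hMj : M i₁ = a := by simp [M]
  refine exists_between_spin Ψ G hpol hsing h2 hc H hH (p₀ := 0) (q₀ := 2) (by simp [hG])
    S ?_ (a := a) (e := a) (h := h) (e' := sw) ?_ ?_ ⟨?_, 0, by rw [ha2, zero_smul]⟩
    ⟨?_, 1, by rw [hsw2, one_smul]⟩ ha2 ⟨1, by rw [hsw2, one_smul]⟩
    (fun y hy => ⟨y 1 0, ?_⟩) (fun y hy => ⟨y 1 0 + y 0 1, ?_⟩) haadj haadj (i := i₀) (j := i₁) h01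
    ⟨i₁, fun p => by rw [Function.update_self]; exact haalt p⟩ (s := 1) (p := 0) (by decide) (μ := 1) one_ne_zero
    ?_ ?_ (M := M) (fun l => ?_) (i' := i₀) (j' := i₁) (r' := i₀) hMj h01 h01 ?_
    ⟨i₁, fun p => by rw [hMj]; exact haalt p⟩ (y₀ := aᵀ) ⟨?_, 0, ?_⟩
    (Orth.pureMat_eq_zero_of_site (i := i₀) ?_) ?_
  · rintro A lam' _ hA y ⟨hy, r, hr⟩
    refine ⟨fun z => ?_, r, ?_⟩
    · obtain ⟨u, rfl⟩ : ∃ u, (A : Matrix (Fin 4) (Fin 4) F) *ᵥ u = z :=
        ⟨((A⁻¹ : GL (Fin 4) F) : Matrix (Fin 4) (Fin 4) F) *ᵥ z, by simp⟩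
      have hAu : ∀ (N : Matrix (Fin 4) (Fin 4) F) v, ((A : Matrix (Fin 4) (Fin 4) F) *ᵥ u) ⬝ᵥ (N *ᵥ v) =
          u ⬝ᵥ (((A : Matrix (Fin 4) (Fin 4) F)ᵀ * N) *ᵥ v) := fun N v => by
        rw [← Matrix.mulVec_mulVec, Matrix.dotProduct_mulVec u, Matrix.vecMul_transpose]
      rw [hAu, Matrix.mulVec_mulVec, mul_assoc,
        show (A : Matrix (Fin 4) (Fin 4) F)ᵀ * ((G * ((A : Matrix (Fin 4) (Fin 4) F) * y *
          ((A⁻¹ : GL (Fin 4) F) : Matrix (Fin 4) (Fin 4) F))) * (A : Matrix (Fin 4) (Fin 4) F)) =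
          (A : Matrix (Fin 4) (Fin 4) F)ᵀ * G * (A : Matrix (Fin 4) (Fin 4) F) * y by simp [mul_assoc],
        hA, Matrix.smul_mul, Matrix.smul_mulVec, dotProduct_smul, hy, smul_zero]
    · calc _ = (A : Matrix (Fin 4) (Fin 4) F) * (y * y) * ((A⁻¹ : GL (Fin 4) F) : Matrix (Fin 4) (Fin 4) F) := by
            simp [mul_assoc]
        _ = _ := by rw [hr]; simp
  · show sw = sw * a * sw + a
    rw [hsw, ha]; ext i j; fin_cases i <;> fin_cases j <;> simp [Matrix.mul_apply, Fin.sum_univ_four, h11]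
  · show swᵀ * G * sw = G
    rw [hsw, hG]; ext i j; fin_cases i <;> fin_cases j <;> simp [Matrix.mul_apply, Fin.sum_univ_four]
  · intro z
    simp [hG, ha, Matrix.mulVec, dotProduct, Matrix.mul_apply, Fin.sum_univ_four]
    linear_combination (z 1 * z 2) * h2
  · intro z
    simp [hG, hsw, Matrix.mulVec, dotProduct, Matrix.mul_apply, Fin.sum_univ_four]
    linear_combination (z 1 * z 2 + z 0 * z 3) * h2
  · obtain ⟨⟨d0, d1, d2, d3⟩, ⟨o01, o02, o03, o12, o13, o23⟩, hd⟩ := hS y hy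
    rw [ha]
    ext i j
    fin_cases i <;> fin_cases j <;>
      simp [Matrix.mul_apply, Matrix.vecMul, dotProduct, Fin.sum_univ_four, d0, d1, d2, d3, o01, o02, o03, o12, o13, o23, hd, hxx]
  · obtain ⟨⟨d0, d1, d2, d3⟩, ⟨o01, o02, o03, o12, o13, o23⟩, hd⟩ := hS y hy
    rw [hsw]
    ext i j
    fin_cases i <;> fin_cases j <;>
      simp [Matrix.mul_apply, Matrix.vecMul, dotProduct, Fin.sum_univ_four, d0, d1, d2, d3, o01, o02, o03, o12, o13, o23, hd, hxx, add_comm (y 1 0) (y 0 1)]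
  · rw [ha]; funext i; fin_cases i <;> simp [Matrix.mulVec_single_one]
  · rw [hsw]; funext i; fin_cases i <;> simp [Matrix.mulVec_single_one]
  · by_cases e1 : l = i₁
    · subst e1; rw [hMj]; exact haadj
    · by_cases e0 : l = i₀
      · subst e0; rw [hMi]; exact hXadj
      · simp [M, e0, e1]
  · rw [hMi, hX]; ext i j; fin_cases i <;> fin_cases j <;> simp [Matrix.mul_apply, Fin.sum_univ_four]
  · intro z
    simp [hG, ha, Matrix.mulVec, dotProduct, Matrix.mul_apply, Fin.sum_univ_four]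
    linear_combination (z 0 * z 3) * h2
  · rw [zero_smul, ← Matrix.transpose_mul, ha2, Matrix.transpose_zero]
  · rw [Function.update_self, hMi, hX, ha]
    ext i j; fin_cases i <;> fin_cases j <;> simp [Matrix.mul_apply, Matrix.vecMul, dotProduct, Fin.sum_univ_four]
  · refine ⟨fun _ => 0, fun l => if l = i₀ then 3 else if l = i₁ then 1 else 0,
      ⟨i₀, i₁, h01, by simp, by simp [h01.symm]⟩, ?_⟩
    rw [pureMat_apply, Finset.prod_ne_zero_iff]
    intro l _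
    by_cases e0 : l = i₀
    · subst e0; simp [hMi, hX, ha, Matrix.mul_apply, Matrix.vecMul, dotProduct, Fin.sum_univ_four]
    · by_cases e1 : l = i₁
      · subst e1; simp [e0, hsw]
      · simp [e0, e1, M]

end Cfsg.Agent.Orth
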