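import Cfsg.Agent.Lib.Orth.Derange
import Cfsg.Agent.Lib.Orth.Geo
import Cfsg.Agent.Lib.Orth.NondegTools
import Cfsg.Agent.Lib.PrimeOrderElt.Unipotent
import Cfsg.Agent.Lib.Forms.Classify
import Cfsg.Agent.Lib.Forms.Symplectic
import Cfsg.Agent.Lib.Forms.Bases
import Cfsg.Agent.Lib.Forms.Families

/-!
# Jordan types of unipotent isometries in odd characteristic

* `even_count_of_invariant` : on an invariant non-degenerate space even blocks have even multiplicity
* `sub_one_singular` : `(g - 1) v` is singular where `(g - 1)² v = 0`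
* `exists_unipotent_plus`, `exists_unipotent_minus`, `exists_unipotent_odd` : all types occur
* `exists_invariant_type` : the type of a fixed non-degenerate subspace is contained in the type of `g`
-/

set_option autoImplicit false
set_option linter.unusedSectionVars false

namespace Cfsg.Agent.Orth

open Cfsg Module Cfsg.Agent.PrimeOrderElt
open QuadraticMap (polar)

/-! ### parity -/

section Parity

variable {F V : Type*} [Field F] [AddCommGroup V] [Module F V] [FiniteDimensional F V]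

theorem even_finrank_map_skew (B : LinearMap.BilinForm F V) (hsymm : ∀ x y, B x y = B y x)
    (h2 : (2 : F) ≠ 0) {N : Module.End F V} (hN : ∀ x y, B (N x) y = -B x (N y))
    {W : Submodule F V} (hW : Inv N W) (hnd : ∀ w ∈ W, (∀ u ∈ W, B w u = 0) → w = 0)
    {j : ℕ} (hj : Odd j) : Even (finrank F ↥(W.map (N ^ j))) := by
  have hpow : ∀ (i : ℕ) x y, B ((N ^ i) x) y = (-1) ^ i * B x ((N ^ i) y) := by
    intro i
    induction i with
    | zero => intro x y; simp
    | succ i ih =>
      intro x y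
      rw [pow_succ, Module.End.mul_apply, ih, hN, ← Module.End.mul_apply N, ← pow_succ', pow_succ]
      ring
  set f : W →ₗ[F] V := (N ^ j) ∘ₗ W.subtype
  set β : LinearMap.BilinForm F W := B.compl₁₂ f W.subtype
  have hβ : ∀ x y : W, β x y = B ((N ^ j) x) y := fun x y => rfl
  have halt : β.IsAlt := fun x => by
    have h := hpow j (x : V) x
    rw [hj.neg_one_pow, hsymm (x : V) _] at h
    have h' : (2 : F) * β x x = 0 := by rw [hβ]; linear_combination h
    exact (mul_eq_zero.1 h').resolve_left h2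
  have hker : LinearMap.ker β = LinearMap.ker f := by
    ext x
    refine ⟨fun hx => hnd _ (map_pow_le hW j ⟨x, x.2, rfl⟩) fun u hu => ?_, fun hx => ?_⟩
    · exact LinearMap.congr_fun hx ⟨u, hu⟩
    · refine LinearMap.ext fun y => ?_
      rw [hβ, show (N ^ j) (x : V) = 0 from hx]
      simp
  have h := Forms.even_finrank_sub_ker β halt
  rw [hker, show finrank F W - finrank F (LinearMap.ker f) = finrank F (LinearMap.range f) by
      have := LinearMap.finrank_range_add_finrank_ker f; omega] at h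
  rwa [LinearMap.range_comp, Submodule.range_subtype] at h

/-- On an invariant non-degenerate space the even blocks of a unipotent isometry come in pairs. -/
theorem even_count_of_invariant (B : LinearMap.BilinForm F V) (hsymm : ∀ x y, B x y = B y x)
    (h2 : (2 : F) ≠ 0) {g : Module.End F V} (hB : ∀ x y, B (g x) (g y) = B x y) {p : ℕ} (hp : Odd p)
    (hg : g ^ p = 1) {W : Submodule F V} (hW : Inv (g - 1) W)
    (hnd : ∀ w ∈ W, (∀ u ∈ W, B w u = 0) → w = 0) {ν : Multiset ℕ} (hpos : ∀ b ∈ ν, 0 < b)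
    (hν : ∀ j, finrank F ↥(W.map ((g - 1) ^ j)) = rk ν j) (e : ℕ) (he : Even e) :
    Even (ν.count e) := by
  obtain ⟨m, rfl⟩ : ∃ m, p = m + 1 := ⟨p - 1, by rcases hp with ⟨k, rfl⟩; omega⟩
  set N := g - 1
  set U : Module.End F V := (g + 1) * g ^ m
  have hgW : Inv g W := (inv_sub_smul g (1 : F) W).1 (by rwa [one_smul])
  have hskew : ∀ x y, B ((g - g ^ m) x) y = -B x ((g - g ^ m) y) := by
    have h1 : ∀ x y, B ((g ^ m) x) y = B x (g y) := fun x y => by
      rw [← hB ((g ^ m) x) y, ← Module.End.mul_apply g, ← pow_succ', hg, Module.End.one_apply]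
    intro x y
    simp only [LinearMap.sub_apply, map_sub, h1]
    rw [hsymm x ((g ^ m) y), h1, hsymm y]
    ring
  have hNU : g - g ^ m = N * U := by
    have : N * U = g * (g * g ^ m) - g ^ m := by simp only [N, U]; noncomm_ring
    rw [this, ← pow_succ', hg, mul_one]
  have hUN : Commute U N := by
    have hg' : Commute g N := (Commute.refl g).sub_right (Commute.one_right g)
    exact (hg'.add_left (Commute.one_left N)).mul_left (hg'.pow_left m)
  have hUinj : Function.Injective U := by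
    refine (injective_iff_map_eq_zero U).2 fun x hx => ?_
    set y := (g ^ m) x
    have hgy : g y = -y := eq_neg_of_add_eq_zero_left hx
    have hpw : ∀ n : ℕ, (g ^ n) y = ((-1 : F) ^ n) • y := by
      intro n
      induction n with
      | zero => simp
      | succ n ih => rw [pow_succ, Module.End.mul_apply, hgy, map_neg, ih, pow_succ]; simp
    have h1 := hpw (m + 1)
    rw [hg, hp.neg_one_pow, Module.End.one_apply, neg_smul, one_smul] at h1
    have hy : y = 0 := by
      have : (2 : F) • y = 0 := by rw [two_smul]; exact add_eq_zero_iff_eq_neg.2 h1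
      exact (smul_eq_zero.1 this).resolve_left h2
    have hgx : g y = x := by
      rw [← Module.End.mul_apply, ← pow_succ', hg, Module.End.one_apply]
    rw [← hgx, hy, map_zero]
  have hN'W : Inv (g - g ^ m) W := by
    rintro _ ⟨v, hv, rfl⟩
    exact W.sub_mem (inv_apply hgW hv) (map_pow_le hgW m ⟨v, hv, rfl⟩)
  have hinj : ∀ j, Function.Injective ⇑(U ^ j) := fun j => by
    induction j with
    | zero => exact fun a b h => h
    | succ j ih => rw [pow_succ, Module.End.mul_eq_comp, LinearMap.coe_comp]; exact ih.comp hUinj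
  have hrk : ∀ j, finrank F ↥(W.map ((g - g ^ m) ^ j)) = rk ν j := fun j => by
    rw [hNU, hUN.symm.mul_pow, ← (hUN.pow_pow j j).eq, Module.End.mul_eq_comp, Submodule.map_comp,
      ← hν j]
    exact (Submodule.equivMapOfInjective _ (hinj j) _).finrank_eq.symm
  rcases e with _ | b
  · rw [Multiset.count_eq_zero.2 fun h0 => absurd (hpos 0 h0) (lt_irrefl 0)]; exact Even.zero
  · have hb : Odd b := by
      rcases Nat.even_or_odd b with hb | hb
      · exact absurd he (Nat.not_even_iff_odd.2 hb.add_one)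
      · exact hb
    have e1 := even_finrank_map_skew B hsymm h2 hskew hN'W hnd hb
    have e2 := even_finrank_map_skew B hsymm h2 hskew hN'W hnd (show Odd (b + 2) from hb.add_even even_two)
    rw [hrk] at e1 e2
    have := rk_count ν b
    obtain ⟨u, hu⟩ := e1
    obtain ⟨w, hw⟩ := e2
    rw [Nat.even_iff]
    omega

/-- `(g - 1) v` is singular if `(g - 1)² v = 0`. -/
theorem sub_one_singular (Q : QuadraticForm F V) (h2 : (2 : F) ≠ 0) {g : Module.End F V}
    (hg : ∀ x, Q (g x) = Q x) {v : V} (hv : ((g - 1) ^ 2 : Module.End F V) v = 0) : Q ((g - 1) v) = 0 := by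
  set u := (g - 1) v with hu
  have hgu : g u = u := by
    have : ((g - 1) ^ 2 : Module.End F V) v = g u - u := by rw [pow_two, Module.End.mul_apply]; rfl
    rw [hv] at this
    exact sub_eq_zero.1 this.symm
  have hgv : g v = v + u := by simp [hu]
  have hpol : polar ⇑Q (g v) (g u) = polar ⇑Q v u := by simp only [polar, ← map_add, hg]
  rw [hgu, hgv, QuadraticMap.polar_add_left, add_eq_left, QuadraticMap.polar_self, two_nsmul,
    ← two_mul] at hpol
  exact (mul_eq_zero.1 hpol).resolve_left h2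

end Parity

/-! ### models -/

section Models

variable {F : Type*} [Field F]

/-- A space with a form, a skew nilpotent map of type `μ` and a singular subspace. -/
structure SkewModel {V : Type*} [AddCommGroup V] [Module F V] (p : ℕ) (μ : Multiset ℕ)
    (Q : QuadraticForm F V) (U : Submodule F V) : Prop where
  nd : ∀ x, (∀ y, polar ⇑Q x y = 0) → x = 0
  sing : ∀ u ∈ U, Q u = 0
  skew : ∃ S : Module.End F V, (∀ x y, polar ⇑Q (S x) y + polar ⇑Q x (S y) = 0) ∧ S ^ p = 0 ∧
    ∀ j, finrank F ↥(LinearMap.range (S ^ j)) = rk μ j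

variable {V : Type*} [AddCommGroup V] [Module F V] {W : Type*} [AddCommGroup W] [Module F W]

theorem polar_prod' (Q : QuadraticForm F V) (Q' : QuadraticForm F W) (x y : V × W) :
    polar ⇑(Q.prod Q') x y = polar ⇑Q x.1 y.1 + polar ⇑Q' x.2 y.2 := by
  simp only [polar, QuadraticMap.prod_apply, Prod.fst_add, Prod.snd_add]
  ring

theorem SkewModel.prod [FiniteDimensional F V] [FiniteDimensional F W] {p : ℕ} {α β : Multiset ℕ}
    {Q : QuadraticForm F V} {Q' : QuadraticForm F W} {U : Submodule F V} {U' : Submodule F W}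
    (h : SkewModel p α Q U) (h' : SkewModel p β Q' U') :
    SkewModel p (α + β) (Q.prod Q') (U.prod U') := by
  refine ⟨fun x hx => Prod.ext (h.nd _ fun y => ?_) (h'.nd _ fun y => ?_), fun u hu => ?_, ?_⟩
  · have := hx (y, 0); rwa [polar_prod', QuadraticMap.polar_zero_right, add_zero] at this
  · have := hx (0, y); rwa [polar_prod', QuadraticMap.polar_zero_right, zero_add] at this
  · rw [QuadraticMap.prod_apply, h.sing _ hu.1, h'.sing _ hu.2, add_zero]
  · obtain ⟨S, hS, hSp, hSr⟩ := h.skew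
    obtain ⟨S', hS', hSp', hSr'⟩ := h'.skew
    have hpow : ∀ j, (S.prodMap S') ^ j = (S ^ j).prodMap (S' ^ j) := fun j => by
      induction j with
      | zero => exact LinearMap.ext fun v => rfl
      | succ j ih => rw [pow_succ, ih, LinearMap.prodMap_mul, ← pow_succ, ← pow_succ]
    refine ⟨S.prodMap S', fun x y => ?_, ?_, fun j => ?_⟩
    · rw [polar_prod', polar_prod', LinearMap.prodMap_apply, LinearMap.prodMap_apply]
      linear_combination hS x.1 y.1 + hS' x.2 y.2
    · rw [hpow, hSp, hSp']; exact LinearMap.ext fun v => rfl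
    · rw [hpow, LinearMap.range_prodMap, finrank_submodule_prod, hSr, hSr', rk_add]

theorem SkewModel.congr [FiniteDimensional F V] {p : ℕ} {μ : Multiset ℕ} {Q : QuadraticForm F V}
    {U : Submodule F V} (h : SkewModel p μ Q U) (e : W ≃ₗ[F] V) :
    SkewModel p μ (Q.comp e.toLinearMap) (U.comap e.toLinearMap) := by
  have hp : ∀ x y, polar ⇑(Q.comp e.toLinearMap) x y = polar ⇑Q (e x) (e y) := fun x y => by
    simp [polar]
  refine ⟨fun x hx => e.map_eq_zero_iff.1 (h.nd _ fun y => by
    have := hx (e.symm y); rwa [hp, e.apply_symm_apply] at this), fun u hu => h.sing _ hu, ?_⟩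
  obtain ⟨S, hS, hSp, hSr⟩ := h.skew
  have hconj : ∀ j, (e.symm.conj S) ^ j = e.symm.conj (S ^ j) := fun j =>
    (map_pow (e.symm.conjAlgEquiv F) S j).symm
  refine ⟨e.symm.conj S, fun x y => ?_, ?_, fun j => ?_⟩
  · rw [hp, hp]
    simpa [LinearEquiv.conj_apply] using hS (e x) (e y)
  · rw [hconj, hSp, map_zero]
  · rw [hconj, ← hSr j, LinearEquiv.conj_apply, LinearMap.range_comp, LinearEquiv.range,
      Submodule.map_top, LinearMap.range_comp, LinearEquiv.finrank_map_eq]

theorem rk_of_cyclic [FiniteDimensional F V] {S : Module.End F V} {b : ℕ} (hb : 0 < b)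
    (hd : finrank F V = b) (h0 : S ^ b = 0) (h1 : S ^ (b - 1) ≠ 0) (j : ℕ) :
    finrank F ↥(LinearMap.range (S ^ j)) = rk {b} j := by
  obtain ⟨α, hα, hsum, hrk, -⟩ := exists_jordan (N := S) (p := b) (W := ⊤) le_top
    (fun v _ => by rw [h0]; rfl)
  rw [finrank_top, hd] at hsum
  have h : 0 < rk α (b - 1) := by
    rw [← hrk, map_top_pow, Nat.pos_iff_ne_zero, Ne, Submodule.finrank_eq_zero, LinearMap.range_eq_bot]
    exact h1
  obtain ⟨a, ha, hab⟩ := exists_le_of_rk_pos h
  obtain ⟨α', rfl⟩ := Multiset.exists_cons_of_mem ha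
  rw [Multiset.sum_cons] at hsum
  have hα' : α' = 0 := Multiset.eq_zero_of_forall_notMem fun c hc => by
    have := (hα c (Multiset.mem_cons_of_mem hc)).1
    have := Multiset.le_sum_of_mem hc
    omega
  subst hα'
  rw [Multiset.sum_zero] at hsum
  rw [← map_top_pow, hrk, show a = b by omega]
  rfl

/-- `(x, y) ↦ Σ (-1)^i x_i y_{n-i}`. -/
noncomputable def altDiag (F : Type*) [Field F] (n : ℕ) : LinearMap.BilinForm F (Fin (n + 1) → F) :=
  LinearMap.mk₂ F (fun x y => ∑ i : Fin (n + 1), (-1) ^ (i : ℕ) * x i * y i.rev)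
    (fun x x' y => by simp [add_mul, mul_add, Finset.sum_add_distrib])
    (fun c x y => by simp [Finset.mul_sum, mul_assoc, mul_left_comm])
    (fun x y y' => by simp [mul_add, Finset.sum_add_distrib])
    (fun c x y => by simp [Finset.mul_sum, mul_assoc, mul_left_comm])

theorem altDiag_apply (n : ℕ) (x y : Fin (n + 1) → F) :
    altDiag F n x y = ∑ i : Fin (n + 1), (-1) ^ (i : ℕ) * x i * y i.rev := rfl

theorem altDiag_single_right (n : ℕ) (x : Fin (n + 1) → F) (j : Fin (n + 1)) :
    altDiag F n x (Pi.single j 1) = (-1) ^ (j.rev : ℕ) * x j.rev := by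
  rw [altDiag_apply, Finset.sum_eq_single j.rev (fun i _ hi => ?_) (fun h => absurd (Finset.mem_univ _) h)]
  · simp
  · rw [Pi.single_eq_of_ne (fun h : i.rev = j => hi (by rw [← h, Fin.rev_rev])), mul_zero]

theorem altDiag_single_left (n : ℕ) (y : Fin (n + 1) → F) (j : Fin (n + 1)) :
    altDiag F n (Pi.single j 1) y = (-1) ^ (j : ℕ) * y j.rev := by
  rw [altDiag_apply, Finset.sum_eq_single j (fun i _ hi => ?_) (fun h => absurd (Finset.mem_univ _) h)]
  · simp
  · rw [Pi.single_eq_of_ne hi, mul_zero, zero_mul]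

/-- The shift `(x_0, …, x_n) ↦ (x_1, …, x_n, 0)`. -/
noncomputable def shiftDown (F : Type*) [Field F] (n : ℕ) : Module.End F (Fin (n + 1) → F) :=
  LinearMap.pi fun i => if h : (i : ℕ) + 1 < n + 1 then LinearMap.proj ⟨(i : ℕ) + 1, h⟩ else 0

theorem shiftDown_castSucc (n : ℕ) (x : Fin (n + 1) → F) (i : Fin n) :
    shiftDown F n x i.castSucc = x i.succ := by
  rw [shiftDown, LinearMap.pi_apply, dif_pos (show ((i.castSucc : Fin (n + 1)) : ℕ) + 1 < n + 1 by
    simp)]
  rfl

theorem shiftDown_last (n : ℕ) (x : Fin (n + 1) → F) : shiftDown F n x (Fin.last n) = 0 := by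
  rw [shiftDown, LinearMap.pi_apply, dif_neg (by simp)]
  rfl

theorem altDiag_shift (n : ℕ) (x y : Fin (n + 1) → F) :
    altDiag F n (shiftDown F n x) y + altDiag F n x (shiftDown F n y) = 0 := by
  rw [altDiag_apply, altDiag_apply, Fin.sum_univ_castSucc, shiftDown_last, Fin.sum_univ_succ,
    Fin.rev_zero, shiftDown_last]
  simp only [mul_zero, zero_mul, add_zero, zero_add, ← Finset.sum_add_distrib]
  refine Finset.sum_eq_zero fun i _ => ?_
  rw [shiftDown_castSucc, Fin.rev_castSucc, Fin.rev_succ, shiftDown_castSucc, Fin.val_castSucc,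
    Fin.val_succ, pow_succ]
  ring

theorem shiftDown_pow (n j : ℕ) (x : Fin (n + 1) → F) (i : Fin (n + 1)) :
    (shiftDown F n ^ j) x i = if h : (i : ℕ) + j < n + 1 then x ⟨(i : ℕ) + j, h⟩ else 0 := by
  induction j generalizing x with
  | zero => simp [i.isLt]
  | succ j ih =>
    rw [pow_succ, Module.End.mul_apply, ih]
    by_cases h : (i : ℕ) + j < n + 1
    · rw [dif_pos h, shiftDown, LinearMap.pi_apply]
      by_cases h' : (i : ℕ) + j + 1 < n + 1
      · rw [dif_pos h', dif_pos (show (i : ℕ) + (j + 1) < n + 1 by omega)]; rfl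
      · rw [dif_neg h', dif_neg (show ¬ (i : ℕ) + (j + 1) < n + 1 by omega)]; rfl
    · rw [dif_neg h, dif_neg (show ¬ (i : ℕ) + (j + 1) < n + 1 by omega)]

theorem shiftDown_pow_eq_zero (n : ℕ) {j : ℕ} (hj : n + 1 ≤ j) : shiftDown F n ^ j = 0 :=
  LinearMap.ext fun x => funext fun i => by rw [shiftDown_pow, dif_neg (by omega)]; rfl

theorem rk_shiftDown (n j : ℕ) : finrank F ↥(LinearMap.range (shiftDown F n ^ j)) = rk {n + 1} j := by
  refine rk_of_cyclic (Nat.succ_pos n) (Module.finrank_fin_fun F) (shiftDown_pow_eq_zero n le_rfl) (fun h => ?_) j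
  have := congrFun (LinearMap.congr_fun h fun _ => 1) 0
  rw [show n.succ - 1 = n from rfl, shiftDown_pow, dif_pos (by simp)] at this
  exact one_ne_zero this

/-- A pair of blocks of any size. -/
theorem skewModel_pair {p n : ℕ} (hn : n + 1 ≤ p) :
    ∃ (Q : QuadraticForm F ((Fin (n + 1) → F) × (Fin (n + 1) → F))),
      SkewModel p ({n + 1} + {n + 1}) Q ((⊤ : Submodule F _).prod ⊥) := by
  let Bp := (altDiag F n).compl₁₂ (LinearMap.fst F (Fin (n + 1) → F) (Fin (n + 1) → F))
    (LinearMap.snd F (Fin (n + 1) → F) (Fin (n + 1) → F))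
  refine ⟨LinearMap.BilinMap.toQuadraticMap Bp, fun x hx => ?_, fun u hu => ?_, ?_⟩
  · have hpol : ∀ y : (Fin (n + 1) → F) × (Fin (n + 1) → F),
        altDiag F n x.1 y.2 + altDiag F n y.1 x.2 = 0 := fun y => by
      rw [← hx y, LinearMap.BilinMap.polar_toQuadraticMap]; rfl
    refine Prod.ext (funext fun j => ?_) (funext fun j => ?_)
    · have := hpol (0, Pi.single j.rev 1)
      simpa [altDiag_single_right] using this
    · have := hpol (Pi.single j.rev 1, 0)
      simpa [altDiag_single_left] using this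
  · rw [LinearMap.BilinMap.toQuadraticMap_apply]
    show altDiag F n u.1 u.2 = 0
    rw [show u.2 = 0 from hu.2, map_zero]
  · have hpow : ∀ j, ((shiftDown F n).prodMap (shiftDown F n)) ^ j =
        (shiftDown F n ^ j).prodMap (shiftDown F n ^ j) := fun j => by
      induction j with
      | zero => exact LinearMap.ext fun v => rfl
      | succ j ih => rw [pow_succ, ih, LinearMap.prodMap_mul, ← pow_succ]
    refine ⟨(shiftDown F n).prodMap (shiftDown F n), fun x y => ?_, ?_, fun j => ?_⟩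
    · rw [LinearMap.BilinMap.polar_toQuadraticMap, LinearMap.BilinMap.polar_toQuadraticMap]
      show altDiag F n (shiftDown F n x.1) y.2 + altDiag F n y.1 (shiftDown F n x.2) +
        (altDiag F n x.1 (shiftDown F n y.2) + altDiag F n (shiftDown F n y.1) x.2) = 0
      linear_combination altDiag_shift n x.1 y.2 + altDiag_shift n y.1 x.2
    · rw [hpow, shiftDown_pow_eq_zero n hn]; exact LinearMap.ext fun v => rfl
    · rw [hpow, LinearMap.range_prodMap, finrank_submodule_prod, rk_shiftDown, rk_add]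

/-- One block of odd size with middle norm `t`. -/
theorem skewModel_single (h2 : (2 : F) ≠ 0) {p k : ℕ} (hk : 2 * k + 1 ≤ p) {t : F} (ht : t ≠ 0) :
    ∃ (Q : QuadraticForm F (Fin (2 * k + 1) → F)) (U : Submodule F (Fin (2 * k + 1) → F))
      (z : Fin (2 * k + 1) → F),
      SkewModel p {2 * k + 1} Q U ∧ finrank F U = k ∧ Q z = t ∧ (∀ u ∈ U, polar ⇑Q u z = 0) ∧
        z ∉ U ∧ ∀ w, (∀ u ∈ U, polar ⇑Q u w = 0) → ∃ s : F, Q w = s * s * t ∧ (s = 0 → w ∈ U) := by
  let kk : Fin (2 * k + 1) := ⟨k, by omega⟩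
  let c : F := (-1) ^ k * t
  have hc : c ≠ 0 := mul_ne_zero (pow_ne_zero _ (neg_ne_zero.2 one_ne_zero)) ht
  have hcc : c * (-1) ^ k = t := by
    show (-1) ^ k * t * (-1) ^ k = t
    rw [mul_comm ((-1) ^ k) t, mul_assoc, ← pow_add, Even.neg_one_pow ⟨k, rfl⟩, mul_one]
  set Q := c • LinearMap.BilinMap.toQuadraticMap (altDiag F (2 * k))
  have hQ : ∀ x, Q x = c * altDiag F (2 * k) x x := fun x => by simp [Q]
  have hpol : ∀ x y, polar ⇑Q x y = c * (altDiag F (2 * k) x y + altDiag F (2 * k) y x) := fun x y => by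
    rw [show ⇑Q = c • ⇑(LinearMap.BilinMap.toQuadraticMap (altDiag F (2 * k))) from rfl,
      QuadraticMap.polar_smul, LinearMap.BilinMap.polar_toQuadraticMap, smul_eq_mul]
  have hsgn : ∀ j : Fin (2 * k + 1), ((-1 : F)) ^ (j.rev : ℕ) = (-1) ^ (j : ℕ) := fun j => by
    have := j.isLt
    rw [Fin.val_rev, neg_one_pow_eq_pow_mod_two, neg_one_pow_eq_pow_mod_two (n := (j : ℕ))]
    congr 1
    omega
  have hpolj : ∀ x j, polar ⇑Q x (Pi.single j 1) = 2 * c * (-1) ^ (j : ℕ) * x j.rev := fun x j => by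
    rw [hpol, altDiag_single_right, altDiag_single_left, hsgn]; ring
  let res : (Fin (2 * k + 1) → F) →ₗ[F] (Fin (k + 1) → F) :=
    LinearMap.pi fun i => LinearMap.proj ⟨(i : ℕ) + k, by omega⟩
  have hres : ∀ x, x ∈ LinearMap.ker res ↔ ∀ i : Fin (2 * k + 1), k ≤ (i : ℕ) → x i = 0 := fun x => by
    rw [LinearMap.mem_ker]
    constructor
    · intro h i hi
      have := congrFun h ⟨(i : ℕ) - k, by omega⟩
      simpa [res, Nat.sub_add_cancel hi] using this
    · intro h
      exact funext fun i => h ⟨(i : ℕ) + k, by omega⟩ (Nat.le_add_left _ _)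
  have hQhigh : ∀ x : Fin (2 * k + 1) → F, (∀ i : Fin (2 * k + 1), k < (i : ℕ) → x i = 0) →
      Q x = x kk * x kk * t := fun x hx => by
    rw [hQ, altDiag_apply, Finset.sum_eq_single kk (fun i _ hi => ?_) (fun h => absurd (Finset.mem_univ _) h)]
    · rw [show kk.rev = kk from Fin.ext (by simp [kk, Fin.val_rev]; omega)]
      show c * ((-1) ^ k * x kk * x kk) = _
      rw [← hcc]; ring
    · have hne : (i : ℕ) ≠ k := fun h => hi (Fin.ext h)
      by_cases hlt : k < (i : ℕ)
      · rw [hx i hlt]; ring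
      · rw [hx i.rev (by rw [Fin.val_rev]; omega)]; ring
  refine ⟨Q, LinearMap.ker res, Pi.single kk 1, ⟨fun x hx => funext fun j => ?_, fun u hu => ?_, ?_⟩,
    ?_, ?_, fun u hu => ?_, fun h => ?_, fun w hw => ?_⟩
  · have := hx (Pi.single j.rev 1)
    rw [hpolj, Fin.rev_rev] at this
    simpa [h2, hc] using this
  · have h := (hres u).1 hu
    rw [hQhigh u fun i hi => h i hi.le, h kk le_rfl]; ring
  · refine ⟨shiftDown F (2 * k), fun x y => ?_, shiftDown_pow_eq_zero _ hk, rk_shiftDown _⟩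
    rw [hpol, hpol]
    linear_combination c * altDiag_shift (2 * k) x y + c * altDiag_shift (2 * k) y x
  · have h := LinearMap.finrank_range_add_finrank_ker res
    have hsurj : Function.Surjective res := fun v =>
      ⟨fun i => if hi : k ≤ (i : ℕ) then v ⟨(i : ℕ) - k, by omega⟩ else 0, funext fun i => by
        simp [res]⟩
    rw [LinearMap.range_eq_top.2 hsurj, finrank_top, Module.finrank_fin_fun, Module.finrank_fin_fun] at h
    omega
  · rw [hQhigh _ fun i hi => Pi.single_eq_of_ne (fun h => by rw [h] at hi; exact lt_irrefl k hi) _]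
    simp
  · rw [hpolj, (hres u).1 hu kk.rev (by rw [Fin.val_rev]; show k ≤ 2 * k + 1 - (k + 1); omega), mul_zero]
  · have := (hres _).1 h kk le_rfl
    simp at this
  · have hw' : ∀ i : Fin (2 * k + 1), k < (i : ℕ) → w i = 0 := fun i hi => by
      have hmem : (Pi.single i.rev 1 : Fin (2 * k + 1) → F) ∈ LinearMap.ker res := (hres _).2 fun j hj =>
        Pi.single_eq_of_ne (fun h => by rw [h, Fin.val_rev] at hj; omega) _
      have := hw _ hmem
      rw [QuadraticMap.polar_comm, hpolj, Fin.rev_rev] at this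
      simpa [h2, hc] using this
    refine ⟨w kk, hQhigh w hw', fun h0 => (hres w).2 fun i hi => ?_⟩
    rcases hi.lt_or_eq with hlt | heq
    · exact hw' i hlt
    · rw [show i = kk from Fin.ext heq.symm, h0]

end Models

/-! ### all types -/

section Assembly

variable {F : Type*} [Field F]

/-- Some space carries a model of type `μ` with a singular subspace of half dimension. -/
def HasPlusModel (F : Type*) [Field F] (p : ℕ) (μ : Multiset ℕ) : Prop :=
  ∃ (n : ℕ) (Q : QuadraticForm F (Fin n → F)) (U : Submodule F (Fin n → F)),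
    SkewModel p μ Q U ∧ n ≤ 2 * finrank F U

theorem SkewModel.finrank_eq {V : Type*} [AddCommGroup V] [Module F V] [FiniteDimensional F V]
    {p : ℕ} {μ : Multiset ℕ} {Q : QuadraticForm F V} {U : Submodule F V} (h : SkewModel p μ Q U) :
    finrank F V = μ.sum := by
  obtain ⟨S, -, -, hr⟩ := h.skew
  have := hr 0
  rwa [pow_zero, rk_zero, Module.End.one_eq_id, LinearMap.range_id, finrank_top] at this

theorem HasPlusModel.of_model {V : Type*} [AddCommGroup V] [Module F V] [FiniteDimensional F V]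
    {p : ℕ} {μ : Multiset ℕ} {Q : QuadraticForm F V} {U : Submodule F V} (h : SkewModel p μ Q U)
    (hU : finrank F V ≤ 2 * finrank F U) : HasPlusModel F p μ := by
  let e : (Fin (finrank F V) → F) ≃ₗ[F] V := (Module.finBasis F V).equivFun.symm
  refine ⟨_, _, _, h.congr e, ?_⟩
  rw [Submodule.comap_equiv_eq_map_symm]
  have h' : finrank F ↥(U.map e.symm.toLinearMap) = finrank F U := LinearEquiv.finrank_map_eq e.symm U
  rwa [h']

theorem HasPlusModel.add {p : ℕ} {α β : Multiset ℕ} (h : HasPlusModel F p α)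
    (h' : HasPlusModel F p β) : HasPlusModel F p (α + β) := by
  obtain ⟨n, Q, U, hm, hU⟩ := h
  obtain ⟨n', Q', U', hm', hU'⟩ := h'
  refine HasPlusModel.of_model (hm.prod hm') ?_
  rw [Module.finrank_prod, Module.finrank_fin_fun, Module.finrank_fin_fun, finrank_submodule_prod]
  omega

theorem hasPlusModel_two_odd (h2 : (2 : F) ≠ 0) {p k₁ k₂ : ℕ} (hk₁ : 2 * k₁ + 1 ≤ p)
    (hk₂ : 2 * k₂ + 1 ≤ p) : HasPlusModel F p ({2 * k₁ + 1} + {2 * k₂ + 1}) := by
  obtain ⟨Q₁, U₁, z₁, h₁, hd₁, hz₁, hzU₁, hn₁, -⟩ := skewModel_single h2 hk₁ (one_ne_zero (α := F))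
  obtain ⟨Q₂, U₂, z₂, h₂, hd₂, hz₂, hzU₂, -, -⟩ :=
    skewModel_single h2 hk₂ (neg_ne_zero.2 (one_ne_zero (α := F)))
  have h := h₁.prod h₂
  set U := (U₁.prod U₂) ⊔ (F ∙ ((z₁, z₂) : (Fin (2 * k₁ + 1) → F) × (Fin (2 * k₂ + 1) → F)))
  refine HasPlusModel.of_model (U := U) ⟨h.nd, fun w hw => ?_, h.skew⟩ ?_
  · obtain ⟨u, hu, v, hv, rfl⟩ := Submodule.mem_sup.1 hw
    obtain ⟨r, rfl⟩ := Submodule.mem_span_singleton.1 hv
    have hpol : polar ⇑(Q₁.prod Q₂) u (r • (z₁, z₂)) = 0 := by
      rw [QuadraticMap.polar_smul_right, polar_prod', hzU₁ _ hu.1, hzU₂ _ hu.2, add_zero, smul_zero]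
    have e : (Q₁.prod Q₂) (u + r • (z₁, z₂)) = (Q₁.prod Q₂) u + (Q₁.prod Q₂) (r • (z₁, z₂)) := by
      rw [QuadraticMap.map_add ⇑(Q₁.prod Q₂), hpol, add_zero]
    rw [e, h.sing _ hu, QuadraticMap.map_smul, QuadraticMap.prod_apply, hz₁, hz₂]
    simp
  · have hlt : U₁.prod U₂ < U := lt_of_le_of_ne le_sup_left fun he => hn₁ (by
      have hz : ((z₁, z₂) : (Fin (2 * k₁ + 1) → F) × (Fin (2 * k₂ + 1) → F)) ∈ U :=
        Submodule.mem_sup_right (Submodule.mem_span_singleton_self _)
      rw [← he] at hz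
      exact hz.1)
    have := Submodule.finrank_lt_finrank_of_lt hlt
    rw [finrank_submodule_prod, hd₁, hd₂] at this
    rw [Module.finrank_prod, Module.finrank_fin_fun, Module.finrank_fin_fun]
    omega

theorem exists_odd_mem {μ : Multiset ℕ} (h : Odd μ.sum) : ∃ b ∈ μ, Odd b := by
  induction μ using Multiset.induction with
  | empty => rw [Multiset.sum_zero] at h; exact absurd h (by decide)
  | cons a μ ih =>
    by_cases ha : Odd a
    · exact ⟨a, Multiset.mem_cons_self _ _, ha⟩
    · rw [Multiset.sum_cons, Nat.odd_add'] at h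
      obtain ⟨b, hb, hbo⟩ := ih (h.2 (Nat.not_odd_iff_even.1 ha))
      exact ⟨b, Multiset.mem_cons_of_mem hb, hbo⟩

theorem hasPlusModel_of_type (h2 : (2 : F) ≠ 0) {p : ℕ} : ∀ μ : Multiset ℕ,
    (∀ b ∈ μ, 0 < b ∧ b ≤ p) → (∀ e, Even e → Even (μ.count e)) → Even μ.sum → HasPlusModel F p μ := by
  intro μ
  induction μ using Multiset.strongInductionOn with
  | _ μ ih =>
    intro hμ hev hsum
    by_cases h0 : μ = 0
    · subst h0
      refine ⟨0, 0, ⊥, ⟨fun x _ => Subsingleton.elim _ _, fun u _ => rfl,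
        0, fun x y => ?_, Subsingleton.elim _ _, fun j => ?_⟩, Nat.zero_le _⟩
      · simp [polar]
      · rw [finrank_zero_of_subsingleton]; simp [rk]
    by_cases hb : ∃ b ∈ μ, Even b
    · obtain ⟨b, hbμ, hbe⟩ := hb
      obtain ⟨μ₁, rfl⟩ := Multiset.exists_cons_of_mem hbμ
      have hc := hev b hbe
      rw [Multiset.count_cons_self] at hc
      have hb1 : b ∈ μ₁ := by
        rw [← Multiset.count_pos]
        rcases hc with ⟨c, hc⟩; omega
      obtain ⟨μ₂, rfl⟩ := Multiset.exists_cons_of_mem hb1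
      obtain ⟨n, hn⟩ : ∃ n, b = n + 1 := ⟨b - 1, by have := (hμ b hbμ).1; omega⟩
      subst hn
      obtain ⟨Q, hQ⟩ := skewModel_pair (F := F) (hμ _ hbμ).2
      have h1 : HasPlusModel F p ({n + 1} + {n + 1}) := HasPlusModel.of_model hQ (by
        rw [Module.finrank_prod, finrank_submodule_prod, finrank_top, finrank_bot]; omega)
      have h' := ih μ₂ ((Multiset.lt_cons_self _ _).trans (Multiset.lt_cons_self _ _))
        (fun a ha => hμ a (Multiset.mem_cons_of_mem (Multiset.mem_cons_of_mem ha)))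
        (fun e he => by
          have := hev e he
          simp only [Multiset.count_cons] at this
          split_ifs at this with h
          · rcases this with ⟨c, hc⟩; exact ⟨c - 1, by omega⟩
          · simpa using this)
        (by simp only [Multiset.sum_cons] at hsum; rw [Nat.even_iff] at hsum ⊢; omega)
      simpa [add_assoc] using h1.add h'
    · push Not at hb
      obtain ⟨b₁, hb₁⟩ := Multiset.exists_mem_of_ne_zero h0
      obtain ⟨μ₁, rfl⟩ := Multiset.exists_cons_of_mem hb₁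
      obtain ⟨k₁, rfl⟩ : Odd b₁ := Nat.not_even_iff_odd.1 (hb b₁ hb₁)
      obtain ⟨b₂, hb₂, k₂, rfl⟩ := exists_odd_mem (μ := μ₁) (by
        rw [Multiset.sum_cons] at hsum; rw [Nat.even_iff] at hsum; rw [Nat.odd_iff]; omega)
      obtain ⟨μ₂, rfl⟩ := Multiset.exists_cons_of_mem hb₂
      have h' := ih μ₂ ((Multiset.lt_cons_self _ _).trans (Multiset.lt_cons_self _ _))
        (fun a ha => hμ a (Multiset.mem_cons_of_mem (Multiset.mem_cons_of_mem ha)))
        (fun e he => by
          rw [Multiset.count_eq_zero.2 fun ha =>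
            hb e (Multiset.mem_cons_of_mem (Multiset.mem_cons_of_mem ha)) he]
          exact Even.zero)
        (by simp only [Multiset.sum_cons] at hsum; rw [Nat.even_iff] at hsum ⊢; omega)
      have h1 := hasPlusModel_two_odd h2 (hμ _ hb₁).2 (hμ _ (Multiset.mem_cons_of_mem hb₂)).2
      simpa [add_assoc] using h1.add h'

theorem singular_half_le {V : Type*} [AddCommGroup V] [Module F V] [FiniteDimensional F V]
    (Q : QuadraticForm F V) (hQ : (QuadraticMap.polarBilin Q).Nondegenerate) {U W : Submodule F V}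
    (hU : ∀ u ∈ U, Q u = 0) (hmax : ∀ w, (∀ u ∈ U, polar ⇑Q u w = 0) → Q w = 0 → w ∈ U)
    (hW : ∀ w ∈ W, Q w = 0) (hd : finrank F V ≤ 2 * finrank F W) :
    finrank F W = finrank F U := by
  refine Forms.maximal_singular_finrank_eq Q hQ W U hW hU (fun W' hle h' => ?_) fun W' hle h' => ?_
  · have := Forms.two_mul_finrank_singular_le Q hQ W' h'
    exact (Submodule.eq_of_le_of_finrank_le hle (by omega)).symm
  · refine le_antisymm (fun w hw => hmax w (fun u hu => ?_) (h' w hw)) hle
    exact Forms.singular_polar_eq_zero Q h' (hle hu) hw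

theorem not_half_qfMinus [Finite F] {a b : F}
    (hab : ∀ x y : F, x ^ 2 + a * x * y + b * y ^ 2 = 0 → x = 0 ∧ y = 0) (k : ℕ)
    {W : Submodule F ((Fin k ⊕ Fin k) ⊕ Fin 2 → F)} (hW : ∀ w ∈ W, Forms.qfMinus k F a b w = 0)
    (hd : k + 1 ≤ finrank F W) : False := by
  let φ : ((Fin k ⊕ Fin k) ⊕ Fin 2 → F) →ₗ[F] (Fin k ⊕ Fin 2 → F) :=
    LinearMap.funLeft F F (Sum.map Sum.inr id)
  have hmem : ∀ v, v ∈ LinearMap.ker φ ↔ (∀ i, v (.inl (.inr i)) = 0) ∧ ∀ j, v (.inr j) = 0 :=
    fun v => ⟨fun h => ⟨fun i => congrFun h (.inl i), fun j => congrFun h (.inr j)⟩,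
      fun h => funext fun s => by rcases s with i | j; exacts [h.1 i, h.2 j]⟩
  have hsurj : Function.Surjective φ := fun v =>
    ⟨Sum.elim (Sum.elim 0 (fun i => v (.inl i))) (fun j => v (.inr j)),
      funext fun s => by rcases s with i | j <;> rfl⟩
  have h := LinearMap.finrank_range_add_finrank_ker φ
  rw [LinearMap.range_eq_top.2 hsurj, finrank_top, Module.finrank_pi, Module.finrank_pi] at h
  simp only [Fintype.card_sum, Fintype.card_fin] at h
  have := singular_half_le _ (Forms.qfMinus_nondegenerate (Forms.disc_ne_zero_of_anisotropic hab) k)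
    (U := LinearMap.ker φ) (fun u hu => by
      obtain ⟨h1, h2⟩ := (hmem u).1 hu
      simp [Forms.qfMinus_apply, quadFormMinus, h1, h2])
    (fun w hw hQw => (hmem w).2 (by
      have h1 : ∀ i, w (.inl (.inr i)) = 0 := fun i => by
        have hh := hw (Pi.single (.inl (.inl i)) 1) ((hmem _).2 ⟨fun j => by simp, fun j => by simp⟩)
        rw [Forms.polar_qfMinus] at hh
        simpa [Pi.single_apply] using hh
      refine ⟨h1, fun j => ?_⟩
      have hQ' : w (.inr 0) ^ 2 + a * w (.inr 0) * w (.inr 1) + b * w (.inr 1) ^ 2 = 0 := by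
        simpa [Forms.qfMinus_apply, quadFormMinus, h1] using hQw
      fin_cases j
      exacts [(hab _ _ hQ').1, (hab _ _ hQ').2]))
    hW (by rw [Module.finrank_pi]; simp only [Fintype.card_sum, Fintype.card_fin]; omega)
  omega

variable [Fintype F] {ι : Type} [Fintype ι] [DecidableEq ι] {p : ℕ} [Fact p.Prime] [CharP F p]

theorem exists_unipotent_of_model {Q₀ : QuadraticForm F (ι → F)} (hG : Good Q₀) (hp : Odd p)
    {V : Type*} [AddCommGroup V] [Module F V] [FiniteDimensional F V] {μ : Multiset ℕ}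
    {Q : QuadraticForm F V} {U : Submodule F V} (h : SkewModel p μ Q U) (e : (ι → F) ≃ₗ[F] V)
    {c : F} (hc : c ≠ 0) (he : ∀ x, Q (e x) = c * Q₀ x) [Nonempty ι] :
    ∃ g : IsoGrp Q₀, g ∈ Omega F ⇑Q₀ ∧ g ^ p = 1 ∧
      ∀ j, finrank F ↥(LinearMap.range ((ap g - 1 : Module.End F (ι → F)) ^ j)) = rk μ j := by
  obtain ⟨S, hS, hSp, hSr⟩ := (h.congr e).skew
  have hS0 : ∀ x, polar ⇑Q₀ x (S x) = 0 := fun x => by
    have h1 := hS x x
    have h2' : (2 : F) ≠ 0 := fun h2' => by
      have h2'' : ((2 : ℕ) : F) = 0 := by exact_mod_cast h2'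
      rw [CharP.cast_eq_zero_iff F p] at h2''
      have := (Nat.prime_dvd_prime_iff_eq Fact.out Nat.prime_two).1 h2''
      subst this
      exact absurd hp (by decide)
    have hp' : ∀ u v, polar ⇑(Q.comp e.toLinearMap) u v = c * polar ⇑Q₀ u v := fun u v => by
      simp only [polar, QuadraticMap.comp_apply, LinearEquiv.coe_coe, he]; ring
    rw [hp', hp', pl_comm Q₀ (S x)] at h1
    have h3 : (2 : F) * (c * polar ⇑Q₀ x (S x)) = 0 := by linear_combination h1
    exact (mul_eq_zero.1 ((mul_eq_zero.1 h3).resolve_left h2')).resolve_left hc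
  set G : Module.End F (ι → F) := ∑ i ∈ Finset.range p, S ^ i with hG'
  have hG1 : (1 - S) * G = 1 := by rw [hG', mul_neg_geom_sum, hSp, sub_zero]
  set T : Module.End F (ι → F) := (1 + S) * G
  have hQT : ∀ x, Q₀ (T x) = Q₀ x := fun x => by
    have hx : x = G x - S (G x) := by
      have h' := (LinearMap.congr_fun hG1 x).symm
      simpa [sub_mul] using h'
    conv_rhs => rw [hx]
    show Q₀ (G x + S (G x)) = _
    rw [Q_add, Q_sub, hS0]; ring
  have hT1 : T - 1 = ((2 : F) • G) * S := by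
    have hGS : Commute G S := by
      rw [hG']; exact Commute.sum_left _ _ _ fun i _ => (Commute.refl S).pow_left i
    conv_lhs => rw [← hG1]
    rw [Algebra.smul_mul_assoc, hGS.eq, two_smul]
    simp only [T]
    rw [← sub_mul, ← add_mul]
    congr 1
    abel
  have hcomm : Commute ((2 : F) • G) S := by
    rw [hG']
    exact (Commute.sum_left _ _ _ fun i _ => (Commute.refl S).pow_left i).smul_left _
  have hTp : T ^ p = 1 := by
    conv_lhs => rw [show T = (T - 1) + 1 by abel]
    rw [add_one_pow_char, hT1, hcomm.mul_pow, hSp, mul_zero, zero_add]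
  obtain ⟨g, hg⟩ := exists_isoGrp_of_preserve hG.nd T hQT
  have hgp : g ^ p = 1 := ext_ap fun x => by rw [ap_pow, hg, hTp, ap_one, Module.End.one_apply]
  have h2' : (2 : F) ≠ 0 := fun h2' => by
    have h2'' : ((2 : ℕ) : F) = 0 := by exact_mod_cast h2'
    rw [CharP.cast_eq_zero_iff F p] at h2''
    have := (Nat.prime_dvd_prime_iff_eq Fact.out Nat.prime_two).1 h2''
    subst this
    exact absurd hp (by decide)
  have hinj : ∀ j, Function.Injective ⇑(((2 : F) • G) ^ j) := fun j => by
    induction j with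
    | zero => exact fun a b h => h
    | succ j ih =>
      rw [pow_succ, Module.End.mul_eq_comp, LinearMap.coe_comp]
      refine ih.comp ((injective_iff_map_eq_zero _).2 fun x hx => ?_)
      rw [LinearMap.smul_apply, smul_eq_zero] at hx
      have h' := LinearMap.congr_fun hG1 x
      rw [Module.End.mul_apply, hx.resolve_left h2', map_zero] at h'
      exact h'.symm
  refine ⟨g, mem_omega_of_odd_pow hG hp hgp, hgp, fun j => ?_⟩
  rw [hg, hT1, hcomm.mul_pow, Module.End.mul_eq_comp, LinearMap.range_comp, ← hSr j]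
  exact (Submodule.equivMapOfInjective _ (hinj j) _).finrank_eq.symm

theorem two_ne_zero_of_odd (hp : Odd p) : (2 : F) ≠ 0 := fun h2' => by
  have h2'' : ((2 : ℕ) : F) = 0 := by exact_mod_cast h2'
  rw [CharP.cast_eq_zero_iff F p] at h2''
  have := (Nat.prime_dvd_prime_iff_eq Fact.out Nat.prime_two).1 h2''
  subst this
  exact absurd hp (by decide)

theorem exists_unipotent_plus (hp : Odd p) {d : ℕ} (hd : 0 < d) (μ : Multiset ℕ)
    (hμ : ∀ b ∈ μ, 0 < b ∧ b ≤ p) (hev : ∀ e, Even e → Even (μ.count e)) (hsum : μ.sum = 2 * d) :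
    ∃ g : IsoGrp (quadPlus d F), g ∈ Omega F ⇑(quadPlus d F) ∧ g ^ p = 1 ∧
      ∀ j, finrank F ↥(LinearMap.range ((ap g - 1 : Module.End F (Fin d ⊕ Fin d → F)) ^ j)) = rk μ j := by
  have h2 := two_ne_zero_of_odd (F := F) hp
  have : Nonempty (Fin d) := ⟨⟨0, hd⟩⟩
  have hG := Good.of_two_ne_zero (quadPlus_nondeg (F := F) d) h2
  obtain ⟨n, Q, U, hm, hU⟩ := hasPlusModel_of_type (F := F) h2 μ hμ hev (hsum ▸ even_two_mul d)
  have hn : finrank F (Fin n → F) = 2 * d := by rw [hm.finrank_eq, hsum]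
  obtain ⟨ζ, -, hζ⟩ := Forms.exists_no_root (F := F)
  rcases Forms.classify_even Q ((Forms.nondegenerate_polarBilin_iff Q).2 hm.nd) hn hζ with
    ⟨e, he⟩ | ⟨hd1, e, he⟩
  · exact exists_unipotent_of_model hG hp hm e one_ne_zero
      fun x => by rw [one_mul, he, Forms.qfPlus_apply]; rfl
  · exfalso
    refine not_half_qfMinus hζ (d - 1) (W := U.map e.symm.toLinearMap) ?_ ?_
    · rintro w ⟨u, hu, rfl⟩
      rw [← he]; simpa using hm.sing u hu
    · have h' : finrank F ↥(U.map e.symm.toLinearMap) = finrank F U := LinearEquiv.finrank_map_eq e.symm U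
      rw [Module.finrank_fin_fun] at hn
      omega

theorem exists_unipotent_odd (hp : Odd p) {d : ℕ} (μ : Multiset ℕ) (hμ : ∀ b ∈ μ, 0 < b ∧ b ≤ p)
    (hev : ∀ e, Even e → Even (μ.count e)) (hsum : μ.sum = 2 * d + 1) :
    ∃ g : IsoGrp (quadOdd d F), g ∈ Omega F ⇑(quadOdd d F) ∧ g ^ p = 1 ∧
      ∀ j, finrank F ↥(LinearMap.range ((ap g - 1 :
        Module.End F (Unit ⊕ (Fin d ⊕ Fin d) → F)) ^ j)) = rk μ j := by
  have h2 := two_ne_zero_of_odd (F := F) hp
  obtain ⟨b, hb, k, rfl⟩ := exists_odd_mem (μ := μ) (hsum ▸ odd_two_mul_add_one d)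
  obtain ⟨μ', rfl⟩ := Multiset.exists_cons_of_mem hb
  obtain ⟨n, Q, U, hm, -⟩ := hasPlusModel_of_type (F := F) h2 μ'
    (fun a ha => hμ a (Multiset.mem_cons_of_mem ha))
    (fun e he => by
      have := hev e he
      rwa [Multiset.count_cons_of_ne (fun h => by subst h; exact absurd he (Nat.not_even_iff_odd.2 ⟨k, rfl⟩))] at this)
    (by rw [Multiset.sum_cons] at hsum; exact ⟨d - k, by omega⟩)
  obtain ⟨Q₁, U₁, -, h₁, -⟩ := skewModel_single h2 (hμ _ hb).2 (one_ne_zero (α := F))
  have h := h₁.prod hm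
  rw [Multiset.singleton_add] at h
  have hn := h.finrank_eq.trans hsum
  obtain ⟨-, c, e, hc, he⟩ := Forms.classify_odd _ ((Forms.nondegenerate_polarBilin_iff _).2 h.nd) hn
  exact exists_unipotent_of_model (Good.of_two_ne_zero (quadOdd_nondeg d h2) h2) hp h e hc
    fun x => by rw [he, Forms.qfOdd_apply]; rfl

theorem exists_unipotent_minus (hp : Odd p) {d : ℕ} {a b : F} (hab : Aniso a b) (μ : Multiset ℕ)
    (hμ : ∀ c ∈ μ, 0 < c ∧ c ≤ p) (hev : ∀ e, Even e → Even (μ.count e)) (hsum : μ.sum = 2 * d)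
    (hodd : ∃ c ∈ μ, Odd c) :
    ∃ g : IsoGrp (quadMinus (d - 1) F a b), g ∈ Omega F ⇑(quadMinus (d - 1) F a b) ∧ g ^ p = 1 ∧
      ∀ j, finrank F ↥(LinearMap.range ((ap g - 1 :
        Module.End F ((Fin (d - 1) ⊕ Fin (d - 1)) ⊕ Fin 2 → F)) ^ j)) = rk μ j := by
  have h2 := two_ne_zero_of_odd (F := F) hp
  obtain ⟨b₁, hb₁, k₁, rfl⟩ := hodd
  obtain ⟨μ₁, rfl⟩ := Multiset.exists_cons_of_mem hb₁
  obtain ⟨b₂, hb₂, k₂, rfl⟩ := exists_odd_mem (μ := μ₁) (by
    rw [Multiset.sum_cons] at hsum; rw [Nat.odd_iff]; omega)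
  obtain ⟨μ₂, rfl⟩ := Multiset.exists_cons_of_mem hb₂
  obtain ⟨n, Q₃, U₃, h₃, hU₃⟩ := hasPlusModel_of_type (F := F) h2 μ₂
    (fun c hc => hμ c (Multiset.mem_cons_of_mem (Multiset.mem_cons_of_mem hc)))
    (fun e he => by
      have := hev e he
      rwa [Multiset.count_cons_of_ne, Multiset.count_cons_of_ne] at this
      · exact fun h => by subst h; exact absurd he (Nat.not_even_iff_odd.2 ⟨k₂, rfl⟩)
      · exact fun h => by subst h; exact absurd he (Nat.not_even_iff_odd.2 ⟨k₁, rfl⟩))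
    (by simp only [Multiset.sum_cons] at hsum; rw [Nat.even_iff]; omega)
  obtain ⟨ν, hν⟩ := FiniteField.exists_nonsquare (F := F) (fun h => h2 (by
    have := ringChar.Nat.cast_ringChar (R := F)
    rw [h] at this
    exact_mod_cast this))
  have hν0 : ν ≠ 0 := fun h => hν (h ▸ IsSquare.zero)
  obtain ⟨Q₁, U₁, -, h₁, hd₁, -, -, -, hperp₁⟩ :=
    skewModel_single h2 (hμ _ hb₁).2 (one_ne_zero (α := F))
  obtain ⟨Q₂, U₂, -, h₂, hd₂, -, -, -, hperp₂⟩ :=
    skewModel_single h2 (hμ _ (Multiset.mem_cons_of_mem hb₂)).2 (neg_ne_zero.2 hν0)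
  have h := (h₁.prod h₂).prod h₃
  rw [Multiset.singleton_add, Multiset.cons_add, Multiset.singleton_add] at h
  have hn := h.finrank_eq.trans hsum
  have hnd := (Forms.nondegenerate_polarBilin_iff _).2 h.nd
  have hn₃ : finrank F (Fin n → F) = 2 * finrank F U₃ := by
    have h' := Forms.two_mul_finrank_singular_le Q₃ ((Forms.nondegenerate_polarBilin_iff Q₃).2 h₃.nd) U₃ h₃.sing
    rw [Module.finrank_fin_fun] at h' ⊢
    omega
  have horth := Forms.orthogonal_eq_self_of_half Q₃ ((Forms.nondegenerate_polarBilin_iff Q₃).2 h₃.nd)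
    U₃ h₃.sing hn₃
  rcases Forms.classify_even _ hnd hn hab with ⟨e, he⟩ | ⟨-, e, he⟩
  · exfalso
    have hW : ∀ w ∈ (Forms.plusMax₁ (F := F) d).map e.toLinearMap,
        ((Q₁.prod Q₂).prod Q₃) w = 0 := by
      rintro w ⟨u, hu, rfl⟩
      rw [LinearEquiv.coe_coe, he]; exact Forms.plusMax₁_singular d u hu
    have hWd : finrank F ↥((Forms.plusMax₁ (F := F) d).map e.toLinearMap) = d := by
      rw [show finrank F ↥((Forms.plusMax₁ (F := F) d).map e.toLinearMap) = finrank F ↥(Forms.plusMax₁ (F := F) d)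
        from LinearEquiv.finrank_map_eq e _, Forms.finrank_plusMax₁]
    have hmain := singular_half_le _ hnd h.sing (fun w hw hQw => ?_) hW (by omega)
    · rw [finrank_submodule_prod, finrank_submodule_prod, hd₁, hd₂, hWd] at hmain
      simp only [Multiset.sum_cons] at hsum
      have hμ₂ := h₃.finrank_eq
      omega
    · have hx1 : ∀ u ∈ U₁, polar ⇑Q₁ u w.1.1 = 0 := fun u hu => by
        have := hw ((u, 0), 0) ⟨⟨hu, U₂.zero_mem⟩, U₃.zero_mem⟩
        simpa [polar_prod', QuadraticMap.polar_zero_left] using this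
      have hx2 : ∀ u ∈ U₂, polar ⇑Q₂ u w.1.2 = 0 := fun u hu => by
        have := hw ((0, u), 0) ⟨⟨U₁.zero_mem, hu⟩, U₃.zero_mem⟩
        simpa [polar_prod', QuadraticMap.polar_zero_left] using this
      have hx3 : w.2 ∈ U₃ := horth.le fun u hu => by
        have := hw ((0, 0), u) ⟨⟨U₁.zero_mem, U₂.zero_mem⟩, hu⟩
        simpa [polar_prod', QuadraticMap.polar_zero_left] using this
      obtain ⟨s₁, hs₁, hs₁'⟩ := hperp₁ _ hx1
      obtain ⟨s₂, hs₂, hs₂'⟩ := hperp₂ _ hx2
      rw [QuadraticMap.prod_apply, QuadraticMap.prod_apply, h₃.sing _ hx3, hs₁, hs₂] at hQw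
      by_cases hs : s₂ = 0
      · subst hs
        exact ⟨⟨hs₁' (mul_self_eq_zero.1 (by linear_combination hQw)), hs₂' rfl⟩, hx3⟩
      · exact absurd ⟨s₁ / s₂, by field_simp; linear_combination -hQw⟩ hν
  · exact exists_unipotent_of_model (Good.of_two_ne_zero (quadMinus_nondeg _ hab) h2) hp h e one_ne_zero
      fun x => by rw [one_mul, he, Forms.qfMinus_apply]; rfl

end Assembly

/-! ### fixed non-degenerate subspaces -/

section Invariant

variable {F : Type*} [Field F] [Fintype F] {ι : Type} [Fintype ι] [DecidableEq ι] {Q : QuadraticForm F (ι → F)}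
  {p : ℕ} [Fact p.Prime] [CharP F p]

/-- A fixed non-degenerate subspace has a type contained in the type of the element. -/
theorem exists_invariant_type (hQ : Q.polarBilin.Nondegenerate) (hp : Odd p) [Nonempty ι] {g : IsoGrp Q}
    (hg : g ^ p = 1) {μ : Multiset ℕ} (hμ : ∀ b ∈ μ, 0 < b)
    (hrk : ∀ j, finrank F ↥(LinearMap.range ((ap g - 1 : Module.End F (ι → F)) ^ j)) = rk μ j)
    {W : Submodule F (ι → F)} (hW : ∀ w ∈ W, ap g w ∈ W)
    (hnd : ∀ w ∈ W, w ≠ 0 → ∃ u ∈ W, polar ⇑Q w u ≠ 0) :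
    ∃ ν ≤ μ, ν.sum = finrank F W ∧ (∀ e, Even e → Even (ν.count e)) ∧
      ∀ j, finrank F ↥(W.map ((ap g - 1 : Module.End F (ι → F)) ^ j)) = rk ν j := by
  have h2 := two_ne_zero_of_odd (F := F) hp
  set N : Module.End F (ι → F) := ap g - 1
  have hapg : (ap g : Module.End F (ι → F)) ^ p = 1 := by
    rw [← ap_pow, hg]; exact LinearMap.ext fun x => ap_one x
  have hNp : N ^ p = 0 := by
    have h := add_one_pow_char (p := p) N
    rw [show N + 1 = ap g by simp [N], hapg] at h
    exact add_eq_right.1 h.symm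
  have hinvN : ∀ X : Submodule F (ι → F), (∀ w ∈ X, ap g w ∈ X) → Inv N X := fun X hX => by
    rintro _ ⟨v, hv, rfl⟩
    exact X.sub_mem (hX v hv) hv
  have hc : IsCompl W (perpSub Q W) :=
    ⟨Submodule.disjoint_def.2 fun _ h h' => disjoint_perpSub hnd h h',
      codisjoint_iff.2 (sup_perpSub hQ hnd)⟩
  have hmapW : W.map (ap g) = W := by
    refine Submodule.eq_of_le_of_finrank_le (Submodule.map_le_iff_le_comap.2 hW) ?_
    exact ((Submodule.equivMapOfInjective (ap g) (fun a b e => ap_inj g e) W).finrank_eq).le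
  have hWperp : ∀ x ∈ perpSub Q W, ap g x ∈ perpSub Q W := fun x hx => mem_perpSub.2 fun w hw => by
    rw [← hmapW] at hw
    obtain ⟨w', hw', rfl⟩ := hw
    rw [polar_ap]
    exact mem_perpSub.1 hx w' hw'
  obtain ⟨α, hα, hαs, hαr, -⟩ := exists_jordan (hinvN W hW) (p := p) fun v _ => by rw [hNp]; rfl
  obtain ⟨β, hβ, -, hβr, -⟩ :=
    exists_jordan (hinvN _ hWperp) (p := p) fun v _ => by rw [hNp]; rfl
  have heq : μ = α + β := eq_of_rk hμ
    (fun a ha => (Multiset.mem_add.mp ha).elim (fun h => (hα a h).1) (fun h => (hβ a h).1))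
    (fun j => by
      rw [rk_add, ← hαr, ← hβr, ← finrank_map_pow_sup (hinvN W hW) (hinvN _ hWperp) hc.inf_eq_bot,
        hc.sup_eq_top, map_top_pow, hrk])
  refine ⟨α, heq ▸ Multiset.le_add_right α β, hαs, fun e he => ?_, hαr⟩
  exact even_count_of_invariant Q.polarBilin (fun x y => QuadraticMap.polar_comm ⇑Q x y) h2 (fun x y => polar_ap g x y)
    hp hapg (hinvN W hW) (fun w hw h => by
      by_contra hw0
      obtain ⟨u, hu, hwu⟩ := hnd w hw hw0
      exact hwu (h u hu)) (fun b hb => (hα b hb).1) hαr e he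

end Invariant

end Cfsg.Agent.Orth
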