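import Cfsg.Agent.Lib.Orth.Unipotent

/-!
# Unipotent elements fixing non-degenerate subspaces: the combinatorial consequences

* `GoodSub m μ` : `μ` contains a partition of `m` whose even parts have even multiplicity
* `exists_sub_type` : a fixed subspace for every element gives `GoodSub`
* `goodSub_of_odd` : types with only even parts reduce to types with an odd part
-/

set_option autoImplicit false
set_option linter.unusedSectionVars false
set_option linter.unusedSimpArgs false

namespace Cfsg.Agent.Orth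

open Cfsg Module Cfsg.Agent.PrimeOrderElt
open QuadraticMap (polar)

/-- `μ` contains a partition of `m` in which every even part has even multiplicity. -/
def GoodSub (m : ℕ) (μ : Multiset ℕ) : Prop :=
  ∃ ν : Multiset ℕ, ν ≤ μ ∧ ν.sum = m ∧ ∀ e : ℕ, Even e → Even (ν.count e)

section Criterion

variable {F : Type*} [Field F] [Fintype F] {ι : Type} [Fintype ι] [DecidableEq ι]
  {Q : QuadraticForm F (ι → F)} {p : ℕ} [Fact p.Prime] [CharP F p]

theorem exists_sub_type (hQ : Q.polarBilin.Nondegenerate) (hp : Odd p) [Nonempty ι] {m : ℕ}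
    (hm : m ≤ Fintype.card ι) {P : Submodule F (ι → F) → Prop}
    (hP : ∀ W, P W → finrank F W = m ∧ Geo.IsNondegenerateOn (polar ⇑Q) W)
    (hyp : ∀ x : GL ι F, x ∈ Geo.omegaGL ⇑Q → orderOf x = p →
      (∃ z : F, ((x ^ p : GL ι F) : Matrix ι ι F) = z • (1 : Matrix ι ι F)) →
      (∀ z : F, (x : Matrix ι ι F) ≠ z • (1 : Matrix ι ι F)) →
      ∃ W, P W ∧ W.map (Matrix.toLin' (x : Matrix ι ι F)) ≤ W)
    {μ : Multiset ℕ} (hμ : ∀ b ∈ μ, 0 < b ∧ b ≤ p) (hsum : μ.sum = Fintype.card ι)
    (hex : ∃ g : IsoGrp Q, g ∈ Omega F ⇑Q ∧ g ^ p = 1 ∧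
      ∀ j, finrank F ↥(LinearMap.range ((ap g - 1 : Module.End F (ι → F)) ^ j)) = rk μ j) :
    GoodSub m μ ∧ ((∃ b ∈ μ, 2 ≤ b) → ∃ (ν : Multiset ℕ) (g : IsoGrp Q) (W : Submodule F (ι → F)),
      ν ≤ μ ∧ ν.sum = m ∧ (∀ e, Even e → Even (ν.count e)) ∧ P W ∧ (∀ w ∈ W, ap g w ∈ W) ∧
      ∀ j, finrank F ↥(W.map ((ap g - 1 : Module.End F (ι → F)) ^ j)) = rk ν j) := by
  by_cases h2 : ∃ b ∈ μ, 2 ≤ b
  swap
  · refine ⟨⟨Multiset.replicate m 1, ?_, by simp, fun e he => ?_⟩, fun h => absurd h h2⟩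
    · push Not at h2
      have h1 : μ = Multiset.replicate μ.card 1 :=
        Multiset.eq_replicate_card.mpr fun b hb => by have := h2 b hb; have := (hμ b hb).1; omega
      rw [h1, Multiset.sum_replicate, smul_eq_mul, mul_one] at hsum
      rw [h1, hsum]
      exact (Multiset.replicate_le_replicate 1).2 hm
    · rw [Multiset.count_replicate, if_neg (by rintro rfl; exact absurd he (by decide))]
      exact Even.zero
  obtain ⟨g, hgΩ, hgp, hrk⟩ := hex
  have hne : (ap g - 1 : Module.End F (ι → F)) ≠ 0 := fun h => by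
    obtain ⟨b, hb, hb2⟩ := h2
    have h1 := hrk 1
    rw [h, pow_one, LinearMap.range_zero, finrank_bot] at h1
    obtain ⟨μ', rfl⟩ := Multiset.exists_cons_of_mem hb
    rw [rk_cons] at h1
    omega
  have hg1 : g ≠ 1 := fun h => hne (by
    rw [h, sub_eq_zero]; exact LinearMap.ext fun x => ap_one x)
  have hxp : (g : GL ι F) ^ p = 1 := by rw [← SubgroupClass.coe_pow, hgp, OneMemClass.coe_one]
  have hord : orderOf (g : GL ι F) = p :=
    orderOf_eq_prime hxp fun h => hg1 (Subtype.ext h)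
  obtain ⟨W, hW, hWmap⟩ := hyp g (coe_mem_omegaGL.2 hgΩ) hord ⟨1, by rw [hxp, one_smul]; rfl⟩
    (fun z hz => hg1 (ext_ap fun x => by
      have hap : ∀ y, ap g y = z • y := fun y => by rw [ap_apply, hz, Matrix.smul_mulVec, Matrix.one_mulVec]
      have hz' : z ^ p = 1 := by
        have h' := congrArg (fun h : IsoGrp Q => ap h (Pi.single (Classical.arbitrary ι) (1 : F))) hgp
        rw [ap_pow, ap_one] at h'
        have hpow : ∀ n y, ((ap g : Module.End F (ι → F)) ^ n) y = z ^ n • y := fun n => by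
          induction n with
          | zero => intro y; simp
          | succ n ih => intro y; rw [pow_succ, Module.End.mul_apply, hap, map_smul, ih, smul_smul, pow_succ']
        rw [hpow] at h'
        simpa using congrFun h' (Classical.arbitrary ι)
      rw [hap, eq_one_of_pow_char (p := p) hz', one_smul, ap_one]))
  have hinv : ∀ w ∈ W, ap g w ∈ W := fun w hw => hWmap ⟨w, hw, rfl⟩
  obtain ⟨hWd, hWn⟩ := hP W hW
  obtain ⟨ν, hν, hνs, hνe, hνr⟩ := exists_invariant_type hQ hp hgp (fun b hb => (hμ b hb).1) hrk hinv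
    (fun w hw h0 => by
      obtain ⟨-, u, hu, hwu⟩ := hWn w hw h0
      exact ⟨u, hu, hwu⟩)
  exact ⟨⟨ν, hν, hνs.trans hWd, hνe⟩, fun _ => ⟨ν, g, W, hν, hνs.trans hWd, hνe, hW, hinv, hνr⟩⟩

end Criterion

theorem sum_small {ν : Multiset ℕ} (h : ∀ b ∈ ν, b = 1 ∨ b = 2 ∨ b = 3) :
    ν.sum = ν.count 1 + 2 * ν.count 2 + 3 * ν.count 3 := by
  induction ν using Multiset.induction with
  | empty => simp
  | cons a ν ih =>
    have := ih fun b hb => h b (Multiset.mem_cons_of_mem hb)
    rcases h a (Multiset.mem_cons_self _ _) with rfl | rfl | rfl <;>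
      simp [Multiset.sum_cons, Multiset.count_cons] <;> omega

theorem odd_of_even_count {μ : Multiset ℕ} (h : ∀ b ∈ μ, Even b) : Even μ.sum := by
  induction μ using Multiset.induction with
  | empty => simp
  | cons a μ ih =>
    rw [Multiset.sum_cons]
    exact (h a (Multiset.mem_cons_self _ _)).add (ih fun b hb => h b (Multiset.mem_cons_of_mem hb))

/-- It is enough to treat types with an odd part. -/
theorem goodSub_of_odd {p N m : ℕ} (hp : Odd p) (hN : 0 < N) (hm : Even m)
    (H : ∀ μ : Multiset ℕ, (∀ e ∈ μ, 0 < e ∧ e ≤ p) → (∀ e : ℕ, Even e → Even (μ.count e)) →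
      μ.sum = N → (∃ c ∈ μ, Odd c) → GoodSub m μ)
    (μ : Multiset ℕ) (hμ : ∀ e ∈ μ, 0 < e ∧ e ≤ p) (hev : ∀ e : ℕ, Even e → Even (μ.count e))
    (hsum : μ.sum = N) : GoodSub m μ := by
  by_cases ho : ∃ c ∈ μ, Odd c
  · exact H μ hμ hev hsum ho
  push Not at ho
  have hall : ∀ c ∈ μ, Even c := fun c hc => Nat.not_odd_iff_even.1 (ho c hc)
  obtain ⟨b, hb⟩ := Multiset.exists_mem_of_ne_zero (s := μ) (fun h => by subst h; simp at hsum; omega)
  obtain ⟨μ₁, rfl⟩ := Multiset.exists_cons_of_mem hb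
  have hbe := hall b hb
  have hb1 : b ∈ μ₁ := by
    have hc := hev b hbe
    rw [Multiset.count_cons_self] at hc
    rw [← Multiset.count_pos]
    rcases hc with ⟨c, hc⟩; omega
  obtain ⟨μ₂, rfl⟩ := Multiset.exists_cons_of_mem hb1
  have hbp : b + 1 ≤ p := by
    have h := (hμ b hb).2
    rcases h.lt_or_eq with h | h
    · exact h
    · subst h; exact absurd hbe (Nat.not_even_iff_odd.2 hp)
  have hb2 : 2 ≤ b := by
    have := (hμ b hb).1
    rcases hbe with ⟨c, hc⟩; omega
  have hall₂ : ∀ c ∈ μ₂, Even c := fun c hc =>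
    hall c (Multiset.mem_cons_of_mem (Multiset.mem_cons_of_mem hc))
  have hne : ∀ e, Even e → e ≠ b + 1 ∧ e ≠ b - 1 := fun e he => by
    rw [Nat.even_iff] at he hbe; omega
  obtain ⟨ν, hν, hνs, hνe⟩ := H ((b + 1) ::ₘ (b - 1) ::ₘ μ₂)
    (fun e he => by
      rcases Multiset.mem_cons.1 he with rfl | he
      · exact ⟨by omega, hbp⟩
      rcases Multiset.mem_cons.1 he with rfl | he
      · have := (hμ b hb).2; exact ⟨by omega, by omega⟩
      exact hμ e (Multiset.mem_cons_of_mem (Multiset.mem_cons_of_mem he)))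
    (fun e he => by
      rw [Multiset.count_cons_of_ne (hne e he).1, Multiset.count_cons_of_ne (hne e he).2]
      have := hev e he
      simp only [Multiset.count_cons] at this
      split_ifs at this with h
      · rcases this with ⟨c, hc⟩; exact ⟨c - 1, by omega⟩
      · simpa using this)
    (by simp only [Multiset.sum_cons] at hsum ⊢; omega)
    ⟨b + 1, Multiset.mem_cons_self _ _, hbe.add_one⟩
  have hbad : ∀ (c : ℕ) (ν' : Multiset ℕ), Odd c → ν' ≤ μ₂ → (c ::ₘ ν').sum ≠ m := fun c ν' hc hle h => by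
    rw [Multiset.sum_cons] at h
    have := odd_of_even_count (μ := ν') fun x hx => hall₂ x (Multiset.mem_of_le hle hx)
    exact absurd hm (Nat.not_even_iff_odd.2 (h ▸ hc.add_even this))
  have hbm1 : Odd (b - 1) := Nat.Even.sub_odd (by omega) hbe odd_one
  by_cases hA : b + 1 ∈ ν
  · obtain ⟨ν₃, rfl⟩ := Multiset.exists_cons_of_mem hA
    rw [Multiset.cons_le_cons_iff] at hν
    by_cases hB : b - 1 ∈ ν₃
    · obtain ⟨ν₄, rfl⟩ := Multiset.exists_cons_of_mem hB
      rw [Multiset.cons_le_cons_iff] at hν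
      refine ⟨b ::ₘ b ::ₘ ν₄, Multiset.cons_le_cons _ (Multiset.cons_le_cons _ hν),
        by simp only [Multiset.sum_cons] at hνs ⊢; omega, fun e he => ?_⟩
      have := hνe e he
      rw [Multiset.count_cons_of_ne (hne e he).1, Multiset.count_cons_of_ne (hne e he).2] at this
      simp only [Multiset.count_cons]
      split_ifs
      · exact by simpa [add_assoc] using this.add even_two
      · simpa using this
    · rw [Multiset.le_cons_of_notMem hB] at hν
      exact absurd hνs (hbad _ _ hbe.add_one hν)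
  · rw [Multiset.le_cons_of_notMem hA] at hν
    by_cases hB : b - 1 ∈ ν
    · obtain ⟨ν₄, rfl⟩ := Multiset.exists_cons_of_mem hB
      rw [Multiset.cons_le_cons_iff] at hν
      exact absurd hνs (hbad _ _ hbm1 hν)
    · rw [Multiset.le_cons_of_notMem hB] at hν
      exact ⟨ν, hν.trans ((Multiset.le_cons_self _ _).trans (Multiset.le_cons_self _ _)), hνs, hνe⟩

end Cfsg.Agent.Orth
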